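import Groth.Agent.Lib.Helper13.DeltaFAb
import Mathlib.Algebra.Category.Grp.FilteredColimits
import Mathlib.Algebra.Category.Grp.Ulift
import Mathlib.CategoryTheory.Limits.Preserves.Filtered
import Mathlib.CategoryTheory.Limits.ConcreteCategory.Basic

/-!
Filtered colimits of abelian groups in arbitrary universes, and passage of injectivity/surjectivity of a morphism
of delta-functors through filtered colimits (helper13).
-/

universe w v u

open CategoryTheory CategoryTheory.Limits

namespace Groth.Agent.Helper13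

namespace DeltaFColim

section Ab

variable {J : Type v} [SmallCategory J] [IsFiltered J] (K : J ⥤ AddCommGrpCat.{w}) {c : Cocone K}
  (hc : IsColimit c)

instance forgetPres : PreservesFilteredColimitsOfSize.{v, v} (forget AddCommGrpCat.{max w v}) :=
  preservesFilteredColimitsOfSize_shrink.{v, w, v, w} (forget AddCommGrpCat.{max w v})

include hc in
lemma exists_rep (y : c.pt) : ∃ (j : J) (x : K.obj j), c.ι.app j x = y := by
  have hc' := isColimitOfPreserves AddCommGrpCat.uliftFunctor.{v, w} hc
  obtain ⟨j, x, hx⟩ := Concrete.isColimit_exists_rep (K ⋙ AddCommGrpCat.uliftFunctor.{v, w}) hc' (ULift.up y)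
  exact ⟨j, x.down, congrArg ULift.down hx⟩

include hc in
lemma eq_zero_of_rep {j : J} (x : K.obj j) (hx : c.ι.app j x = 0) :
    ∃ (j' : J) (f : j ⟶ j'), K.map f x = 0 := by
  have hc' := isColimitOfPreserves AddCommGrpCat.uliftFunctor.{v, w} hc
  obtain ⟨k, f, g, h⟩ := Concrete.isColimit_exists_of_rep_eq (K ⋙ AddCommGrpCat.uliftFunctor.{v, w}) hc'
    (i := j) (j := j) (ULift.up x) (ULift.up 0) (by
      apply ULift.ext
      change c.ι.app j x = c.ι.app j 0
      rw [hx, map_zero])
  refine ⟨k, f, ?_⟩
  have := congrArg ULift.down h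
  change K.map f x = K.map g 0 at this
  rw [this, map_zero]

end Ab

section Delta

open DeltaFAb

variable {C : Type u} [Category.{v} C] [Abelian C]
variable {T T' : DeltaF.CohDeltaFunctor C AddCommGrpCat.{w} ℕ} (φ : T ⟶ T') (q : ℕ)
variable {J : Type v} [SmallCategory J] [IsFiltered J] {K : J ⥤ C} {c : Cocone K} (hc : IsColimit c)

include hc in
lemma injective_of_colimit [PreservesFilteredColimitsOfSize.{v, v} (T.F q)]
    [PreservesFilteredColimitsOfSize.{v, v} (T'.F q)]
    (h : ∀ j, Function.Injective ((φ.app q).app (K.obj j))) :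
    Function.Injective ((φ.app q).app c.pt) := by
  rw [injective_iff_map_eq_zero]
  intro y hy
  obtain ⟨j, x, rfl⟩ := exists_rep (K ⋙ T.F q) (isColimitOfPreserves (T.F q) hc) y
  change (φ.app q).app c.pt ((T.F q).map (c.ι.app j) x) = 0 at hy
  rw [nat_apply] at hy
  obtain ⟨j', f, hf⟩ := eq_zero_of_rep (K ⋙ T'.F q) (isColimitOfPreserves (T'.F q) hc) (j := j)
    ((φ.app q).app (K.obj j) x) hy
  change (T'.F q).map (K.map f) ((φ.app q).app (K.obj j) x) = 0 at hf
  rw [← nat_apply] at hf
  have h0 : (T.F q).map (K.map f) x = 0 := h j' (by rw [hf, map_zero])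
  change (T.F q).map (c.ι.app j) x = 0
  rw [← c.w f, Functor.map_comp]
  change (T.F q).map (c.ι.app j') ((T.F q).map (K.map f) x) = 0
  rw [h0, map_zero]

include hc in
lemma surjective_of_colimit
    [PreservesFilteredColimitsOfSize.{v, v} (T'.F q)]
    (h : ∀ j, Function.Surjective ((φ.app q).app (K.obj j))) :
    Function.Surjective ((φ.app q).app c.pt) := by
  intro y'
  obtain ⟨j, x', rfl⟩ := exists_rep (K ⋙ T'.F q) (isColimitOfPreserves (T'.F q) hc) y'
  obtain ⟨x, rfl⟩ := h j x'
  refine ⟨(T.F q).map (c.ι.app j) x, ?_⟩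
  rw [nat_apply]
  rfl

omit [Abelian C] in
/-- A property of objects, stable under filtered colimits, holding on a class `D` of objects such that every
object is a filtered colimit of objects of `D`, holds everywhere. -/
lemma forall_of_filtered_colimit (D : ObjectProperty C) (P : C → Prop)
    (hP : ∀ (J : Type v) (_ : SmallCategory J) (_ : IsFiltered J) (K : J ⥤ C) (c : Cocone K) (_ : IsColimit c),
      (∀ j, P (K.obj j)) → P c.pt)
    (hD : ∀ A : C, ∃ (J : Type v) (_ : SmallCategory J) (_ : IsFiltered J) (K : J ⥤ C) (c : Cocone K)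
      (_ : IsColimit c), (∀ j, D (K.obj j)) ∧ Nonempty (c.pt ≅ A))
    (h : ∀ A, D A → P A) (A : C) : P A := by
  obtain ⟨J, i1, i2, K, c, hc, hK, ⟨e⟩⟩ := hD A
  exact hP J i1 i2 K (c.extend e.hom) (hc.ofIsoColimit (Cocone.extendIso c e)) (fun j => h _ (hK j))

end Delta

end DeltaFColim

end Groth.Agent.Helper13
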