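import Mathlib
import Groth.Prelude.Def_DeltaF
import Groth.Agent.Lib.Helper13.DeltaFColim

/-!
Dimension shifting for commutation of a cohomological delta-functor (with values in abelian groups) with
filtered colimits (helper13).
-/

set_option autoImplicit false
set_option linter.unusedSectionVars false
universe u v'
open CategoryTheory CategoryTheory.Limits Opposite

namespace Groth.Agent.Helper13.ColimDelta

open Groth.Agent.Helper13.DeltaFAb Groth.Agent.Helper13.DeltaFLemmas

variable {𝒞 : Type v'} [Category.{u} 𝒞] [Abelian 𝒞] {J : Type u} [SmallCategory J] [IsFiltered J]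
  [HasColimitsOfShape J 𝒞]

section Crit

variable (G : 𝒞 ⥤ AddCommGrpCat.{u}) [G.Additive] (D : J ⥤ 𝒞)

/-- joint surjectivity of the colimit legs after applying `G` -/
def Surj : Prop :=
  ∀ x : G.obj (colimit D), ∃ (j : J) (y : G.obj (D.obj j)), G.map (colimit.ι D j) y = x

/-- injectivity "in the limit" of the colimit legs after applying `G` -/
def Inj : Prop :=
  ∀ (j : J) (y : G.obj (D.obj j)), G.map (colimit.ι D j) y = 0 →
    ∃ (k : J) (f : j ⟶ k), G.map (D.map f) y = 0

lemma surj_of_preserves [PreservesColimit D G] : Surj G D := by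
  intro x
  exact DeltaFColim.exists_rep (D ⋙ G) (isColimitOfPreserves G (colimit.isColimit D)) x

lemma inj_of_preserves [PreservesColimit D G] : Inj G D := by
  intro j y hy
  exact DeltaFColim.eq_zero_of_rep (D ⋙ G) (isColimitOfPreserves G (colimit.isColimit D)) y hy

lemma preserves_of_surj_inj (hs : Surj G D) (hi : Inj G D) : PreservesColimit D G := by
  apply preservesColimit_of_preserves_colimit_cocone (colimit.isColimit D)
  haveI : ReflectsColimit (D ⋙ G) (forget AddCommGrpCat.{u}) :=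
    reflectsColimit_of_reflectsIsomorphisms _ _
  apply isColimitOfReflects (forget AddCommGrpCat.{u})
  apply Types.FilteredColimit.isColimitOf
  · intro x
    obtain ⟨j, y, hy⟩ := hs x
    exact ⟨j, y, hy.symm⟩
  · intro i j xi xj h
    let k := IsFiltered.max i j
    let a : G.obj (D.obj k) := G.map (D.map (IsFiltered.leftToMax i j)) xi -
      G.map (D.map (IsFiltered.rightToMax i j)) xj
    have h1 : G.map (colimit.ι D i) xi = G.map (colimit.ι D j) xj := h
    have ha : G.map (colimit.ι D k) a = 0 := by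
      show G.map (colimit.ι D k) (G.map (D.map (IsFiltered.leftToMax i j)) xi -
        G.map (D.map (IsFiltered.rightToMax i j)) xj) = 0
      rw [map_sub, sub_eq_zero]
      have e1 : G.map (D.map (IsFiltered.leftToMax i j)) ≫ G.map (colimit.ι D k) = G.map (colimit.ι D i) := by
        rw [← G.map_comp, colimit.w]
      have e2 : G.map (D.map (IsFiltered.rightToMax i j)) ≫ G.map (colimit.ι D k) = G.map (colimit.ι D j) := by
        rw [← G.map_comp, colimit.w]
      have e1' := congr($e1 xi)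
      have e2' := congr($e2 xj)
      exact e1'.trans (h1.trans e2'.symm)
    obtain ⟨l, f, hf⟩ := hi k a ha
    refine ⟨l, IsFiltered.leftToMax i j ≫ f, IsFiltered.rightToMax i j ≫ f, ?_⟩
    have hf' : G.map (D.map f) (G.map (D.map (IsFiltered.leftToMax i j)) xi -
        G.map (D.map (IsFiltered.rightToMax i j)) xj) = 0 := hf
    rw [map_sub, sub_eq_zero] at hf'
    show G.map (D.map (IsFiltered.leftToMax i j ≫ f)) xi = G.map (D.map (IsFiltered.rightToMax i j ≫ f)) xj
    rw [D.map_comp, D.map_comp, G.map_comp, G.map_comp]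
    exact hf'

end Crit


section Step

variable [HasExactColimitsOfShape J 𝒞] (T : DeltaF.CohDeltaFunctor 𝒞 AddCommGrpCat.{u} ℕ)

/-- the natural transformation from evaluation at `j` to the colimit functor -/
noncomputable def ιNat (j : J) : (evaluation J 𝒞).obj j ⟶ (colim : (J ⥤ 𝒞) ⥤ 𝒞) where
  app F := colimit.ι F j
  naturality F G α := by simp

lemma map_comp_apply (q : ℕ) {A B C : 𝒞} (f : A ⟶ B) (g : B ⟶ C) (x : (T.F q).obj A) :
    (T.F q).map (f ≫ g) x = (T.F q).map g ((T.F q).map f x) := by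
  rw [Functor.map_comp]; rfl

lemma δ_nat_apply {S S' : ShortComplex 𝒞} (hS : S.ShortExact) (hS' : S'.ShortExact) (φ : S ⟶ S') (q : ℕ)
    (x : (T.F q).obj S.X₃) :
    T.δ S' hS' q (q + 1) rfl ((T.F q).map φ.τ₃ x) = (T.F (q + 1)).map φ.τ₁ (T.δ S hS q (q + 1) rfl x) := by
  have := T.δ_natural hS hS' φ q (q + 1) rfl
  exact ConcreteCategory.congr_hom this x

variable (S : ShortComplex (J ⥤ 𝒞)) (hS : S.ShortExact)

/-- the short complex at index `j` -/
noncomputable abbrev Sj (j : J) : ShortComplex 𝒞 := S.map ((evaluation J 𝒞).obj j)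

/-- the short complex of colimits -/
noncomputable abbrev Sc : ShortComplex 𝒞 := S.map colim

include hS in
lemma Sj_shortExact (j : J) : (Sj S j).ShortExact := hS.map_of_exact _

include hS in
lemma Sc_shortExact : (Sc S).ShortExact := hS.map_of_exact colim

/-- the map to the colimit -/
noncomputable abbrev toSc (j : J) : Sj S j ⟶ Sc S := S.mapNatTrans (ιNat j)

/-- the transition maps -/
noncomputable abbrev trS {j k : J} (f : j ⟶ k) : Sj S j ⟶ Sj S k := S.mapNatTrans ((evaluation J 𝒞).map f)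


include hS in
theorem step_surj (q : ℕ) (hsQ : Surj (T.F q) S.X₃)
    (hE' : IsZero ((T.F (q + 1)).obj (colimit S.X₂))) : Surj (T.F (q + 1)) S.X₁ := by
  intro x
  have hSc := Sc_shortExact S hS
  haveI : Subsingleton ((T.F (q + 1)).obj (Sc S).X₂) := AddCommGrpCat.subsingleton_of_isZero hE'
  obtain ⟨y, hy⟩ := exact₁_apply T (Sc S) hSc q x (Subsingleton.elim _ _)
  obtain ⟨j, yj, hyj⟩ := hsQ y
  refine ⟨j, T.δ (Sj S j) (Sj_shortExact S hS j) q (q + 1) rfl yj, ?_⟩
  have := δ_nat_apply T (Sj_shortExact S hS j) hSc (toSc S j) q yj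
  refine this.symm.trans ?_
  rw [← hy]
  congr 1


include hS in
theorem step_inj (q : ℕ) (hsE : Surj (T.F q) S.X₂) (hiQ : Inj (T.F q) S.X₃)
    (hE : ∀ j, IsZero ((T.F (q + 1)).obj (S.X₂.obj j))) : Inj (T.F (q + 1)) S.X₁ := by
  intro j y hy
  have hSc := Sc_shortExact S hS
  have hSj := Sj_shortExact S hS
  haveI : Subsingleton ((T.F (q + 1)).obj (Sj S j).X₂) := AddCommGrpCat.subsingleton_of_isZero (hE j)
  obtain ⟨z, rfl⟩ := exact₁_apply T (Sj S j) (hSj j) q y (Subsingleton.elim _ _)
  -- the image of `z` in the colimit comes from the middle term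
  have h1 : T.δ (Sc S) hSc q (q + 1) rfl ((T.F q).map (toSc S j).τ₃ z) = 0 := by
    rw [δ_nat_apply T (hSj j) hSc (toSc S j) q z]
    exact hy
  obtain ⟨w, hw⟩ := exact₃_apply T (Sc S) hSc q _ h1
  obtain ⟨k, wk, rfl⟩ := hsE w
  let m := IsFiltered.max j k
  let a : j ⟶ m := IsFiltered.leftToMax j k
  let b : k ⟶ m := IsFiltered.rightToMax j k
  let z' : (T.F q).obj (S.X₃.obj m) :=
    (T.F q).map (S.X₃.map a) z - (T.F q).map (S.g.app m) ((T.F q).map (S.X₂.map b) wk)
  have hz' : (T.F q).map (colimit.ι S.X₃ m) z' = 0 := by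
    show (T.F q).map (colimit.ι S.X₃ m)
      ((T.F q).map (S.X₃.map a) z - (T.F q).map (S.g.app m) ((T.F q).map (S.X₂.map b) wk)) = 0
    rw [map_sub, sub_eq_zero, ← map_comp_apply, ← map_comp_apply, ← map_comp_apply, colimit.w]
    have e : S.X₂.map b ≫ S.g.app m ≫ colimit.ι S.X₃ m = colimit.ι S.X₂ k ≫ colim.map S.g := by
      rw [colimit.ι_map, ← Category.assoc, S.g.naturality, Category.assoc, colimit.w]
    rw [e, map_comp_apply]
    exact hw.symm
  obtain ⟨l, c, hc⟩ := hiQ m z' hz'
  have hc' : (T.F q).map (S.X₃.map c)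
      ((T.F q).map (S.X₃.map a) z - (T.F q).map (S.g.app m) ((T.F q).map (S.X₂.map b) wk)) = 0 := hc
  rw [map_sub, sub_eq_zero, ← map_comp_apply, ← map_comp_apply, ← map_comp_apply, ← S.X₃.map_comp] at hc'
  refine ⟨l, a ≫ c, ?_⟩
  have h2 := δ_nat_apply T (hSj j) (hSj l) (trS S (a ≫ c)) q z
  refine h2.symm.trans ?_
  have e2 : S.X₂.map b ≫ S.g.app m ≫ S.X₃.map c = S.X₂.map (b ≫ c) ≫ (Sj S l).g := by
    rw [S.X₂.map_comp, Category.assoc]
    congr 1
    exact (S.g.naturality c).symm
  have h3 : (T.F q).map (trS S (a ≫ c)).τ₃ z = (T.F q).map (S.X₂.map b ≫ S.g.app m ≫ S.X₃.map c) wk := hc'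
  have h4 : (T.F q).map (S.X₂.map b ≫ S.g.app m ≫ S.X₃.map c) wk =
      (T.F q).map (Sj S l).g ((T.F q).map (S.X₂.map (b ≫ c)) wk) := by
    rw [e2]
    exact map_comp_apply T q _ _ wk
  rw [h3, h4]
  exact comp_δ_apply T (Sj S l) (hSj l) q _

end Step


section Main

variable [HasExactColimitsOfShape J 𝒞] (T : DeltaF.CohDeltaFunctor 𝒞 AddCommGrpCat.{u} ℕ)

theorem preservesColimit_succ (q : ℕ) (hq : ∀ D : J ⥤ 𝒞, PreservesColimit D (T.F q))
    {D E : J ⥤ 𝒞} (η : D ⟶ E) [Mono η]
    (hE : ∀ j, IsZero ((T.F (q + 1)).obj (E.obj j))) (hE' : IsZero ((T.F (q + 1)).obj (colimit E))) :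
    PreservesColimit D (T.F (q + 1)) := by
  let S : ShortComplex (J ⥤ 𝒞) := ShortComplex.mk η (cokernel.π η) (cokernel.condition η)
  have hS : S.ShortExact := shortExact_of_mono η
  haveI := hq S.X₂
  haveI := hq S.X₃
  exact preserves_of_surj_inj (T.F (q + 1)) D
    (step_surj T S hS q (surj_of_preserves (T.F q) S.X₃) hE')
    (step_inj T S hS q (surj_of_preserves (T.F q) S.X₂) (inj_of_preserves (T.F q) S.X₃) hE)

/-- if `T⁰` commutes with `J`-colimits and there is a functorial effacement `η : 𝟭 ⟶ G` compatible with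
`J`-colimits, then every `T^q` commutes with `J`-colimits -/
theorem preservesColimitsOfShape_of_effacement (G : 𝒞 ⥤ 𝒞) (η : 𝟭 𝒞 ⟶ G) (hη : ∀ F, Mono (η.app F))
    (h0 : PreservesColimitsOfShape J (T.F 0))
    (hG : ∀ (q : ℕ) (F : 𝒞), IsZero ((T.F (q + 1)).obj (G.obj F)))
    (hG' : ∀ (q : ℕ) (D : J ⥤ 𝒞), IsZero ((T.F (q + 1)).obj (colimit (D ⋙ G)))) :
    ∀ q : ℕ, PreservesColimitsOfShape J (T.F q) := by
  intro q
  induction q with
  | zero => exact h0
  | succ q ih =>
    refine ⟨fun {D} => ?_⟩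
    let θ : D ⟶ D ⋙ G := (Functor.rightUnitor D).inv ≫ Functor.whiskerLeft D η
    haveI : ∀ j, Mono (θ.app j) := by
      intro j
      have : θ.app j = η.app (D.obj j) := by
        simp [θ]
      rw [this]
      exact hη _
    haveI : Mono θ := NatTrans.mono_of_mono_app θ
    exact preservesColimit_succ T q (fun D' => inferInstance) θ (fun j => hG q (D.obj j)) (hG' q D)

end Main

end Groth.Agent.Helper13.ColimDelta
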