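import Groth.Agent.Lib.Helper13.QCoh
import Groth.Prelude.Def_FlatMod2
import Mathlib.Algebra.Homology.ShortComplex.Ab
import Mathlib.Algebra.Homology.ShortComplex.ShortExact

set_option autoImplicit false
universe u
open CategoryTheory CategoryTheory.Limits AlgebraicGeometry TopologicalSpace Opposite

namespace Groth.Agent.Helper13.QCoh

variable {X : Scheme.{u}}

section Stalk

variable (F : X.Modules)

theorem germ_smul (U : X.Opens) (x : X) (hx : x ∈ U) (r : Γ(X, U)) (m : Γ(F, U)) :
    F.presheaf.germ U x hx (r • m) = X.presheaf.germ U x hx r • F.presheaf.germ U x hx m :=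
  PresheafOfModules.germ_smul (R := X.presheaf)
    (show PresheafOfModules (X.presheaf ⋙ forget₂ CommRingCat RingCat) from F.val) x U hx r m

variable [F.IsQuasicoherent] {U : X.Opens} (hU : IsAffineOpen U)

include hU in
/-- every element of the stalk of a quasi-coherent module at a point of an affine open `U` becomes,
after multiplication by a function on `U` invertible at the point, the germ of a section over `U`. -/
theorem exists_germ_smul_eq (x : X) (hx : x ∈ U) (m : F.presheaf.stalk x) :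
    ∃ (g : Γ(X, U)) (_ : x ∈ X.basicOpen g) (t : Γ(F, U)),
      X.presheaf.germ U x hx g • m = F.presheaf.germ U x hx t := by
  obtain ⟨W, hxW, m₀, rfl⟩ := TopCat.Presheaf.exists_germ_eq F.presheaf m
  obtain ⟨g, hgW, hxg⟩ := hU.exists_basicOpen_le (V := W ⊓ U) ⟨x, ⟨hxW, hx⟩⟩ hx
  have hgW' : X.basicOpen g ≤ W := hgW.trans inf_le_left
  obtain ⟨n, t, ht⟩ := exists_pow_smul_eq_res F hU g (F.presheaf.map (homOfLE hgW').op m₀)
  refine ⟨g ^ n, ?_, t, ?_⟩
  · rw [X.mem_basicOpen _ x hx, map_pow]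
    exact ((X.mem_basicOpen g x hx).1 hxg).pow n
  · have h1 := congrArg (F.presheaf.germ (X.basicOpen g) x hxg) ht
    rw [TopCat.Presheaf.germ_res_apply, germ_smul, TopCat.Presheaf.germ_res_apply, map_pow,
      TopCat.Presheaf.germ_res_apply] at h1
    rw [map_pow]
    exact h1.symm

include hU in
theorem exists_smul_eq_zero_of_germ_eq_zero (x : X) (hx : x ∈ U) (t : Γ(F, U))
    (ht : F.presheaf.germ U x hx t = 0) :
    ∃ (g : Γ(X, U)), x ∈ X.basicOpen g ∧ g • t = 0 := by
  have h0 : F.presheaf.germ U x hx t = F.presheaf.germ U x hx 0 := by rw [ht, map_zero]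
  obtain ⟨W, hxW, iU, iV, hW⟩ := TopCat.Presheaf.germ_eq F.presheaf x hx hx t 0 h0
  obtain ⟨g, hgW, hxg⟩ := hU.exists_basicOpen_le (V := W) ⟨x, hxW⟩ hx
  have h1 : F.presheaf.map (homOfLE (X.basicOpen_le g)).op t = 0 := by
    have h2 := congrArg (F.presheaf.map (homOfLE hgW).op) hW
    rw [map_map_eq F _ _ (homOfLE (X.basicOpen_le g)).op, map_zero, map_zero] at h2
    exact h2
  obtain ⟨n, hn⟩ := exists_pow_smul_eq_zero F hU g t h1
  refine ⟨g ^ n, ?_, hn⟩
  rw [X.mem_basicOpen _ x hx, map_pow]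
  exact ((X.mem_basicOpen g x hx).1 hxg).pow n

end Stalk

end Groth.Agent.Helper13.QCoh

namespace Groth.Agent.Helper13.QCoh

variable {X : Scheme.{u}}

section Bridge

variable {F G : X.Modules} (φ : F ⟶ G)

lemma mono_iff_app_injective : Mono φ ↔ ∀ U : X.Opens, Function.Injective (φ.app U) := by
  constructor
  · intro h U
    have h1 : Mono ((Scheme.Modules.toPresheaf X).map φ) := inferInstance
    rw [NatTrans.mono_iff_mono_app] at h1
    have h2 := h1 (op U)
    rw [AddCommGrpCat.mono_iff_injective] at h2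
    exact h2
  · intro h
    have h1 : Mono ((Scheme.Modules.toPresheaf X).map φ) := by
      rw [NatTrans.mono_iff_mono_app]
      intro U
      rw [AddCommGrpCat.mono_iff_injective]
      exact h U.unop
    exact (Scheme.Modules.toPresheaf X).mono_of_mono_map h1

lemma mono_iff_stalk_injective : Mono φ ↔
    ∀ x : X, Function.Injective ((TopCat.Presheaf.stalkFunctor Ab.{u} x).map φ.mapPresheaf) := by
  rw [mono_iff_app_injective]
  have := TopCat.Presheaf.app_injective_iff_stalkFunctor_map_injective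
    (F := ⟨F.presheaf, F.isSheaf⟩) (G := G.presheaf) φ.mapPresheaf
  exact this.symm

lemma isZero_iff_sections (F : X.Modules) : IsZero F ↔ ∀ U : X.Opens, Subsingleton Γ(F, U) := by
  rw [IsZero.iff_id_eq_zero]
  constructor
  · intro h U
    refine ⟨fun a b => ?_⟩
    have h1 : ∀ c : Γ(F, U), c = 0 := by
      intro c
      have := congrArg (fun ψ : F ⟶ F => ψ.app U c) h
      simpa using this
    rw [h1 a, h1 b]
  · intro h
    apply Scheme.Modules.hom_ext
    intro U
    ext c
    exact (h U).elim _ _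

lemma isZero_iff_stalk (F : X.Modules) :
    IsZero F ↔ ∀ x : X, Subsingleton (F.presheaf.stalk x) := by
  rw [isZero_iff_sections]
  constructor
  · intro h x
    refine ⟨fun a b => ?_⟩
    obtain ⟨U, hxU, a₀, rfl⟩ := TopCat.Presheaf.exists_germ_eq F.presheaf a
    obtain ⟨V, hxV, b₀, rfl⟩ := TopCat.Presheaf.exists_germ_eq F.presheaf b
    have ha : a₀ = 0 := (h U).elim _ _
    have hb : b₀ = 0 := (h V).elim _ _
    rw [ha, hb, map_zero, map_zero]
  · intro h U
    refine ⟨fun a b => ?_⟩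
    apply TopCat.Presheaf.section_ext ⟨F.presheaf, F.isSheaf⟩ U
    intro x hx
    exact (h x).elim _ _

end Bridge

end Groth.Agent.Helper13.QCoh

namespace Groth.Agent.Helper13.QCoh

variable {X : Scheme.{u}}

section StalkMap

variable {F G : X.Modules} (φ : F ⟶ G)

/-- the map induced on stalks by a morphism of modules -/
noncomputable abbrev stalkMap (x : X) : F.presheaf.stalk x ⟶ G.presheaf.stalk x :=
  (TopCat.Presheaf.stalkFunctor Ab.{u} x).map φ.mapPresheaf

lemma stalkMap_germ (x : X) (U : X.Opens) (hx : x ∈ U) (m : Γ(F, U)) :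
    stalkMap φ x (F.presheaf.germ U x hx m) = G.presheaf.germ U x hx (φ.app U m) :=
  TopCat.Presheaf.stalkFunctor_map_germ_apply U x hx φ.mapPresheaf m

lemma stalkMap_smul (x : X) (r : X.presheaf.stalk x) (m : F.presheaf.stalk x) :
    stalkMap φ x (r • m) = r • stalkMap φ x m := by
  obtain ⟨U, hxU, r₀, rfl⟩ := TopCat.Presheaf.exists_germ_eq X.presheaf r
  obtain ⟨V, hxV, m₀, rfl⟩ := TopCat.Presheaf.exists_germ_eq F.presheaf m
  have hW : x ∈ U ⊓ V := ⟨hxU, hxV⟩
  have e1 : X.presheaf.germ U x hxU r₀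
      = X.presheaf.germ (U ⊓ V) x hW (X.presheaf.map (homOfLE inf_le_left).op r₀) :=
    (TopCat.Presheaf.germ_res_apply X.presheaf (homOfLE inf_le_left) x hW r₀).symm
  have e2 : F.presheaf.germ V x hxV m₀
      = F.presheaf.germ (U ⊓ V) x hW (F.presheaf.map (homOfLE inf_le_right).op m₀) :=
    (TopCat.Presheaf.germ_res_apply F.presheaf (homOfLE inf_le_right) x hW m₀).symm
  rw [e1, e2, ← germ_smul, stalkMap_germ, stalkMap_germ, Scheme.Modules.Hom.app_smul, germ_smul]

end StalkMap

end Groth.Agent.Helper13.QCoh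

namespace Groth.Agent.Helper13.QCoh

variable {X : Scheme.{u}}

section Exact

variable (S : ShortComplex X.Modules)

/-- left exactness on sections -/
lemma app_exact_of_exact_of_mono (hS : S.Exact) [Mono S.f] (U : X.Opens) (m : Γ(S.X₂, U))
    (hm : S.g.app U m = 0) : ∃ m₁ : Γ(S.X₁, U), S.f.app U m₁ = m := by
  let Φ : X.Modules ⥤ Ab.{u} :=
    Scheme.Modules.toPresheaf X ⋙ (evaluation (Opens X)ᵒᵖ Ab.{u}).obj (op U)
  have : Φ.PreservesZeroMorphisms := ⟨fun _ _ => rfl⟩
  have e1 : PreservesLimitsOfShape WalkingParallelPair ((evaluation (Opens X)ᵒᵖ Ab.{u}).obj (op U)) := inferInstance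
  have hpl0 : PreservesLimitsOfShape WalkingParallelPair
      (Scheme.Modules.toPresheaf X ⋙ (evaluation (Opens X)ᵒᵖ Ab.{u}).obj (op U)) :=
    comp_preservesLimitsOfShape _ _
  have hpl : PreservesLimit (parallelPair S.g 0) Φ := inferInstance
  have h1 : (S.map Φ).Exact := hS.map_of_mono_of_preservesKernel Φ inferInstance hpl
  rw [ShortComplex.ab_exact_iff] at h1
  exact h1 m hm

lemma stalk_exact_of_exact_of_mono (hS : S.Exact) [Mono S.f] (x : X) (m : S.X₂.presheaf.stalk x)
    (hm : stalkMap S.g x m = 0) : ∃ m₁ : S.X₁.presheaf.stalk x, stalkMap S.f x m₁ = m := by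
  obtain ⟨U, hxU, m₀, rfl⟩ := TopCat.Presheaf.exists_germ_eq S.X₂.presheaf m
  rw [stalkMap_germ] at hm
  have h0 : S.X₃.presheaf.germ U x hxU (S.g.app U m₀) = S.X₃.presheaf.germ U x hxU 0 := by
    rw [hm, map_zero]
  obtain ⟨W, hxW, iU, iV, hW⟩ := TopCat.Presheaf.germ_eq S.X₃.presheaf x hxU hxU _ _ h0
  have h1 : S.g.app W (S.X₂.presheaf.map iU.op m₀) = 0 := by
    have h2 : S.g.app W (S.X₂.presheaf.map iU.op m₀) = S.X₃.presheaf.map iU.op (S.g.app U m₀) := by
      have := S.g.mapPresheaf.naturality iU.op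
      exact congrArg (fun ψ => ψ m₀) this
    rw [map_zero] at hW
    exact h2.trans hW
  obtain ⟨m₁, hm₁⟩ := app_exact_of_exact_of_mono S hS W _ h1
  refine ⟨S.X₁.presheaf.germ W x hxW m₁, ?_⟩
  rw [stalkMap_germ, hm₁, TopCat.Presheaf.germ_res_apply]

end Exact

end Groth.Agent.Helper13.QCoh
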