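import Mathlib
import Groth.Agent.Lib.Helper13.QCohStalk

set_option autoImplicit false
universe u
open CategoryTheory CategoryTheory.Limits AlgebraicGeometry Opposite TopologicalSpace Groth.Agent.Helper13.QCoh

namespace Groth.Agent.Helper13.FinType

variable {X : Scheme.{u}}

/-- A family of submodules of the sections of `N`, stable under restriction, which is local. -/
def IsLocalSub (N : X.Modules) (G : PresheafOfModules.Submodule N.val) : Prop :=
  ∀ (V : X.Opens) (t : Γ(N, V)),
    (∀ y ∈ V, ∃ (W : X.Opens) (hW : W ≤ V), y ∈ W ∧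
      N.presheaf.map (homOfLE hW).op t ∈ G.obj (op W)) → t ∈ G.obj (op V)

variable (N : X.Modules) (G : PresheafOfModules.Submodule N.val)

theorem isSheaf_of_isLocalSub (hG : IsLocalSub N G) :
    TopCat.Presheaf.IsSheaf (G.toPresheafOfModules.presheaf) := by
  rw [TopCat.Presheaf.isSheaf_iff_isSheafUniqueGluing]
  intro ι U sf hsf
  -- the family in N
  let sf' : ∀ i, ToType (N.presheaf.obj (op (U i))) := fun i => (sf i).1
  have hsf' : TopCat.Presheaf.IsCompatible N.presheaf U sf' := by
    intro i j
    have := hsf i j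
    have h2 := congrArg Subtype.val this
    exact h2
  obtain ⟨t, ht, htu⟩ := TopCat.Sheaf.existsUnique_gluing ⟨N.presheaf, N.isSheaf⟩ U sf' hsf'
  have htG : t ∈ G.obj (op (iSup U)) := by
    apply hG
    intro y hy
    obtain ⟨i, hi⟩ := Opens.mem_iSup.1 hy
    refine ⟨U i, le_iSup U i, hi, ?_⟩
    have := ht i
    erw [this]
    exact (sf i).2
  refine ⟨⟨t, htG⟩, ?_, ?_⟩
  · intro i
    apply Subtype.ext
    exact ht i
  · intro s hs
    apply Subtype.ext
    apply htu
    intro i
    have := hs i
    exact congrArg Subtype.val this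

end Groth.Agent.Helper13.FinType

namespace Groth.Agent.Helper13.FinType

variable {X : Scheme.{u}} (N : X.Modules) (G : PresheafOfModules.Submodule N.val)

/-- The sub-`𝒪`-module of `N` defined by a local family of submodules. -/
noncomputable def subsheaf (hG : IsLocalSub N G) : X.Modules :=
  (⟨G.toPresheafOfModules, isSheaf_of_isLocalSub N G hG⟩ : SheafOfModules X.ringCatSheaf)

/-- The inclusion. -/
noncomputable def subsheafι (hG : IsLocalSub N G) : subsheaf N G hG ⟶ N :=
  (⟨G.ι⟩ : SheafOfModules.Hom _ _)

lemma subsheafι_app_apply (hG : IsLocalSub N G) (V : X.Opens) (s : Γ(subsheaf N G hG, V)) :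
    ((subsheafι N G hG).app V s : Γ(N, V)) = (show G.obj (op V) from s).1 := rfl

lemma subsheafι_app_mem (hG : IsLocalSub N G) (V : X.Opens) (s : Γ(subsheaf N G hG, V)) :
    ((subsheafι N G hG).app V s : Γ(N, V)) ∈ G.obj (op V) := (show G.obj (op V) from s).2

lemma subsheafι_app_injective (hG : IsLocalSub N G) (V : X.Opens) :
    Function.Injective ((subsheafι N G hG).app V) := by
  intro a b hab
  exact Subtype.ext hab

instance (hG : IsLocalSub N G) : Mono (subsheafι N G hG) := by
  rw [mono_iff_app_injective]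
  exact subsheafι_app_injective N G hG

lemma exists_of_mem (hG : IsLocalSub N G) (V : X.Opens) (t : Γ(N, V)) (ht : t ∈ G.obj (op V)) :
    ∃ s : Γ(subsheaf N G hG, V), (subsheafι N G hG).app V s = t :=
  ⟨(show Γ(subsheaf N G hG, V) from (⟨t, ht⟩ : G.obj (op V))), rfl⟩

end Groth.Agent.Helper13.FinType
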