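import Mathlib
import Groth.Agent.Lib.Helper13.QCohStalk
import Groth.Agent.Lib.Helper13.SubSheaf

set_option autoImplicit false
universe u
open CategoryTheory CategoryTheory.Limits AlgebraicGeometry Opposite TopologicalSpace Groth.Agent.Helper13.QCoh

namespace Groth.Agent.Helper13.FinType

variable {X : Scheme.{u}}

/-- the map on stalks as a linear map -/
noncomputable def stalkLinearMap {F G : X.Modules} (φ : F ⟶ G) (x : X) :
    F.presheaf.stalk x →ₗ[X.presheaf.stalk x] G.presheaf.stalk x where
  toFun := stalkMap φ x
  map_add' a b := map_add _ a b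
  map_smul' r m := stalkMap_smul φ x r m

@[simp] lemma stalkLinearMap_apply {F G : X.Modules} (φ : F ⟶ G) (x : X) (m : F.presheaf.stalk x) :
    stalkLinearMap φ x m = stalkMap φ x m := rfl

/-- two morphisms which agree on stalks are equal -/
lemma hom_ext_stalk {F G : X.Modules} (φ ψ : F ⟶ G)
    (h : ∀ (x : X) (m : F.presheaf.stalk x), stalkMap φ x m = stalkMap ψ x m) : φ = ψ := by
  apply Scheme.Modules.hom_ext
  intro U
  ext m
  apply TopCat.Presheaf.section_ext ⟨G.presheaf, G.isSheaf⟩
  intro x hx
  have := h x (F.presheaf.germ U x hx m)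
  rw [stalkMap_germ, stalkMap_germ] at this
  exact this

variable (N : X.Modules)

/-- the section over `V` of a global section -/
abbrev secOn (s : N.sections) (V : X.Opens) : Γ(N, V) := s.1 (op V)

lemma secOn_res (s : N.sections) {V W : X.Opens} (h : W ≤ V) :
    N.presheaf.map (homOfLE h).op (secOn N s V) = secOn N s W :=
  s.2 (homOfLE h).op

/-- the germ of a global section -/
noncomputable abbrev secGerm (s : N.sections) (y : X) : N.presheaf.stalk y :=
  N.presheaf.germ ⊤ y trivial (secOn N s ⊤)

lemma germ_secOn (s : N.sections) (V : X.Opens) (y : X) (hy : y ∈ V) :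
    N.presheaf.germ V y hy (secOn N s V) = secGerm N s y := by
  rw [← secOn_res N s (le_top : V ≤ ⊤)]
  exact TopCat.Presheaf.germ_res_apply N.presheaf (homOfLE le_top) y hy _

lemma stalkMap_secGerm {N P : X.Modules} (g : N ⟶ P) (s : N.sections) (y : X) :
    stalkMap g y (secGerm N s y) = secGerm P (SheafOfModules.sectionsMap g s) y := by
  rw [secGerm, stalkMap_germ]
  rfl

end Groth.Agent.Helper13.FinType
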