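import Mathlib
import Groth.Agent.Lib.Helper13.EpiGen

set_option autoImplicit false
universe u
open CategoryTheory CategoryTheory.Limits AlgebraicGeometry Opposite TopologicalSpace Groth.Agent.Helper13.QCoh

namespace Groth.Agent.Helper13.FinType

variable {X : Scheme.{u}} (N : X.Modules) {I : Type u} (s : I → N.sections)

/-- the span of the germs of the sections `s i` in the stalk at `y` -/
noncomputable def germSpan (y : X) : Submodule (X.presheaf.stalk y) (N.presheaf.stalk y) :=
  Submodule.span (X.presheaf.stalk y) (Set.range fun i => secGerm N (s i) y)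

/-- the family of sections all of whose germs are in the span of the germs of the `s i`. -/
noncomputable def genSub : PresheafOfModules.Submodule N.val where
  obj V :=
    { carrier := {t | ∀ (y : X) (hy : y ∈ V.unop),
        N.presheaf.germ V.unop y hy t ∈ germSpan N s y}
      add_mem' := by
        intro a b ha hb y hy
        have := Submodule.add_mem _ (ha y hy) (hb y hy)
        rw [← map_add] at this
        exact this
      zero_mem' := by
        intro y hy
        have : N.presheaf.germ V.unop y hy 0 = 0 := map_zero _
        exact Eq.mpr (congrArg (fun z => z ∈ germSpan N s y) this) (Submodule.zero_mem _)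
      smul_mem' := by
        intro r a ha y hy
        have := germ_smul (F := N) V.unop y hy r a
        exact Eq.mpr (congrArg (fun z => z ∈ germSpan N s y) this)
          (Submodule.smul_mem _ _ (ha y hy)) }
  map := by
    intro V W f t ht y hy
    have hyV : y ∈ V.unop := f.unop.le hy
    have := TopCat.Presheaf.germ_res_apply N.presheaf f.unop y hy t
    exact Eq.mpr (congrArg (fun z => z ∈ germSpan N s y) this) (ht y hyV)

lemma mem_genSub_iff (V : X.Opens) (t : Γ(N, V)) :
    t ∈ (genSub N s).obj (op V) ↔ ∀ (y : X) (hy : y ∈ V), N.presheaf.germ V y hy t ∈ germSpan N s y :=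
  Iff.rfl

lemma isLocalSub_genSub : IsLocalSub N (genSub N s) := by
  intro V t h y hy
  obtain ⟨W, hW, hyW, hm⟩ := h y hy
  have := hm y hyW
  rwa [TopCat.Presheaf.germ_res_apply] at this

end Groth.Agent.Helper13.FinType

namespace Groth.Agent.Helper13.FinType

variable {X : Scheme.{u}} (N : X.Modules) {I : Type u} (s : I → N.sections)

lemma secOn_mem_genSub (i : I) (V : X.Opens) : secOn N (s i) V ∈ (genSub N s).obj (op V) := by
  intro y hy
  have := germ_secOn N (s i) V y hy
  exact Eq.mpr (congrArg (fun z => z ∈ germSpan N s y) this) (Submodule.subset_span ⟨i, rfl⟩)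

theorem germSpan_eq_top_of_epi (hE : Epi (N.freeHomEquiv.symm s)) (y : X) :
    germSpan N s y = ⊤ := by
  let N' := subsheaf N (genSub N s) (isLocalSub_genSub N s)
  let ι : N' ⟶ N := subsheafι N (genSub N s) (isLocalSub_genSub N s)
  let s' : I → SheafOfModules.sections N' := fun i =>
    PresheafOfModules.sectionsMk
      (fun V => (⟨secOn N (s i) V.unop, secOn_mem_genSub N s i V.unop⟩ : (genSub N s).obj V))
      (by
        intro V W f
        apply Subtype.ext
        exact (s i).2 f)
  have hs' : ∀ i, SheafOfModules.sectionsMap ι (s' i) = s i := by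
    intro i
    apply PresheafOfModules.sections_ext
    intro V
    rfl
  let ψ := (SheafOfModules.freeHomEquiv N').symm s'
  have hψ : ψ ≫ ι = (SheafOfModules.freeHomEquiv N).symm s := by
    rw [SheafOfModules.freeHomEquiv_symm_comp]
    congr 1
  have hEι : Epi ι := by
    have : Epi (ψ ≫ ι) := hψ ▸ hE
    exact epi_of_epi ψ ι
  have hIso : IsIso ι := isIso_of_mono_of_epi ι
  rw [eq_top_iff]
  intro m _
  obtain ⟨V, hyV, t, rfl⟩ := TopCat.Presheaf.exists_germ_eq N.presheaf m
  have h1 : IsIso (ι.app V) := inferInstance
  have hsurj : Function.Surjective (ι.app V) :=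
    ((ConcreteCategory.isIso_iff_bijective (ι.app V)).1 h1).2
  obtain ⟨t', rfl⟩ := hsurj t
  exact subsheafι_app_mem N (genSub N s) (isLocalSub_genSub N s) V t' y hyV

theorem epi_of_germSpan_eq_top (h : ∀ y : X, germSpan N s y = ⊤) :
    Epi ((SheafOfModules.freeHomEquiv N).symm s) := by
  constructor
  intro P g g' hgg
  rw [SheafOfModules.freeHomEquiv_symm_comp, SheafOfModules.freeHomEquiv_symm_comp] at hgg
  have h1 := (SheafOfModules.freeHomEquiv P).symm.injective hgg
  have h2 : ∀ i, SheafOfModules.sectionsMap g (s i) = SheafOfModules.sectionsMap g' (s i) :=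
    fun i => congrFun h1 i
  apply hom_ext_stalk
  intro y m
  have hm : m ∈ germSpan N s y := by rw [h y]; trivial
  have hlin : stalkLinearMap g y = stalkLinearMap g' y := by
    apply LinearMap.ext_on_range (h y)
    intro i
    show stalkMap g y (secGerm N (s i) y) = stalkMap g' y (secGerm N (s i) y)
    rw [stalkMap_secGerm, stalkMap_secGerm, h2 i]
  exact congrArg (fun l => l m) hlin

theorem epi_iff_germSpan_eq_top :
    Epi ((SheafOfModules.freeHomEquiv N).symm s) ↔ ∀ y : X, germSpan N s y = ⊤ :=
  ⟨germSpan_eq_top_of_epi N s, epi_of_germSpan_eq_top N s⟩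

end Groth.Agent.Helper13.FinType
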