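import Mathlib
import Groth.Agent.Lib.Helper13.EpiGen2

set_option autoImplicit false
universe u
open CategoryTheory CategoryTheory.Limits AlgebraicGeometry Opposite TopologicalSpace Groth.Agent.Helper13.QCoh

namespace Groth.Agent.Helper13.FinType

variable {X : Scheme.{u}} (N : X.Modules) {I : Type*}

/-- stalkwise generation on `U` by sections over `U` -/
def GenOn (U : X.Opens) (s : I → Γ(N, U)) : Prop :=
  ∀ (y : X) (hy : y ∈ U),
    Submodule.span (X.presheaf.stalk y) (Set.range fun i => N.presheaf.germ U y hy (s i)) = ⊤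

/-- restriction of a family of sections -/
noncomputable abbrev resFam {U : X.Opens} (s : I → Γ(N, U)) {W : X.Opens} (h : W ≤ U) : I → Γ(N, W) :=
  fun i => N.presheaf.map (homOfLE h).op (s i)

/-- sectionwise local generation on `U` by sections over `U` -/
def LocGenOn (U : X.Opens) (s : I → Γ(N, U)) : Prop :=
  ∀ (V : X.Opens) (hV : V ≤ U) (t : Γ(N, V)) (y : X), y ∈ V →
    ∃ (W : X.Opens) (hW : W ≤ V), y ∈ W ∧
      N.presheaf.map (homOfLE hW).op t ∈
        Submodule.span Γ(X, W) (Set.range (resFam N s (hW.trans hV)))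

variable {N}

lemma res_mem_span {U : X.Opens} (s : I → Γ(N, U)) {W W' : X.Opens} (h : W ≤ U) (h' : W' ≤ W)
    (t : Γ(N, W)) (ht : t ∈ Submodule.span Γ(X, W) (Set.range (resFam N s h))) :
    N.presheaf.map (homOfLE h').op t ∈
      Submodule.span Γ(X, W') (Set.range (resFam N s (h'.trans h))) := by
  induction ht using Submodule.span_induction with
  | mem x hx =>
    obtain ⟨i, rfl⟩ := hx
    apply Submodule.subset_span
    refine ⟨i, ?_⟩
    simp only [resFam]
    rw [← ConcreteCategory.comp_apply, ← Functor.map_comp]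
    rfl
  | zero => rw [map_zero]; exact Submodule.zero_mem _
  | add a b _ _ ha hb => rw [map_add]; exact Submodule.add_mem _ ha hb
  | smul r a _ ha =>
    rw [Scheme.Modules.map_smul]
    exact Submodule.smul_mem _ _ ha

lemma germ_mem_span {U : X.Opens} (s : I → Γ(N, U)) {W : X.Opens} (h : W ≤ U)
    (t : Γ(N, W)) (ht : t ∈ Submodule.span Γ(X, W) (Set.range (resFam N s h)))
    (y : X) (hy : y ∈ W) :
    N.presheaf.germ W y hy t ∈ Submodule.span (X.presheaf.stalk y)
      (Set.range fun i => N.presheaf.germ U y (h hy) (s i)) := by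
  induction ht using Submodule.span_induction with
  | mem x hx =>
    obtain ⟨i, rfl⟩ := hx
    apply Submodule.subset_span
    refine ⟨i, ?_⟩
    simp only [resFam]
    exact (TopCat.Presheaf.germ_res_apply N.presheaf (homOfLE h) y hy (s i)).symm
  | zero => rw [map_zero]; exact Submodule.zero_mem _
  | add a b _ _ ha hb => rw [map_add]; exact Submodule.add_mem _ ha hb
  | smul r a _ ha =>
    rw [germ_smul]
    exact Submodule.smul_mem _ _ ha

theorem GenOn.of_locGenOn {U : X.Opens} {s : I → Γ(N, U)} (h : LocGenOn N U s) : GenOn N U s := by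
  intro y hy
  rw [eq_top_iff]
  intro m _
  obtain ⟨V₀, hyV₀, t₀, rfl⟩ := TopCat.Presheaf.exists_germ_eq N.presheaf m
  have hyV : y ∈ V₀ ⊓ U := ⟨hyV₀, hy⟩
  obtain ⟨W, hW, hyW, hmem⟩ := h (V₀ ⊓ U) inf_le_right
    (N.presheaf.map (homOfLE inf_le_left).op t₀) y hyV
  have := germ_mem_span s (hW.trans inf_le_right) _ hmem y hyW
  rw [TopCat.Presheaf.germ_res_apply, TopCat.Presheaf.germ_res_apply] at this
  exact this

end Groth.Agent.Helper13.FinType
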