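import Mathlib
import Groth.Agent.Lib.Helper13.LocGen

set_option autoImplicit false
universe u
open CategoryTheory CategoryTheory.Limits AlgebraicGeometry Opposite TopologicalSpace Groth.Agent.Helper13.QCoh

namespace Groth.Agent.Helper13.FinType

variable {X : Scheme.{u}} {N : X.Modules} {I : Type*}

lemma exists_section_of_mem_span {U : X.Opens} (s : I → Γ(N, U)) (y : X) (hy : y ∈ U)
    (m : N.presheaf.stalk y)
    (hm : m ∈ Submodule.span (X.presheaf.stalk y)
      (Set.range fun i => N.presheaf.germ U y hy (s i))) :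
    ∃ (W : X.Opens) (hW : W ≤ U) (hyW : y ∈ W) (t : Γ(N, W)),
      t ∈ Submodule.span Γ(X, W) (Set.range (resFam N s hW)) ∧ N.presheaf.germ W y hyW t = m := by
  induction hm using Submodule.span_induction with
  | mem x hx =>
    obtain ⟨i, rfl⟩ := hx
    refine ⟨U, le_rfl, hy, s i, Submodule.subset_span ⟨i, ?_⟩, rfl⟩
    simp only [resFam]
    show N.presheaf.map (𝟙 (op U)) (s i) = s i
    rw [N.presheaf.map_id]
    rfl
  | zero => exact ⟨U, le_rfl, hy, 0, Submodule.zero_mem _, map_zero _⟩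
  | add a b _ _ ha hb =>
    obtain ⟨W₁, hW₁, hy₁, t₁, ht₁, rfl⟩ := ha
    obtain ⟨W₂, hW₂, hy₂, t₂, ht₂, rfl⟩ := hb
    refine ⟨W₁ ⊓ W₂, inf_le_left.trans hW₁, ⟨hy₁, hy₂⟩,
      N.presheaf.map (homOfLE inf_le_left).op t₁ + N.presheaf.map (homOfLE inf_le_right).op t₂,
      Submodule.add_mem _ (res_mem_span s hW₁ inf_le_left t₁ ht₁)
        (res_mem_span s hW₂ inf_le_right t₂ ht₂), ?_⟩
    rw [map_add, TopCat.Presheaf.germ_res_apply, TopCat.Presheaf.germ_res_apply]
  | smul r a _ ha =>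
    obtain ⟨W₁, hW₁, hy₁, t₁, ht₁, rfl⟩ := ha
    obtain ⟨W₂, hy₂, r₀, rfl⟩ := TopCat.Presheaf.exists_germ_eq X.presheaf r
    refine ⟨W₂ ⊓ W₁, inf_le_right.trans hW₁, ⟨hy₂, hy₁⟩,
      X.presheaf.map (homOfLE inf_le_left).op r₀ • N.presheaf.map (homOfLE inf_le_right).op t₁,
      Submodule.smul_mem _ _ (res_mem_span s hW₁ inf_le_right t₁ ht₁), ?_⟩
    rw [germ_smul, TopCat.Presheaf.germ_res_apply, TopCat.Presheaf.germ_res_apply]

theorem LocGenOn.of_genOn {U : X.Opens} {s : I → Γ(N, U)} (h : GenOn N U s) : LocGenOn N U s := by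
  intro V hV t y hy
  have hm : N.presheaf.germ V y hy t ∈ Submodule.span (X.presheaf.stalk y)
      (Set.range fun i => N.presheaf.germ U y (hV hy) (s i)) := by
    rw [h y (hV hy)]; trivial
  obtain ⟨W, hW, hyW, t', ht', hgerm⟩ := exists_section_of_mem_span s y (hV hy) _ hm
  obtain ⟨W', hyW', i₁, i₂, heq⟩ := TopCat.Presheaf.germ_eq N.presheaf y hyW hy t' t hgerm
  refine ⟨W', i₂.le, hyW', ?_⟩
  have h1 := res_mem_span s hW i₁.le t' ht'
  have h2 : N.presheaf.map (homOfLE i₂.le).op t = N.presheaf.map (homOfLE i₁.le).op t' := heq.symm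
  rw [h2]
  exact h1

theorem genOn_iff_locGenOn {U : X.Opens} {s : I → Γ(N, U)} : GenOn N U s ↔ LocGenOn N U s :=
  ⟨LocGenOn.of_genOn, GenOn.of_locGenOn⟩

end Groth.Agent.Helper13.FinType
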