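import Mathlib
import Groth.Agent.Lib.Helper13.LocGen2

set_option autoImplicit false
universe u
open CategoryTheory CategoryTheory.Limits AlgebraicGeometry Opposite TopologicalSpace Groth.Agent.Helper13.QCoh

namespace Groth.Agent.Helper13.FinType

variable {X Y : Scheme.{u}} (f : Y ⟶ X) [IsOpenImmersion f] (M : X.Modules) {I : Type*}

/-- spans over `Γ(Y, W')` and over `Γ(X, f ''ᵁ W')` agree for the restriction. -/
lemma mem_span_restrict_iff (W' : Y.Opens) (S : Set Γ(M.restrict f, W')) (t : Γ(M.restrict f, W')) :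
    (t ∈ Submodule.span Γ(Y, W') S) ↔
      (id t : Γ(M, f ''ᵁ W')) ∈ Submodule.span Γ(X, f ''ᵁ W') (id S : Set Γ(M, f ''ᵁ W')) := by
  constructor
  · intro ht
    induction ht using Submodule.span_induction with
    | mem x hx => exact Submodule.subset_span hx
    | zero => exact Submodule.zero_mem _
    | add a b _ _ ha hb => exact Submodule.add_mem _ ha hb
    | smul r a _ ha =>
      have h2 : (((f.appIso W').inv r) • (id a : Γ(M, f ''ᵁ W'))) ∈
        Submodule.span Γ(X, f ''ᵁ W') (id S : Set Γ(M, f ''ᵁ W')) := Submodule.smul_mem _ _ ha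
      exact h2
  · intro ht
    change t ∈ Submodule.span Γ(X, f ''ᵁ W') (id S : Set Γ(M, f ''ᵁ W')) at ht
    induction ht using Submodule.span_induction with
    | mem x hx => exact Submodule.subset_span hx
    | zero => exact Submodule.zero_mem _
    | add a b _ _ ha hb => exact Submodule.add_mem _ ha hb
    | smul r a _ ha =>
      have h2 : (((f.appIso W').hom r) • (id a : Γ(M.restrict f, W'))) ∈
        Submodule.span Γ(Y, W') S := Submodule.smul_mem _ _ ha
      have h3 : (f.appIso W').inv ((f.appIso W').hom r) = r :=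
        congrArg (fun φ => φ r) (CommRingCat.hom_ext_iff.1 (f.appIso W').hom_inv_id)
      have h4 : (((f.appIso W').hom r) • (id a : Γ(M.restrict f, W'))) =
          (((f.appIso W').inv ((f.appIso W').hom r)) • (id a : Γ(M, f ''ᵁ W'))) := rfl
      rw [h3] at h4
      rw [h4] at h2
      exact h2

end Groth.Agent.Helper13.FinType

namespace Groth.Agent.Helper13.FinType

variable {X Y : Scheme.{u}} (f : Y ⟶ X) [IsOpenImmersion f] (M : X.Modules) {I : Type*}

lemma LocGenOn.mono {N : X.Modules} {U U' : X.Opens} {s : I → Γ(N, U)} (h : LocGenOn N U s)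
    (hU : U' ≤ U) : LocGenOn N U' (resFam N s hU) := by
  intro V hV t y hy
  obtain ⟨W, hW, hyW, hmem⟩ := h V (hV.trans hU) t y hy
  refine ⟨W, hW, hyW, ?_⟩
  have : resFam N (resFam N s hU) (hW.trans hV) = resFam N s (hW.trans (hV.trans hU)) := by
    funext i
    simp only [resFam]
    rw [← ConcreteCategory.comp_apply, ← Functor.map_comp]
    rfl
  rw [this]
  exact hmem

/-- transport of local generation along restriction to an open subscheme, direction 1 -/
theorem LocGenOn.of_restrict (U' : Y.Opens) (s : I → Γ(M.restrict f, U'))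
    (h : LocGenOn (M.restrict f) U' s) :
    LocGenOn M (f ''ᵁ U') (fun i => (id (s i) : Γ(M, f ''ᵁ U'))) := by
  intro V hV t y hy
  obtain ⟨y', hy', rfl⟩ := hV hy
  have hV' : f ⁻¹ᵁ V ≤ U' := by
    intro z hz
    obtain ⟨z', hz', hzz⟩ := hV hz
    have := f.isOpenEmbedding.injective hzz
    exact this ▸ hz'
  have hle : f ''ᵁ (f ⁻¹ᵁ V) ≤ V := f.image_preimage_le V
  let t' : Γ(M.restrict f, f ⁻¹ᵁ V) := M.presheaf.map (homOfLE hle).op t
  obtain ⟨W', hW', hyW', hmem⟩ := h (f ⁻¹ᵁ V) hV' t' y' hy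
  rw [mem_span_restrict_iff] at hmem
  refine ⟨f ''ᵁ W', (f.image_mono hW').trans hle, ⟨y', hyW', rfl⟩, ?_⟩
  have e1 : M.presheaf.map (homOfLE ((f.image_mono hW').trans hle)).op t =
      (id ((M.restrict f).presheaf.map (homOfLE hW').op t') : Γ(M, f ''ᵁ W')) := by
    exact (map_map_eq M (homOfLE hle).op ((Scheme.Hom.opensFunctor f).map (homOfLE hW')).op
      (homOfLE ((f.image_mono hW').trans hle)).op t).symm
  rw [e1]
  exact hmem

end Groth.Agent.Helper13.FinType

namespace Groth.Agent.Helper13.FinType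

variable {X Y : Scheme.{u}} (f : Y ⟶ X) [IsOpenImmersion f] (M : X.Modules) {I : Type*}

/-- transport of local generation along restriction to an open subscheme, direction 2 -/
theorem LocGenOn.restrict (U' : Y.Opens) (s : I → Γ(M.restrict f, U'))
    (h : LocGenOn M (f ''ᵁ U') (fun i => (id (s i) : Γ(M, f ''ᵁ U')))) :
    LocGenOn (M.restrict f) U' s := by
  intro V' hV' t y' hy'
  have hV : f ''ᵁ V' ≤ f ''ᵁ U' := f.image_mono hV'
  obtain ⟨W, hW, hyW, hmem⟩ := h (f ''ᵁ V') hV (id t : Γ(M, f ''ᵁ V')) (f.base y') ⟨y', hy', rfl⟩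
  have hW' : f ⁻¹ᵁ W ≤ V' := by
    intro z hz
    obtain ⟨z', hz', hzz⟩ := hW hz
    have := f.isOpenEmbedding.injective hzz
    exact this ▸ hz'
  have hle : f ''ᵁ (f ⁻¹ᵁ W) ≤ W := f.image_preimage_le W
  refine ⟨f ⁻¹ᵁ W, hW', hyW, ?_⟩
  rw [mem_span_restrict_iff]
  have h1 := res_mem_span _ (hW.trans hV) hle _ hmem
  have e1 : (id ((M.restrict f).presheaf.map (homOfLE hW').op t) : Γ(M, f ''ᵁ (f ⁻¹ᵁ W))) =
      M.presheaf.map (homOfLE hle).op (M.presheaf.map (homOfLE hW).op (id t : Γ(M, f ''ᵁ V'))) :=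
    (map_map_eq M (homOfLE hW).op (homOfLE hle).op
      ((Scheme.Hom.opensFunctor f).map (homOfLE hW')).op (id t : Γ(M, f ''ᵁ V'))).symm
  rw [e1]
  exact h1

end Groth.Agent.Helper13.FinType
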