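import Mathlib
import Groth.Agent.Lib.Helper13.LocGen3

set_option autoImplicit false
universe u
open CategoryTheory CategoryTheory.Limits AlgebraicGeometry Opposite TopologicalSpace Groth.Agent.Helper13.QCoh

namespace Groth.Agent.Helper13.FinType

variable {X : Scheme.{u}}

/-- generating sections of `M.restrict U.ι` from generating sections of `M.over U`. -/
noncomputable def generatingSectionsRestrict (M : X.Modules) (U : X.Opens)
    (σ : (SheafOfModules.over M U).GeneratingSections) :
    (M.restrict U.ι).GeneratingSections := by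
  let F := (Scheme.Modules.overEquiv U).functor
  have : PreservesColimitsOfSize.{u, u} F := inferInstance
  let iso : F.obj (SheafOfModules.over M U) ≅ M.restrict U.ι :=
    (Scheme.Modules.overFunctorEquiv U).app M
  have : Epi iso.hom := inferInstance
  exact (σ.map F (TopologicalSpace.Opens.sheafOfModulesEquivOverUnit U X.ringCatSheaf).symm).ofEpi
    iso.hom

/-- generating sections of `M.over U` from generating sections of `M.restrict U.ι`. -/
noncomputable def generatingSectionsOver (M : X.Modules) (U : X.Opens)
    (σ : (M.restrict U.ι).GeneratingSections) :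
    (SheafOfModules.over M U).GeneratingSections := by
  let e := Scheme.Modules.overEquiv U
  have : PreservesColimitsOfSize.{u, u} e.inverse := inferInstance
  let iso : e.inverse.obj (M.restrict U.ι) ≅ SheafOfModules.over M U :=
    e.inverse.mapIso ((Scheme.Modules.overFunctorEquiv U).app M).symm ≪≫ (e.unitIso.app _).symm
  have : Epi iso.hom := inferInstance
  exact (σ.map e.inverse
    (TopologicalSpace.Opens.sheafOfModulesEquivOverInverseUnit U X.ringCatSheaf).symm).ofEpi iso.hom

lemma generatingSectionsRestrict_I (M : X.Modules) (U : X.Opens)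
    (σ : (SheafOfModules.over M U).GeneratingSections) :
    (generatingSectionsRestrict M U σ).I = σ.I := rfl

lemma generatingSectionsOver_I (M : X.Modules) (U : X.Opens)
    (σ : (M.restrict U.ι).GeneratingSections) :
    (generatingSectionsOver M U σ).I = σ.I := rfl

end Groth.Agent.Helper13.FinType

namespace Groth.Agent.Helper13.FinType

variable {X : Scheme.{u}}

/-- the global section of `N` determined by a section over `⊤`. -/
noncomputable def sectionsOfTop (N : X.Modules) (t : Γ(N, ⊤)) : SheafOfModules.sections N :=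
  PresheafOfModules.sectionsMk (fun V => N.presheaf.map (homOfLE (le_top : V.unop ≤ ⊤)).op t)
    (by
      intro V W g
      exact map_map_eq N (homOfLE (le_top : V.unop ≤ ⊤)).op g
        (homOfLE (le_top : W.unop ≤ ⊤)).op t)

lemma secOn_sectionsOfTop (N : X.Modules) (t : Γ(N, ⊤)) : secOn N (sectionsOfTop N t) ⊤ = t :=
  map_id_apply' N _ t

lemma genOn_top_iff_germSpan (N : X.Modules) {I : Type u} (s : I → SheafOfModules.sections N) :
    GenOn N ⊤ (fun i => secOn N (s i) ⊤) ↔ ∀ y : X, germSpan N s y = ⊤ :=
  ⟨fun h y => h y trivial, fun h y _ => h y⟩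

theorem epi_iff_genOn_top (N : X.Modules) {I : Type u} (s : I → SheafOfModules.sections N) :
    Epi ((SheafOfModules.freeHomEquiv N).symm s) ↔ GenOn N ⊤ (fun i => secOn N (s i) ⊤) := by
  rw [genOn_top_iff_germSpan, epi_iff_germSpan_eq_top]

/-- Finite type implies local finite generation of stalks. -/
theorem exists_genOn_of_isFiniteType (M : X.Modules) [hM : SheafOfModules.IsFiniteType (R := X.ringCatSheaf) M] (x : X) :
    ∃ (U : X.Opens) (_ : x ∈ U) (I : Type u) (_ : Finite I) (s : I → Γ(M, U)), GenOn M U s := by
  obtain ⟨σ, hσ⟩ := SheafOfModules.IsFiniteType.exists_localGeneratorsData M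
  have hcov := (Opens.coversTop_iff _ _).1 σ.coversTop
  have hx : x ∈ iSup σ.X := by rw [hcov]; trivial
  obtain ⟨i, hi⟩ := Opens.mem_iSup.1 hx
  let U : X.Opens := σ.X i
  let τ := generatingSectionsRestrict M U (σ.generators i)
  have hfin : Finite τ.I := (hσ.isFiniteType i).finite
  have h1 : GenOn (M.restrict U.ι) ⊤ (fun j => secOn (M.restrict U.ι) (τ.s j) ⊤) :=
    (epi_iff_genOn_top _ τ.s).1 τ.epi
  have h2 := LocGenOn.of_restrict U.ι M ⊤ _ (LocGenOn.of_genOn h1)
  refine ⟨U.ι ''ᵁ ⊤, ⟨⟨x, hi⟩, trivial, rfl⟩, τ.I, hfin, _, GenOn.of_locGenOn h2⟩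

/-- Local finite generation of stalks implies finite type. -/
theorem isFiniteType_of_genOn (M : X.Modules)
    (h : ∀ x : X, ∃ (U : X.Opens) (_ : x ∈ U) (I : Type u) (_ : Finite I) (s : I → Γ(M, U)),
      GenOn M U s) : SheafOfModules.IsFiniteType (R := X.ringCatSheaf) M := by
  choose U hxU I hI s hs using h
  have key : ∀ x : X, ∃ τ : (M.restrict (U x).ι).GeneratingSections, τ.IsFiniteType := by
    intro x
    have hle : (U x).ι ''ᵁ ⊤ ≤ U x := by
      rw [Scheme.Opens.ι_image_top]
    let s' : I x → Γ(M.restrict (U x).ι, ⊤) := resFam M (s x) hle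
    have h1 : LocGenOn M ((U x).ι ''ᵁ ⊤) (fun i => (id (s' i) : Γ(M, (U x).ι ''ᵁ ⊤))) :=
      LocGenOn.mono (LocGenOn.of_genOn (hs x)) hle
    have h2 := GenOn.of_locGenOn (LocGenOn.restrict (U x).ι M ⊤ s' h1)
    let S : I x → SheafOfModules.sections (M.restrict (U x).ι) := fun i => sectionsOfTop _ (s' i)
    have h3 : GenOn (M.restrict (U x).ι) ⊤ (fun i => secOn _ (S i) ⊤) := by
      have : (fun i => secOn (M.restrict (U x).ι) (S i) ⊤) = s' := by
        funext i
        exact secOn_sectionsOfTop _ _
      rw [this]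
      exact h2
    have hepi := (epi_iff_genOn_top _ S).2 h3
    exact ⟨{ I := I x, s := S, epi := hepi }, ⟨hI x⟩⟩
  choose τ hτ using key
  have hcov : (Opens.grothendieckTopology X).CoversTop U := by
    rw [Opens.coversTop_iff, IsOpenCover, eq_top_iff]
    intro x _
    exact Opens.mem_iSup.2 ⟨x, hxU x⟩
  let σ : SheafOfModules.LocalGeneratorsData.{u} M :=
    { I := X, X := U, coversTop := hcov,
      generators := fun x => generatingSectionsOver M (U x) (τ x) }
  have hσ : σ.IsFiniteType :=
    { isFiniteType := fun x => { finite := (hτ x).finite } }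
  exact { exists_localGeneratorsData := ⟨σ, hσ⟩ }

end Groth.Agent.Helper13.FinType
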