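import Mathlib
import Groth.Prelude.Def_FlatMod2
import Groth.Agent.Lib.Helper13.FinType

set_option autoImplicit false
universe u
open CategoryTheory CategoryTheory.Limits AlgebraicGeometry Opposite TopologicalSpace
open Groth.Agent.Helper13.QCoh Groth.Agent.Helper13.FinType

namespace Groth.Agent.Helper13.LocFree

variable {X : Scheme.{u}} (n : ℕ)

/-- the `i`-th coprojection `O_X ⟶ O_X^n`. -/
noncomputable def ι (i : Fin n) : Coh.structureModule X ⟶ FlatMod.freeMod X n :=
  Sigma.ι (fun _ : Fin n => Coh.structureModule X) i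

/-- the `i`-th projection `O_X^n ⟶ O_X`. -/
noncomputable def π (i : Fin n) : FlatMod.freeMod X n ⟶ Coh.structureModule X :=
  Sigma.desc (fun j : Fin n => if j = i then 𝟙 (Coh.structureModule X) else 0)

lemma ι_π (i j : Fin n) :
    ι n i ≫ π n j = if i = j then 𝟙 (Coh.structureModule X) else 0 := by
  simp [ι, π]

lemma ι_π_self (i : Fin n) : ι n i ≫ π n i = 𝟙 (Coh.structureModule X) := by
  rw [ι_π, if_pos rfl]

lemma ι_π_ne {i j : Fin n} (h : i ≠ j) : ι (X := X) n i ≫ π n j = 0 := by
  rw [ι_π, if_neg h]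

lemma total : ∑ i : Fin n, π n i ≫ ι n i = 𝟙 (FlatMod.freeMod X n) := by
  apply Sigma.hom_ext
  intro j
  change ι n j ≫ _ = ι n j ≫ _
  rw [Preadditive.comp_sum, Category.comp_id]
  rw [Finset.sum_eq_single j]
  · rw [← Category.assoc, ι_π_self, Category.id_comp]
  · intro i _ hij
    rw [← Category.assoc, ι_π_ne n (Ne.symm hij), zero_comp]
  · intro h
    exact absurd (Finset.mem_univ j) h

lemma hom_ext {M : X.Modules} (f g : FlatMod.freeMod X n ⟶ M)
    (h : ∀ i, ι n i ≫ f = ι n i ≫ g) : f = g :=
  Sigma.hom_ext _ _ (fun i => h i)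


section Sections

variable (U : X.Opens)

/-- a section of the structure sheaf, viewed as a section of the structure module. -/
abbrev toO (c : Γ(X, U)) : Γ(Coh.structureModule X, U) := c

/-- a section of the structure module, viewed as a section of the structure sheaf. -/
abbrev ofO (c : Γ(Coh.structureModule X, U)) : Γ(X, U) := c

/-- the section of `O_X^n` with given coordinates. -/
noncomputable def secOfCoord (c : Fin n → Γ(X, U)) : Γ(FlatMod.freeMod X n, U) :=
  ∑ i : Fin n, (ι n i).app U (toO U (c i))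

/-- the coordinates of a section of `O_X^n`. -/
noncomputable def coordOfSec (t : Γ(FlatMod.freeMod X n, U)) : Fin n → Γ(X, U) :=
  fun i => ofO U ((π n i).app U t)

lemma app_comp_apply {M N K : X.Modules} (φ : M ⟶ N) (ψ : N ⟶ K) (t : Γ(M, U)) :
    (φ ≫ ψ).app U t = ψ.app U (φ.app U t) := rfl

lemma sum_app_apply {M N : X.Modules} {I : Type*} (s : Finset I) (φ : I → (M ⟶ N)) (t : Γ(M, U)) :
    (∑ i ∈ s, φ i).app U t = ∑ i ∈ s, (φ i).app U t := by
  classical
  induction s using Finset.induction_on with
  | empty => simp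
  | insert a s ha ih =>
    rw [Finset.sum_insert ha, Finset.sum_insert ha, Scheme.Modules.Hom.add_app]
    change (φ a).app U t + (∑ i ∈ s, φ i).app U t = _
    rw [ih]

lemma coordOfSec_secOfCoord (c : Fin n → Γ(X, U)) : coordOfSec n U (secOfCoord n U c) = c := by
  funext j
  simp only [coordOfSec, secOfCoord, ofO, map_sum]
  rw [Finset.sum_eq_single j]
  · rw [← app_comp_apply, ι_π_self]
    rfl
  · intro i _ hij
    rw [← app_comp_apply, ι_π_ne n hij]
    rfl
  · intro h
    exact absurd (Finset.mem_univ j) h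

lemma secOfCoord_coordOfSec (t : Γ(FlatMod.freeMod X n, U)) :
    secOfCoord n U (coordOfSec n U t) = t := by
  have h := congrArg (fun φ : FlatMod.freeMod X n ⟶ FlatMod.freeMod X n => φ.app U t) (total (X := X) n)
  simp only [sum_app_apply] at h
  exact h

/-- sections of `O_X^n` over `U` are `n`-tuples of functions on `U`. -/
noncomputable def secEquiv : (Fin n → Γ(X, U)) ≃ Γ(FlatMod.freeMod X n, U) where
  toFun := secOfCoord n U
  invFun := coordOfSec n U
  left_inv := coordOfSec_secOfCoord n U
  right_inv := secOfCoord_coordOfSec n U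

end Sections


section Desc

variable {n} (M : X.Modules)

/-- the morphism `O_X ⟶ M` attached to a global section. -/
noncomputable def homOfSec (t : Γ(M, ⊤)) : Coh.structureModule X ⟶ M :=
  M.unitHomEquiv.symm (sectionsOfTop M t)

lemma homOfSec_app_one (t : Γ(M, ⊤)) (U : X.Opens) :
    (homOfSec M t).app U (toO U 1) = M.presheaf.map (homOfLE (le_top : U ≤ ⊤)).op t := by
  have h := M.unitHomEquiv.apply_symm_apply (sectionsOfTop M t)
  have h2 := congrArg (fun σ : M.sections => σ.val (op U)) h
  exact h2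

lemma homOfSec_app (t : Γ(M, ⊤)) (U : X.Opens) (c : Γ(X, U)) :
    (homOfSec M t).app U (toO U c) = c • M.presheaf.map (homOfLE (le_top : U ≤ ⊤)).op t := by
  rw [← homOfSec_app_one, ← Scheme.Modules.Hom.app_smul]
  congr 1
  exact (mul_one c).symm

/-- the morphism `O_X^n ⟶ M` attached to `n` global sections. -/
noncomputable def descSec (s : Fin n → Γ(M, ⊤)) : FlatMod.freeMod X n ⟶ M :=
  Sigma.desc (fun i => homOfSec M (s i))

lemma ι_descSec (s : Fin n → Γ(M, ⊤)) (i : Fin n) : ι n i ≫ descSec M s = homOfSec M (s i) := by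
  simp [ι, descSec]

lemma descSec_app_secOfCoord (s : Fin n → Γ(M, ⊤)) (U : X.Opens) (c : Fin n → Γ(X, U)) :
    (descSec M s).app U (secOfCoord n U c) =
      ∑ i, c i • M.presheaf.map (homOfLE (le_top : U ≤ ⊤)).op (s i) := by
  simp only [secOfCoord, map_sum]
  refine Finset.sum_congr rfl (fun i _ => ?_)
  rw [← app_comp_apply, ι_descSec, homOfSec_app]

end Desc

end Groth.Agent.Helper13.LocFree
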