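import Groth.Prelude.Def_CurvBase
import Groth.Prelude.Def_Coh
import Mathlib.RingTheory.Ideal.MinimalPrime.Localization

set_option autoImplicit false
universe u
open CategoryTheory CategoryTheory.Limits AlgebraicGeometry TopologicalSpace

namespace Groth.Agent.Helper13.WeakAss
variable {X : Scheme.{u}}

noncomputable abbrev G : CommRingCat.{u} ⥤ Ab.{u} := forget₂ CommRingCat RingCat ⋙ forget₂ RingCat Ab

noncomputable def stalkIso (x : X) :
    (Coh.structureModule X).presheaf.stalk x ≅ G.obj (X.presheaf.stalk x) :=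
  (preservesColimitIso G ((OpenNhds.inclusion x).op ⋙ X.presheaf)).symm

lemma stalkIso_germ (x : X) (U : X.Opens) (hx : x ∈ U) (m : Γ(Coh.structureModule X, U)) :
    (stalkIso x).hom ((Coh.structureModule X).presheaf.germ U x hx m) = X.presheaf.germ U x hx m := by
  have := ι_preservesColimitIso_inv G ((OpenNhds.inclusion x).op ⋙ X.presheaf) (Opposite.op ⟨U, hx⟩)
  exact congrArg (fun φ => φ.hom m) this

theorem germ_smul (F : X.Modules) (U : X.Opens) (x : X) (hx : x ∈ U) (r : Γ(X, U)) (m : Γ(F, U)) :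
    F.presheaf.germ U x hx (r • m) = X.presheaf.germ U x hx r • F.presheaf.germ U x hx m :=
  PresheafOfModules.germ_smul (R := X.presheaf)
    (show PresheafOfModules (X.presheaf ⋙ forget₂ CommRingCat RingCat) from F.val) x U hx r m

/-- The stalk of the structure sheaf as a module is the local ring. -/
noncomputable def unitStalkEquiv (x : X) :
    (Coh.structureModule X).presheaf.stalk x ≃ₗ[X.presheaf.stalk x] X.presheaf.stalk x :=
  { (stalkIso x).addCommGroupIsoToAddEquiv with
    map_smul' := by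
      intro r m
      obtain ⟨U, hxU, r₀, rfl⟩ := TopCat.Presheaf.exists_germ_eq X.presheaf r
      obtain ⟨V, hxV, m₀, rfl⟩ := TopCat.Presheaf.exists_germ_eq (Coh.structureModule X).presheaf m
      have hW : x ∈ U ⊓ V := ⟨hxU, hxV⟩
      have e1 : X.presheaf.germ U x hxU r₀
          = X.presheaf.germ (U ⊓ V) x hW (X.presheaf.map (homOfLE inf_le_left).op r₀) :=
        (TopCat.Presheaf.germ_res_apply X.presheaf (homOfLE inf_le_left) x hW r₀).symm
      have e2 : (Coh.structureModule X).presheaf.germ V x hxV m₀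
          = (Coh.structureModule X).presheaf.germ (U ⊓ V) x hW
              ((Coh.structureModule X).presheaf.map (homOfLE inf_le_right).op m₀) :=
        (TopCat.Presheaf.germ_res_apply (Coh.structureModule X).presheaf (homOfLE inf_le_right) x hW m₀).symm
      rw [e1, e2, ← germ_smul]
      refine (stalkIso_germ x _ hW _).trans ?_
      refine (map_mul (X.presheaf.germ (U ⊓ V) x hW).hom _ _).trans ?_
      congr 1
      exact (stalkIso_germ x _ hW _).symm }

end Groth.Agent.Helper13.WeakAss

namespace Groth.Agent.Helper13.WeakAss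
variable {X : Scheme.{u}}

lemma unitStalkEquiv_germ (x : X) (U : X.Opens) (hx : x ∈ U) (m : Γ(Coh.structureModule X, U)) :
    unitStalkEquiv x ((Coh.structureModule X).presheaf.germ U x hx m) = X.presheaf.germ U x hx m :=
  stalkIso_germ x U hx m

/-- weakly associated points of the structure sheaf, in terms of the local ring -/
lemma isWeakAssPoint_unit_iff (x : X) :
    Curv2.IsWeakAssPoint (Coh.structureModule X) x ↔
      ∃ m : X.presheaf.stalk x, Ideal.radical (LinearMap.ker
        (LinearMap.toSpanSingleton (X.presheaf.stalk x) (X.presheaf.stalk x) m)) =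
          IsLocalRing.maximalIdeal (X.presheaf.stalk x) := by
  have key : ∀ m : (Coh.structureModule X).presheaf.stalk x,
      LinearMap.ker (LinearMap.toSpanSingleton (X.presheaf.stalk x) _ m) =
      LinearMap.ker (LinearMap.toSpanSingleton (X.presheaf.stalk x) (X.presheaf.stalk x)
        (unitStalkEquiv x m)) := by
    intro m
    ext r
    simp only [LinearMap.mem_ker, LinearMap.toSpanSingleton_apply]
    rw [← map_smul, LinearEquiv.map_eq_zero_iff]
  constructor
  · rintro ⟨m, hm⟩
    exact ⟨unitStalkEquiv x m, by rw [← key]; exact hm⟩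
  · rintro ⟨m, hm⟩
    refine ⟨(unitStalkEquiv x).symm m, ?_⟩
    rw [key, LinearEquiv.apply_symm_apply]
    exact hm

end Groth.Agent.Helper13.WeakAss

namespace Groth.Agent.Helper13.WeakAss

/-- the annihilator of an element, as an ideal -/
abbrev annIdeal {A : Type*} [CommRing A] (a : A) : Ideal A :=
  LinearMap.ker (LinearMap.toSpanSingleton A A a)

lemma mem_annIdeal {A : Type*} [CommRing A] (a r : A) : r ∈ annIdeal a ↔ r * a = 0 := by
  simp only [annIdeal, LinearMap.mem_ker, LinearMap.toSpanSingleton_apply, smul_eq_mul]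

/-- algebraic core: at a prime minimal over `Ann a`, the image of `a` has annihilator with radical the
maximal ideal. -/
lemma radical_ann_eq_maximalIdeal {A : Type*} [CommRing A] (a : A) (p : Ideal A) [p.IsPrime]
    (hp : p ∈ (annIdeal a).minimalPrimes)
    (B : Type*) [CommRing B] [Algebra A B] [IsLocalization.AtPrime B p] [IsLocalRing B] :
    Ideal.radical (LinearMap.ker (LinearMap.toSpanSingleton B B (algebraMap A B a))) =
      IsLocalRing.maximalIdeal B := by
  set I : Ideal A := LinearMap.ker (LinearMap.toSpanSingleton A A a) with hI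
  set K : Ideal B := LinearMap.ker (LinearMap.toSpanSingleton B B (algebraMap A B a)) with hK
  have hmemI : ∀ r, r ∈ I ↔ r * a = 0 := fun r => by
    simp only [hI, LinearMap.mem_ker, LinearMap.toSpanSingleton_apply, smul_eq_mul]
  have hmemK : ∀ r, r ∈ K ↔ r * algebraMap A B a = 0 := fun r => by
    simp only [hK, LinearMap.mem_ker, LinearMap.toSpanSingleton_apply, smul_eq_mul]
  have h1 : I.map (algebraMap A B) ≤ K := by
    rw [Ideal.map_le_iff_le_comap]
    intro r hr
    rw [Ideal.mem_comap, hmemK, ← map_mul, (hmemI r).1 hr, map_zero]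
  have h2 : (I.map (algebraMap A B)).radical = IsLocalRing.maximalIdeal B := by
    rw [IsLocalization.AtPrime.radical_map_of_mem_minimalPrimes (A := B) p I hp,
      IsLocalization.AtPrime.map_eq_maximalIdeal p B]
  have h3 : K ≠ ⊤ := by
    intro h
    have h1K : (1 : B) ∈ K := h ▸ Submodule.mem_top
    rw [hmemK, one_mul] at h1K
    obtain ⟨u, hu⟩ := (IsLocalization.map_eq_zero_iff p.primeCompl B a).1 h1K
    have : u.1 ∈ I := (hmemI _).2 hu
    exact u.2 (hp.1.2 this)
  apply le_antisymm
  · exact (IsLocalRing.maximalIdeal.isMaximal B).isPrime.radical_le_iff.2 (IsLocalRing.le_maximalIdeal h3)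
  · rw [← h2]
    exact Ideal.radical_mono h1

variable {X : Scheme.{u}}

/-- the point of an affine open attached to a prime minimal over an annihilator is weakly associated -/
lemma isWeakAssPoint_of_mem_minimalPrimes {W : X.Opens} (hW : IsAffineOpen W) (a : Γ(X, W))
    (p : PrimeSpectrum Γ(X, W))
    (hp : p.asIdeal ∈ (annIdeal a).minimalPrimes) :
    Curv2.IsWeakAssPoint (Coh.structureModule X) (hW.fromSpec p) := by
  have hmem : hW.fromSpec p ∈ W := by
    rw [← SetLike.mem_coe, ← hW.range_fromSpec]; exact ⟨p, rfl⟩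
  rw [isWeakAssPoint_unit_iff]
  let _ := TopCat.Presheaf.algebra_section_stalk X.presheaf ⟨hW.fromSpec p, hmem⟩
  have hloc : IsLocalization.AtPrime (X.presheaf.stalk (hW.fromSpec p)) p.asIdeal :=
    hW.isLocalization_stalk' p hmem
  exact ⟨algebraMap Γ(X, W) (X.presheaf.stalk (hW.fromSpec p)) a,
    radical_ann_eq_maximalIdeal a p.asIdeal hp (X.presheaf.stalk (hW.fromSpec p))⟩

end Groth.Agent.Helper13.WeakAss

namespace Groth.Agent.Helper13.WeakAss
variable {X : Scheme.{u}}

lemma fromSpec_mem {W : X.Opens} (hW : IsAffineOpen W) (p : PrimeSpectrum Γ(X, W)) :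
    hW.fromSpec p ∈ W := by
  rw [← SetLike.mem_coe, ← hW.range_fromSpec]; exact ⟨p, rfl⟩

lemma fromSpec_mem_basicOpen_iff {W : X.Opens} (hW : IsAffineOpen W) (p : PrimeSpectrum Γ(X, W))
    (g : Γ(X, W)) : hW.fromSpec p ∈ X.basicOpen g ↔ g ∉ p.asIdeal := by
  have h2 : (p ∈ hW.fromSpec ⁻¹ᵁ X.basicOpen g) ↔ hW.fromSpec p ∈ X.basicOpen g := Iff.rfl
  rw [← h2, hW.fromSpec_preimage_basicOpen]
  rfl

/-- a zero divisor relation `g * a = 0` with `a` nonzero at `x` produces a weakly associated
generization of `x` at which `g` vanishes. -/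
lemma exists_weakAss_specializes {W : X.Opens} (hW : IsAffineOpen W) (g a : Γ(X, W)) (x : X)
    (hx : x ∈ W) (ha : X.presheaf.germ W x hx a ≠ 0) (hga : g * a = 0) :
    ∃ x' ∈ W, x' ⤳ x ∧ Curv2.IsWeakAssPoint (Coh.structureModule X) x' ∧ x' ∉ X.basicOpen g := by
  let _ := TopCat.Presheaf.algebra_section_stalk X.presheaf ⟨x, hx⟩
  have hloc : IsLocalization.AtPrime (X.presheaf.stalk x) (hW.primeIdealOf ⟨x, hx⟩).asIdeal :=
    hW.isLocalization_stalk ⟨x, hx⟩
  have hle : annIdeal a ≤ (hW.primeIdealOf ⟨x, hx⟩).asIdeal := by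
    intro r hr
    by_contra hrq
    apply ha
    exact (IsLocalization.map_eq_zero_iff (hW.primeIdealOf ⟨x, hx⟩).asIdeal.primeCompl
      (X.presheaf.stalk x) a).2 ⟨⟨r, hrq⟩, (mem_annIdeal a r).1 hr⟩
  obtain ⟨p, hp, hpq⟩ := Ideal.exists_minimalPrimes_le hle
  have hpp : p.IsPrime := hp.1.1
  refine ⟨hW.fromSpec ⟨p, hpp⟩, fromSpec_mem hW _, ?_,
    isWeakAssPoint_of_mem_minimalPrimes hW a ⟨p, hpp⟩ hp, ?_⟩
  · have h1 : (⟨p, hpp⟩ : PrimeSpectrum Γ(X, W)) ⤳ hW.primeIdealOf ⟨x, hx⟩ :=
      (PrimeSpectrum.le_iff_specializes _ _).1 hpq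
    have h2 := h1.map hW.fromSpec.continuous
    rwa [hW.fromSpec_primeIdealOf ⟨x, hx⟩] at h2
  · rw [fromSpec_mem_basicOpen_iff, not_not]
    exact hp.1.2 ((mem_annIdeal a g).2 hga)

end Groth.Agent.Helper13.WeakAss

namespace Groth.Agent.Helper13.WeakAss
variable {X : Scheme.{u}}

/-- a point has no proper generization iff its local ring has a unique prime -/
lemma generic_iff_forall_prime (y : X) :
    (∀ y' : X, y' ⤳ y → y' = y) ↔
      ∀ P : Ideal (X.presheaf.stalk y), P.IsPrime → P = IsLocalRing.maximalIdeal (X.presheaf.stalk y) := by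
  constructor
  · intro hy P hP
    have h1 : X.fromSpecStalk y ⟨P, hP⟩ ⤳ y := by
      have : X.fromSpecStalk y ⟨P, hP⟩ ∈ Set.range (X.fromSpecStalk y) := ⟨_, rfl⟩
      rw [Scheme.range_fromSpecStalk] at this
      exact this
    have h2 := hy _ h1
    have h3 : X.fromSpecStalk y ⟨P, hP⟩ = X.fromSpecStalk y (IsLocalRing.closedPoint (X.presheaf.stalk y)) := by
      rw [h2, Scheme.fromSpecStalk_closedPoint]
    have h4 := (X.fromSpecStalk y).isEmbedding.injective h3
    exact congrArg PrimeSpectrum.asIdeal h4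
  · intro h y' hy'
    have : y' ∈ Set.range (X.fromSpecStalk y) := by
      rw [Scheme.range_fromSpecStalk]; exact hy'
    obtain ⟨P, rfl⟩ := this
    have h1 : P = IsLocalRing.closedPoint (X.presheaf.stalk y) :=
      PrimeSpectrum.ext (h P.asIdeal P.2)
    rw [h1, Scheme.fromSpecStalk_closedPoint]

/-- in a local ring with a unique prime, nonzerodivisors are units -/
lemma isUnit_of_mem_nonZeroDivisors_of_forall_prime {R : Type*} [CommRing R] [IsLocalRing R]
    (h : ∀ P : Ideal R, P.IsPrime → P = IsLocalRing.maximalIdeal R) (t : R)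
    (ht : t ∈ nonZeroDivisors R) : IsUnit t := by
  by_contra hnu
  have h1 : t ∈ IsLocalRing.maximalIdeal R := (IsLocalRing.mem_maximalIdeal t).2 hnu
  have h2 : IsNilpotent t := by
    rw [nilpotent_iff_mem_prime]
    intro J hJ
    rw [h J hJ]; exact h1
  obtain ⟨n, hn⟩ := h2
  have h3 : t ^ n ∈ nonZeroDivisors R := pow_mem ht n
  rw [hn] at h3
  exact zero_notMem_nonZeroDivisors h3

/-- in a local ring with a unique prime, nonunits are nilpotent -/
lemma isNilpotent_of_forall_prime {R : Type*} [CommRing R] [IsLocalRing R]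
    (h : ∀ P : Ideal R, P.IsPrime → P = IsLocalRing.maximalIdeal R) (t : R)
    (ht : ¬ IsUnit t) : IsNilpotent t := by
  have h1 : t ∈ IsLocalRing.maximalIdeal R := (IsLocalRing.mem_maximalIdeal t).2 ht
  rw [nilpotent_iff_mem_prime]
  intro J hJ
  rw [h J hJ]; exact h1

end Groth.Agent.Helper13.WeakAss

namespace Groth.Agent.Helper13.WeakAss

/-- nonvanishing section has a nonvanishing germ -/
lemma exists_germ_ne_zero {X : Scheme.{u}} {W : X.Opens} (a : Γ(X, W)) (ha : a ≠ 0) :
    ∃ x, ∃ hx : x ∈ W, X.presheaf.germ W x hx a ≠ 0 := by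
  by_contra hno
  push Not at hno
  apply ha
  apply TopCat.Presheaf.section_ext X.sheaf W
  intro y hy
  exact (hno y hy).trans (map_zero (X.presheaf.germ W y hy).hom).symm

end Groth.Agent.Helper13.WeakAss
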