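import Groth.Agent.Lib.Helper13.QCohStalk
import Groth.Agent.Lib.Helper13.WeakAss

set_option autoImplicit false
universe u
open CategoryTheory CategoryTheory.Limits AlgebraicGeometry TopologicalSpace Opposite

namespace Groth.Agent.Helper13.QCoh

open Groth.Agent.Helper13.WeakAss

/-- algebraic core for modules: at a prime minimal over `Ann t`, the image of `t` has annihilator
with radical the maximal ideal. -/
lemma radical_ann_eq_maximalIdeal_module {A : Type*} [CommRing A] {M : Type*} [AddCommGroup M]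
    [Module A M] (t : M) (p : Ideal A) [p.IsPrime]
    (hp : p ∈ Ideal.minimalPrimes (LinearMap.ker (LinearMap.toSpanSingleton A M t)))
    (B : Type*) [CommRing B] [Algebra A B] [IsLocalization.AtPrime B p] [IsLocalRing B]
    {N : Type*} [AddCommGroup N] [Module B N] (n : N)
    (h1 : ∀ r : A, r • t = 0 → algebraMap A B r • n = 0)
    (h2 : n = 0 → ∃ s : A, s ∉ p ∧ s • t = 0) :
    Ideal.radical (LinearMap.ker (LinearMap.toSpanSingleton B N n)) =
      IsLocalRing.maximalIdeal B := by
  set I : Ideal A := LinearMap.ker (LinearMap.toSpanSingleton A M t) with hI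
  set K : Ideal B := LinearMap.ker (LinearMap.toSpanSingleton B N n) with hK
  have hmemI : ∀ r, r ∈ I ↔ r • t = 0 := fun r => by
    simp only [hI, LinearMap.mem_ker, LinearMap.toSpanSingleton_apply]
  have hmemK : ∀ r, r ∈ K ↔ r • n = 0 := fun r => by
    simp only [hK, LinearMap.mem_ker, LinearMap.toSpanSingleton_apply]
  have h1' : I.map (algebraMap A B) ≤ K := by
    rw [Ideal.map_le_iff_le_comap]
    intro r hr
    rw [Ideal.mem_comap, hmemK]
    exact h1 r ((hmemI r).1 hr)
  have h2' : (I.map (algebraMap A B)).radical = IsLocalRing.maximalIdeal B := by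
    rw [IsLocalization.AtPrime.radical_map_of_mem_minimalPrimes (A := B) p I hp,
      IsLocalization.AtPrime.map_eq_maximalIdeal p B]
  have h3 : K ≠ ⊤ := by
    intro h
    have h1K : (1 : B) ∈ K := h ▸ Submodule.mem_top
    rw [hmemK, one_smul] at h1K
    obtain ⟨s, hs, hst⟩ := h2 h1K
    exact hs (hp.1.2 ((hmemI s).2 hst))
  apply le_antisymm
  · exact (IsLocalRing.maximalIdeal.isMaximal B).isPrime.radical_le_iff.2 (IsLocalRing.le_maximalIdeal h3)
  · rw [← h2']
    exact Ideal.radical_mono h1'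

variable {X : Scheme.{u}}

lemma mem_basicOpen_iff_notMem_primeIdealOf {U : X.Opens} (hU : IsAffineOpen U) (x : X) (hxU : x ∈ U)
    (c : Γ(X, U)) : x ∈ X.basicOpen c ↔ c ∉ (hU.primeIdealOf ⟨x, hxU⟩).asIdeal := by
  have h1 : hU.fromSpec (hU.primeIdealOf ⟨x, hxU⟩) = x := hU.fromSpec_primeIdealOf ⟨x, hxU⟩
  have h2 : (hU.primeIdealOf ⟨x, hxU⟩ ∈ hU.fromSpec ⁻¹ᵁ X.basicOpen c) ↔ x ∈ X.basicOpen c := by
    change hU.fromSpec (hU.primeIdealOf ⟨x, hxU⟩) ∈ X.basicOpen c ↔ _
    rw [h1]
  rw [← h2, hU.fromSpec_preimage_basicOpen]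
  rfl

section WeakAss

variable (F : X.Modules) [F.IsQuasicoherent] {U : X.Opens} (hU : IsAffineOpen U)

include hU in
/-- a nonzero section of a quasi-coherent module over an affine open has a weakly associated point
at which its germ is a witness -/
theorem exists_weakAss_of_section_ne_zero (t : Γ(F, U)) (ht : t ≠ 0) :
    ∃ (y : X) (hy : y ∈ U), F.presheaf.germ U y hy t ≠ 0 ∧
      Ideal.radical (LinearMap.ker (LinearMap.toSpanSingleton (X.presheaf.stalk y)
        (F.presheaf.stalk y) (F.presheaf.germ U y hy t))) =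
          IsLocalRing.maximalIdeal (X.presheaf.stalk y) := by
  set I : Ideal Γ(X, U) := LinearMap.ker (LinearMap.toSpanSingleton Γ(X, U) Γ(F, U) t) with hI
  have hmemI : ∀ r, r ∈ I ↔ r • t = 0 := fun r => by
    simp only [hI, LinearMap.mem_ker, LinearMap.toSpanSingleton_apply]
  have hne : I ≠ ⊤ := by
    intro h
    have : (1 : Γ(X, U)) ∈ I := h ▸ Submodule.mem_top
    rw [hmemI, one_smul] at this
    exact ht this
  obtain ⟨m, hm, hIm⟩ := Ideal.exists_le_maximal I hne
  obtain ⟨p, hp, -⟩ := Ideal.exists_minimalPrimes_le hIm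
  have hpp : p.IsPrime := hp.1.1
  set y := hU.fromSpec ⟨p, hpp⟩ with hy
  have hyU : y ∈ U := fromSpec_mem hU _
  have hprime : hU.primeIdealOf ⟨y, hyU⟩ = ⟨p, hpp⟩ := by
    apply hU.fromSpec.isOpenEmbedding.injective
    rw [hU.fromSpec_primeIdealOf ⟨_, hyU⟩]
  let _ := TopCat.Presheaf.algebra_section_stalk X.presheaf ⟨y, hyU⟩
  have hloc : IsLocalization.AtPrime (X.presheaf.stalk y) p := by
    have := hU.isLocalization_stalk ⟨y, hyU⟩
    rw [hprime] at this
    exact this
  have hzero : F.presheaf.germ U y hyU t = 0 → ∃ s : Γ(X, U), s ∉ p ∧ s • t = 0 := by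
    intro h0
    obtain ⟨g, hyg, hgt⟩ := exists_smul_eq_zero_of_germ_eq_zero F hU y hyU t h0
    refine ⟨g, ?_, hgt⟩
    have := (mem_basicOpen_iff_notMem_primeIdealOf hU y hyU g).1 hyg
    rwa [hprime] at this
  refine ⟨y, hyU, ?_, ?_⟩
  · intro h0
    obtain ⟨s, hs, hst⟩ := hzero h0
    exact hs (hp.1.2 ((hmemI s).2 hst))
  · refine radical_ann_eq_maximalIdeal_module t p hp (X.presheaf.stalk y) _ ?_ hzero
    intro r hr
    have : algebraMap Γ(X, U) (X.presheaf.stalk y) r = X.presheaf.germ U y hyU r := rfl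
    rw [this, ← germ_smul, hr, map_zero]

end WeakAss

end Groth.Agent.Helper13.QCoh

namespace Groth.Agent.Helper13.QCoh

open Groth.Agent.Helper13.WeakAss

variable {X : Scheme.{u}}

section WeakAss2

variable (F : X.Modules) [F.IsQuasicoherent] {U : X.Opens} (hU : IsAffineOpen U)

omit [F.IsQuasicoherent] in
/-- multiplication by the germ of a function invertible at the point is injective on the stalk -/
lemma eq_zero_of_germ_smul_eq_zero (x : X) (hxU : x ∈ U) (g : Γ(X, U)) (hxg : x ∈ X.basicOpen g)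
    (n : F.presheaf.stalk x) (hn : X.presheaf.germ U x hxU g • n = 0) : n = 0 := by
  have hu : IsUnit (X.presheaf.germ U x hxU g) := (X.mem_basicOpen g x hxU).1 hxg
  obtain ⟨u, hu⟩ := hu
  have : (u⁻¹ : (X.presheaf.stalk x)ˣ) • (X.presheaf.germ U x hxU g • n) = 0 := by
    rw [hn, smul_zero]
  rwa [← hu, Units.smul_def, smul_smul, Units.inv_mul, one_smul] at this

include hU in
/-- a nonzero stalk element comes (up to a unit) from a section with nonzero germ -/
lemma exists_section_germ_ne_zero (x : X) (hxU : x ∈ U) (m : F.presheaf.stalk x) (hm : m ≠ 0) :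
    ∃ t : Γ(F, U), F.presheaf.germ U x hxU t ≠ 0 := by
  obtain ⟨g, hxg, t, hgt⟩ := exists_germ_smul_eq F hU x hxU m
  refine ⟨t, fun h0 => hm ?_⟩
  rw [h0] at hgt
  exact eq_zero_of_germ_smul_eq_zero F x hxU g hxg m hgt

include hU in
/-- a section of a quasi-coherent module over an affine open with nonzero germ at `x` has a weakly
associated point generizing `x` at which its germ is a witness -/
theorem exists_weakAss_specializes_of_germ_ne_zero (t : Γ(F, U)) (x : X) (hxU : x ∈ U)
    (ht : F.presheaf.germ U x hxU t ≠ 0) :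
    ∃ (y : X) (hy : y ∈ U), y ⤳ x ∧ F.presheaf.germ U y hy t ≠ 0 ∧
      Ideal.radical (LinearMap.ker (LinearMap.toSpanSingleton (X.presheaf.stalk y)
        (F.presheaf.stalk y) (F.presheaf.germ U y hy t))) =
          IsLocalRing.maximalIdeal (X.presheaf.stalk y) := by
  set I : Ideal Γ(X, U) := LinearMap.ker (LinearMap.toSpanSingleton Γ(X, U) Γ(F, U) t) with hI
  have hmemI : ∀ r, r ∈ I ↔ r • t = 0 := fun r => by
    simp only [hI, LinearMap.mem_ker, LinearMap.toSpanSingleton_apply]
  have hIx : I ≤ (hU.primeIdealOf ⟨x, hxU⟩).asIdeal := by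
    intro r hr
    by_contra hrx
    have hxr : x ∈ X.basicOpen r := (mem_basicOpen_iff_notMem_primeIdealOf hU x hxU r).2 hrx
    apply ht
    apply eq_zero_of_germ_smul_eq_zero F x hxU r hxr
    rw [← germ_smul, (hmemI r).1 hr, map_zero]
  obtain ⟨p, hp, hpx⟩ := Ideal.exists_minimalPrimes_le hIx
  have hpp : p.IsPrime := hp.1.1
  set y := hU.fromSpec ⟨p, hpp⟩ with hy
  have hyU : y ∈ U := fromSpec_mem hU _
  have hprime : hU.primeIdealOf ⟨y, hyU⟩ = ⟨p, hpp⟩ := by
    apply hU.fromSpec.isOpenEmbedding.injective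
    rw [hU.fromSpec_primeIdealOf ⟨_, hyU⟩]
  let _ := TopCat.Presheaf.algebra_section_stalk X.presheaf ⟨y, hyU⟩
  have hloc : IsLocalization.AtPrime (X.presheaf.stalk y) p := by
    have := hU.isLocalization_stalk ⟨y, hyU⟩
    rw [hprime] at this
    exact this
  have hzero : F.presheaf.germ U y hyU t = 0 → ∃ s : Γ(X, U), s ∉ p ∧ s • t = 0 := by
    intro h0
    obtain ⟨g, hyg, hgt⟩ := exists_smul_eq_zero_of_germ_eq_zero F hU y hyU t h0
    refine ⟨g, ?_, hgt⟩
    have := (mem_basicOpen_iff_notMem_primeIdealOf hU y hyU g).1 hyg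
    rwa [hprime] at this
  refine ⟨y, hyU, ?_, ?_, ?_⟩
  · have h1 : (⟨p, hpp⟩ : PrimeSpectrum Γ(X, U)) ⤳ hU.primeIdealOf ⟨x, hxU⟩ :=
      (PrimeSpectrum.le_iff_specializes _ _).1 hpx
    have h2 := h1.map hU.fromSpec.continuous
    rwa [hU.fromSpec_primeIdealOf ⟨x, hxU⟩] at h2
  · intro h0
    obtain ⟨s, hs, hst⟩ := hzero h0
    exact hs (hp.1.2 ((hmemI s).2 hst))
  · refine radical_ann_eq_maximalIdeal_module t p hp (X.presheaf.stalk y) _ ?_ hzero
    intro r hr
    have : algebraMap Γ(X, U) (X.presheaf.stalk y) r = X.presheaf.germ U y hyU r := rfl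
    rw [this, ← germ_smul, hr, map_zero]

end WeakAss2

end Groth.Agent.Helper13.QCoh

namespace Groth.Agent.Helper13.QCoh

variable {X : Scheme.{u}}

lemma colon_bot_singleton_eq_ker {R M : Type*} [CommRing R] [AddCommGroup M] [Module R M] (m : M) :
    Submodule.colon (⊥ : Submodule R M) {m} = LinearMap.ker (LinearMap.toSpanSingleton R M m) := by
  ext r
  rw [Submodule.mem_colon_singleton, Submodule.mem_bot, LinearMap.mem_ker,
    LinearMap.toSpanSingleton_apply]

/-- with Mathlib's (radical) definition of associated primes, associated points and weakly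
associated points coincide -/
lemma isAssPoint_iff_isWeakAssPoint (F : X.Modules) (x : X) :
    Curv2.IsAssPoint F x ↔ Curv2.IsWeakAssPoint F x := by
  constructor
  · rintro ⟨-, m, hm⟩
    refine ⟨m, ?_⟩
    rw [← colon_bot_singleton_eq_ker]
    exact hm.symm
  · rintro ⟨m, hm⟩
    refine ⟨(IsLocalRing.maximalIdeal.isMaximal _).isPrime, m, ?_⟩
    rw [colon_bot_singleton_eq_ker]
    exact hm.symm

end Groth.Agent.Helper13.QCoh

namespace Groth.Agent.Helper13.QCoh

variable {X : Scheme.{u}}

lemma exists_ne_zero_of_not_subsingleton {M : Type*} [AddGroup M] (h : ¬ Subsingleton M) :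
    ∃ m : M, m ≠ 0 := by
  by_contra hall
  push Not at hall
  exact h ⟨fun a b => by rw [hall a, hall b]⟩

/-- the stalk at a weakly associated point is nontrivial -/
lemma not_subsingleton_of_isWeakAssPoint (F : X.Modules) (x : X) (h : Curv2.IsWeakAssPoint F x) :
    ¬ Subsingleton (F.presheaf.stalk x) := by
  intro hs
  obtain ⟨m, hm⟩ := h
  have hm0 : m = 0 := hs.elim _ _
  have htop : LinearMap.ker (LinearMap.toSpanSingleton (X.presheaf.stalk x) (F.presheaf.stalk x) m) = ⊤ := by
    rw [eq_top_iff]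
    intro r _
    rw [LinearMap.mem_ker, LinearMap.toSpanSingleton_apply, hm0, smul_zero]
  rw [htop, Ideal.radical_top] at hm
  exact (IsLocalRing.maximalIdeal.isMaximal (X.presheaf.stalk x)).ne_top hm.symm

/-- every point of the support of a quasi-coherent module has a weakly associated generization -/
theorem exists_weakAss_specializes_of_not_subsingleton (F : X.Modules) [F.IsQuasicoherent] (x : X)
    (hx : ¬ Subsingleton (F.presheaf.stalk x)) : ∃ y : X, y ⤳ x ∧ Curv2.IsWeakAssPoint F y := by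
  obtain ⟨m, hm⟩ := exists_ne_zero_of_not_subsingleton hx
  obtain ⟨_, ⟨V, hV, rfl⟩, hxV, -⟩ :=
    X.isBasis_affineOpens.exists_subset_of_mem_open (Set.mem_univ x) isOpen_univ
  have hV' : IsAffineOpen V := hV
  obtain ⟨t, ht⟩ := exists_section_germ_ne_zero F hV' x hxV m hm
  obtain ⟨y, hyV, hyx, -, hrad⟩ := exists_weakAss_specializes_of_germ_ne_zero F hV' t x hxV ht
  exact ⟨y, hyx, _, hrad⟩

/-- a point of the support of a quasi-coherent module without proper generizations in the support is
weakly associated -/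
theorem isWeakAssPoint_of_maximal_support (F : X.Modules) [F.IsQuasicoherent] (x : X)
    (hx : ¬ Subsingleton (F.presheaf.stalk x))
    (hmax : ∀ y : X, ¬ Subsingleton (F.presheaf.stalk y) → y ⤳ x → y = x) :
    Curv2.IsWeakAssPoint F x := by
  obtain ⟨y, hyx, hy⟩ := exists_weakAss_specializes_of_not_subsingleton F x hx
  have := hmax y (not_subsingleton_of_isWeakAssPoint F y hy) hyx
  rwa [this] at hy

end Groth.Agent.Helper13.QCoh
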