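import Mathlib
import Groth.Agent.Lib.Helper13.FinType
import Groth.Agent.Lib.Helper13.QCohWeakAss

set_option autoImplicit false
universe u
open CategoryTheory CategoryTheory.Limits AlgebraicGeometry Opposite TopologicalSpace Groth.Agent.Helper13.QCoh

namespace Groth.Agent.Helper13.FinType

variable {X : Scheme.{u}}

/-- elements of the stalk at a point of an affine open are fractions of sections -/
lemma exists_germ_mul_eq {U : X.Opens} (hU : IsAffineOpen U) (y : X) (hy : y ∈ U)
    (a : X.presheaf.stalk y) :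
    ∃ (g b : Γ(X, U)), y ∈ X.basicOpen g ∧
      X.presheaf.germ U y hy g * a = X.presheaf.germ U y hy b := by
  let _ := TopCat.Presheaf.algebra_section_stalk X.presheaf ⟨y, hy⟩
  have hloc := hU.isLocalization_stalk ⟨y, hy⟩
  obtain ⟨⟨b, g⟩, hbg⟩ := IsLocalization.surj (hU.primeIdealOf ⟨y, hy⟩).asIdeal.primeCompl a
  refine ⟨g.1, b, (mem_basicOpen_iff_notMem_primeIdealOf hU y hy g.1).2 g.2, ?_⟩
  rw [mul_comm]
  exact hbg

variable (M : X.Modules) [M.IsQuasicoherent]

/-- Key lemma: on an affine open, sections whose germs generate all stalks generate the module of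
sections. -/
theorem span_eq_top_of_genOn {U : X.Opens} (hU : IsAffineOpen U) {I : Type*} (s : I → Γ(M, U))
    (hs : GenOn M U s) : Submodule.span Γ(X, U) (Set.range s) = ⊤ := by
  rw [eq_top_iff]
  intro t _
  set P : Submodule Γ(X, U) Γ(M, U) := Submodule.span Γ(X, U) (Set.range s) with hP
  -- the colon ideal
  let J : Ideal Γ(X, U) := P.colon {t}
  have hJ : ∀ a, a ∈ J ↔ a • t ∈ P := fun a => Submodule.mem_colon_singleton
  suffices h1 : (1 : Γ(X, U)) ∈ J by
    have := (hJ 1).1 h1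
    rwa [one_smul] at this
  by_contra hne
  have hJne : J ≠ ⊤ := fun h => hne (h ▸ Submodule.mem_top)
  obtain ⟨m, hm, hJm⟩ := Ideal.exists_le_maximal J hJne
  have hmp : m.IsPrime := hm.isPrime
  set y := hU.fromSpec ⟨m, hmp⟩ with hy
  have hyU : y ∈ U := Groth.Agent.Helper13.WeakAss.fromSpec_mem hU _
  have hprime : hU.primeIdealOf ⟨y, hyU⟩ = ⟨m, hmp⟩ := by
    apply hU.fromSpec.isOpenEmbedding.injective
    rw [hU.fromSpec_primeIdealOf ⟨_, hyU⟩]
  -- every element of the span of germs has a multiple which is a germ of an element of `P`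
  have key : ∀ z ∈ Submodule.span (X.presheaf.stalk y)
      (Set.range fun i => M.presheaf.germ U y hyU (s i)),
      ∃ (g : Γ(X, U)) (t' : Γ(M, U)), y ∈ X.basicOpen g ∧ t' ∈ P ∧
        X.presheaf.germ U y hyU g • z = M.presheaf.germ U y hyU t' := by
    intro z hz
    induction hz using Submodule.span_induction with
    | mem x hx =>
      obtain ⟨i, rfl⟩ := hx
      refine ⟨1, s i, ?_, Submodule.subset_span ⟨i, rfl⟩, ?_⟩
      · rw [Scheme.basicOpen_of_isUnit _ isUnit_one]; exact hyU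
      · rw [map_one, one_smul]
    | zero =>
      refine ⟨1, 0, ?_, Submodule.zero_mem _, ?_⟩
      · rw [Scheme.basicOpen_of_isUnit _ isUnit_one]; exact hyU
      · rw [smul_zero, map_zero]
    | add a b _ _ ha hb =>
      obtain ⟨g₁, t₁, hy₁, ht₁, h₁⟩ := ha
      obtain ⟨g₂, t₂, hy₂, ht₂, h₂⟩ := hb
      refine ⟨g₁ * g₂, g₂ • t₁ + g₁ • t₂, ?_, Submodule.add_mem _ (Submodule.smul_mem _ _ ht₁)
        (Submodule.smul_mem _ _ ht₂), ?_⟩
      · rw [Scheme.basicOpen_mul]; exact ⟨hy₁, hy₂⟩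
      · rw [map_mul, smul_add, map_add, germ_smul, germ_smul, ← h₁, ← h₂, mul_smul, mul_smul,
          smul_comm (X.presheaf.germ U y hyU g₁) (X.presheaf.germ U y hyU g₂) a]
    | smul r a _ ha =>
      obtain ⟨g₁, t₁, hy₁, ht₁, h₁⟩ := ha
      obtain ⟨g₂, b, hy₂, h₂⟩ := exists_germ_mul_eq hU y hyU r
      refine ⟨g₂ * g₁, b • t₁, ?_, Submodule.smul_mem _ _ ht₁, ?_⟩
      · rw [Scheme.basicOpen_mul]; exact ⟨hy₂, hy₁⟩
      · rw [map_mul, germ_smul, ← h₁, ← h₂, smul_smul, smul_smul]
        congr 1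
        ring
  have hz : M.presheaf.germ U y hyU t ∈ Submodule.span (X.presheaf.stalk y)
      (Set.range fun i => M.presheaf.germ U y hyU (s i)) := by
    rw [hs y hyU]; trivial
  obtain ⟨g, t', hyg, ht', hgt⟩ := key _ hz
  have h0 : M.presheaf.germ U y hyU (g • t - t') = 0 := by
    rw [map_sub, germ_smul, hgt, sub_self]
  obtain ⟨g', hyg', hg'⟩ := exists_smul_eq_zero_of_germ_eq_zero M hU y hyU _ h0
  have hmem : g' * g ∈ J := by
    rw [hJ, mul_smul]
    rw [smul_sub, sub_eq_zero] at hg'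
    rw [hg']
    exact Submodule.smul_mem _ _ ht'
  have hnot : g' * g ∉ m := by
    have h1 := (mem_basicOpen_iff_notMem_primeIdealOf hU y hyU g').1 hyg'
    have h2 := (mem_basicOpen_iff_notMem_primeIdealOf hU y hyU g).1 hyg
    rw [hprime] at h1 h2
    intro h
    rcases hmp.mem_or_mem h with h | h
    · exact h1 h
    · exact h2 h
  exact hnot (hJm hmem)

end Groth.Agent.Helper13.FinType
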