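import Mathlib
import Groth.Agent.Lib.Helper13.FinAffine

set_option autoImplicit false
universe u
open CategoryTheory CategoryTheory.Limits AlgebraicGeometry Opposite TopologicalSpace Groth.Agent.Helper13.QCoh

namespace Groth.Agent.Helper13.FinType

variable {X : Scheme.{u}}

lemma GenOn.mono {N : X.Modules} {I : Type*} {U U' : X.Opens} {s : I → Γ(N, U)} (h : GenOn N U s)
    (hU' : U' ≤ U) : GenOn N U' (resFam N s hU') := by
  intro y hy
  have := h y (hU' hy)
  convert this using 3
  funext i
  exact TopCat.Presheaf.germ_res_apply N.presheaf (homOfLE hU') y hy (s i)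

lemma GenOn.of_isUnit_smul {N : X.Modules} {I : Type*} {U : X.Opens} {s t : I → Γ(N, U)}
    (h : GenOn N U s) (a : I → Γ(X, U))
    (ha : ∀ (i : I) (y : X) (hy : y ∈ U), IsUnit (X.presheaf.germ U y hy (a i)))
    (ht : ∀ i, t i = a i • s i) : GenOn N U t := by
  intro y hy
  rw [eq_top_iff, ← h y hy, Submodule.span_le]
  rintro _ ⟨i, rfl⟩
  obtain ⟨u, hu⟩ := ha i y hy
  have h1 : N.presheaf.germ U y hy (t i) = (u : X.presheaf.stalk y) • N.presheaf.germ U y hy (s i) := by
    rw [ht i, germ_smul, hu]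
  have h2 : N.presheaf.germ U y hy (s i) =
      ((u⁻¹ : (X.presheaf.stalk y)ˣ) : X.presheaf.stalk y) • N.presheaf.germ U y hy (t i) := by
    rw [h1, smul_smul, Units.inv_mul, one_smul]
  show N.presheaf.germ U y hy (s i) ∈ _
  rw [h2]
  exact Submodule.smul_mem _ _ (Submodule.subset_span ⟨i, rfl⟩)

variable (M : X.Modules) [M.IsQuasicoherent]

theorem exists_genOn_lift {U : X.Opens} (hU : IsAffineOpen U) (f : Γ(X, U)) {I : Type*}
    (s : I → Γ(M, X.basicOpen f)) (hs : GenOn M (X.basicOpen f) s) :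
    ∃ t : I → Γ(M, U), GenOn M (X.basicOpen f) (resFam M t (X.basicOpen_le f)) := by
  choose n t ht using fun i => exists_pow_smul_eq_res M hU f (s i)
  refine ⟨t, ?_⟩
  refine GenOn.of_isUnit_smul hs
    (fun i => (X.presheaf.map (homOfLE (X.basicOpen_le f)).op f) ^ n i) ?_ (fun i => ht i)
  intro i y hy
  rw [map_pow]
  apply IsUnit.pow
  have := TopCat.Presheaf.germ_res_apply X.presheaf (homOfLE (X.basicOpen_le f)) y hy f
  rw [this]
  exact (X.mem_basicOpen f y (X.basicOpen_le f hy)).1 hy

end Groth.Agent.Helper13.FinType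

namespace Groth.Agent.Helper13.FinType

variable {X : Scheme.{u}} (M : X.Modules) [M.IsQuasicoherent]

/-- On an affine open, a quasi-coherent module of finite type admits a finite family of sections
generating all stalks. -/
theorem exists_finite_genOn_of_isFiniteType [SheafOfModules.IsFiniteType (R := X.ringCatSheaf) M]
    {U : X.Opens} (hU : IsAffineOpen U) :
    ∃ (I : Type u) (_ : Finite I) (s : I → Γ(M, U)), GenOn M U s := by
  classical
  -- local data
  have key : ∀ x : U, ∃ (f : Γ(X, U)) (I : Type u) (_ : Finite I) (t : I → Γ(M, U)),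
      (x : X) ∈ X.basicOpen f ∧ GenOn M (X.basicOpen f) (resFam M t (X.basicOpen_le f)) := by
    intro x
    obtain ⟨V, hxV, I, hI, s, hs⟩ := exists_genOn_of_isFiniteType M (x : X)
    obtain ⟨f, hfV, hxf⟩ := hU.exists_basicOpen_le (V := V) ⟨x, hxV⟩ x.2
    obtain ⟨t, ht⟩ := exists_genOn_lift M hU f (resFam M s hfV) (hs.mono hfV)
    exact ⟨f, I, hI, t, hxf, ht⟩
  choose f I hI t hxf ht using key
  have hcov : (U : Set X) ⊆ ⋃ x : U, (X.basicOpen (f x) : Set X) := by
    intro x hx
    exact Set.mem_iUnion.2 ⟨⟨x, hx⟩, hxf ⟨x, hx⟩⟩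
  obtain ⟨T, hT⟩ := hU.isCompact.elim_finite_subcover (fun x : U => (X.basicOpen (f x) : Set X))
    (fun x => (X.basicOpen (f x)).2) hcov
  refine ⟨Σ j : {x : U // x ∈ T}, I j.1, inferInstance, fun p => t p.1.1 p.2, ?_⟩
  intro y hy
  obtain ⟨j, hj⟩ := Set.mem_iUnion.1 (hT hy)
  obtain ⟨hjT, hyj⟩ := Set.mem_iUnion.1 hj
  have hyj' : y ∈ X.basicOpen (f j) := hyj
  have h1 := ht j y hyj'
  rw [eq_top_iff, ← h1, Submodule.span_le]
  rintro _ ⟨i, rfl⟩
  apply Submodule.subset_span
  refine ⟨⟨⟨j, hjT⟩, i⟩, ?_⟩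
  exact (TopCat.Presheaf.germ_res_apply M.presheaf (homOfLE (X.basicOpen_le (f j))) y hyj'
    (t j i)).symm

/-- Sections of a quasi-coherent module of finite type over an affine open form a finite module. -/
theorem finite_sections_of_isFiniteType [SheafOfModules.IsFiniteType (R := X.ringCatSheaf) M]
    {U : X.Opens} (hU : IsAffineOpen U) : Module.Finite Γ(X, U) Γ(M, U) := by
  obtain ⟨I, hI, s, hs⟩ := exists_finite_genOn_of_isFiniteType M hU
  have h := span_eq_top_of_genOn M hU s hs
  refine ⟨?_⟩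
  rw [← h]
  exact Submodule.fg_span (Set.finite_range s)

end Groth.Agent.Helper13.FinType

namespace Groth.Agent.Helper13.FinType

variable {X : Scheme.{u}} (M : X.Modules) [M.IsQuasicoherent]

/-- On an affine open, generators of the module of sections generate all stalks. -/
theorem genOn_of_span_eq_top {U : X.Opens} (hU : IsAffineOpen U) {I : Type*} (s : I → Γ(M, U))
    (h : Submodule.span Γ(X, U) (Set.range s) = ⊤) : GenOn M U s := by
  intro y hy
  rw [eq_top_iff]
  intro m _
  obtain ⟨g, hyg, t, hgt⟩ := exists_germ_smul_eq M hU y hy m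
  have ht : t ∈ Submodule.span Γ(X, U) (Set.range (resFam M s (le_refl U))) := by
    have : resFam M s (le_refl U) = s := by
      funext i
      exact map_id_apply' M _ (s i)
    rw [this, h]; trivial
  have h1 := germ_mem_span s (le_refl U) t ht y hy
  obtain ⟨u, hu⟩ := (X.mem_basicOpen g y hy).1 hyg
  have h2 : m = ((u⁻¹ : (X.presheaf.stalk y)ˣ) : X.presheaf.stalk y) • M.presheaf.germ U y hy t := by
    rw [← hgt, ← hu, smul_smul, Units.inv_mul, one_smul]
  rw [h2]
  exact Submodule.smul_mem _ _ h1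

/-- A quasi-coherent module whose modules of sections over the members of an affine open cover are
finite is of finite type. -/
theorem isFiniteType_of_finite_sections
    (h : ∀ x : X, ∃ U : X.Opens, x ∈ U ∧ IsAffineOpen U ∧ Module.Finite Γ(X, U) Γ(M, U)) :
    SheafOfModules.IsFiniteType (R := X.ringCatSheaf) M := by
  apply isFiniteType_of_genOn
  intro x
  obtain ⟨U, hxU, hU, hfin⟩ := h x
  obtain ⟨n, s, hs⟩ := Module.Finite.exists_fin (R := Γ(X, U)) (M := Γ(M, U))
  refine ⟨U, hxU, ULift.{u} (Fin n), inferInstance, fun i => s i.down, ?_⟩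
  apply genOn_of_span_eq_top M hU
  rw [eq_top_iff, ← hs, Submodule.span_le]
  rintro _ ⟨i, rfl⟩
  exact Submodule.subset_span ⟨⟨i⟩, rfl⟩

/-- For a quasi-coherent module: finite type iff sections over every affine open are finite. -/
theorem isFiniteType_iff_finite_sections :
    SheafOfModules.IsFiniteType (R := X.ringCatSheaf) M ↔
      ∀ U : X.Opens, IsAffineOpen U → Module.Finite Γ(X, U) Γ(M, U) := by
  constructor
  · intro h U hU
    exact finite_sections_of_isFiniteType M hU
  · intro h
    apply isFiniteType_of_finite_sections M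
    intro x
    obtain ⟨_, ⟨V, hV, rfl⟩, hxV, -⟩ := X.isBasis_affineOpens.exists_subset_of_mem_open
      (Set.mem_univ x) isOpen_univ
    exact ⟨V, hxV, hV, h V hV⟩

end Groth.Agent.Helper13.FinType
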