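import Mathlib

set_option autoImplicit false
universe u
open CategoryTheory CategoryTheory.Limits AlgebraicGeometry Opposite TopologicalSpace

namespace Groth.Agent.Helper13.RestrictLim

variable {X Y : Scheme.{u}} (f : X ⟶ Y) [IsOpenImmersion f]

/-- restriction followed by the forgetful functor to presheaves is precomposition with the image
functor on opens -/
noncomputable def restrictCompToPresheaf :
    Scheme.Modules.restrictFunctor f ⋙ Scheme.Modules.toPresheaf X ≅
      Scheme.Modules.toPresheaf Y ⋙ (Functor.whiskeringLeft _ _ Ab.{u}).obj f.opensFunctor.op :=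
  NatIso.ofComponents (fun M => Iso.refl _) (by intros; rfl)

noncomputable instance : PreservesLimits (Scheme.Modules.restrictFunctor f) := by
  have h0 : PreservesLimits ((Functor.whiskeringLeft X.Opensᵒᵖ Y.Opensᵒᵖ Ab.{u}).obj
      f.opensFunctor.op) := ⟨inferInstance⟩
  have h1 : PreservesLimits (Scheme.Modules.toPresheaf Y ⋙
      (Functor.whiskeringLeft _ _ Ab.{u}).obj f.opensFunctor.op) := comp_preservesLimits _ _
  have h2 : PreservesLimits (Scheme.Modules.restrictFunctor f ⋙ Scheme.Modules.toPresheaf X) :=
    preservesLimits_of_natIso (restrictCompToPresheaf f).symm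
  have h3 : ReflectsLimits (Scheme.Modules.toPresheaf X) :=
    reflectsLimits_of_reflectsIsomorphisms
  exact preservesLimits_of_reflects_of_preserves _ (Scheme.Modules.toPresheaf X)

end Groth.Agent.Helper13.RestrictLim
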