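import Mathlib
import Groth.Agent.Lib.Helper13.RestrictLim

set_option autoImplicit false
universe u
open CategoryTheory CategoryTheory.Limits AlgebraicGeometry Opposite TopologicalSpace

/-! Locality of quasi-coherence (the first four declarations are adapted from helper6's
`Lib/Helper6/QcohLocal.lean`, copied here to keep this library self-contained). -/

namespace Groth.Agent.Helper13.QCohLocal

/-- A presentation of `M.over U` from a presentation of `M.restrict U.ι`. -/
noncomputable def presentationOver {X : Scheme.{u}} (M : X.Modules) (U : X.Opens)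
    (P : (M.restrict U.ι).Presentation) : (M.over U).Presentation := by
  let e := Scheme.Modules.overEquiv U
  have : PreservesColimitsOfSize.{u, u} e.inverse := inferInstance
  let iso : e.inverse.obj (M.restrict U.ι) ≅ M.over U :=
    e.inverse.mapIso ((Scheme.Modules.overFunctorEquiv U).app M).symm ≪≫ (e.unitIso.app _).symm
  exact (P.map e.inverse
    (TopologicalSpace.Opens.sheafOfModulesEquivOverInverseUnit U X.ringCatSheaf).symm).ofIsIso iso.hom

theorem isQuasicoherent_of_presentations {X : Scheme.{u}} (M : X.Modules) {ι : Type u}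
    (U : ι → X.Opens) (hU : IsOpenCover U)
    (P : ∀ i, Nonempty (M.restrict (U i).ι).Presentation) : M.IsQuasicoherent := by
  have q : SheafOfModules.QuasicoherentData.{u, u, u, u} M :=
    { I := ι
      X := U
      coversTop := (Opens.coversTop_iff _ _).2 hU
      presentation := fun i => presentationOver M (U i) (P i).some }
  exact q.isQuasicoherent

noncomputable def presentationOpensRange {X Y : Scheme.{u}} (j : Y ⟶ X) [IsOpenImmersion j]
    (M : X.Modules) (P : (M.restrict j).Presentation) :
    (M.restrict j.opensRange.ι).Presentation := by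
  let e := j.isoOpensRange
  have h : e.inv ≫ j = j.opensRange.ι := j.isoOpensRange_inv_comp
  let iso : Scheme.Modules.restrictFunctor j ⋙ Scheme.Modules.restrictFunctor e.inv ≅
      Scheme.Modules.restrictFunctor j.opensRange.ι :=
    (Scheme.Modules.restrictFunctorComp _ _).symm ≪≫ Scheme.Modules.restrictFunctorCongr h
  exact SheafOfModules.Presentation.ofIsIso.{u, u, u} (iso.app M).hom
    (Scheme.Modules.presentationRestrict e.inv P)

theorem isQuasicoherent_of_affine_family {X : Scheme.{u}} (M : X.Modules) {ι : Type u}
    (R : ι → CommRingCat.{u}) (j : ∀ i, Spec (R i) ⟶ X) [∀ i, IsOpenImmersion (j i)]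
    (hj : ∀ x : X, ∃ i, x ∈ (j i).opensRange)
    (h : ∀ i, IsIso (M.restrict (j i)).fromTildeΓ) : M.IsQuasicoherent := by
  refine isQuasicoherent_of_presentations M (fun i => (j i).opensRange) ?_ (fun i => ?_)
  · rw [IsOpenCover, eq_top_iff]
    intro x _
    obtain ⟨i, hi⟩ := hj x
    exact Opens.mem_iSup.2 ⟨i, hi⟩
  · refine ⟨presentationOpensRange (j i) M ?_⟩
    exact @SheafOfModules.Presentation.ofIsIso.{u, u, u} _ _ _ _ _ _ _ _ (M.restrict (j i)).fromTildeΓ
      (h i) (presentationTilde.{u} _ .univ (by simp) _ (Submodule.span_eq _))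

/-- quasi-coherence can be checked after restricting to the affine opens -/
theorem isQuasicoherent_of_restrict_fromSpec {X : Scheme.{u}} (M : X.Modules)
    (h : ∀ U : X.affineOpens, (M.restrict U.2.fromSpec).IsQuasicoherent) : M.IsQuasicoherent := by
  refine isQuasicoherent_of_affine_family M (fun U : X.affineOpens => Γ(X, U.1))
    (fun U => U.2.fromSpec) (fun x => ?_) (fun U => ?_)
  · obtain ⟨_, ⟨V, hV, rfl⟩, hxV, -⟩ := X.isBasis_affineOpens.exists_subset_of_mem_open
      (Set.mem_univ x) isOpen_univ
    refine ⟨⟨V, hV⟩, ?_⟩
    rw [IsAffineOpen.opensRange_fromSpec]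
    exact hxV
  · have := h U
    infer_instance

end Groth.Agent.Helper13.QCohLocal
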