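import Mathlib
import Groth.Agent.Lib.Helper13.QCohLocal
import Groth.Agent.S9496

set_option autoImplicit false
universe u
open CategoryTheory CategoryTheory.Limits AlgebraicGeometry Opposite TopologicalSpace

namespace Groth.Agent.Helper13.QCohLocal

variable {X : Scheme.{u}} {M N : X.Modules}

theorem isQuasicoherent_of_iso {M N : X.Modules} (e : M ≅ N) [hM : M.IsQuasicoherent] :
    N.IsQuasicoherent :=
  (SheafOfModules.isQuasicoherent X.ringCatSheaf).prop_of_iso e hM

/-- kernels of morphisms of quasi-coherent modules are quasi-coherent -/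
theorem isQuasicoherent_kernel [M.IsQuasicoherent] [N.IsQuasicoherent] (φ : M ⟶ N) :
    (kernel φ).IsQuasicoherent := by
  apply isQuasicoherent_of_restrict_fromSpec
  intro U
  let j := U.2.fromSpec
  let F := Scheme.Modules.restrictFunctor j
  have e : F.obj (kernel φ) ≅ kernel (F.map φ) := PreservesKernel.iso F φ
  have h1 : (F.obj M).IsQuasicoherent := inferInstance
  have h2 : (F.obj N).IsQuasicoherent := inferInstance
  have h3 : (kernel (F.map φ)).IsQuasicoherent :=
    (Groth.Agent.S9496.result (↑Γ(X, U.1)) (M := F.obj M) (N := F.obj N) (F.map φ)).1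
  exact isQuasicoherent_of_iso e.symm

/-- cokernels of morphisms of quasi-coherent modules are quasi-coherent -/
theorem isQuasicoherent_cokernel [M.IsQuasicoherent] [N.IsQuasicoherent] (φ : M ⟶ N) :
    (cokernel φ).IsQuasicoherent := by
  apply isQuasicoherent_of_restrict_fromSpec
  intro U
  let j := U.2.fromSpec
  let F := Scheme.Modules.restrictFunctor j
  have e : F.obj (cokernel φ) ≅ cokernel (F.map φ) := PreservesCokernel.iso F φ
  have h1 : (F.obj M).IsQuasicoherent := inferInstance
  have h2 : (F.obj N).IsQuasicoherent := inferInstance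
  have h3 : (cokernel (F.map φ)).IsQuasicoherent :=
    (Groth.Agent.S9496.result (↑Γ(X, U.1)) (M := F.obj M) (N := F.obj N) (F.map φ)).2
  exact isQuasicoherent_of_iso e.symm

end Groth.Agent.Helper13.QCohLocal
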