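import Mathlib
import Groth.Agent.Lib.Helper13.SubSheaf

set_option autoImplicit false
universe u
open CategoryTheory CategoryTheory.Limits AlgebraicGeometry Opposite TopologicalSpace Groth.Agent.Helper13.QCoh

namespace Groth.Agent.Helper13.FinType

variable {X : Scheme.{u}} (N : X.Modules) (G : PresheafOfModules.Submodule N.val)

/-- lifting a morphism through the subsheaf -/
noncomputable def subsheafLift (hG : IsLocalSub N G) {F : X.Modules} (φ : F ⟶ N)
    (h : ∀ (V : X.Opens) (m : Γ(F, V)), φ.app V m ∈ G.obj (op V)) : F ⟶ subsheaf N G hG :=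
  (⟨{ app := fun V => ModuleCat.ofHom
        (LinearMap.codRestrict (G.obj V) (φ.val.app V).hom (fun m => h V.unop m))
      naturality := by
        intro V W f
        ext x
        apply Subtype.ext
        exact congrArg (fun g => g.hom x) (φ.val.naturality f) }⟩ : SheafOfModules.Hom _ _)

lemma subsheafLift_ι (hG : IsLocalSub N G) {F : X.Modules} (φ : F ⟶ N)
    (h : ∀ (V : X.Opens) (m : Γ(F, V)), φ.app V m ∈ G.obj (op V)) :
    subsheafLift N G hG φ h ≫ subsheafι N G hG = φ := by
  apply Scheme.Modules.hom_ext
  intro U
  rfl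

end Groth.Agent.Helper13.FinType
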