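import Mathlib
import Groth.Agent.Lib.Helper13.SubSheaf2
import Groth.Agent.Lib.Helper13.EpiGen

set_option autoImplicit false
universe u
open CategoryTheory CategoryTheory.Limits AlgebraicGeometry Opposite TopologicalSpace Groth.Agent.Helper13.QCoh

namespace Groth.Agent.Helper13.FinType

variable {X : Scheme.{u}} {F N : X.Modules} (φ : F ⟶ N)

/-- sections of `N` whose germs are all in the image of the stalk maps of `φ`. -/
noncomputable def imageSub : PresheafOfModules.Submodule N.val where
  obj V :=
    { carrier := {t | ∀ (y : X) (hy : y ∈ V.unop),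
        N.presheaf.germ V.unop y hy t ∈ LinearMap.range (stalkLinearMap φ y)}
      add_mem' := by
        intro a b ha hb y hy
        have := Submodule.add_mem _ (ha y hy) (hb y hy)
        rw [← map_add] at this
        exact this
      zero_mem' := by
        intro y hy
        have : N.presheaf.germ V.unop y hy 0 = 0 := map_zero _
        exact Eq.mpr (congrArg (fun z => z ∈ LinearMap.range (stalkLinearMap φ y)) this)
          (Submodule.zero_mem _)
      smul_mem' := by
        intro r a ha y hy
        have := germ_smul (F := N) V.unop y hy r a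
        exact Eq.mpr (congrArg (fun z => z ∈ LinearMap.range (stalkLinearMap φ y)) this)
          (Submodule.smul_mem _ _ (ha y hy)) }
  map := by
    intro V W f t ht y hy
    have hyV : y ∈ V.unop := f.unop.le hy
    have := TopCat.Presheaf.germ_res_apply N.presheaf f.unop y hy t
    exact Eq.mpr (congrArg (fun z => z ∈ LinearMap.range (stalkLinearMap φ y)) this) (ht y hyV)

lemma isLocalSub_imageSub : IsLocalSub N (imageSub φ) := by
  intro V t h y hy
  obtain ⟨W, hW, hyW, hm⟩ := h y hy
  have := hm y hyW
  rwa [TopCat.Presheaf.germ_res_apply] at this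

lemma app_mem_imageSub (V : X.Opens) (m : Γ(F, V)) : φ.app V m ∈ (imageSub φ).obj (op V) := by
  intro y hy
  refine ⟨F.presheaf.germ V y hy m, ?_⟩
  exact stalkMap_germ φ y V hy m

theorem stalkMap_surjective_of_epi [hE : Epi φ] (y : X) : Function.Surjective (stalkMap φ y) := by
  let ι := subsheafι N (imageSub φ) (isLocalSub_imageSub φ)
  let ψ := subsheafLift N (imageSub φ) (isLocalSub_imageSub φ) φ (app_mem_imageSub φ)
  have hψ : ψ ≫ ι = φ := subsheafLift_ι _ _ _ _ _
  have hEι : Epi ι := by
    have : Epi (ψ ≫ ι) := by rw [hψ]; exact hE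
    exact epi_of_epi ψ ι
  have hIso : IsIso ι := isIso_of_mono_of_epi ι
  intro m
  obtain ⟨V, hyV, t, rfl⟩ := TopCat.Presheaf.exists_germ_eq N.presheaf m
  have h1 : IsIso (ι.app V) := inferInstance
  have hsurj : Function.Surjective (ι.app V) :=
    ((ConcreteCategory.isIso_iff_bijective (ι.app V)).1 h1).2
  obtain ⟨t', rfl⟩ := hsurj t
  exact subsheafι_app_mem N (imageSub φ) (isLocalSub_imageSub φ) V t' y hyV

theorem epi_of_stalkMap_surjective (h : ∀ y : X, Function.Surjective (stalkMap φ y)) : Epi φ := by
  constructor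
  intro P g g' hgg
  apply hom_ext_stalk
  intro y m
  obtain ⟨m', rfl⟩ := h y m
  have h1 : stalkMap (φ ≫ g) y m' = stalkMap (φ ≫ g') y m' := by rw [hgg]
  have e : ∀ (k : N ⟶ P), stalkMap (φ ≫ k) y m' = stalkMap k y (stalkMap φ y m') := by
    intro k
    obtain ⟨V, hyV, t, rfl⟩ := TopCat.Presheaf.exists_germ_eq F.presheaf m'
    rw [stalkMap_germ, stalkMap_germ, stalkMap_germ]
    rfl
  rw [e g, e g'] at h1
  exact h1

theorem epi_iff_stalkMap_surjective : Epi φ ↔ ∀ y : X, Function.Surjective (stalkMap φ y) :=
  ⟨fun _ => stalkMap_surjective_of_epi φ, epi_of_stalkMap_surjective φ⟩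

end Groth.Agent.Helper13.FinType
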