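import Mathlib
import Groth.Agent.Lib.Helper13.QCohStalk
import Groth.Agent.Lib.Helper13.QCohWeakAss

set_option autoImplicit false
universe u
open CategoryTheory CategoryTheory.Limits AlgebraicGeometry Opposite TopologicalSpace
open Groth.Agent.Helper13.QCoh

namespace Groth.Agent.Helper13.QCohLoc

variable {X : Scheme.{u}} (F : X.Modules) {U : X.Opens}

/-- `Γ(F, D(f))` as a module over `Γ(X, U)`. -/
@[reducible] noncomputable def modBasicOpen (f : Γ(X, U)) : Module Γ(X, U) Γ(F, X.basicOpen f) :=
  Module.compHom Γ(F, X.basicOpen f) (algebraMap Γ(X, U) Γ(X, X.basicOpen f))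

lemma isScalarTower_basicOpen (f : Γ(X, U)) :
    letI := modBasicOpen F f
    IsScalarTower Γ(X, U) Γ(X, X.basicOpen f) Γ(F, X.basicOpen f) := by
  letI := modBasicOpen F f
  exact IsScalarTower.of_algebraMap_smul (fun _ _ => rfl)

/-- restriction `Γ(F, U) → Γ(F, D(f))` as a `Γ(X, U)`-linear map. -/
noncomputable def resBasicOpen (f : Γ(X, U)) :
    letI := modBasicOpen F f
    Γ(F, U) →ₗ[Γ(X, U)] Γ(F, X.basicOpen f) :=
  letI := modBasicOpen F f
  { toFun := fun t => F.presheaf.map (homOfLE (X.basicOpen_le f)).op t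
    map_add' := fun a b => map_add _ a b
    map_smul' := fun r t => by
      have := congrArg (fun φ => φ t) (Scheme.Modules.map_comp_smul (M := F) (homOfLE (X.basicOpen_le f)) r)
      exact this }

lemma resBasicOpen_apply (f : Γ(X, U)) (t : Γ(F, U)) :
    letI := modBasicOpen F f
    resBasicOpen F f t = F.presheaf.map (homOfLE (X.basicOpen_le f)).op t := rfl


section BasicOpen

variable [F.IsQuasicoherent] (hU : IsAffineOpen U)

include hU in
/-- sections of a quasi-coherent module over `D(f)` are the localization of the sections over the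
affine open `U` at `f`. -/
theorem isLocalizedModule_basicOpen (f : Γ(X, U)) :
    letI := modBasicOpen F f
    IsLocalizedModule (Submonoid.powers f) (resBasicOpen F f) := by
  letI := modBasicOpen F f
  have hunit : IsUnit (algebraMap Γ(X, U) Γ(X, X.basicOpen f) f) :=
    RingedSpace.isUnit_res_basicOpen _ f
  refine ⟨?_, ?_, ?_⟩
  · rintro ⟨_, n, rfl⟩
    rw [Module.End.isUnit_iff]
    obtain ⟨u, hu⟩ := hunit.pow n
    have hu' : (u : Γ(X, X.basicOpen f)) = algebraMap Γ(X, U) Γ(X, X.basicOpen f) (f ^ n) := by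
      rw [hu, map_pow]
    refine ⟨fun a b hab => ?_, fun b => ⟨(↑u⁻¹ : Γ(X, X.basicOpen f)) • b, ?_⟩⟩
    · have h1 : (u : Γ(X, X.basicOpen f)) • a = (u : Γ(X, X.basicOpen f)) • b := by
        rw [hu']
        exact hab
      have h2 := congrArg (fun z => (↑u⁻¹ : Γ(X, X.basicOpen f)) • z) h1
      simpa [smul_smul] using h2
    · change algebraMap Γ(X, U) Γ(X, X.basicOpen f) (f ^ n) • ((↑u⁻¹ : Γ(X, X.basicOpen f)) • b) = b
      rw [← hu', smul_smul, Units.mul_inv, one_smul]
  · intro y
    obtain ⟨n, t, ht⟩ := exists_pow_smul_eq_res F hU f y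
    refine ⟨⟨t, ⟨f ^ n, n, rfl⟩⟩, ?_⟩
    change algebraMap Γ(X, U) Γ(X, X.basicOpen f) (f ^ n) • y = _
    rw [map_pow]
    exact ht.symm
  · intro a b hab
    have h0 : F.presheaf.map (homOfLE (X.basicOpen_le f)).op (a - b) = 0 := by
      rw [map_sub, sub_eq_zero]
      exact hab
    obtain ⟨n, hn⟩ := exists_pow_smul_eq_zero F hU f (a - b) h0
    refine ⟨⟨f ^ n, n, rfl⟩, ?_⟩
    change f ^ n • a = f ^ n • b
    rw [← sub_eq_zero, ← smul_sub]
    exact hn

end BasicOpen


section Stalk

/-- the stalk `F_x` as a module over `Γ(X, U)`. -/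
@[reducible] noncomputable def modStalk (x : U) : Module Γ(X, U) (F.presheaf.stalk (x : X)) :=
  Module.compHom (F.presheaf.stalk (x : X)) (algebraMap Γ(X, U) (X.presheaf.stalk (x : X)))

lemma isScalarTower_stalk (x : U) :
    letI := modStalk F x
    IsScalarTower Γ(X, U) (X.presheaf.stalk (x : X)) (F.presheaf.stalk (x : X)) := by
  letI := modStalk F x
  exact IsScalarTower.of_algebraMap_smul (fun _ _ => rfl)

/-- the germ map `Γ(F, U) → F_x` as a `Γ(X, U)`-linear map. -/
noncomputable def germLin (x : U) :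
    letI := modStalk F x
    Γ(F, U) →ₗ[Γ(X, U)] F.presheaf.stalk (x : X) :=
  letI := modStalk F x
  { toFun := fun t => F.presheaf.germ U x x.2 t
    map_add' := fun a b => map_add _ a b
    map_smul' := fun r t => germ_smul F U x x.2 r t }

lemma germLin_apply (x : U) (t : Γ(F, U)) :
    letI := modStalk F x
    germLin F x t = F.presheaf.germ U x x.2 t := rfl

variable [F.IsQuasicoherent] (hU : IsAffineOpen U)

include hU in
/-- the stalk of a quasi-coherent module at a point of an affine open `U` is the localization of the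
sections over `U` at the corresponding prime. -/
theorem isLocalizedModule_germ (x : U) :
    letI := modStalk F x
    IsLocalizedModule (hU.primeIdealOf x).asIdeal.primeCompl (germLin F x) := by
  letI := modStalk F x
  have hloc := hU.isLocalization_stalk x
  refine ⟨?_, ?_, ?_⟩
  · rintro ⟨g, hg⟩
    rw [Module.End.isUnit_iff]
    obtain ⟨u, hu⟩ := IsLocalization.map_units (X.presheaf.stalk (x : X))
      (⟨g, hg⟩ : (hU.primeIdealOf x).asIdeal.primeCompl)
    refine ⟨fun a b hab => ?_, fun b => ⟨(↑u⁻¹ : X.presheaf.stalk (x : X)) • b, ?_⟩⟩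
    · have h1 : (u : X.presheaf.stalk (x : X)) • a = (u : X.presheaf.stalk (x : X)) • b := by
        rw [hu]
        exact hab
      have h2 := congrArg (fun z => (↑u⁻¹ : X.presheaf.stalk (x : X)) • z) h1
      simpa [smul_smul] using h2
    · change algebraMap Γ(X, U) (X.presheaf.stalk (x : X)) g • ((↑u⁻¹ : X.presheaf.stalk (x : X)) • b) = b
      have hu' : algebraMap Γ(X, U) (X.presheaf.stalk (x : X)) g = u := hu.symm
      rw [hu', smul_smul, Units.mul_inv, one_smul]
  · intro m
    obtain ⟨g, hxg, t, ht⟩ := exists_germ_smul_eq F hU x x.2 m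
    have hg : g ∈ (hU.primeIdealOf x).asIdeal.primeCompl :=
      (mem_basicOpen_iff_notMem_primeIdealOf hU x x.2 g).1 hxg
    exact ⟨⟨t, ⟨g, hg⟩⟩, ht⟩
  · intro a b hab
    have h0 : F.presheaf.germ U x x.2 (a - b) = 0 := by
      rw [map_sub, sub_eq_zero]
      exact hab
    obtain ⟨g, hxg, hg0⟩ := exists_smul_eq_zero_of_germ_eq_zero F hU x x.2 (a - b) h0
    have hg : g ∈ (hU.primeIdealOf x).asIdeal.primeCompl :=
      (mem_basicOpen_iff_notMem_primeIdealOf hU x x.2 g).1 hxg
    refine ⟨⟨g, hg⟩, ?_⟩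
    change g • a = g • b
    rw [← sub_eq_zero, ← smul_sub]
    exact hg0

end Stalk

end Groth.Agent.Helper13.QCohLoc
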