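import Mathlib
import Groth.Agent.Lib.Helper13.FreeMod
import Groth.Agent.Lib.Helper13.EpiStalk
import Groth.Agent.Lib.Helper13.QCohLoc

set_option autoImplicit false
universe u
open CategoryTheory CategoryTheory.Limits AlgebraicGeometry Opposite TopologicalSpace
open Groth.Agent.Helper13.QCoh Groth.Agent.Helper13.FinType Groth.Agent.Helper13.QCohLoc

namespace Groth.Agent.Helper13.LocFree

variable {X : Scheme.{u}}

/-- a morphism of modules which is bijective on all stalks is an isomorphism. -/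
theorem isIso_of_stalk_bijective {M N : X.Modules} (φ : M ⟶ N)
    (h : ∀ x : X, Function.Bijective (stalkMap φ x)) : IsIso φ := by
  rw [Scheme.Modules.Hom.isIso_iff_isIso_app]
  intro U
  rw [ConcreteCategory.isIso_iff_bijective]
  exact TopCat.Presheaf.app_bijective_of_stalkFunctor_map_bijective
    (F := ⟨M.presheaf, M.isSheaf⟩) (G := ⟨N.presheaf, N.isSheaf⟩) ⟨φ.mapPresheaf⟩ U (fun x _ => h x)

/-- a morphism of modules which is bijective on sections over a basis of opens is an isomorphism. -/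
theorem isIso_of_app_bijective_of_isBasis {M N : X.Modules} (φ : M ⟶ N)
    {B : Set X.Opens} (hB : Opens.IsBasis B)
    (h : ∀ V ∈ B, Function.Bijective (φ.app V)) : IsIso φ := by
  apply isIso_of_stalk_bijective
  intro x
  constructor
  · exact TopCat.Presheaf.stalkFunctor_map_injective_of_isBasis hB (α := φ.mapPresheaf)
      (fun V hV => (h V hV).1) x
  · intro m
    obtain ⟨V, hxV, hV, t, rfl⟩ := TopCat.Presheaf.exists_mem_germ_eq_of_isBasis hB N.presheaf x m
    obtain ⟨t', rfl⟩ := (h V hV).2 t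
    exact ⟨M.presheaf.germ V x hxV t', stalkMap_germ φ x V hxV t'⟩

variable {n : ℕ}

/-- `n` global sections of `M` whose restrictions to every member of a basis of opens form a
basis of the sections define an isomorphism `O_X^n ≅ M`. -/
theorem isIso_descSec_of_isBasis (M : X.Modules) (s : Fin n → Γ(M, ⊤))
    {B : Set X.Opens} (hB : Opens.IsBasis B)
    (h : ∀ V ∈ B, Function.Bijective (fun c : Fin n → Γ(X, V) =>
      ∑ i, c i • M.presheaf.map (homOfLE (le_top : V ≤ ⊤)).op (s i))) :
    IsIso (descSec M s) := by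
  apply isIso_of_app_bijective_of_isBasis _ hB
  intro V hV
  have h1 : (fun c : Fin n → Γ(X, V) =>
      ∑ i, c i • M.presheaf.map (homOfLE (le_top : V ≤ ⊤)).op (s i)) =
      (descSec M s).app V ∘ secEquiv n V := by
    funext c
    exact (descSec_app_secOfCoord M s V c).symm
  have h2 := h V hV
  rw [h1] at h2
  exact (Function.Bijective.of_comp_iff _ (secEquiv n V).bijective).1 h2


/-- on an affine scheme, a quasi-coherent module whose global sections are free with basis `b` is
isomorphic to `O^n` via `b`. -/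
theorem isIso_descSec_of_basis_of_isAffine [IsAffine X] (M : X.Modules) [M.IsQuasicoherent]
    (b : Module.Basis (Fin n) Γ(X, ⊤) Γ(M, ⊤)) : IsIso (descSec M b) := by
  apply isIso_descSec_of_isBasis M b (isBasis_basicOpen X)
  rintro _ ⟨f, rfl⟩
  letI := modBasicOpen M f
  haveI := isScalarTower_basicOpen M f
  haveI := isLocalizedModule_basicOpen M (isAffineOpen_top X) f
  haveI : IsLocalization (Submonoid.powers f) Γ(X, X.basicOpen f) :=
    (isAffineOpen_top X).isLocalization_basicOpen f
  let b' : Module.Basis (Fin n) Γ(X, X.basicOpen f) Γ(M, X.basicOpen f) :=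
    b.ofIsLocalizedModule Γ(X, X.basicOpen f) (Submonoid.powers f) (resBasicOpen M f)
  have hb' : ∀ i, b' i = M.presheaf.map (homOfLE (le_top : X.basicOpen f ≤ ⊤)).op (b i) := by
    intro i
    exact b.ofIsLocalizedModule_apply Γ(X, X.basicOpen f) (Submonoid.powers f) (resBasicOpen M f) i
  have h1 : (fun c : Fin n → Γ(X, X.basicOpen f) =>
      ∑ i, c i • M.presheaf.map (homOfLE (le_top : X.basicOpen f ≤ ⊤)).op (b i)) =
      b'.equivFun.symm := by
    funext c
    rw [Module.Basis.equivFun_symm_apply]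
    exact Finset.sum_congr rfl (fun i _ => by rw [hb'])
  rw [h1]
  exact b'.equivFun.symm.bijective


section Transport

variable {X Y : Scheme.{u}} (f : Y ⟶ X) [IsOpenImmersion f] (M : X.Modules) {ι : Type*}

/-- the `Γ(Y, W')`-module structure on `Γ(M, f ''ᵁ W')` coming from `M.restrict f`. -/
@[reducible] noncomputable def modRestrict (W' : Y.Opens) : Module Γ(Y, W') Γ(M, f ''ᵁ W') :=
  inferInstanceAs (Module Γ(Y, W') Γ(M.restrict f, W'))

lemma modRestrict_smul (W' : Y.Opens) (c : Γ(X, f ''ᵁ W')) (x : Γ(M, f ''ᵁ W')) :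
    letI := modRestrict f M W'
    ((f.appIso W').hom c) • x = c • x := by
  letI := modRestrict f M W'
  have h3 : (f.appIso W').inv ((f.appIso W').hom c) = c :=
    congrArg (fun φ => φ c) (CommRingCat.hom_ext_iff.1 (f.appIso W').hom_inv_id)
  have h4 : (((f.appIso W').hom c) • (id x : Γ(M.restrict f, W'))) =
      (((f.appIso W').inv ((f.appIso W').hom c)) • (id x : Γ(M, f ''ᵁ W'))) := rfl
  rw [h3] at h4
  exact h4

noncomputable def basisRestrict (W' : Y.Opens) (b : Module.Basis ι Γ(X, f ''ᵁ W') Γ(M, f ''ᵁ W')) :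
    Module.Basis ι Γ(Y, W') Γ(M.restrict f, W') := by
  letI := modRestrict f M W'
  exact b.mapCoeffs (f.appIso W').commRingCatIsoToRingEquiv (modRestrict_smul f M W')

lemma basisRestrict_apply (W' : Y.Opens) (b : Module.Basis ι Γ(X, f ''ᵁ W') Γ(M, f ''ᵁ W')) (i : ι) :
    basisRestrict f M W' b i = b i := by
  letI := modRestrict f M W'
  exact Module.Basis.mapCoeffs_apply b (f.appIso W').commRingCatIsoToRingEquiv (modRestrict_smul f M W') i

noncomputable def basisOfRestrict (W' : Y.Opens) (b : Module.Basis ι Γ(Y, W') Γ(M.restrict f, W')) :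
    Module.Basis ι Γ(X, f ''ᵁ W') Γ(M, f ''ᵁ W') := by
  letI inst : Module Γ(X, f ''ᵁ W') Γ(M.restrict f, W') :=
    inferInstanceAs (Module Γ(X, f ''ᵁ W') Γ(M, f ''ᵁ W'))
  exact b.mapCoeffs (f.appIso W').commRingCatIsoToRingEquiv.symm (fun c x => rfl)

end Transport

end Groth.Agent.Helper13.LocFree

namespace Groth.Agent.Helper13.LocFree

variable {X : Scheme.{u}} {n : ℕ}

lemma nonempty_basis_congr (M : X.Modules) {ι : Type*} {V₁ V₂ : X.Opens} (e : V₁ = V₂)
    (h : Nonempty (Module.Basis ι Γ(X, V₁) Γ(M, V₁))) :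
    Nonempty (Module.Basis ι Γ(X, V₂) Γ(M, V₂)) := by
  subst e
  exact h

/-- the linear map on sections induced by a morphism of modules. -/
noncomputable def appLinearMap {M N : X.Modules} (φ : M ⟶ N) (V : X.Opens) :
    Γ(M, V) →ₗ[Γ(X, V)] Γ(N, V) where
  toFun := φ.app V
  map_add' a b := map_add _ a b
  map_smul' r a := Scheme.Modules.Hom.app_smul φ r a

/-- the linear equivalence on sections induced by an isomorphism of modules. -/
noncomputable def appLinearEquiv {M N : X.Modules} (φ : M ≅ N) (V : X.Opens) :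
    Γ(M, V) ≃ₗ[Γ(X, V)] Γ(N, V) where
  __ := appLinearMap φ.hom V
  invFun := φ.inv.app V
  left_inv a := by
    change (φ.hom ≫ φ.inv).app V a = a
    rw [φ.hom_inv_id]
    rfl
  right_inv a := by
    change (φ.inv ≫ φ.hom).app V a = a
    rw [φ.inv_hom_id]
    rfl

/-- sections of `O_X^n` as a linear equivalence. -/
noncomputable def secLinearEquiv (n : ℕ) (V : X.Opens) :
    (Fin n → Γ(X, V)) ≃ₗ[Γ(X, V)] Γ(FlatMod.freeMod X n, V) where
  __ := secEquiv n V
  map_add' a b := by
    change secOfCoord n V (a + b) = secOfCoord n V a + secOfCoord n V b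
    simp only [secOfCoord, ← Finset.sum_add_distrib]
    refine Finset.sum_congr rfl (fun i _ => ?_)
    exact map_add ((ι n i).app V).hom (toO V (a i)) (toO V (b i))
  map_smul' r a := by
    change secOfCoord n V (r • a) = r • secOfCoord n V a
    simp only [secOfCoord, Finset.smul_sum]
    refine Finset.sum_congr rfl (fun i _ => ?_)
    exact Scheme.Modules.Hom.app_smul (ι n i) r (toO V (a i))

/-- the standard basis of the sections of `O_X^n`. -/
noncomputable def basisFreeMod (n : ℕ) (V : X.Opens) :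
    Module.Basis (Fin n) Γ(X, V) Γ(FlatMod.freeMod X n, V) :=
  Module.Basis.ofEquivFun (secLinearEquiv n V).symm

end Groth.Agent.Helper13.LocFree

namespace Groth.Agent.Helper13.LocFree

variable {X : Scheme.{u}} {n : ℕ}

/-- **K**: a quasi-coherent module whose sections over an affine open `U` are free of rank `n` is
free of rank `n` over `U`. -/
theorem restrict_iso_freeMod_of_basis (M : X.Modules) [M.IsQuasicoherent] {U : X.Opens}
    (hU : IsAffineOpen U) (b : Module.Basis (Fin n) Γ(X, U) Γ(M, U)) :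
    Nonempty (M.restrict U.ι ≅ FlatMod.freeMod (↑U) n) := by
  haveI : IsAffine (U : Scheme.{u}) := hU
  have e : U.ι ''ᵁ ⊤ = U := by rw [Scheme.Opens.ι_image_top]
  obtain ⟨b₁⟩ := nonempty_basis_congr M e.symm ⟨b⟩
  let b₂ := basisRestrict U.ι M ⊤ b₁
  haveI := isIso_descSec_of_basis_of_isAffine (M.restrict U.ι) b₂
  exact ⟨(asIso (descSec (M.restrict U.ι) b₂)).symm⟩

/-- **K'**: if `M` is free of rank `n` over `U`, its sections over every open `V ≤ U` are free of
rank `n`. -/
theorem nonempty_basis_of_restrict_iso (M : X.Modules) {U : X.Opens}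
    (e : M.restrict U.ι ≅ FlatMod.freeMod (↑U) n) {V : X.Opens} (hV : V ≤ U) :
    Nonempty (Module.Basis (Fin n) Γ(X, V) Γ(M, V)) := by
  let V' : (U : Scheme.{u}).Opens := U.ι ⁻¹ᵁ V
  have hV' : U.ι ''ᵁ V' = V := by
    rw [Scheme.Hom.image_preimage_eq_opensRange_inf, Scheme.Opens.opensRange_ι]
    exact inf_eq_right.2 hV
  let b₁ : Module.Basis (Fin n) Γ(↑U, V') Γ(M.restrict U.ι, V') :=
    (basisFreeMod n V').map (appLinearEquiv e V').symm
  exact nonempty_basis_congr M hV' ⟨basisOfRestrict U.ι M V' b₁⟩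

/-- characterization of finite local freeness for quasi-coherent modules via sections on affines. -/
theorem isFinLocFree_iff_of_isQuasicoherent (M : X.Modules) [M.IsQuasicoherent] :
    FlatMod.IsFinLocFree M ↔ ∀ x : X, ∃ (U : X.Opens) (n : ℕ), IsAffineOpen U ∧ x ∈ U ∧
      Nonempty (Module.Basis (Fin n) Γ(X, U) Γ(M, U)) := by
  constructor
  · intro h x
    obtain ⟨U, n, hxU, ⟨e⟩⟩ := h x
    obtain ⟨_, ⟨V, hV, rfl⟩, hxV, hVU⟩ :=
      X.isBasis_affineOpens.exists_subset_of_mem_open hxU U.2
    exact ⟨V, n, hV, hxV, nonempty_basis_of_restrict_iso M e hVU⟩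
  · intro h x
    obtain ⟨U, n, hU, hxU, ⟨b⟩⟩ := h x
    exact ⟨U, n, hxU, restrict_iso_freeMod_of_basis M hU b⟩

/-- rank-`n` version. -/
theorem isFinLocFreeOfRank_iff_of_isQuasicoherent (M : X.Modules) [M.IsQuasicoherent] (n : ℕ) :
    FlatMod.IsFinLocFreeOfRank n M ↔ ∀ x : X, ∃ (U : X.Opens), IsAffineOpen U ∧ x ∈ U ∧
      Nonempty (Module.Basis (Fin n) Γ(X, U) Γ(M, U)) := by
  constructor
  · intro h x
    obtain ⟨U, hxU, ⟨e⟩⟩ := h x
    obtain ⟨_, ⟨V, hV, rfl⟩, hxV, hVU⟩ :=
      X.isBasis_affineOpens.exists_subset_of_mem_open hxU U.2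
    exact ⟨V, hV, hxV, nonempty_basis_of_restrict_iso M e hVU⟩
  · intro h x
    obtain ⟨U, hU, hxU, ⟨b⟩⟩ := h x
    exact ⟨U, hxU, restrict_iso_freeMod_of_basis M hU b⟩

end Groth.Agent.Helper13.LocFree
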