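import Mathlib
import Groth.Prelude.Def_CohB1
import Groth.Prelude.Def_FlatMod2

/-!
# Stalks of tensor products of (pre)sheaves of modules on a scheme

For presheaves of modules `P Q` over the structure presheaf of a scheme `X`, the stalk of the
sectionwise tensor product `P ⊗ Q` at `x` is the tensor product of the stalks over `O_{X,x}`:
`stalkTensorEquivPre`. For `O_X`-modules `M N`, the stalk of `CohB1.tensorMod M N` is the tensor
product of the stalks: `stalkTensorEquiv`.
-/

set_option autoImplicit false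
universe u
open CategoryTheory CategoryTheory.Limits AlgebraicGeometry Opposite TopologicalSpace MonoidalCategory TensorProduct

namespace Groth.Agent.Helper13.Tensor

variable {X : Scheme.{u}}

/-- the underlying presheaf of abelian groups of a presheaf of modules. -/
noncomputable abbrev pre (P : CohB1.PMod X) : TopCat.Presheaf Ab X := P.presheaf

/-- sections of a presheaf of modules. -/
abbrev Sec (P : CohB1.PMod X) (U : X.Opens) : Type u := (pre P).obj (op U)

noncomputable instance (P : CohB1.PMod X) (U : X.Opens) : Module Γ(X, U) (Sec P U) :=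
  (P.obj (op U)).isModule

/-- the module structure on stalks of a presheaf of modules (Mathlib's instance, restated). -/
noncomputable instance modStalkPre (P : CohB1.PMod X) (x : X) :
    Module (X.presheaf.stalk x) ((pre P).stalk x) :=
  inferInstanceAs (Module (X.presheaf.stalk x) ↑(TopCat.Presheaf.stalk (PresheafOfModules.presheaf
    (R := X.presheaf ⋙ forget₂ CommRingCat RingCat)
    (show PresheafOfModules (X.presheaf ⋙ forget₂ CommRingCat RingCat) from P)) x))

theorem germ_smul_pre (P : CohB1.PMod X) (U : X.Opens) (x : X) (hx : x ∈ U) (r : Γ(X, U))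
    (m : Sec P U) :
    (pre P).germ U x hx (r • m) = X.presheaf.germ U x hx r • (pre P).germ U x hx m :=
  PresheafOfModules.germ_smul (R := X.presheaf)
    (show PresheafOfModules (X.presheaf ⋙ forget₂ CommRingCat RingCat) from P) x U hx r m

lemma pmap_pmap (P : CohB1.PMod X) {U V W : X.Opens} (i : V ⟶ U) (j : W ⟶ V) (k : W ⟶ U)
    (m : Sec P U) : (pre P).map j.op ((pre P).map i.op m) = (pre P).map k.op m := by
  rw [← ConcreteCategory.comp_apply, ← Functor.map_comp]
  rfl

lemma pmap_self (P : CohB1.PMod X) {U : X.Opens} (i : U ⟶ U) (m : Sec P U) :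
    (pre P).map i.op m = m := by
  have : i = 𝟙 U := Subsingleton.elim _ _
  rw [this, op_id, (pre P).map_id]
  rfl

lemma pmap_smul (P : CohB1.PMod X) {U V : X.Opens} (i : V ⟶ U) (r : Γ(X, U)) (m : Sec P U) :
    (pre P).map i.op (r • m) = X.presheaf.map i.op r • (pre P).map i.op m :=
  P.map_smul i.op r m

variable (P Q : CohB1.PMod X)

/-- the presheaf tensor product -/
noncomputable abbrev ptensor : CohB1.PMod X := P ⊗ Q

variable (x : X)

/-- tensor of the stalks -/
abbrev StalkTensor : Type u := (pre P).stalk x ⊗[X.presheaf.stalk x] (pre Q).stalk x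

/-- view an element of the tensor product of the sections as a section of the presheaf tensor. -/
def toSecT {U : X.Opens} (t : Sec P U ⊗[Γ(X, U)] Sec Q U) : Sec (ptensor P Q) U := t

/-- view a section of the presheaf tensor as an element of the tensor product of the sections. -/
def ofSecT {U : X.Opens} (t : Sec (ptensor P Q) U) : Sec P U ⊗[Γ(X, U)] Sec Q U := t

lemma map_toSecT_tmul {U V : X.Opens} (i : V ⟶ U) (m : Sec P U) (n : Sec Q U) :
    (pre (ptensor P Q)).map i.op (toSecT P Q (m ⊗ₜ n)) =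
      toSecT P Q ((pre P).map i.op m ⊗ₜ (pre Q).map i.op n) := rfl

lemma toSecT_add {U : X.Opens} (a b : Sec P U ⊗[Γ(X, U)] Sec Q U) :
    toSecT P Q (a + b) = toSecT P Q a + toSecT P Q b := rfl

lemma toSecT_smul {U : X.Opens} (r : Γ(X, U)) (a : Sec P U ⊗[Γ(X, U)] Sec Q U) :
    toSecT P Q (r • a) = r • toSecT P Q a := rfl

lemma secT_induction {U : X.Opens} {p : Sec (ptensor P Q) U → Prop} (h0 : p 0)
    (ht : ∀ m n, p (toSecT P Q (m ⊗ₜ n))) (ha : ∀ a b, p a → p b → p (a + b))
    (t : Sec (ptensor P Q) U) : p t :=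
  TensorProduct.induction_on (motive := fun t => p (toSecT P Q t)) (ofSecT P Q t) h0 ht
    (fun a b => ha _ _)

/-- the map on sections over `U ∋ x` from the presheaf tensor to the tensor of stalks. -/
noncomputable def secToStalkTensor (U : X.Opens) (hx : x ∈ U) :
    Sec (ptensor P Q) U →+ StalkTensor P Q x :=
  TensorProduct.liftAddHom (R := Γ(X, U)) (M := Sec P U) (N := Sec Q U)
    { toFun := fun m =>
        { toFun := fun n => (pre P).germ U x hx m ⊗ₜ[X.presheaf.stalk x] (pre Q).germ U x hx n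
          map_zero' := by rw [map_zero, TensorProduct.tmul_zero]
          map_add' := fun n n' => by rw [map_add, TensorProduct.tmul_add] }
      map_zero' := by
        ext n
        change (pre P).germ U x hx 0 ⊗ₜ[X.presheaf.stalk x] (pre Q).germ U x hx n = 0
        rw [map_zero, TensorProduct.zero_tmul]
      map_add' := fun m m' => by
        ext n
        change (pre P).germ U x hx (m + m') ⊗ₜ[X.presheaf.stalk x] (pre Q).germ U x hx n =
          (pre P).germ U x hx m ⊗ₜ[X.presheaf.stalk x] (pre Q).germ U x hx n +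
          (pre P).germ U x hx m' ⊗ₜ[X.presheaf.stalk x] (pre Q).germ U x hx n
        rw [map_add, TensorProduct.add_tmul] }
    (fun r m n => by
      change (pre P).germ U x hx (r • m) ⊗ₜ[X.presheaf.stalk x] (pre Q).germ U x hx n =
        (pre P).germ U x hx m ⊗ₜ[X.presheaf.stalk x] (pre Q).germ U x hx (r • n)
      rw [germ_smul_pre, germ_smul_pre, TensorProduct.smul_tmul])

lemma secToStalkTensor_tmul (U : X.Opens) (hx : x ∈ U) (m : Sec P U) (n : Sec Q U) :
    secToStalkTensor P Q x U hx (toSecT P Q (m ⊗ₜ n)) =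
      (pre P).germ U x hx m ⊗ₜ (pre Q).germ U x hx n := rfl

lemma secToStalkTensor_map {U V : X.Opens} (i : V ⟶ U) (hx : x ∈ V) (t : Sec (ptensor P Q) U) :
    secToStalkTensor P Q x V hx ((pre (ptensor P Q)).map i.op t) =
      secToStalkTensor P Q x U (i.le hx) t := by
  induction t using secT_induction with
  | h0 => rw [map_zero, map_zero, map_zero]
  | ht m n =>
    rw [map_toSecT_tmul, secToStalkTensor_tmul, secToStalkTensor_tmul,
      TopCat.Presheaf.germ_res_apply, TopCat.Presheaf.germ_res_apply]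
  | ha a b ha hb =>
    rw [map_add, map_add, map_add, ha, hb]

/-- the cocone defining the map from the stalk of the presheaf tensor. -/
noncomputable def stalkCocone : Cocone ((OpenNhds.inclusion x).op ⋙ pre (ptensor P Q)) where
  pt := AddCommGrpCat.of (StalkTensor P Q x)
  ι :=
    { app := fun U => AddCommGrpCat.ofHom (secToStalkTensor P Q x U.unop.1 U.unop.2)
      naturality := fun U V i => by
        ext t
        exact secToStalkTensor_map P Q x ((OpenNhds.inclusion x).map i.unop) V.unop.2 t }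

/-- the map from the stalk of the presheaf tensor product to the tensor product of the stalks. -/
noncomputable def stalkToStalkTensor :
    (pre (ptensor P Q)).stalk x ⟶ AddCommGrpCat.of (StalkTensor P Q x) :=
  colimit.desc ((OpenNhds.inclusion x).op ⋙ pre (ptensor P Q)) (stalkCocone P Q x)

lemma stalkToStalkTensor_germ (U : X.Opens) (hx : x ∈ U) (t : Sec (ptensor P Q) U) :
    stalkToStalkTensor P Q x ((pre (ptensor P Q)).germ U x hx t) =
      secToStalkTensor P Q x U hx t := by
  have := colimit.ι_desc (stalkCocone P Q x) (op (⟨U, hx⟩ : OpenNhds x))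
  exact congr($this t)

section Inverse

/-- germ of a pure tensor of two sections defined on possibly different opens. -/
noncomputable def gt {U V : X.Opens} (hU : x ∈ U) (hV : x ∈ V) (m : Sec P U) (n : Sec Q V) :
    (pre (ptensor P Q)).stalk x :=
  (pre (ptensor P Q)).germ (U ⊓ V) x ⟨hU, hV⟩
    (toSecT P Q ((pre P).map (homOfLE inf_le_left).op m ⊗ₜ (pre Q).map (homOfLE inf_le_right).op n))

lemma gt_res {U V W : X.Opens} (hU : x ∈ U) (hV : x ∈ V) (hW : x ∈ W) (hWU : W ≤ U) (hWV : W ≤ V)
    (m : Sec P U) (n : Sec Q V) :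
    gt P Q x hU hV m n = (pre (ptensor P Q)).germ W x hW
      (toSecT P Q ((pre P).map (homOfLE hWU).op m ⊗ₜ (pre Q).map (homOfLE hWV).op n)) := by
  unfold gt
  rw [← TopCat.Presheaf.germ_res_apply (pre (ptensor P Q)) (homOfLE (le_inf hWU hWV)) x hW,
    map_toSecT_tmul, pmap_pmap P _ _ (homOfLE hWU), pmap_pmap Q _ _ (homOfLE hWV)]

lemma gt_eq {U V U' V' : X.Opens} (hU : x ∈ U) (hV : x ∈ V) (hU' : x ∈ U') (hV' : x ∈ V')
    (m : Sec P U) (n : Sec Q V) (m' : Sec P U') (n' : Sec Q V')
    (hm : (pre P).germ U x hU m = (pre P).germ U' x hU' m')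
    (hn : (pre Q).germ V x hV n = (pre Q).germ V' x hV' n') :
    gt P Q x hU hV m n = gt P Q x hU' hV' m' n' := by
  obtain ⟨W₁, hW₁, i₁, i₁', e₁⟩ := TopCat.Presheaf.germ_eq (pre P) x hU hU' m m' hm
  obtain ⟨W₂, hW₂, i₂, i₂', e₂⟩ := TopCat.Presheaf.germ_eq (pre Q) x hV hV' n n' hn
  have hW : x ∈ W₁ ⊓ W₂ := ⟨hW₁, hW₂⟩
  rw [gt_res P Q x hU hV hW (inf_le_left.trans i₁.le) (inf_le_right.trans i₂.le),
    gt_res P Q x hU' hV' hW (inf_le_left.trans i₁'.le) (inf_le_right.trans i₂'.le)]
  have h1 : (pre P).map (homOfLE (inf_le_left.trans i₁.le : W₁ ⊓ W₂ ≤ U)).op m =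
      (pre P).map (homOfLE (inf_le_left.trans i₁'.le : W₁ ⊓ W₂ ≤ U')).op m' := by
    rw [← pmap_pmap P i₁ (homOfLE inf_le_left : W₁ ⊓ W₂ ⟶ W₁), e₁, pmap_pmap]
  have h2 : (pre Q).map (homOfLE (inf_le_right.trans i₂.le : W₁ ⊓ W₂ ≤ V)).op n =
      (pre Q).map (homOfLE (inf_le_right.trans i₂'.le : W₁ ⊓ W₂ ≤ V')).op n' := by
    rw [← pmap_pmap Q i₂ (homOfLE inf_le_right : W₁ ⊓ W₂ ⟶ W₂), e₂, pmap_pmap]
  rw [h1, h2]

/-- the (choice-based) bilinear pairing of the stalks into the stalk of the presheaf tensor. -/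
noncomputable def pairing (a : (pre P).stalk x) (c : (pre Q).stalk x) :
    (pre (ptensor P Q)).stalk x :=
  gt P Q x (TopCat.Presheaf.exists_germ_eq (pre P) a).choose_spec.choose
    (TopCat.Presheaf.exists_germ_eq (pre Q) c).choose_spec.choose
    (TopCat.Presheaf.exists_germ_eq (pre P) a).choose_spec.choose_spec.choose
    (TopCat.Presheaf.exists_germ_eq (pre Q) c).choose_spec.choose_spec.choose

lemma pairing_germ {U V : X.Opens} (hU : x ∈ U) (hV : x ∈ V) (m : Sec P U) (n : Sec Q V) :
    pairing P Q x ((pre P).germ U x hU m) ((pre Q).germ V x hV n) = gt P Q x hU hV m n := by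
  unfold pairing
  exact gt_eq P Q x _ _ hU hV _ _ m n
    (TopCat.Presheaf.exists_germ_eq (pre P) _).choose_spec.choose_spec.choose_spec
    (TopCat.Presheaf.exists_germ_eq (pre Q) _).choose_spec.choose_spec.choose_spec

lemma gt_self {W : X.Opens} (hW : x ∈ W) (m : Sec P W) (n : Sec Q W) :
    gt P Q x hW hW m n = (pre (ptensor P Q)).germ W x hW (toSecT P Q (m ⊗ₜ n)) := by
  rw [gt_res P Q x hW hW hW le_rfl le_rfl, pmap_self, pmap_self]

lemma pairing_germ_self {W : X.Opens} (hW : x ∈ W) (m : Sec P W) (n : Sec Q W) :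
    pairing P Q x ((pre P).germ W x hW m) ((pre Q).germ W x hW n) =
      (pre (ptensor P Q)).germ W x hW (toSecT P Q (m ⊗ₜ n)) := by
  rw [pairing_germ, gt_self]

/-- common representatives -/
lemma exists_rep (r : X.presheaf.stalk x) (a a' : (pre P).stalk x) (c c' : (pre Q).stalk x) :
    ∃ (W : X.Opens) (hW : x ∈ W) (r₀ : Γ(X, W)) (m m' : Sec P W) (n n' : Sec Q W),
      X.presheaf.germ W x hW r₀ = r ∧ (pre P).germ W x hW m = a ∧ (pre P).germ W x hW m' = a' ∧
      (pre Q).germ W x hW n = c ∧ (pre Q).germ W x hW n' = c' := by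
  obtain ⟨U₀, h₀, r₀, rfl⟩ := TopCat.Presheaf.exists_germ_eq X.presheaf r
  obtain ⟨U₁, h₁, m, rfl⟩ := TopCat.Presheaf.exists_germ_eq (pre P) a
  obtain ⟨U₂, h₂, m', rfl⟩ := TopCat.Presheaf.exists_germ_eq (pre P) a'
  obtain ⟨U₃, h₃, n, rfl⟩ := TopCat.Presheaf.exists_germ_eq (pre Q) c
  obtain ⟨U₄, h₄, n', rfl⟩ := TopCat.Presheaf.exists_germ_eq (pre Q) c'
  let W : X.Opens := U₀ ⊓ U₁ ⊓ U₂ ⊓ U₃ ⊓ U₄
  have hW : x ∈ W := ⟨⟨⟨⟨h₀, h₁⟩, h₂⟩, h₃⟩, h₄⟩
  have l₀ : W ≤ U₀ := inf_le_left.trans (inf_le_left.trans (inf_le_left.trans inf_le_left))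
  have l₁ : W ≤ U₁ := inf_le_left.trans (inf_le_left.trans (inf_le_left.trans inf_le_right))
  have l₂ : W ≤ U₂ := inf_le_left.trans (inf_le_left.trans inf_le_right)
  have l₃ : W ≤ U₃ := inf_le_left.trans inf_le_right
  have l₄ : W ≤ U₄ := inf_le_right
  refine ⟨W, hW, X.presheaf.map (homOfLE l₀).op r₀, (pre P).map (homOfLE l₁).op m,
    (pre P).map (homOfLE l₂).op m', (pre Q).map (homOfLE l₃).op n,
    (pre Q).map (homOfLE l₄).op n', ?_, ?_, ?_, ?_, ?_⟩ <;>
  exact TopCat.Presheaf.germ_res_apply _ _ _ _ _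

lemma pairing_add_left (a a' : (pre P).stalk x) (c : (pre Q).stalk x) :
    pairing P Q x (a + a') c = pairing P Q x a c + pairing P Q x a' c := by
  obtain ⟨W, hW, r₀, m, m', n, n', -, rfl, rfl, rfl, -⟩ := exists_rep P Q x 0 a a' c 0
  rw [← map_add, pairing_germ_self, pairing_germ_self, pairing_germ_self, ← map_add]
  congr 1
  exact TensorProduct.add_tmul m m' n

lemma pairing_add_right (a : (pre P).stalk x) (c c' : (pre Q).stalk x) :
    pairing P Q x a (c + c') = pairing P Q x a c + pairing P Q x a c' := by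
  obtain ⟨W, hW, r₀, m, m', n, n', -, rfl, -, rfl, rfl⟩ := exists_rep P Q x 0 a 0 c c'
  rw [← map_add, pairing_germ_self, pairing_germ_self, pairing_germ_self, ← map_add]
  congr 1
  exact TensorProduct.tmul_add m n n'

lemma pairing_smul_left (r : X.presheaf.stalk x) (a : (pre P).stalk x) (c : (pre Q).stalk x) :
    pairing P Q x (r • a) c = r • pairing P Q x a c := by
  obtain ⟨W, hW, r₀, m, m', n, n', rfl, rfl, -, rfl, -⟩ := exists_rep P Q x r a 0 c 0
  rw [← germ_smul_pre, pairing_germ_self, pairing_germ_self, ← germ_smul_pre]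
  rfl

lemma pairing_smul_right (r : X.presheaf.stalk x) (a : (pre P).stalk x) (c : (pre Q).stalk x) :
    pairing P Q x a (r • c) = r • pairing P Q x a c := by
  obtain ⟨W, hW, r₀, m, m', n, n', rfl, rfl, -, rfl, -⟩ := exists_rep P Q x r a 0 c 0
  rw [← germ_smul_pre, pairing_germ_self, pairing_germ_self, ← germ_smul_pre]
  congr 1
  exact TensorProduct.tmul_smul r₀ m n

end Inverse

section Equiv

/-- the linear map from the tensor product of the stalks to the stalk of the presheaf tensor. -/
noncomputable def stalkTensorToStalk :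
    StalkTensor P Q x →ₗ[X.presheaf.stalk x] (pre (ptensor P Q)).stalk x :=
  TensorProduct.lift (LinearMap.mk₂ (X.presheaf.stalk x) (pairing P Q x) (pairing_add_left P Q x)
    (pairing_smul_left P Q x) (pairing_add_right P Q x) (pairing_smul_right P Q x))

lemma stalkTensorToStalk_tmul (a : (pre P).stalk x) (c : (pre Q).stalk x) :
    stalkTensorToStalk P Q x (a ⊗ₜ c) = pairing P Q x a c := rfl

lemma stalkTensorToStalk_germ {W : X.Opens} (hW : x ∈ W) (m : Sec P W) (n : Sec Q W) :
    stalkTensorToStalk P Q x ((pre P).germ W x hW m ⊗ₜ (pre Q).germ W x hW n) =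
      (pre (ptensor P Q)).germ W x hW (toSecT P Q (m ⊗ₜ n)) := by
  rw [stalkTensorToStalk_tmul, pairing_germ_self]

lemma stalkTensorToStalk_stalkToStalkTensor (s : (pre (ptensor P Q)).stalk x) :
    stalkTensorToStalk P Q x (stalkToStalkTensor P Q x s) = s := by
  obtain ⟨U, hU, t, rfl⟩ := TopCat.Presheaf.exists_germ_eq (pre (ptensor P Q)) s
  rw [stalkToStalkTensor_germ]
  induction t using secT_induction with
  | h0 => rw [map_zero, map_zero, map_zero]
  | ht m n => rw [secToStalkTensor_tmul, stalkTensorToStalk_germ]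
  | ha a b ha hb => rw [map_add, map_add, map_add, ha, hb]

lemma stalkToStalkTensor_stalkTensorToStalk (z : StalkTensor P Q x) :
    stalkToStalkTensor P Q x (stalkTensorToStalk P Q x z) = z := by
  induction z using TensorProduct.induction_on with
  | zero => rw [map_zero, map_zero]
  | tmul a c =>
    obtain ⟨W, hW, r₀, m, m', n, n', -, rfl, -, rfl, -⟩ := exists_rep P Q x 0 a 0 c 0
    rw [stalkTensorToStalk_germ, stalkToStalkTensor_germ, secToStalkTensor_tmul]
  | add a b ha hb => rw [map_add, map_add, ha, hb]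

/-- **The stalk of the presheaf tensor product is the tensor product of the stalks.** -/
noncomputable def stalkTensorEquivPre :
    StalkTensor P Q x ≃ₗ[X.presheaf.stalk x] (pre (ptensor P Q)).stalk x :=
  { stalkTensorToStalk P Q x with
    invFun := fun s => stalkToStalkTensor P Q x s
    left_inv := stalkToStalkTensor_stalkTensorToStalk P Q x
    right_inv := stalkTensorToStalk_stalkToStalkTensor P Q x }

lemma stalkTensorEquivPre_germ {W : X.Opens} (hW : x ∈ W) (m : Sec P W) (n : Sec Q W) :
    stalkTensorEquivPre P Q x ((pre P).germ W x hW m ⊗ₜ (pre Q).germ W x hW n) =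
      (pre (ptensor P Q)).germ W x hW (toSecT P Q (m ⊗ₜ n)) :=
  stalkTensorToStalk_germ P Q x hW m n

lemma stalkTensorEquivPre_symm_germ {W : X.Opens} (hW : x ∈ W) (m : Sec P W) (n : Sec Q W) :
    (stalkTensorEquivPre P Q x).symm ((pre (ptensor P Q)).germ W x hW (toSecT P Q (m ⊗ₜ n))) =
      (pre P).germ W x hW m ⊗ₜ (pre Q).germ W x hW n := by
  rw [← stalkTensorEquivPre_germ, LinearEquiv.symm_apply_apply]

/-- two additive maps out of the tensor product of the stalks which agree on pure tensors of germs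
are equal. -/
lemma stalkTensor_ext {A : Type*} [AddCommMonoid A] (f g : StalkTensor P Q x →+ A)
    (h : ∀ (W : X.Opens) (hW : x ∈ W) (m : Sec P W) (n : Sec Q W),
      f ((pre P).germ W x hW m ⊗ₜ (pre Q).germ W x hW n) =
        g ((pre P).germ W x hW m ⊗ₜ (pre Q).germ W x hW n)) : f = g := by
  ext z
  induction z using TensorProduct.induction_on with
  | zero => rw [map_zero, map_zero]
  | tmul a c =>
    obtain ⟨W, hW, r₀, m, m', n, n', -, rfl, -, rfl, -⟩ := exists_rep P Q x 0 a 0 c 0
    exact h W hW m n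
  | add a b ha hb => rw [map_add, map_add, ha, hb]

end Equiv

end Groth.Agent.Helper13.Tensor

namespace Groth.Agent.Helper13.Tensor

variable {X : Scheme.{u}} (M N : X.Modules)

theorem germ_smul (F : X.Modules) (U : X.Opens) (x : X) (hx : x ∈ U) (r : Γ(X, U)) (m : Γ(F, U)) :
    F.presheaf.germ U x hx (r • m) = X.presheaf.germ U x hx r • F.presheaf.germ U x hx m :=
  PresheafOfModules.germ_smul (R := X.presheaf)
    (show PresheafOfModules (X.presheaf ⋙ forget₂ CommRingCat RingCat) from F.val) x U hx r m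

/-- the sheafification unit for the presheaf tensor product. -/
noncomputable def η : CohB1.tensorPre M N ⟶ (CohB1.tensorMod M N).val :=
  (PresheafOfModules.sheafificationAdjunction (𝟙 X.ringCatSheaf.obj)).unit.app (CohB1.tensorPre M N)

/-- the underlying map of abelian presheaves of the sheafification unit. -/
noncomputable def ηpre : pre (CohB1.tensorPre M N) ⟶ (CohB1.tensorMod M N).presheaf :=
  (PresheafOfModules.toPresheaf _).map (η M N)

lemma ηpre_eq : ηpre M N =
    CategoryTheory.toSheafify (Opens.grothendieckTopology X) (pre (CohB1.tensorPre M N)) := rfl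

/-- elements of the tensor product of sections as sections of the presheaf tensor product. -/
def toSecT' {U : X.Opens} (t : Γ(M, U) ⊗[Γ(X, U)] Γ(N, U)) : Sec (CohB1.tensorPre M N) U := t

/-- pure tensors as sections of the tensor product sheaf. -/
noncomputable def tmul {U : X.Opens} (m : Γ(M, U)) (n : Γ(N, U)) : Γ(CohB1.tensorMod M N, U) :=
  (ηpre M N).app (op U) (toSecT' M N (m ⊗ₜ n))

instance (x : X) : IsIso ((TopCat.Presheaf.stalkFunctor Ab x).map (ηpre M N)) := by
  rw [ηpre_eq]
  exact TopCat.Presheaf.stalkFunctor_map_unit_toSheafify_isIso x Ab _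

lemma ηpre_app_smul {U : X.Opens} (r : Γ(X, U)) (t : Sec (CohB1.tensorPre M N) U) :
    (ηpre M N).app (op U) (r • t) = r • (ηpre M N).app (op U) t :=
  ((η M N).app (op U)).hom.map_smul r t

variable (x : X)

lemma exists_rep₂ (F : TopCat.Presheaf Ab X) (r : X.presheaf.stalk x) (s : F.stalk x) :
    ∃ (W : X.Opens) (hW : x ∈ W) (r₀ : Γ(X, W)) (t : F.obj (op W)),
      X.presheaf.germ W x hW r₀ = r ∧ F.germ W x hW t = s := by
  obtain ⟨U₀, h₀, r₀, rfl⟩ := TopCat.Presheaf.exists_germ_eq X.presheaf r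
  obtain ⟨U₁, h₁, t, rfl⟩ := TopCat.Presheaf.exists_germ_eq F s
  refine ⟨U₀ ⊓ U₁, ⟨h₀, h₁⟩, X.presheaf.map (homOfLE inf_le_left).op r₀,
    F.map (homOfLE inf_le_right).op t, ?_, ?_⟩ <;>
  exact TopCat.Presheaf.germ_res_apply _ _ _ _ _

/-- the map on stalks induced by the sheafification unit, as a linear map. -/
noncomputable def stalkη :
    (pre (CohB1.tensorPre M N)).stalk x →ₗ[X.presheaf.stalk x] (CohB1.tensorMod M N).presheaf.stalk x where
  toFun := (TopCat.Presheaf.stalkFunctor Ab x).map (ηpre M N)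
  map_add' := map_add _
  map_smul' := by
    intro r s
    obtain ⟨W, hW, r₀, t, rfl, rfl⟩ := exists_rep₂ x (pre (CohB1.tensorPre M N)) r s
    rw [← germ_smul_pre]
    erw [TopCat.Presheaf.stalkFunctor_map_germ_apply, TopCat.Presheaf.stalkFunctor_map_germ_apply]
    rw [ηpre_app_smul, germ_smul]
    rfl

lemma stalkη_germ {W : X.Opens} (hW : x ∈ W) (t : Sec (CohB1.tensorPre M N) W) :
    stalkη M N x ((pre (CohB1.tensorPre M N)).germ W x hW t) =
      (CohB1.tensorMod M N).presheaf.germ W x hW ((ηpre M N).app (op W) t) := by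
  change (TopCat.Presheaf.stalkFunctor Ab x).map (ηpre M N) _ = _
  exact TopCat.Presheaf.stalkFunctor_map_germ_apply W x hW (ηpre M N) t

lemma stalkη_bijective : Function.Bijective (stalkη M N x) := by
  have : IsIso ((TopCat.Presheaf.stalkFunctor Ab x).map (ηpre M N)) := inferInstance
  exact (ConcreteCategory.isIso_iff_bijective _).1 this

/-- **The stalk of the tensor product is the tensor product of the stalks.** -/
noncomputable def stalkTensorEquiv :
    (M.presheaf.stalk x ⊗[X.presheaf.stalk x] N.presheaf.stalk x) ≃ₗ[X.presheaf.stalk x]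
      (CohB1.tensorMod M N).presheaf.stalk x :=
  (stalkTensorEquivPre (CohB1.toPMod M) (CohB1.toPMod N) x).trans
    (LinearEquiv.ofBijective (stalkη M N x) (stalkη_bijective M N x))

lemma stalkTensorEquiv_germ {W : X.Opens} (hW : x ∈ W) (m : Γ(M, W)) (n : Γ(N, W)) :
    stalkTensorEquiv M N x (M.presheaf.germ W x hW m ⊗ₜ N.presheaf.germ W x hW n) =
      (CohB1.tensorMod M N).presheaf.germ W x hW (tmul M N m n) := by
  change stalkη M N x (stalkTensorEquivPre (CohB1.toPMod M) (CohB1.toPMod N) x _) = _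
  erw [stalkTensorEquivPre_germ (CohB1.toPMod M) (CohB1.toPMod N) x hW m n, stalkη_germ]
  rfl

/-- two additive maps out of the tensor product of the stalks which agree on pure tensors of germs
are equal. -/
lemma stalkTensor_ext' {A : Type*} [AddCommMonoid A]
    (f g : (M.presheaf.stalk x ⊗[X.presheaf.stalk x] N.presheaf.stalk x) →+ A)
    (h : ∀ (W : X.Opens) (hW : x ∈ W) (m : Γ(M, W)) (n : Γ(N, W)),
      f (M.presheaf.germ W x hW m ⊗ₜ N.presheaf.germ W x hW n) =
        g (M.presheaf.germ W x hW m ⊗ₜ N.presheaf.germ W x hW n)) : f = g :=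
  stalkTensor_ext (CohB1.toPMod M) (CohB1.toPMod N) x f g h

/-- every element of the stalk of the tensor product is a sum of germs of pure tensors; induction
principle. -/
lemma stalk_tensorMod_induction {p : (CohB1.tensorMod M N).presheaf.stalk x → Prop}
    (h0 : p 0)
    (ht : ∀ (W : X.Opens) (hW : x ∈ W) (m : Γ(M, W)) (n : Γ(N, W)),
      p ((CohB1.tensorMod M N).presheaf.germ W x hW (tmul M N m n)))
    (ha : ∀ a b, p a → p b → p (a + b)) (s : (CohB1.tensorMod M N).presheaf.stalk x) : p s := by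
  obtain ⟨z, rfl⟩ := (stalkTensorEquiv M N x).surjective s
  induction z using TensorProduct.induction_on with
  | zero => rw [map_zero]; exact h0
  | tmul a c =>
    obtain ⟨W, hW, r₀, m, m', n, n', -, rfl, -, rfl, -⟩ :=
      exists_rep (CohB1.toPMod M) (CohB1.toPMod N) x 0 a 0 c 0
    have := stalkTensorEquiv_germ M N x hW m n
    erw [this]
    exact ht W hW m n
  | add a b ha' hb' => rw [map_add]; exact ha _ _ ha' hb'

end Groth.Agent.Helper13.Tensor
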