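import Mathlib
import Groth.Agent.Lib.Helper13.TensorStalk

set_option autoImplicit false
universe u
open CategoryTheory CategoryTheory.Limits AlgebraicGeometry Opposite TopologicalSpace MonoidalCategory TensorProduct

namespace Groth.Agent.Helper13.Tensor

variable {X : Scheme.{u}}

/-- the sheafification adjunction for `O_X`-modules -/
noncomputable abbrev shAdj (X : Scheme.{u}) := PresheafOfModules.sheafificationAdjunction (𝟙 X.ringCatSheaf.obj)


section Tmul

variable (M N : X.Modules)

lemma tmul_add_left {U : X.Opens} (m m' : Γ(M, U)) (n : Γ(N, U)) :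
    tmul M N (m + m') n = tmul M N m n + tmul M N m' n := by
  unfold tmul
  rw [TensorProduct.add_tmul]
  exact map_add _ _ _

lemma tmul_add_right {U : X.Opens} (m : Γ(M, U)) (n n' : Γ(N, U)) :
    tmul M N m (n + n') = tmul M N m n + tmul M N m n' := by
  unfold tmul
  rw [TensorProduct.tmul_add]
  exact map_add _ _ _

lemma tmul_smul_left {U : X.Opens} (r : Γ(X, U)) (m : Γ(M, U)) (n : Γ(N, U)) :
    tmul M N (r • m) n = r • tmul M N m n := by
  unfold tmul
  rw [← TensorProduct.smul_tmul']
  exact ηpre_app_smul M N r _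

lemma tmul_smul_right {U : X.Opens} (r : Γ(X, U)) (m : Γ(M, U)) (n : Γ(N, U)) :
    tmul M N m (r • n) = r • tmul M N m n := by
  unfold tmul
  rw [TensorProduct.tmul_smul]
  exact ηpre_app_smul M N r _

/-- `tmul` as a bilinear map. -/
noncomputable def tmulBilin (U : X.Opens) :
    Γ(M, U) →ₗ[Γ(X, U)] Γ(N, U) →ₗ[Γ(X, U)] Γ(CohB1.tensorMod M N, U) :=
  LinearMap.mk₂ Γ(X, U) (tmul M N) (tmul_add_left M N) (tmul_smul_left M N) (tmul_add_right M N)
    (tmul_smul_right M N)

@[simp] lemma tmulBilin_apply (U : X.Opens) (m : Γ(M, U)) (n : Γ(N, U)) :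
    tmulBilin M N U m n = tmul M N m n := rfl

lemma tmul_res {U V : X.Opens} (i : V ⟶ U) (m : Γ(M, U)) (n : Γ(N, U)) :
    (CohB1.tensorMod M N).presheaf.map i.op (tmul M N m n) =
      tmul M N (M.presheaf.map i.op m) (N.presheaf.map i.op n) := by
  have := congr($((ηpre M N).naturality i.op) (toSecT' M N (m ⊗ₜ n)))
  exact this.symm

end Tmul

section Map

variable {M M' M'' N N' N'' : X.Modules}

/-- the presheaf-level tensor product of two morphisms. -/
noncomputable def preMap (f : M ⟶ M') (g : N ⟶ N') : CohB1.tensorPre M N ⟶ CohB1.tensorPre M' N' :=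
  (show CohB1.toPMod M ⟶ CohB1.toPMod M' from f.val) ⊗ₘ (show CohB1.toPMod N ⟶ CohB1.toPMod N' from g.val)

lemma preMap_app_tmul (f : M ⟶ M') (g : N ⟶ N') {U : X.Opens} (m : Γ(M, U)) (n : Γ(N, U)) :
    (preMap f g).app (op U) (toSecT' M N (m ⊗ₜ n)) = toSecT' M' N' (f.app U m ⊗ₜ g.app U n) := rfl

/-- functoriality of the tensor product of modules. -/
noncomputable def map (f : M ⟶ M') (g : N ⟶ N') : CohB1.tensorMod M N ⟶ CohB1.tensorMod M' N' :=
  (CohB1.sheafifyMod X).map (preMap f g)

lemma η_naturality (f : M ⟶ M') (g : N ⟶ N') :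
    η M N ≫ (map f g).val = preMap f g ≫ η M' N' :=
  ((shAdj X).unit.naturality (preMap f g)).symm

lemma map_app_tmul (f : M ⟶ M') (g : N ⟶ N') {U : X.Opens} (m : Γ(M, U)) (n : Γ(N, U)) :
    (map f g).app U (tmul M N m n) = tmul M' N' (f.app U m) (g.app U n) := by
  have := congr($(η_naturality f g).app (op U) (toSecT' M N (m ⊗ₜ n)))
  exact this

lemma map_id : map (𝟙 M) (𝟙 N) = 𝟙 (CohB1.tensorMod M N) := by
  unfold map preMap
  erw [MonoidalCategory.id_tensorHom_id]
  exact (CohB1.sheafifyMod X).map_id _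

lemma map_comp (f : M ⟶ M') (f' : M' ⟶ M'') (g : N ⟶ N') (g' : N' ⟶ N'') :
    map (f ≫ f') (g ≫ g') = map f g ≫ map f' g' := by
  have h : preMap (f ≫ f') (g ≫ g') = preMap f g ≫ preMap f' g' :=
    (MonoidalCategory.tensorHom_comp_tensorHom _ _ _ _).symm
  unfold map
  rw [h]
  exact (CohB1.sheafifyMod X).map_comp _ _

/-- the tensor product of two isomorphisms. -/
noncomputable def mapIso (e : M ≅ M') (e' : N ≅ N') : CohB1.tensorMod M N ≅ CohB1.tensorMod M' N' where
  hom := map e.hom e'.hom
  inv := map e.inv e'.inv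
  hom_inv_id := by rw [← map_comp, e.hom_inv_id, e'.hom_inv_id, map_id]
  inv_hom_id := by rw [← map_comp, e.inv_hom_id, e'.inv_hom_id, map_id]

end Map


section Desc

variable {M N P : X.Modules}

/-- maps out of the tensor product from maps out of the presheaf tensor product. -/
noncomputable def desc (φ : CohB1.tensorPre M N ⟶ P.val) : CohB1.tensorMod M N ⟶ P :=
  ((shAdj X).homEquiv (CohB1.tensorPre M N) P).symm φ

lemma η_desc (φ : CohB1.tensorPre M N ⟶ P.val) : η M N ≫ (desc φ).val = φ := by
  have := (shAdj X).homEquiv_unit (X := CohB1.tensorPre M N) (Y := P) (f := desc φ)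
  unfold desc at this ⊢
  rw [Equiv.apply_symm_apply] at this
  exact this.symm

lemma desc_app_tmul (φ : CohB1.tensorPre M N ⟶ P.val) {U : X.Opens} (m : Γ(M, U)) (n : Γ(N, U)) :
    (desc φ).app U (tmul M N m n) = φ.app (op U) (toSecT' M N (m ⊗ₜ n)) :=
  congr($(η_desc φ).app (op U) (toSecT' M N (m ⊗ₜ n)))

lemma pre_hom_ext {Q : CohB1.PMod X} (φ ψ : CohB1.tensorPre M N ⟶ Q)
    (h : ∀ (U : X.Opens) (m : Γ(M, U)) (n : Γ(N, U)),
      φ.app (op U) (toSecT' M N (m ⊗ₜ n)) = ψ.app (op U) (toSecT' M N (m ⊗ₜ n))) : φ = ψ := by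
  ext U t
  induction U using Opposite.rec with | op U => ?_
  induction t using secT_induction (CohB1.toPMod M) (CohB1.toPMod N) with
  | h0 => exact ((φ.app (op U)).hom.map_zero).trans ((ψ.app (op U)).hom.map_zero).symm
  | ht m n => exact h U m n
  | ha a b ha hb =>
    exact ((φ.app (op U)).hom.map_add a b).trans
      ((congrArg₂ (· + ·) ha hb).trans ((ψ.app (op U)).hom.map_add a b).symm)

/-- two maps out of the tensor product agreeing on pure tensors are equal. -/
lemma hom_ext (f g : CohB1.tensorMod M N ⟶ P)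
    (h : ∀ (U : X.Opens) (m : Γ(M, U)) (n : Γ(N, U)),
      f.app U (tmul M N m n) = g.app U (tmul M N m n)) : f = g := by
  apply ((shAdj X).homEquiv (CohB1.tensorPre M N) P).injective
  rw [Adjunction.homEquiv_unit, Adjunction.homEquiv_unit]
  exact pre_hom_ext _ _ h

end Desc


section Bilin

variable {M N P : X.Modules}

/-- a compatible family of bilinear maps on sections. -/
structure BilinFamily (M N P : X.Modules) where
  /-- the bilinear maps -/
  β : ∀ U : X.Opens, Γ(M, U) →ₗ[Γ(X, U)] Γ(N, U) →ₗ[Γ(X, U)] Γ(P, U)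
  /-- compatibility with restriction -/
  res : ∀ {U V : X.Opens} (i : V ⟶ U) (m : Γ(M, U)) (n : Γ(N, U)),
    P.presheaf.map i.op (β U m n) = β V (M.presheaf.map i.op m) (N.presheaf.map i.op n)

/-- the map of abelian presheaves attached to a bilinear family. -/
noncomputable def BilinFamily.preHom (b : BilinFamily M N P) :
    pre (CohB1.tensorPre M N) ⟶ P.presheaf where
  app U := AddCommGrpCat.ofHom (show Sec (CohB1.tensorPre M N) U.unop →+ Γ(P, U.unop) from
    (TensorProduct.lift (b.β U.unop)).toAddMonoidHom)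
  naturality U V i := by
    induction U using Opposite.rec with | op U => ?_
    induction V using Opposite.rec with | op V => ?_
    ext t
    induction t using secT_induction (CohB1.toPMod M) (CohB1.toPMod N) with
    | h0 => exact (map_zero _).trans (map_zero _).symm
    | ht m n =>
      have := (b.res i.unop m n).symm
      exact this
    | ha a c ha hc => exact (map_add _ a c).trans ((congrArg₂ (· + ·) ha hc).trans (map_add _ a c).symm)

/-- the map of presheaves of modules attached to a bilinear family. -/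
noncomputable def BilinFamily.pHom (b : BilinFamily M N P) : CohB1.tensorPre M N ⟶ P.val :=
  PresheafOfModules.homMk (M₁ := CohB1.tensorPre M N) (M₂ := P.val) b.preHom (by
    intro U r t
    induction U using Opposite.rec with | op U => ?_
    exact (TensorProduct.lift (b.β U)).map_smul r t)

/-- the map out of the tensor product attached to a bilinear family. -/
noncomputable def BilinFamily.hom (b : BilinFamily M N P) : CohB1.tensorMod M N ⟶ P :=
  desc b.pHom

lemma BilinFamily.hom_app_tmul (b : BilinFamily M N P) {U : X.Opens} (m : Γ(M, U)) (n : Γ(N, U)) :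
    b.hom.app U (tmul M N m n) = b.β U m n := by
  unfold BilinFamily.hom
  rw [desc_app_tmul]
  rfl

end Bilin

end Groth.Agent.Helper13.Tensor
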