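import Mathlib
import Groth.Agent.Lib.Helper13.TensorMap
import Groth.Agent.Lib.Helper13.EpiGen
import Groth.Agent.Lib.Helper13.LocFree
import Groth.Agent.Lib.Helper13.WeakAss

set_option autoImplicit false
universe u
open CategoryTheory CategoryTheory.Limits AlgebraicGeometry Opposite TopologicalSpace MonoidalCategory TensorProduct
open Groth.Agent.Helper13.QCoh Groth.Agent.Helper13.FinType

namespace Groth.Agent.Helper13.Tensor

variable {X : Scheme.{u}}

section StalkNat

variable {M M' N N' P : X.Modules}

/-- the map on stalks induced by a map out of a tensor product, in terms of `stalkTensorEquiv`. -/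
lemma stalkMap_stalkTensorEquiv_germ (φ : CohB1.tensorMod M N ⟶ P) (x : X) {W : X.Opens} (hW : x ∈ W)
    (m : Γ(M, W)) (n : Γ(N, W)) :
    stalkMap φ x (stalkTensorEquiv M N x (M.presheaf.germ W x hW m ⊗ₜ N.presheaf.germ W x hW n)) =
      P.presheaf.germ W x hW (φ.app W (tmul M N m n)) := by
  rw [stalkTensorEquiv_germ, stalkMap_germ]

lemma stalkMap_map (f : M ⟶ M') (g : N ⟶ N') (x : X)
    (z : M.presheaf.stalk x ⊗[X.presheaf.stalk x] N.presheaf.stalk x) :
    stalkMap (map f g) x (stalkTensorEquiv M N x z) =
      stalkTensorEquiv M' N' x (TensorProduct.map (stalkLinearMap f x) (stalkLinearMap g x) z) := by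
  have := stalkTensor_ext' M N x
    (((stalkLinearMap (map f g) x).comp (stalkTensorEquiv M N x).toLinearMap).toAddMonoidHom)
    (((stalkTensorEquiv M' N' x).toLinearMap.comp
      (TensorProduct.map (stalkLinearMap f x) (stalkLinearMap g x))).toAddMonoidHom) ?_
  · exact congr($this z)
  · intro W hW m n
    change stalkMap (map f g) x (stalkTensorEquiv M N x _) = stalkTensorEquiv M' N' x _
    rw [stalkMap_stalkTensorEquiv_germ, map_app_tmul, TensorProduct.map_tmul, stalkLinearMap_apply,
      stalkLinearMap_apply, stalkMap_germ, stalkMap_germ, stalkTensorEquiv_germ]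

/-- a map out of a tensor product is an isomorphism if it is so on stalks. -/
lemma isIso_of_stalkTensor (φ : CohB1.tensorMod M N ⟶ P)
    (h : ∀ x : X, Function.Bijective
      ((stalkLinearMap φ x).comp (stalkTensorEquiv M N x).toLinearMap)) : IsIso φ := by
  apply Groth.Agent.Helper13.LocFree.isIso_of_stalk_bijective
  intro x
  have := (h x).comp (stalkTensorEquiv M N x).symm.bijective
  convert this using 1
  ext s
  simp

end StalkNat


section Unit

variable (M N : X.Modules)

/-- the bilinear family defining the left unitor. -/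
noncomputable def lidFamily : BilinFamily (Coh.structureModule X) M M where
  β U := show Γ(Coh.structureModule X, U) →ₗ[Γ(X, U)] Γ(M, U) →ₗ[Γ(X, U)] Γ(M, U) from
    LinearMap.lsmul Γ(X, U) Γ(M, U)
  res i r m := M.map_smul i r m

/-- the left unitor map `O ⊗ M ⟶ M`. -/
noncomputable def lidHom : CohB1.tensorMod (Coh.structureModule X) M ⟶ M := (lidFamily M).hom

lemma lidHom_app_tmul {U : X.Opens} (r : Γ(Coh.structureModule X, U)) (m : Γ(M, U)) :
    (lidHom M).app U (tmul _ M r m) = (show Γ(X, U) from r) • m :=
  (lidFamily M).hom_app_tmul r m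

instance : IsIso (lidHom M) := by
  apply isIso_of_stalkTensor
  intro x
  have : (stalkLinearMap (lidHom M) x).comp (stalkTensorEquiv (Coh.structureModule X) M x).toLinearMap
      = (TensorProduct.lid (X.presheaf.stalk x) (M.presheaf.stalk x)).toLinearMap.comp
        (TensorProduct.map (Groth.Agent.Helper13.WeakAss.unitStalkEquiv x).toLinearMap LinearMap.id) := by
    apply LinearMap.toAddMonoidHom_injective
    apply stalkTensor_ext' _ M x
    intro W hW r m
    change stalkMap (lidHom M) x (stalkTensorEquiv _ M x _) = _
    rw [stalkMap_stalkTensorEquiv_germ, lidHom_app_tmul, germ_smul]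
    change _ = TensorProduct.lid (X.presheaf.stalk x) (M.presheaf.stalk x)
      (TensorProduct.map (Groth.Agent.Helper13.WeakAss.unitStalkEquiv x).toLinearMap LinearMap.id
        ((Coh.structureModule X).presheaf.germ W x hW r ⊗ₜ M.presheaf.germ W x hW m))
    rw [TensorProduct.map_tmul, TensorProduct.lid_tmul]
    congr 1
    exact (Groth.Agent.Helper13.WeakAss.unitStalkEquiv_germ x W hW r).symm
  rw [this]
  exact (TensorProduct.lid _ _).bijective.comp
    ((TensorProduct.congr (Groth.Agent.Helper13.WeakAss.unitStalkEquiv x)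
      (LinearEquiv.refl _ _)).bijective)

/-- the left unitor `O ⊗ M ≅ M`. -/
noncomputable def lid : CohB1.tensorMod (Coh.structureModule X) M ≅ M := asIso (lidHom M)

end Unit

section Braiding

variable (M N : X.Modules)

/-- the bilinear family defining the braiding. -/
noncomputable def braidFamily : BilinFamily M N (CohB1.tensorMod N M) where
  β U := (tmulBilin N M U).flip
  res i m n := tmul_res N M i n m

/-- the braiding map `M ⊗ N ⟶ N ⊗ M`. -/
noncomputable def braidHom : CohB1.tensorMod M N ⟶ CohB1.tensorMod N M := (braidFamily M N).hom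

lemma braidHom_app_tmul {U : X.Opens} (m : Γ(M, U)) (n : Γ(N, U)) :
    (braidHom M N).app U (tmul M N m n) = tmul N M n m :=
  (braidFamily M N).hom_app_tmul m n

lemma braidHom_braidHom : braidHom M N ≫ braidHom N M = 𝟙 _ := by
  apply hom_ext
  intro U m n
  rw [Scheme.Modules.Hom.comp_app, ConcreteCategory.comp_apply, braidHom_app_tmul, braidHom_app_tmul]
  rfl

/-- the braiding `M ⊗ N ≅ N ⊗ M`. -/
noncomputable def braid : CohB1.tensorMod M N ≅ CohB1.tensorMod N M where
  hom := braidHom M N
  inv := braidHom N M
  hom_inv_id := braidHom_braidHom M N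
  inv_hom_id := braidHom_braidHom N M

/-- the right unitor `M ⊗ O ≅ M`. -/
noncomputable def rid : CohB1.tensorMod M (Coh.structureModule X) ≅ M := braid _ _ ≪≫ lid M

lemma rid_hom_app_tmul {U : X.Opens} (m : Γ(M, U)) (r : Γ(Coh.structureModule X, U)) :
    (rid M).hom.app U (tmul M _ m r) = (show Γ(X, U) from r) • m := by
  have h1 : (rid M).hom = braidHom M (Coh.structureModule X) ≫ lidHom M := rfl
  rw [h1, Scheme.Modules.Hom.comp_app, ConcreteCategory.comp_apply, braidHom_app_tmul]
  exact lidHom_app_tmul M r m

end Braiding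

end Groth.Agent.Helper13.Tensor
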