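import Mathlib
import Groth.Agent.Lib.Helper13.TensorUnit

set_option autoImplicit false
universe u
open CategoryTheory CategoryTheory.Limits AlgebraicGeometry Opposite TopologicalSpace MonoidalCategory TensorProduct
open Groth.Agent.Helper13.QCoh Groth.Agent.Helper13.FinType

namespace Groth.Agent.Helper13.Tensor

variable {X : Scheme.{u}}

section General

/-- the sheafification unit for a presheaf of modules -/
noncomputable def ηP (R : CohB1.PMod X) : R ⟶ ((CohB1.sheafifyMod X).obj R).val :=
  (shAdj X).unit.app R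

/-- the underlying map of abelian presheaves of the sheafification unit. -/
noncomputable def ηPpre (R : CohB1.PMod X) : pre R ⟶ ((CohB1.sheafifyMod X).obj R).presheaf :=
  (PresheafOfModules.toPresheaf _).map (ηP R)

lemma ηPpre_eq (R : CohB1.PMod X) : ηPpre R =
    CategoryTheory.toSheafify (Opens.grothendieckTopology X) (pre R) := rfl

instance (R : CohB1.PMod X) (x : X) : IsIso ((TopCat.Presheaf.stalkFunctor Ab x).map (ηPpre R)) := by
  rw [ηPpre_eq]
  exact TopCat.Presheaf.stalkFunctor_map_unit_toSheafify_isIso x Ab _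

lemma ηPpre_app_smul (R : CohB1.PMod X) {U : X.Opens} (r : Γ(X, U)) (t : Sec R U) :
    (ηPpre R).app (op U) (r • t) = r • (ηPpre R).app (op U) t :=
  ((ηP R).app (op U)).hom.map_smul r t

/-- the map on stalks induced by a morphism of presheaves of modules, as a linear map. -/
noncomputable def stalkLinP {R R' : CohB1.PMod X} (g : R ⟶ R') (x : X) :
    (pre R).stalk x →ₗ[X.presheaf.stalk x] (pre R').stalk x where
  toFun := (TopCat.Presheaf.stalkFunctor Ab x).map ((PresheafOfModules.toPresheaf _).map g)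
  map_add' := map_add _
  map_smul' := by
    intro r s
    obtain ⟨W, hW, r₀, t, rfl, rfl⟩ := exists_rep₂ x (pre R) r s
    rw [← germ_smul_pre]
    erw [TopCat.Presheaf.stalkFunctor_map_germ_apply, TopCat.Presheaf.stalkFunctor_map_germ_apply]
    erw [(g.app (op W)).hom.map_smul r₀ t]
    exact germ_smul_pre R' W x hW r₀ _

lemma stalkLinP_germ {R R' : CohB1.PMod X} (g : R ⟶ R') (x : X) {W : X.Opens} (hW : x ∈ W)
    (t : Sec R W) :
    stalkLinP g x ((pre R).germ W x hW t) = (pre R').germ W x hW (g.app (op W) t) := by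
  change (TopCat.Presheaf.stalkFunctor Ab x).map ((PresheafOfModules.toPresheaf _).map g) _ = _
  exact TopCat.Presheaf.stalkFunctor_map_germ_apply W x hW _ t

end General


section General2

variable (R : CohB1.PMod X) (x : X)

lemma stalkLinP_ηP_bijective : Function.Bijective (stalkLinP (ηP R) x) := by
  have : IsIso ((TopCat.Presheaf.stalkFunctor Ab x).map (ηPpre R)) := inferInstance
  exact (ConcreteCategory.isIso_iff_bijective _).1 this

/-- the stalk of the sheafification is the stalk of the presheaf. -/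
noncomputable def stalkηP :
    (pre R).stalk x ≃ₗ[X.presheaf.stalk x] ((CohB1.sheafifyMod X).obj R).presheaf.stalk x :=
  LinearEquiv.ofBijective
    (show (pre R).stalk x →ₗ[X.presheaf.stalk x] ((CohB1.sheafifyMod X).obj R).presheaf.stalk x from
      stalkLinP (ηP R) x) (stalkLinP_ηP_bijective R x)

lemma stalkηP_germ {W : X.Opens} (hW : x ∈ W) (t : Sec R W) :
    stalkηP R x ((pre R).germ W x hW t) =
      ((CohB1.sheafifyMod X).obj R).presheaf.germ W x hW ((ηPpre R).app (op W) t) :=
  stalkLinP_germ (ηP R) x hW t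

variable {R} in
lemma stalkMap_sheafifyMap {R' : CohB1.PMod X} (g : R ⟶ R') (s : (pre R).stalk x) :
    stalkMap ((CohB1.sheafifyMod X).map g) x (stalkηP R x s) = stalkηP R' x (stalkLinP g x s) := by
  obtain ⟨W, hW, t, rfl⟩ := TopCat.Presheaf.exists_germ_eq (pre R) s
  rw [stalkηP_germ, stalkMap_germ, stalkLinP_germ, stalkηP_germ]
  congr 1
  have := (shAdj X).unit.naturality g
  exact congr($(this).app (op W) t).symm

end General2

section TensorNat

variable {P P' Q Q' : CohB1.PMod X} (f : P ⟶ P') (g : Q ⟶ Q') (x : X)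

lemma stalkTensorEquivPre_natural (z : StalkTensor P Q x) :
    stalkLinP (f ⊗ₘ g) x (stalkTensorEquivPre P Q x z) =
      stalkTensorEquivPre P' Q' x (TensorProduct.map (stalkLinP f x) (stalkLinP g x) z) := by
  have := stalkTensor_ext P Q x
    (((stalkLinP (f ⊗ₘ g) x).comp (stalkTensorEquivPre P Q x).toLinearMap).toAddMonoidHom)
    (((stalkTensorEquivPre P' Q' x).toLinearMap.comp
      (TensorProduct.map (stalkLinP f x) (stalkLinP g x))).toAddMonoidHom) ?_
  · exact congr($this z)
  · intro W hW m n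
    simp only [LinearMap.toAddMonoidHom_coe, LinearMap.comp_apply, LinearEquiv.coe_coe]
    rw [stalkTensorEquivPre_germ, stalkLinP_germ, TensorProduct.map_tmul, stalkLinP_germ,
      stalkLinP_germ, stalkTensorEquivPre_germ]
    rfl

end TensorNat


section Assoc

variable (L M N : X.Modules)

/-- sheafification of a presheaf of modules (in `PMod` form) -/
noncomputable abbrev shf (R : CohB1.PMod X) : X.Modules := (CohB1.sheafifyMod X).obj R

/-- sheafification of a morphism of presheaves of modules (in `PMod` form) -/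
noncomputable abbrev shfMap {R R' : CohB1.PMod X} (g : R ⟶ R') : shf R ⟶ shf R' :=
  (CohB1.sheafifyMod X).map g

/-- sheafification of an isomorphism of presheaves of modules (in `PMod` form) -/
noncomputable abbrev shfIso {R R' : CohB1.PMod X} (g : R ≅ R') : shf R ≅ shf R' :=
  (CohB1.sheafifyMod X).mapIso g

lemma stalkLinP_id (R : CohB1.PMod X) (x : X) : stalkLinP (𝟙 R) x = LinearMap.id := by
  ext s
  obtain ⟨W, hW, t, rfl⟩ := TopCat.Presheaf.exists_germ_eq (pre R) s
  rw [stalkLinP_germ]
  rfl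

lemma bijective_tensorMap {A : Type*} [CommRing A] {M₁ M₂ N₁ N₂ : Type*} [AddCommGroup M₁]
    [AddCommGroup M₂] [AddCommGroup N₁] [AddCommGroup N₂] [Module A M₁] [Module A M₂]
    [Module A N₁] [Module A N₂] (f : M₁ →ₗ[A] M₂) (g : N₁ →ₗ[A] N₂)
    (hf : Function.Bijective f) (hg : Function.Bijective g) :
    Function.Bijective (TensorProduct.map f g) :=
  (TensorProduct.congr (LinearEquiv.ofBijective f hf) (LinearEquiv.ofBijective g hg)).bijective

/-- sheafification of a tensor product of morphisms of presheaves which are bijective on stalks is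
an isomorphism. -/
lemma isIso_sheafify_tensorHom {P P' Q Q' : CohB1.PMod X} (f : P ⟶ P') (g : Q ⟶ Q')
    (hf : ∀ x, Function.Bijective (stalkLinP f x)) (hg : ∀ x, Function.Bijective (stalkLinP g x)) :
    IsIso (shfMap (f ⊗ₘ g)) := by
  apply Groth.Agent.Helper13.LocFree.isIso_of_stalk_bijective
  intro x
  have h1 : Function.Bijective (fun s => stalkMap (shfMap (f ⊗ₘ g)) x
      (stalkηP (P ⊗ Q) x (stalkTensorEquivPre P Q x s))) := by
    have : (fun s => stalkMap (shfMap (f ⊗ₘ g)) x
        (stalkηP (P ⊗ Q) x (stalkTensorEquivPre P Q x s))) =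
        fun s => stalkηP (P' ⊗ Q') x (stalkTensorEquivPre P' Q' x
          (TensorProduct.map (stalkLinP f x) (stalkLinP g x) s)) := by
      funext s
      rw [stalkMap_sheafifyMap, stalkTensorEquivPre_natural]
    rw [this]
    exact (stalkηP (P' ⊗ Q') x).bijective.comp ((stalkTensorEquivPre P' Q' x).bijective.comp
      (bijective_tensorMap _ _ (hf x) (hg x)))
  have h2 := h1.comp ((stalkTensorEquivPre P Q x).symm.bijective.comp
    (stalkηP (P ⊗ Q) x).symm.bijective)
  convert h2 using 1
  funext s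
  simp

/-- first comparison map for the associator -/
noncomputable def assocA :
    shf ((CohB1.toPMod L ⊗ CohB1.toPMod M) ⊗ CohB1.toPMod N) ⟶
      CohB1.tensorMod (CohB1.tensorMod L M) N :=
  shfMap
    ((show CohB1.toPMod L ⊗ CohB1.toPMod M ⟶ CohB1.toPMod (CohB1.tensorMod L M) from η L M) ⊗ₘ
      𝟙 (CohB1.toPMod N))

instance : IsIso (assocA L M N) := by
  apply isIso_sheafify_tensorHom
  · intro x
    exact stalkLinP_ηP_bijective (CohB1.tensorPre L M) x
  · intro x
    rw [stalkLinP_id]
    exact Function.bijective_id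

/-- second comparison map for the associator -/
noncomputable def assocB :
    shf (CohB1.toPMod L ⊗ (CohB1.toPMod M ⊗ CohB1.toPMod N)) ⟶
      CohB1.tensorMod L (CohB1.tensorMod M N) :=
  shfMap
    (𝟙 (CohB1.toPMod L) ⊗ₘ
      (show CohB1.toPMod M ⊗ CohB1.toPMod N ⟶ CohB1.toPMod (CohB1.tensorMod M N) from η M N))

instance : IsIso (assocB L M N) := by
  apply isIso_sheafify_tensorHom
  · intro x
    rw [stalkLinP_id]
    exact Function.bijective_id
  · intro x
    exact stalkLinP_ηP_bijective (CohB1.tensorPre M N) x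

/-- **The associator** `(L ⊗ M) ⊗ N ≅ L ⊗ (M ⊗ N)`. -/
noncomputable def assoc :
    CohB1.tensorMod (CohB1.tensorMod L M) N ≅ CohB1.tensorMod L (CohB1.tensorMod M N) :=
  (asIso (assocA L M N)).symm ≪≫
    shfIso (α_ (CohB1.toPMod L) (CohB1.toPMod M) (CohB1.toPMod N)) ≪≫
    asIso (assocB L M N)

end Assoc


section AssocFormula

variable (L M N : X.Modules)

lemma shfMap_app_ηP {R R' : CohB1.PMod X} (g : R ⟶ R') {U : X.Opens} (t : Sec R U) :
    (shfMap g).app U ((ηPpre R).app (op U) t) = (ηPpre R').app (op U) (g.app (op U) t) := by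
  have := (shAdj X).unit.naturality g
  exact congr($(this).app (op U) t).symm

/-- triple pure tensors `(l ⊗ m) ⊗ n` as sections of the presheaf triple tensor product. -/
noncomputable def tmul₃ {U : X.Opens} (l : Γ(L, U)) (m : Γ(M, U)) (n : Γ(N, U)) :
    Sec ((CohB1.toPMod L ⊗ CohB1.toPMod M) ⊗ CohB1.toPMod N) U :=
  toSecT (CohB1.toPMod L ⊗ CohB1.toPMod M) (CohB1.toPMod N)
    ((toSecT (CohB1.toPMod L) (CohB1.toPMod M) (l ⊗ₜ m)) ⊗ₜ n)

/-- triple pure tensors `l ⊗ (m ⊗ n)` as sections of the presheaf triple tensor product. -/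
noncomputable def tmul₃' {U : X.Opens} (l : Γ(L, U)) (m : Γ(M, U)) (n : Γ(N, U)) :
    Sec (CohB1.toPMod L ⊗ (CohB1.toPMod M ⊗ CohB1.toPMod N)) U :=
  toSecT (CohB1.toPMod L) (CohB1.toPMod M ⊗ CohB1.toPMod N)
    (l ⊗ₜ (toSecT (CohB1.toPMod M) (CohB1.toPMod N) (m ⊗ₜ n)))

lemma assocA_app {U : X.Opens} (l : Γ(L, U)) (m : Γ(M, U)) (n : Γ(N, U)) :
    (assocA L M N).app U ((ηPpre _).app (op U) (tmul₃ L M N l m n)) =
      tmul _ N (tmul L M l m) n :=
  shfMap_app_ηP _ _

lemma assocB_app {U : X.Opens} (l : Γ(L, U)) (m : Γ(M, U)) (n : Γ(N, U)) :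
    (assocB L M N).app U ((ηPpre _).app (op U) (tmul₃' L M N l m n)) =
      tmul L _ l (tmul M N m n) :=
  shfMap_app_ηP _ _

lemma assoc_hom_app_tmul {U : X.Opens} (l : Γ(L, U)) (m : Γ(M, U)) (n : Γ(N, U)) :
    (assoc L M N).hom.app U (tmul _ N (tmul L M l m) n) = tmul L _ l (tmul M N m n) := by
  rw [← assocA_app, ← assocB_app]
  have h : (assoc L M N).hom = inv (assocA L M N) ≫
    shfMap (α_ (CohB1.toPMod L) (CohB1.toPMod M) (CohB1.toPMod N)).hom ≫ assocB L M N := rfl
  rw [h, ← ConcreteCategory.comp_apply, ← Scheme.Modules.Hom.comp_app, IsIso.hom_inv_id_assoc,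
    Scheme.Modules.Hom.comp_app, ConcreteCategory.comp_apply, shfMap_app_ηP]
  rfl

end AssocFormula

end Groth.Agent.Helper13.Tensor
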