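import Mathlib
import Groth.Prelude.Def_Pic
import Groth.Agent.Lib.Helper13.TensorAssoc
import Groth.Agent.Lib.Helper13.FreeMod

set_option autoImplicit false
universe u
open CategoryTheory CategoryTheory.Limits AlgebraicGeometry Opposite TopologicalSpace TensorProduct
open Groth.Agent.Helper13.QCoh Groth.Agent.Helper13.FinType

namespace Groth.Agent.Helper13.Inv

section RestrictStalk

variable {X Y : Scheme.{u}} (f : X ⟶ Y) [IsOpenImmersion f] (M : Y.Modules) (x : X)

/-- the stalk of a restriction along an open immersion is the stalk at the image point. -/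
noncomputable def τ : (M.restrict f).presheaf.stalk x ≃+ M.presheaf.stalk (f x) :=
  ((Scheme.Modules.restrictStalkNatIso f x).app M).addCommGroupIsoToAddEquiv

lemma τ_germ {U : X.Opens} (hxU : x ∈ U) (t : Γ(M.restrict f, U)) :
    τ f M x ((M.restrict f).presheaf.germ U x hxU t) =
      M.presheaf.germ (f ''ᵁ U) (f x) ⟨x, hxU, rfl⟩ t := by
  have := Scheme.Modules.germ_restrictStalkNatIso_hom_app f x M hxU
  exact congr($this t)

/-- the section of `M.restrict f` over `U` attached to a section of `M` over `f ''ᵁ U`. -/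
def toRes {U : X.Opens} (t : Γ(M, f ''ᵁ U)) : Γ(M.restrict f, U) := t

lemma toRes_smul {U : X.Opens} (a : Γ(Y, f ''ᵁ U)) (t : Γ(M, f ''ᵁ U)) :
    toRes f M (a • t) = ((f.appIso U).hom a) • toRes f M t := by
  have h3 : (f.appIso U).inv ((f.appIso U).hom a) = a :=
    congrArg (fun φ => φ a) (CommRingCat.hom_ext_iff.1 (f.appIso U).hom_inv_id)
  have h4 : (((f.appIso U).hom a) • toRes f M t) =
      toRes f M (((f.appIso U).inv ((f.appIso U).hom a)) • t) := rfl
  rw [h4, h3]

lemma stalkMap_germ_image {U : X.Opens} (hxU : x ∈ U) (a : Γ(Y, f ''ᵁ U)) :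
    f.stalkMap x (Y.presheaf.germ (f ''ᵁ U) (f x) ⟨x, hxU, rfl⟩ a) =
      X.presheaf.germ U x hxU ((f.appIso U).hom a) := by
  rw [Scheme.Hom.germ_stalkMap_apply]
  have : (f.appIso U).hom a = X.presheaf.map (eqToHom (f.preimage_image_eq U).symm).op
      (f.app (f ''ᵁ U) a) := by
    rw [Scheme.Hom.appIso_hom]
    rfl
  rw [this, TopCat.Presheaf.germ_res_apply]

lemma exists_rep_image (r : Y.presheaf.stalk (f x)) (m : (M.restrict f).presheaf.stalk x) :
    ∃ (U : X.Opens) (hxU : x ∈ U) (a : Γ(Y, f ''ᵁ U)) (t : Γ(M.restrict f, U)),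
      Y.presheaf.germ (f ''ᵁ U) (f x) ⟨x, hxU, rfl⟩ a = r ∧
        (M.restrict f).presheaf.germ U x hxU t = m := by
  obtain ⟨V, hV, r₀, rfl⟩ := TopCat.Presheaf.exists_germ_eq Y.presheaf r
  obtain ⟨U₁, hU₁, t, rfl⟩ := TopCat.Presheaf.exists_germ_eq (M.restrict f).presheaf m
  let U : X.Opens := U₁ ⊓ f ⁻¹ᵁ V
  have hxU : x ∈ U := ⟨hU₁, hV⟩
  have hle : f ''ᵁ U ≤ V := by
    rintro _ ⟨z, hz, rfl⟩
    exact hz.2
  refine ⟨U, hxU, Y.presheaf.map (homOfLE hle).op r₀,
    (M.restrict f).presheaf.map (homOfLE inf_le_left).op t, ?_, ?_⟩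
  · exact TopCat.Presheaf.germ_res_apply _ _ _ _ _
  · exact TopCat.Presheaf.germ_res_apply _ _ _ _ _

lemma τ_smul (r : Y.presheaf.stalk (f x)) (m : (M.restrict f).presheaf.stalk x) :
    τ f M x ((f.stalkMap x r) • m) = r • τ f M x m := by
  obtain ⟨U, hxU, a, t, rfl, rfl⟩ := exists_rep_image f M x r m
  rw [stalkMap_germ_image f x hxU a, ← Tensor.germ_smul, τ_germ, τ_germ]
  have : ((f.appIso U).hom a) • t = toRes f M (a • (show Γ(M, f ''ᵁ U) from t)) :=
    (toRes_smul f M a t).symm
  rw [this]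
  exact Tensor.germ_smul M (f ''ᵁ U) (f x) ⟨x, hxU, rfl⟩ a t

end RestrictStalk


section Gen

variable {X : Scheme.{u}}

/-- the germ of `s` at `y` generates the stalk freely. -/
def IsGen (M : X.Modules) {U : X.Opens} (s : Γ(M, U)) (y : X) (hy : y ∈ U) : Prop :=
  Function.Bijective (fun r : X.presheaf.stalk y => r • M.presheaf.germ U y hy s)

lemma isGen_res (M : X.Modules) {U V : X.Opens} (i : V ⟶ U) (s : Γ(M, U)) (y : X) (hy : y ∈ V) :
    IsGen M (M.presheaf.map i.op s) y hy ↔ IsGen M s y (i.le hy) := by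
  unfold IsGen
  rw [TopCat.Presheaf.germ_res_apply]

lemma stalkMap_homOfSec (M : X.Modules) (s : Γ(M, ⊤)) (y : X)
    (a : (Coh.structureModule X).presheaf.stalk y) :
    stalkMap (LocFree.homOfSec M s) y a =
      (Groth.Agent.Helper13.WeakAss.unitStalkEquiv y a) • M.presheaf.germ ⊤ y trivial s := by
  obtain ⟨U, hU, c, rfl⟩ := TopCat.Presheaf.exists_germ_eq (Coh.structureModule X).presheaf a
  rw [stalkMap_germ, Groth.Agent.Helper13.WeakAss.unitStalkEquiv_germ]
  have := LocFree.homOfSec_app M s U c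
  erw [this]
  rw [Tensor.germ_smul, TopCat.Presheaf.germ_res_apply]

/-- **Lemma G**: a global section generating all the stalks freely trivialises the module. -/
theorem isIso_homOfSec (M : X.Modules) (s : Γ(M, ⊤)) (h : ∀ y, IsGen M s y trivial) :
    IsIso (LocFree.homOfSec M s) := by
  apply Groth.Agent.Helper13.LocFree.isIso_of_stalk_bijective
  intro y
  have : (fun a => stalkMap (LocFree.homOfSec M s) y a) =
      (fun r : X.presheaf.stalk y => r • M.presheaf.germ ⊤ y trivial s) ∘
        (Groth.Agent.Helper13.WeakAss.unitStalkEquiv y) := by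
    funext a
    exact stalkMap_homOfSec M s y a
  change Function.Bijective (fun a => stalkMap (LocFree.homOfSec M s) y a)
  rw [this]
  exact (h y).comp (Groth.Agent.Helper13.WeakAss.unitStalkEquiv y).bijective

/-- converse of Lemma G. -/
theorem exists_isGen_of_iso (M : X.Modules) (e : Coh.structureModule X ≅ M) :
    ∃ s : Γ(M, ⊤), ∀ y, IsGen M s y trivial := by
  refine ⟨e.hom.app ⊤ (LocFree.toO ⊤ 1), fun y => ?_⟩
  haveI : IsIso (stalkMap e.hom y) := by
    change IsIso ((TopCat.Presheaf.stalkFunctor Ab y).map e.hom.mapPresheaf)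
    have : IsIso e.hom.mapPresheaf := by
      change IsIso ((Scheme.Modules.toPresheaf X).map e.hom)
      infer_instance
    infer_instance
  have hb : Function.Bijective (stalkMap e.hom y) :=
    (ConcreteCategory.isIso_iff_bijective _).1 inferInstance
  have : (fun r : X.presheaf.stalk y => r • M.presheaf.germ ⊤ y trivial
      (e.hom.app ⊤ (LocFree.toO ⊤ 1))) =
      (fun a => stalkMap e.hom y a) ∘ (Groth.Agent.Helper13.WeakAss.unitStalkEquiv y).symm := by
    funext r
    rw [Function.comp_apply, ← stalkMap_germ, ← stalkMap_smul]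
    congr 1
    apply (Groth.Agent.Helper13.WeakAss.unitStalkEquiv y).injective
    rw [LinearEquiv.apply_symm_apply, map_smul,
      Groth.Agent.Helper13.WeakAss.unitStalkEquiv_germ]
    change r * X.presheaf.germ ⊤ y trivial 1 = r
    rw [map_one, mul_one]
  unfold IsGen
  rw [this]
  exact hb.comp (Groth.Agent.Helper13.WeakAss.unitStalkEquiv y).symm.bijective

end Gen


section Transfer

variable {X Y : Scheme.{u}} (f : X ⟶ Y) [IsOpenImmersion f] (M : Y.Modules)

lemma isGen_restrict_iff {U : X.Opens} (s : Γ(M, f ''ᵁ U)) (x : X) (hx : x ∈ U) :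
    IsGen (M.restrict f) (toRes f M s) x hx ↔ IsGen M s (f x) ⟨x, hx, rfl⟩ := by
  have hσ : Function.Bijective (f.stalkMap x) :=
    (ConcreteCategory.isIso_iff_bijective _).1 inferInstance
  have key : (fun r : Y.presheaf.stalk (f x) => r • M.presheaf.germ (f ''ᵁ U) (f x) ⟨x, hx, rfl⟩ s) =
      (τ f M x) ∘ (fun c : X.presheaf.stalk x =>
        c • (M.restrict f).presheaf.germ U x hx (toRes f M s)) ∘ (f.stalkMap x) := by
    funext r
    simp only [Function.comp_apply]
    rw [τ_smul, τ_germ]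
    rfl
  unfold IsGen
  rw [key]
  constructor
  · intro h
    exact (τ f M x).bijective.comp (h.comp hσ)
  · intro h
    have h1 := (τ f M x).symm.bijective.comp h
    have h2 : (⇑(τ f M x).symm ∘ ⇑(τ f M x) ∘ (fun c : X.presheaf.stalk x =>
        c • (M.restrict f).presheaf.germ U x hx (toRes f M s)) ∘ ⇑(f.stalkMap x)) =
        (fun c : X.presheaf.stalk x =>
        c • (M.restrict f).presheaf.germ U x hx (toRes f M s)) ∘ ⇑(f.stalkMap x) := by
      funext r
      simp
    rw [h2] at h1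
    exact (Function.Bijective.of_comp_iff _ hσ).1 h1

end Transfer

section Char

variable {X : Scheme.{u}} (L : X.Modules)

lemma ι_image_top (U : X.Opens) : U.ι ''ᵁ ⊤ = U := by rw [Scheme.Opens.ι_image_top]

/-- **Characterisation of invertible modules by local generators.** -/
theorem isInvertible_iff_exists_isGen :
    PicF.IsInvertible L ↔ ∀ x : X, ∃ (U : X.Opens) (_ : x ∈ U) (s : Γ(L, U)),
      ∀ (y : X) (hy : y ∈ U), IsGen L s y hy := by
  constructor
  · intro h x
    obtain ⟨U, hxU, ⟨e⟩⟩ := h x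
    obtain ⟨s', hs'⟩ := exists_isGen_of_iso (L.restrict U.ι) e.symm
    -- `s'` is a section of `L` over `U.ι ''ᵁ ⊤`
    let s₀ : Γ(L, U.ι ''ᵁ ⊤) := s'
    refine ⟨U, hxU, L.presheaf.map (eqToHom (ι_image_top U).symm).op s₀, fun y hy => ?_⟩
    rw [isGen_res]
    have := (isGen_restrict_iff U.ι L (U := ⊤) s₀ ⟨y, hy⟩ trivial).1 (hs' ⟨y, hy⟩)
    exact this
  · intro h x
    obtain ⟨U, hxU, s, hs⟩ := h x
    refine ⟨U, hxU, ?_⟩
    let s₀ : Γ(L, U.ι ''ᵁ ⊤) := L.presheaf.map (eqToHom (ι_image_top U)).op s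
    have hgen : ∀ y : (U : Scheme.{u}), IsGen (L.restrict U.ι) (toRes U.ι L s₀) y trivial := by
      intro y
      rw [isGen_restrict_iff U.ι L (U := ⊤) s₀ y trivial, isGen_res]
      exact hs _ _
    haveI := isIso_homOfSec (L.restrict U.ι) (toRes U.ι L s₀) hgen
    exact ⟨(asIso (LocFree.homOfSec (L.restrict U.ι) (toRes U.ι L s₀))).symm⟩

end Char

end Groth.Agent.Helper13.Inv
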