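import Mathlib
import Groth.Agent.Lib.Helper13.InvGen

set_option autoImplicit false
universe u
open CategoryTheory CategoryTheory.Limits AlgebraicGeometry Opposite TopologicalSpace TensorProduct
open Groth.Agent.Helper13.QCoh Groth.Agent.Helper13.FinType Groth.Agent.Helper13.Inv

namespace Groth.Agent.Helper13.Tensor

variable {X Y : Scheme.{u}} (f : Y ⟶ X) [IsOpenImmersion f] (M N : X.Modules)

/-- the bilinear family defining the comparison map for restriction along an open immersion. -/
noncomputable def restrictFamily :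
    BilinFamily (M.restrict f) (N.restrict f) ((CohB1.tensorMod M N).restrict f) where
  β V :=
    LinearMap.mk₂ Γ(Y, V)
      (fun (m : Γ(M.restrict f, V)) (n : Γ(N.restrict f, V)) =>
        toRes f (CohB1.tensorMod M N) (tmul M N (show Γ(M, f ''ᵁ V) from m) (show Γ(N, f ''ᵁ V) from n)))
      (fun m m' n => by
        change toRes f _ (tmul M N ((show Γ(M, f ''ᵁ V) from m) + (show Γ(M, f ''ᵁ V) from m')) _) = _
        rw [tmul_add_left]; rfl)
      (fun r m n => by
        change toRes f _ (tmul M N (((f.appIso V).inv r) • (show Γ(M, f ''ᵁ V) from m)) _) = _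
        rw [tmul_smul_left]; rfl)
      (fun m n n' => by
        change toRes f _ (tmul M N _ ((show Γ(N, f ''ᵁ V) from n) + (show Γ(N, f ''ᵁ V) from n'))) = _
        rw [tmul_add_right]; rfl)
      (fun r m n => by
        change toRes f _ (tmul M N _ (((f.appIso V).inv r) • (show Γ(N, f ''ᵁ V) from n))) = _
        rw [tmul_smul_right]; rfl)
  res {U V} i m n := by
    change (CohB1.tensorMod M N).presheaf.map (f.opensFunctor.map i).op (tmul M N _ _) = _
    rw [tmul_res]
    rfl

/-- the comparison map `M|_Y ⊗ N|_Y ⟶ (M ⊗ N)|_Y`. -/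
noncomputable def restrictHom :
    CohB1.tensorMod (M.restrict f) (N.restrict f) ⟶ (CohB1.tensorMod M N).restrict f :=
  (restrictFamily f M N).hom

lemma restrictHom_app_tmul {V : Y.Opens} (m : Γ(M, f ''ᵁ V)) (n : Γ(N, f ''ᵁ V)) :
    (restrictHom f M N).app V (tmul (M.restrict f) (N.restrict f) (toRes f M m) (toRes f N n)) =
      toRes f (CohB1.tensorMod M N) (tmul M N m n) :=
  (restrictFamily f M N).hom_app_tmul _ _

end Groth.Agent.Helper13.Tensor

namespace Groth.Agent.Helper13.Tensor

variable {X Y : Scheme.{u}} (f : Y ⟶ X) [IsOpenImmersion f] (M N : X.Modules) (y : Y)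

lemma τ_symm_smul (F : X.Modules) (r : X.presheaf.stalk (f y)) (a : F.presheaf.stalk (f y)) :
    (τ f F y).symm (r • a) = (f.stalkMap y r) • (τ f F y).symm a := by
  apply (τ f F y).injective
  rw [AddEquiv.apply_symm_apply, τ_smul, AddEquiv.apply_symm_apply]

/-- the additive map between tensor products of stalks induced by `τ⁻¹`. -/
noncomputable def Ψ :
    (M.presheaf.stalk (f y) ⊗[X.presheaf.stalk (f y)] N.presheaf.stalk (f y)) →+
      ((M.restrict f).presheaf.stalk y ⊗[Y.presheaf.stalk y] (N.restrict f).presheaf.stalk y) :=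
  TensorProduct.liftAddHom
    { toFun := fun a =>
        { toFun := fun b => (τ f M y).symm a ⊗ₜ[Y.presheaf.stalk y] (τ f N y).symm b
          map_zero' := by rw [map_zero, TensorProduct.tmul_zero]
          map_add' := fun b b' => by rw [map_add, TensorProduct.tmul_add] }
      map_zero' := by
        ext b
        change (τ f M y).symm 0 ⊗ₜ[Y.presheaf.stalk y] (τ f N y).symm b = 0
        rw [map_zero, TensorProduct.zero_tmul]
      map_add' := fun a a' => by
        ext b
        change (τ f M y).symm (a + a') ⊗ₜ[Y.presheaf.stalk y] (τ f N y).symm b =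
          (τ f M y).symm a ⊗ₜ[Y.presheaf.stalk y] (τ f N y).symm b +
          (τ f M y).symm a' ⊗ₜ[Y.presheaf.stalk y] (τ f N y).symm b
        rw [map_add, TensorProduct.add_tmul] }
    (fun r a b => by
      change (τ f M y).symm (r • a) ⊗ₜ[Y.presheaf.stalk y] (τ f N y).symm b =
        (τ f M y).symm a ⊗ₜ[Y.presheaf.stalk y] (τ f N y).symm (r • b)
      rw [τ_symm_smul, τ_symm_smul, TensorProduct.smul_tmul])

lemma Ψ_tmul (a : M.presheaf.stalk (f y)) (b : N.presheaf.stalk (f y)) :
    Ψ f M N y (a ⊗ₜ b) = (τ f M y).symm a ⊗ₜ (τ f N y).symm b := rfl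

lemma τ_symm_germ (F : X.Modules) {V : Y.Opens} (hy : y ∈ V) (t : Γ(F, f ''ᵁ V)) :
    (τ f F y).symm (F.presheaf.germ (f ''ᵁ V) (f y) ⟨y, hy, rfl⟩ t) =
      (F.restrict f).presheaf.germ V y hy (toRes f F t) := by
  rw [AddEquiv.symm_apply_eq, τ_germ]
  rfl

lemma stalkMap_restrictHom_injective : Function.Injective (stalkMap (restrictHom f M N) y) := by
  -- a left inverse
  let Θ : ((CohB1.tensorMod M N).restrict f).presheaf.stalk y →+
      (CohB1.tensorMod (M.restrict f) (N.restrict f)).presheaf.stalk y :=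
    ((stalkTensorEquiv (M.restrict f) (N.restrict f) y).toLinearMap.toAddMonoidHom.comp
      (Ψ f M N y)).comp
      (((stalkTensorEquiv M N (f y)).symm.toLinearMap.toAddMonoidHom).comp
        (τ f (CohB1.tensorMod M N) y).toAddMonoidHom)
  have hΘ : ∀ s, Θ (stalkMap (restrictHom f M N) y s) = s := by
    intro s
    induction s using stalk_tensorMod_induction with
    | h0 => rw [map_zero, map_zero]
    | ht V hV m' n' =>
      let m : Γ(M, f ''ᵁ V) := m'
      let n : Γ(N, f ''ᵁ V) := n'
      rw [stalkMap_germ]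
      have h1 := restrictHom_app_tmul f M N m n
      change Θ (((CohB1.tensorMod M N).restrict f).presheaf.germ V y hV
        ((restrictHom f M N).app V (tmul (M.restrict f) (N.restrict f) (toRes f M m) (toRes f N n)))) = _
      rw [h1]
      change stalkTensorEquiv (M.restrict f) (N.restrict f) y (Ψ f M N y
        ((stalkTensorEquiv M N (f y)).symm (τ f (CohB1.tensorMod M N) y _))) = _
      rw [τ_germ]
      change stalkTensorEquiv (M.restrict f) (N.restrict f) y (Ψ f M N y
        ((stalkTensorEquiv M N (f y)).symm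
          ((CohB1.tensorMod M N).presheaf.germ (f ''ᵁ V) (f y) ⟨y, hV, rfl⟩ (tmul M N m n)))) = _
      rw [← stalkTensorEquiv_germ, LinearEquiv.symm_apply_apply, Ψ_tmul, τ_symm_germ f y M hV m,
        τ_symm_germ f y N hV n, stalkTensorEquiv_germ]
      rfl
    | ha a b ha hb => rw [map_add, map_add, ha, hb]
  intro s s' h
  rw [← hΘ s, ← hΘ s', h]

end Groth.Agent.Helper13.Tensor

namespace Groth.Agent.Helper13.Tensor

variable {X Y : Scheme.{u}} (f : Y ⟶ X) [IsOpenImmersion f] (M N : X.Modules) (y : Y)

lemma stalkMap_restrictHom_surjective : Function.Surjective (stalkMap (restrictHom f M N) y) := by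
  intro t
  -- it suffices to hit `τ t`
  suffices h : ∀ z : (CohB1.tensorMod M N).presheaf.stalk (f y),
      ∃ s, τ f (CohB1.tensorMod M N) y (stalkMap (restrictHom f M N) y s) = z by
    obtain ⟨s, hs⟩ := h (τ f (CohB1.tensorMod M N) y t)
    exact ⟨s, (τ f (CohB1.tensorMod M N) y).injective hs⟩
  intro z
  induction z using stalk_tensorMod_induction with
  | h0 => exact ⟨0, by rw [map_zero, map_zero]⟩
  | ht W hW m n =>
    -- shrink to an open of the form `f ''ᵁ V`
    let V : Y.Opens := f ⁻¹ᵁ W
    have hV : y ∈ V := hW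
    have hle : f ''ᵁ V ≤ W := f.image_preimage_le W
    let m₁ : Γ(M, f ''ᵁ V) := M.presheaf.map (homOfLE hle).op m
    let n₁ : Γ(N, f ''ᵁ V) := N.presheaf.map (homOfLE hle).op n
    refine ⟨(CohB1.tensorMod (M.restrict f) (N.restrict f)).presheaf.germ V y hV
      (tmul (M.restrict f) (N.restrict f) (toRes f M m₁) (toRes f N n₁)), ?_⟩
    rw [stalkMap_germ, restrictHom_app_tmul, τ_germ]
    change (CohB1.tensorMod M N).presheaf.germ (f ''ᵁ V) (f y) ⟨y, hV, rfl⟩ (tmul M N m₁ n₁) = _
    rw [← tmul_res, TopCat.Presheaf.germ_res_apply]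
  | ha a b ha hb =>
    obtain ⟨s, hs⟩ := ha
    obtain ⟨s', hs'⟩ := hb
    exact ⟨s + s', by rw [map_add, map_add, hs, hs']⟩

instance : IsIso (restrictHom f M N) := by
  apply Groth.Agent.Helper13.LocFree.isIso_of_stalk_bijective
  intro y
  exact ⟨stalkMap_restrictHom_injective f M N y, stalkMap_restrictHom_surjective f M N y⟩

/-- **Restriction along an open immersion commutes with tensor products.** -/
noncomputable def restrictIso :
    (CohB1.tensorMod M N).restrict f ≅ CohB1.tensorMod (M.restrict f) (N.restrict f) :=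
  (asIso (restrictHom f M N)).symm

end Groth.Agent.Helper13.Tensor
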