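import Mathlib
import Groth.Agent.Lib.Helper13.TensorAssoc
import Groth.Agent.Lib.Helper13.QCohLoc

set_option autoImplicit false
universe u
open CategoryTheory CategoryTheory.Limits AlgebraicGeometry Opposite TopologicalSpace TensorProduct
open Groth.Agent.Helper13.QCoh Groth.Agent.Helper13.FinType Groth.Agent.Helper13.QCohLoc

namespace Groth.Agent.Helper13.Tensor

variable {X : Scheme.{u}} (F G Q : X.Modules) [F.IsQuasicoherent] [G.IsQuasicoherent]
  [Q.IsQuasicoherent] {U : X.Opens} (hU : IsAffineOpen U)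

include hU in
/-- a map from a quasi-coherent module to a tensor product of quasi-coherent modules which on the
sections over an affine open `U` is given by an isomorphism from the tensor product of the sections is
bijective on the stalks at the points of `U`. -/
theorem stalkMap_bijective_of_affine (ψ : Q ⟶ CohB1.tensorMod F G)
    (q : (Γ(F, U) ⊗[Γ(X, U)] Γ(G, U)) ≃ₗ[Γ(X, U)] Γ(Q, U))
    (hq : ∀ m n, ψ.app U (q (m ⊗ₜ n)) = tmul F G m n) (x : U) :
    Function.Bijective (stalkMap ψ (x : X)) := by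
  letI algBO : Algebra Γ(X, U) (X.presheaf.stalk (x : X)) := X.presheaf.algebra_section_stalk x
  letI mF := modStalk F x
  letI mG := modStalk G x
  letI mQ := modStalk Q x
  letI mT := modStalk (CohB1.tensorMod F G) x
  haveI := isScalarTower_stalk F x
  haveI := isScalarTower_stalk G x
  haveI := isScalarTower_stalk Q x
  haveI := isScalarTower_stalk (CohB1.tensorMod F G) x
  haveI hlocO : IsLocalization (hU.primeIdealOf x).asIdeal.primeCompl (X.presheaf.stalk (x : X)) :=
    hU.isLocalization_stalk x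
  haveI hF := isLocalizedModule_germ F hU x
  haveI hG := isLocalizedModule_germ G hU x
  haveI hQ := isLocalizedModule_germ Q hU x
  let S := (hU.primeIdealOf x).asIdeal.primeCompl
  -- the localization map for the tensor product
  let ℓ₁ : (Γ(F, U) ⊗[Γ(X, U)] Γ(G, U)) →ₗ[Γ(X, U)]
      (F.presheaf.stalk (x : X) ⊗[Γ(X, U)] G.presheaf.stalk (x : X)) :=
    TensorProduct.map (germLin F x) (germLin G x)
  haveI h₁ : IsLocalizedModule S ℓ₁ := inferInstance
  let e₂ : (F.presheaf.stalk (x : X) ⊗[X.presheaf.stalk (x : X)] G.presheaf.stalk (x : X))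
      ≃ₗ[X.presheaf.stalk (x : X)]
      (F.presheaf.stalk (x : X) ⊗[Γ(X, U)] G.presheaf.stalk (x : X)) :=
    IsLocalization.moduleTensorEquiv S (X.presheaf.stalk (x : X)) _ _
  let e₃ := stalkTensorEquiv F G (x : X)
  let e : (F.presheaf.stalk (x : X) ⊗[Γ(X, U)] G.presheaf.stalk (x : X)) ≃ₗ[Γ(X, U)]
      (CohB1.tensorMod F G).presheaf.stalk (x : X) :=
    (e₂.symm.restrictScalars Γ(X, U)) ≪≫ₗ (e₃.restrictScalars Γ(X, U))
  let ℓT := e.toLinearMap ∘ₗ ℓ₁
  haveI hT : IsLocalizedModule S ℓT := IsLocalizedModule.of_linearEquiv S ℓ₁ e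
  let ℓQ := (germLin Q x) ∘ₗ q.toLinearMap
  haveI hQ' : IsLocalizedModule S ℓQ := IsLocalizedModule.of_linearEquiv_right S (germLin Q x) q
  -- the stalk map as a linear map over `Γ(X, U)`
  let h : Q.presheaf.stalk (x : X) →ₗ[Γ(X, U)] (CohB1.tensorMod F G).presheaf.stalk (x : X) :=
    (stalkLinearMap ψ (x : X)).restrictScalars Γ(X, U)
  have hcomp : h ∘ₗ ℓQ = ℓT := by
    apply TensorProduct.ext'
    intro m n
    change stalkMap ψ (x : X) (Q.presheaf.germ U x x.2 (q (m ⊗ₜ n))) =
      e₃ (e₂.symm (F.presheaf.germ U x x.2 m ⊗ₜ G.presheaf.germ U x x.2 n))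
    rw [stalkMap_germ, hq]
    have : e₂.symm (F.presheaf.germ U x x.2 m ⊗ₜ[Γ(X, U)] G.presheaf.germ U x x.2 n) =
        F.presheaf.germ U x x.2 m ⊗ₜ[X.presheaf.stalk (x : X)] G.presheaf.germ U x x.2 n := by
      rw [LinearEquiv.symm_apply_eq]
      rfl
    rw [this]
    exact (stalkTensorEquiv_germ F G x x.2 m n).symm
  haveI : IsLocalizedModule S (h ∘ₗ ℓQ) := by rw [hcomp]; exact hT
  have := IsLocalizedModule.linearEquiv_of_isLocalizedModule_comp S ℓQ h
  have hb : Function.Bijective h := by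
    rw [← this]
    exact (IsLocalizedModule.linearEquiv S ℓQ (h ∘ₗ ℓQ)).bijective
  exact hb

end Groth.Agent.Helper13.Tensor
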