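import Mathlib
import Groth.Agent.Lib.Helper13.TensorAffine

set_option autoImplicit false
universe u
open CategoryTheory CategoryTheory.Limits AlgebraicGeometry Opposite TopologicalSpace TensorProduct
open Groth.Agent.Helper13.QCoh Groth.Agent.Helper13.FinType Groth.Agent.Helper13.QCohLoc

namespace Groth.Agent.Helper13.Tensor

variable {R : CommRingCat.{u}} (M N : ModuleCat.{u} R)

/-- `toOpen` on global sections, as a function to `Γ(tilde M, ⊤)`. -/
noncomputable def top (m : M) : Γ(tilde M, (⊤ : (Spec R).Opens)) := (tilde.toOpen M ⊤).hom m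

lemma top_add (m m' : M) : top M (m + m') = top M m + top M m' := map_add _ _ _

lemma top_smul (r : R) (m : M) : top M (r • m) = r • top M m := map_smul (tilde.toOpen M ⊤).hom r m

lemma top_bijective : Function.Bijective (top M) :=
  (ConcreteCategory.isIso_iff_bijective (tilde.toOpen M ⊤)).1 inferInstance


section H

variable {R : CommRingCat.{u}} (M N : ModuleCat.{u} R)

lemma smul_eq_algebraMap_smul {F : (Spec R).Modules} {U : (Spec R).Opens} (r : R) (x : Γ(F, U)) :
    r • x = (algebraMap R Γ(Spec R, U) r) • x := (algebraMap_smul Γ(Spec R, U) r x).symm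

/-- the bilinear map `M × N → Γ(M^~ ⊗ N^~, ⊤)`. -/
noncomputable def tildeBilin :
    M →ₗ[R] N →ₗ[R] Γ(CohB1.tensorMod (tilde M) (tilde N), (⊤ : (Spec R).Opens)) :=
  LinearMap.mk₂ R (fun m n => tmul (tilde M) (tilde N) (top M m) (top N n))
    (fun m m' n => by rw [top_add, tmul_add_left])
    (fun r m n => by
      rw [top_smul, smul_eq_algebraMap_smul, tmul_smul_left, ← smul_eq_algebraMap_smul])
    (fun m n n' => by rw [top_add, tmul_add_right])
    (fun r m n => by
      rw [top_smul, smul_eq_algebraMap_smul, tmul_smul_right, ← smul_eq_algebraMap_smul])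

/-- the linear map `M ⊗ N → Γ(M^~ ⊗ N^~, ⊤)`. -/
noncomputable def tildeH :
    ModuleCat.of R (M ⊗[R] N) ⟶
      moduleSpecΓFunctor.obj (CohB1.tensorMod (tilde M) (tilde N)) :=
  ModuleCat.ofHom (Y := moduleSpecΓFunctor.obj (CohB1.tensorMod (tilde M) (tilde N)))
    (show (M ⊗[R] N) →ₗ[R] ↑((modulesSpecToSheaf.obj (CohB1.tensorMod (tilde M) (tilde N))).obj.obj (op ⊤))
      from TensorProduct.lift (tildeBilin M N))

/-- the comparison map `(M ⊗ N)^~ ⟶ M^~ ⊗ N^~`. -/
noncomputable def tildeTensorHom :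
    tilde (ModuleCat.of R (M ⊗[R] N)) ⟶ CohB1.tensorMod (tilde M) (tilde N) :=
  (tilde.adjunction.homEquiv _ _).symm (tildeH M N)

lemma tildeTensorHom_app_top (m : M) (n : N) :
    (tildeTensorHom M N).app ⊤ (top (ModuleCat.of R (M ⊗[R] N)) (m ⊗ₜ n)) =
      tmul (tilde M) (tilde N) (top M m) (top N n) := by
  have h1 : tildeTensorHom M N = tilde.map (tildeH M N) ≫
      (CohB1.tensorMod (tilde M) (tilde N)).fromTildeΓ := by
    unfold tildeTensorHom
    rw [Adjunction.homEquiv_counit]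
    rfl
  have h2 := tilde.toOpen_map_app (tildeH M N) ⊤
  have h3 := Scheme.Modules.toOpen_fromTildeΓ_app (CohB1.tensorMod (tilde M) (tilde N)) ⊤
  rw [h1]
  have h4 := congr($h2 (m ⊗ₜ n))
  have h5 := congr($h3 ((tildeH M N).hom (m ⊗ₜ n)))
  rw [ConcreteCategory.comp_apply] at h4 h5
  change ((modulesSpecToSheaf.map (CohB1.tensorMod (tilde M) (tilde N)).fromTildeΓ).hom.app (op ⊤))
    (((modulesSpecToSheaf.map (tilde.map (tildeH M N))).hom.app (op ⊤))
      ((tilde.toOpen (ModuleCat.of R (M ⊗[R] N)) ⊤).hom (m ⊗ₜ n))) = _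
  erw [h4]
  erw [ConcreteCategory.comp_apply, h5]
  have h6 : (modulesSpecToSheaf.obj (CohB1.tensorMod (tilde M) (tilde N))).obj.map
      (homOfLE (le_top : (⊤ : (Spec R).Opens) ≤ ⊤)).op = 𝟙 _ := by
    have : (homOfLE (le_top : (⊤ : (Spec R).Opens) ≤ ⊤)) = 𝟙 _ := Subsingleton.elim _ _
    rw [this, op_id, CategoryTheory.Functor.map_id]
  rw [h6]
  rfl

end H


section Q

variable {R : CommRingCat.{u}} (M N : ModuleCat.{u} R)

/-- `top` as a linear equivalence. -/
noncomputable def topEquiv : M ≃ₗ[R] Γ(tilde M, (⊤ : (Spec R).Opens)) :=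
  LinearEquiv.ofBijective
    { toFun := top M
      map_add' := top_add M
      map_smul' := top_smul M } (top_bijective M)

@[simp] lemma topEquiv_apply (m : M) : topEquiv M m = top M m := rfl

lemma algebraMap_top_surjective :
    Function.Surjective (algebraMap R Γ(Spec R, (⊤ : (Spec R).Opens))) := by
  rw [IsAffineOpen.algebraMap_Spec_obj]
  have h0 : (homOfLE (le_top : (⊤ : (Spec R).Opens) ≤ ⊤)) = 𝟙 _ := Subsingleton.elim _ _
  have : IsIso ((Scheme.ΓSpecIso R).inv ≫ (Spec R).presheaf.map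
      (homOfLE (le_top : (⊤ : (Spec R).Opens) ≤ ⊤)).op) := by
    rw [h0, op_id, CategoryTheory.Functor.map_id, Category.comp_id]
    infer_instance
  exact ((ConcreteCategory.isIso_iff_bijective _).1 this).2

lemma compatibleSMul_top (F G : (Spec R).Modules) :
    TensorProduct.CompatibleSMul R Γ(Spec R, (⊤ : (Spec R).Opens)) Γ(F, (⊤ : (Spec R).Opens))
      Γ(G, (⊤ : (Spec R).Opens)) :=
  ⟨fun b m n => by
    obtain ⟨r, rfl⟩ := algebraMap_top_surjective (R := R) b
    rw [algebraMap_smul, algebraMap_smul, TensorProduct.smul_tmul]⟩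

end Q


section Main

variable {R : CommRingCat.{u}} (M N : ModuleCat.{u} R)

/-- the identification of the sections over `⊤`. -/
noncomputable def tildeQ :
    (Γ(tilde M, (⊤ : (Spec R).Opens)) ⊗[Γ(Spec R, (⊤ : (Spec R).Opens))]
      Γ(tilde N, (⊤ : (Spec R).Opens))) ≃ₗ[Γ(Spec R, (⊤ : (Spec R).Opens))]
      Γ(tilde (ModuleCat.of R (M ⊗[R] N)), (⊤ : (Spec R).Opens)) :=
  haveI := compatibleSMul_top (tilde M) (tilde N)
  (TensorProduct.equivOfCompatibleSMul R Γ(Spec R, (⊤ : (Spec R).Opens))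
    Γ(Spec R, (⊤ : (Spec R).Opens)) _ _) ≪≫ₗ
  (((TensorProduct.congr (topEquiv M) (topEquiv N)).symm ≪≫ₗ
    topEquiv (ModuleCat.of R (M ⊗[R] N))).extendScalarsOfSurjective algebraMap_top_surjective)

lemma tildeQ_tmul (m : M) (n : N) :
    tildeQ M N (top M m ⊗ₜ top N n) = top (ModuleCat.of R (M ⊗[R] N)) (m ⊗ₜ n) := by
  change topEquiv (ModuleCat.of R (M ⊗[R] N))
    ((TensorProduct.congr (topEquiv M) (topEquiv N)).symm (top M m ⊗ₜ[R] top N n)) = _
  have : (TensorProduct.congr (topEquiv M) (topEquiv N)).symm (top M m ⊗ₜ[R] top N n) = m ⊗ₜ n := by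
    rw [LinearEquiv.symm_apply_eq, TensorProduct.congr_tmul]
    rfl
  rw [this]
  rfl

instance isIso_tildeTensorHom : IsIso (tildeTensorHom M N) := by
  apply Groth.Agent.Helper13.LocFree.isIso_of_stalk_bijective
  intro x
  have := stalkMap_bijective_of_affine (tilde M) (tilde N) (tilde (ModuleCat.of R (M ⊗[R] N)))
    (isAffineOpen_top (Spec R)) (tildeTensorHom M N) (tildeQ M N) ?_ ⟨x, trivial⟩
  · exact this
  · intro f g
    obtain ⟨m, rfl⟩ := (top_bijective M).2 f
    obtain ⟨n, rfl⟩ := (top_bijective N).2 g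
    rw [tildeQ_tmul, tildeTensorHom_app_top]

/-- **`(M ⊗ N)^~ ≅ M^~ ⊗ N^~`.** -/
noncomputable def tildeTensorIso :
    tilde (ModuleCat.of R (M ⊗[R] N)) ≅ CohB1.tensorMod (tilde M) (tilde N) :=
  asIso (tildeTensorHom M N)

end Main

end Groth.Agent.Helper13.Tensor
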