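import Mathlib
import Groth.Agent.Lib.Helper13.TensorRestrict
import Groth.Agent.Lib.Helper13.TensorTilde
import Groth.Agent.Lib.Helper13.QCohKer
import Groth.Agent.Lib.Helper13.FinAffine2

set_option autoImplicit false
universe u
open CategoryTheory CategoryTheory.Limits AlgebraicGeometry Opposite TopologicalSpace TensorProduct
open Groth.Agent.Helper13.QCoh Groth.Agent.Helper13.FinType

namespace Groth.Agent.Helper13.Tensor

variable {X : Scheme.{u}} (F G : X.Modules)

/-- the tensor product of quasi-coherent modules on an affine scheme `Spec R` is quasi-coherent. -/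
theorem isQuasicoherent_tensorMod_Spec {R : CommRingCat.{u}} (F G : (Spec R).Modules)
    [F.IsQuasicoherent] [G.IsQuasicoherent] : (CohB1.tensorMod F G).IsQuasicoherent := by
  haveI : IsIso F.fromTildeΓ := Scheme.Modules.isIso_fromTildeΓ_of_isQuasicoherent F
  haveI : IsIso G.fromTildeΓ := Scheme.Modules.isIso_fromTildeΓ_of_isQuasicoherent G
  let eF : tilde ((modulesSpecToSheaf.obj F).presheaf.obj (.op ⊤)) ≅ F := asIso F.fromTildeΓ
  let eG : tilde ((modulesSpecToSheaf.obj G).presheaf.obj (.op ⊤)) ≅ G := asIso G.fromTildeΓ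
  have e := (tildeTensorIso _ _) ≪≫ mapIso eF eG
  exact Groth.Agent.Helper13.QCohLocal.isQuasicoherent_of_iso e

/-- **The tensor product of quasi-coherent modules is quasi-coherent.** -/
instance isQuasicoherent_tensorMod [F.IsQuasicoherent] [G.IsQuasicoherent] :
    (CohB1.tensorMod F G).IsQuasicoherent := by
  apply Groth.Agent.Helper13.QCohLocal.isQuasicoherent_of_restrict_fromSpec
  intro U
  haveI := isQuasicoherent_tensorMod_Spec (F.restrict U.2.fromSpec) (G.restrict U.2.fromSpec)
  exact Groth.Agent.Helper13.QCohLocal.isQuasicoherent_of_iso (restrictIso U.2.fromSpec F G).symm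

/-- tensor products of generating families generate the tensor product. -/
theorem genOn_tmul {I J : Type*} {U : X.Opens} (s : I → Γ(F, U)) (t : J → Γ(G, U))
    (hs : GenOn F U s) (ht : GenOn G U t) :
    GenOn (CohB1.tensorMod F G) U (fun ij : I × J => tmul F G (s ij.1) (t ij.2)) := by
  intro y hy
  have h1 := hs y hy
  have h2 := ht y hy
  rw [eq_top_iff]
  intro z _
  obtain ⟨w, rfl⟩ := (stalkTensorEquiv F G y).surjective z
  have hw : w ∈ Submodule.span (X.presheaf.stalk y)
      (Set.image2 (fun a b => a ⊗ₜ[X.presheaf.stalk y] b)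
        (Set.range fun i => F.presheaf.germ U y hy (s i))
        (Set.range fun j => G.presheaf.germ U y hy (t j))) := by
    have := Submodule.map₂_span_span (X.presheaf.stalk y)
      (TensorProduct.mk (X.presheaf.stalk y) (F.presheaf.stalk y) (G.presheaf.stalk y))
      (Set.range fun i => F.presheaf.germ U y hy (s i))
      (Set.range fun j => G.presheaf.germ U y hy (t j))
    rw [h1, h2, TensorProduct.map₂_mk_top_top_eq_top] at this
    have hw' : w ∈ (⊤ : Submodule (X.presheaf.stalk y) _) := trivial
    rw [this] at hw'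
    exact hw'
  have hmap := Submodule.apply_mem_span_image_of_mem_span
    (stalkTensorEquiv F G y).toLinearMap hw
  refine Submodule.span_mono ?_ hmap
  rintro _ ⟨_, ⟨_, ⟨i, rfl⟩, _, ⟨j, rfl⟩, rfl⟩, rfl⟩
  refine ⟨(i, j), ?_⟩
  exact (stalkTensorEquiv_germ F G y hy (s i) (t j)).symm

/-- **The tensor product of finite type modules is of finite type.** -/
theorem isFiniteType_tensorMod [SheafOfModules.IsFiniteType (R := X.ringCatSheaf) F]
    [SheafOfModules.IsFiniteType (R := X.ringCatSheaf) G] :
    SheafOfModules.IsFiniteType (R := X.ringCatSheaf) (CohB1.tensorMod F G) := by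
  apply isFiniteType_of_genOn
  intro x
  obtain ⟨U₁, hx₁, I, hI, s, hs⟩ := exists_genOn_of_isFiniteType F x
  obtain ⟨U₂, hx₂, J, hJ, t, ht⟩ := exists_genOn_of_isFiniteType G x
  refine ⟨U₁ ⊓ U₂, ⟨hx₁, hx₂⟩, I × J, inferInstance, _,
    genOn_tmul F G _ _ (hs.mono inf_le_left) (ht.mono inf_le_right)⟩

end Groth.Agent.Helper13.Tensor
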