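import Mathlib
import Groth.Agent.Lib.Helper13.InvGen

set_option autoImplicit false
universe u
open CategoryTheory CategoryTheory.Limits AlgebraicGeometry Opposite TopologicalSpace TensorProduct
open Groth.Agent.Helper13.QCoh Groth.Agent.Helper13.FinType Groth.Agent.Helper13.Tensor

namespace Groth.Agent.Helper13.Inv

section Alg

variable {R A B : Type*} [CommRing R] [AddCommGroup A] [AddCommGroup B] [Module R A] [Module R B]

/-- if `A ⊗ B ≅ R` and `a ⊗ b ↦ 1`, then `a` generates `A` freely. -/
theorem bijective_smul_of_tensor_equiv (ε : A ⊗[R] B ≃ₗ[R] R) (a : A) (b : B)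
    (h : ε (a ⊗ₜ b) = 1) : Function.Bijective (fun r : R => r • a) := by
  haveI : Module.Invertible R A := Module.Invertible.left ε
  let ψ : A →ₗ[R] R := ε.toLinearMap.comp ((TensorProduct.mk R A B).flip b)
  let φ : R →ₗ[R] A := LinearMap.toSpanSingleton R A a
  have hψφ : ∀ r, ψ (φ r) = r := by
    intro r
    change ε ((r • a) ⊗ₜ b) = r
    rw [← TensorProduct.smul_tmul', map_smul, h, smul_eq_mul, mul_one]
  have hψ : Function.Bijective ψ :=
    Module.Invertible.bijective_of_surjective (fun r => ⟨φ r, hψφ r⟩)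
  have : Function.Bijective φ := by
    constructor
    · intro r r' hr
      have := congrArg ψ hr
      rwa [hψφ, hψφ] at this
    · intro a'
      refine ⟨ψ a', hψ.1 ?_⟩
      rw [hψφ]
  exact this

/-- if `a` and `b` generate `A` and `B` freely, then `a ⊗ b` generates `A ⊗ B` freely. -/
theorem bijective_smul_tmul (a : A) (b : B) (ha : Function.Bijective (fun r : R => r • a))
    (hb : Function.Bijective (fun r : R => r • b)) :
    Function.Bijective (fun r : R => r • (a ⊗ₜ[R] b)) := by
  let ea : R ≃ₗ[R] A := LinearEquiv.ofBijective (LinearMap.toSpanSingleton R A a) ha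
  let eb : R ≃ₗ[R] B := LinearEquiv.ofBijective (LinearMap.toSpanSingleton R B b) hb
  let e : R ≃ₗ[R] A ⊗[R] B := (TensorProduct.lid R R).symm ≪≫ₗ TensorProduct.congr ea eb
  have : (fun r : R => r • (a ⊗ₜ[R] b)) = e := by
    funext r
    change _ = TensorProduct.congr ea eb ((TensorProduct.lid R R).symm r)
    rw [TensorProduct.lid_symm_apply, TensorProduct.congr_tmul]
    change _ = ((1 : R) • a) ⊗ₜ[R] (r • b)
    rw [one_smul, TensorProduct.tmul_smul]
  rw [this]
  exact e.bijective

end Alg


section Sheaf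

variable {X : Scheme.{u}}

lemma isGen_tmul (L L' : X.Modules) {U : X.Opens} (s : Γ(L, U)) (s' : Γ(L', U)) (y : X) (hy : y ∈ U)
    (h : IsGen L s y hy) (h' : IsGen L' s' y hy) :
    IsGen (CohB1.tensorMod L L') (tmul L L' s s') y hy := by
  have key : (fun r : X.presheaf.stalk y =>
      r • (CohB1.tensorMod L L').presheaf.germ U y hy (tmul L L' s s')) =
      (stalkTensorEquiv L L' y) ∘ (fun r : X.presheaf.stalk y =>
        r • (L.presheaf.germ U y hy s ⊗ₜ[X.presheaf.stalk y] L'.presheaf.germ U y hy s')) := by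
    funext r
    rw [Function.comp_apply, map_smul, stalkTensorEquiv_germ]
  unfold IsGen
  rw [key]
  exact (stalkTensorEquiv L L' y).bijective.comp (bijective_smul_tmul _ _ h h')

theorem isInvertible_tensorMod (L L' : X.Modules) (h : PicF.IsInvertible L)
    (h' : PicF.IsInvertible L') : PicF.IsInvertible (CohB1.tensorMod L L') := by
  rw [isInvertible_iff_exists_isGen] at h h' ⊢
  intro x
  obtain ⟨U, hxU, s, hs⟩ := h x
  obtain ⟨U', hxU', s', hs'⟩ := h' x
  refine ⟨U ⊓ U', ⟨hxU, hxU'⟩, tmul L L' (L.presheaf.map (homOfLE inf_le_left).op s)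
    (L'.presheaf.map (homOfLE inf_le_right).op s'), fun y hy => ?_⟩
  apply isGen_tmul
  · rw [isGen_res]; exact hs y hy.1
  · rw [isGen_res]; exact hs' y hy.2

theorem isInvertible_of_iso {L L' : X.Modules} (e : L ≅ L') (h : PicF.IsInvertible L) :
    PicF.IsInvertible L' := by
  intro x
  obtain ⟨U, hxU, ⟨e'⟩⟩ := h x
  exact ⟨U, hxU, ⟨(Scheme.Modules.restrictFunctor U.ι).mapIso e.symm ≪≫ e'⟩⟩

theorem isInvertible_structureModule : PicF.IsInvertible (Coh.structureModule X) := by
  intro x
  exact ⟨⊤, trivial, ⟨Scheme.Modules.restrictUnitIso _⟩⟩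

theorem isInvertible_tensorPow (L : X.Modules) (h : PicF.IsInvertible L) (n : ℕ) :
    PicF.IsInvertible (CohB1.tensorPow L n) := by
  induction n with
  | zero => exact isInvertible_structureModule
  | succ n ih => exact isInvertible_tensorMod _ _ ih h

end Sheaf


section TensorIso

variable {X : Scheme.{u}}

lemma stalkMap_bijective_of_isIso {M M' : X.Modules} (φ : M ⟶ M') [IsIso φ] (y : X) :
    Function.Bijective (stalkMap φ y) := by
  haveI : IsIso (stalkMap φ y) := by
    change IsIso ((TopCat.Presheaf.stalkFunctor Ab y).map φ.mapPresheaf)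
    have : IsIso φ.mapPresheaf := by
      change IsIso ((Scheme.Modules.toPresheaf X).map φ)
      infer_instance
    infer_instance
  exact (ConcreteCategory.isIso_iff_bijective _).1 inferInstance

/-- the linear equivalence on stalks induced by an isomorphism of modules. -/
noncomputable def stalkLinearEquiv {M M' : X.Modules} (e : M ≅ M') (y : X) :
    M.presheaf.stalk y ≃ₗ[X.presheaf.stalk y] M'.presheaf.stalk y :=
  LinearEquiv.ofBijective (stalkLinearMap e.hom y) (stalkMap_bijective_of_isIso e.hom y)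

variable (L N : X.Modules) (e : CohB1.tensorMod L N ≅ Coh.structureModule X)

/-- the trivialisation of the tensor product of the stalks induced by `L ⊗ N ≅ O`. -/
noncomputable def εStalk (y : X) :
    (L.presheaf.stalk y ⊗[X.presheaf.stalk y] N.presheaf.stalk y) ≃ₗ[X.presheaf.stalk y]
      X.presheaf.stalk y :=
  (stalkTensorEquiv L N y) ≪≫ₗ (stalkLinearEquiv e y) ≪≫ₗ
    (Groth.Agent.Helper13.WeakAss.unitStalkEquiv y)

lemma εStalk_germ (y : X) {W : X.Opens} (hy : y ∈ W) (s : Γ(L, W)) (t : Γ(N, W)) :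
    εStalk L N e y (L.presheaf.germ W y hy s ⊗ₜ N.presheaf.germ W y hy t) =
      X.presheaf.germ W y hy (LocFree.ofO W (e.hom.app W (tmul L N s t))) := by
  change Groth.Agent.Helper13.WeakAss.unitStalkEquiv y (stalkMap e.hom y (stalkTensorEquiv L N y _)) = _
  rw [stalkTensorEquiv_germ, stalkMap_germ, Groth.Agent.Helper13.WeakAss.unitStalkEquiv_germ]

include N e in
theorem isInvertible_of_tensor_iso : PicF.IsInvertible L := by
  rw [isInvertible_iff_exists_isGen]
  intro x
  -- a pure tensor mapping to a unit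
  obtain ⟨S, hS⟩ := TensorProduct.exists_finset ((εStalk L N e x).symm 1)
  have h1 : (1 : X.presheaf.stalk x) = ∑ i ∈ S, εStalk L N e x (i.1 ⊗ₜ i.2) := by
    rw [← map_sum, ← hS, LinearEquiv.apply_symm_apply]
  obtain ⟨⟨a, b₀⟩, -, hu⟩ := IsLocalRing.exists_of_isUnit_sum (h1 ▸ isUnit_one)
  obtain ⟨u, hu⟩ := hu
  let b : N.presheaf.stalk x := (↑u⁻¹ : X.presheaf.stalk x) • b₀
  have hab : εStalk L N e x (a ⊗ₜ b) = 1 := by
    change εStalk L N e x (a ⊗ₜ ((↑u⁻¹ : X.presheaf.stalk x) • b₀)) = 1
    rw [TensorProduct.tmul_smul, map_smul, ← hu, smul_eq_mul, Units.inv_mul]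
  -- representatives
  obtain ⟨W, hW, r₀, s, -, t, -, -, rfl, -, hb, -⟩ :=
    exists_rep (CohB1.toPMod L) (CohB1.toPMod N) x 0 a 0 b 0
  have hab' : εStalk L N e x (L.presheaf.germ W x hW s ⊗ₜ N.presheaf.germ W x hW t) = 1 := by
    rw [← hab]
    congr 2
  rw [εStalk_germ] at hab'
  have h1' : X.presheaf.germ W x hW (LocFree.ofO W (e.hom.app W (tmul L N s t))) =
      X.presheaf.germ W x hW 1 := by rw [hab', map_one]
  obtain ⟨W', hW', i₁, i₂, hc⟩ := TopCat.Presheaf.germ_eq X.presheaf x hW hW _ _ h1'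
  refine ⟨W', hW', L.presheaf.map i₁.op s, fun y hy => ?_⟩
  apply bijective_smul_of_tensor_equiv (εStalk L N e y) _
    (N.presheaf.germ W' y hy (N.presheaf.map i₁.op t))
  rw [εStalk_germ, ← tmul_res]
  have hnat : e.hom.app W' ((CohB1.tensorMod L N).presheaf.map i₁.op (tmul L N s t)) =
      (Coh.structureModule X).presheaf.map i₁.op (e.hom.app W (tmul L N s t)) := by
    have := e.hom.mapPresheaf.naturality i₁.op
    exact congr($this (tmul L N s t))
  rw [hnat]
  change X.presheaf.germ W' y hy (X.presheaf.map i₁.op (LocFree.ofO W (e.hom.app W (tmul L N s t)))) = 1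
  rw [hc, map_one, map_one]

end TensorIso

end Groth.Agent.Helper13.Inv
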