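import Mathlib
import Groth.Agent.Lib.Helper13.InvTensor
import Groth.Prelude.Def_SecTwist

set_option autoImplicit false
universe u
open CategoryTheory CategoryTheory.Limits AlgebraicGeometry Opposite TopologicalSpace TensorProduct
open Groth.Agent.Helper13.QCoh Groth.Agent.Helper13.FinType Groth.Agent.Helper13.Tensor
open Groth.Agent.Helper13.Inv

namespace Groth.Agent.Helper13.GenLoc

variable {X Y : Scheme.{u}}

section Restrict

variable (f : X ⟶ Y) [IsOpenImmersion f] {M N : Y.Modules} (φ : M ⟶ N)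

lemma τ_stalkMap (x : X) (m : (M.restrict f).presheaf.stalk x) :
    τ f N x (stalkMap ((Scheme.Modules.restrictFunctor f).map φ) x m) =
      stalkMap φ (f x) (τ f M x m) := by
  obtain ⟨U, hxU, t, rfl⟩ := TopCat.Presheaf.exists_germ_eq (M.restrict f).presheaf m
  rw [stalkMap_germ, τ_germ, τ_germ, stalkMap_germ]
  rfl

lemma stalkMap_restrict_bijective_iff (x : X) :
    Function.Bijective (stalkMap ((Scheme.Modules.restrictFunctor f).map φ) x) ↔
      Function.Bijective (stalkMap φ (f x)) := by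
  have h : (τ f N x) ∘ (stalkMap ((Scheme.Modules.restrictFunctor f).map φ) x) =
      (stalkMap φ (f x)) ∘ (τ f M x) := by
    funext m
    exact τ_stalkMap f φ x m
  constructor
  · intro hb
    have h1 : Function.Bijective ((stalkMap φ (f x)) ∘ (τ f M x)) := by
      rw [← h]; exact (τ f N x).bijective.comp hb
    exact (Function.Bijective.of_comp_iff _ (τ f M x).bijective).1 h1
  · intro hb
    have h1 : Function.Bijective ((τ f N x) ∘
        (stalkMap ((Scheme.Modules.restrictFunctor f).map φ) x)) := by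
      rw [h]; exact hb.comp (τ f M x).bijective
    exact (Function.Bijective.of_comp_iff' (τ f N x).bijective _).1 h1

end Restrict

section IsoLocal

variable {M N : X.Modules} (φ : M ⟶ N)

theorem isIso_restrict_iff (U : X.Opens) :
    IsIso ((Scheme.Modules.restrictFunctor U.ι).map φ) ↔
      ∀ x ∈ U, Function.Bijective (stalkMap φ x) := by
  constructor
  · intro h x hx
    have := stalkMap_bijective_of_isIso ((Scheme.Modules.restrictFunctor U.ι).map φ) ⟨x, hx⟩
    exact (stalkMap_restrict_bijective_iff U.ι φ ⟨x, hx⟩).1 this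
  · intro h
    apply Groth.Agent.Helper13.LocFree.isIso_of_stalk_bijective
    intro x
    exact (stalkMap_restrict_bijective_iff U.ι φ x).2 (h _ x.2)

end IsoLocal

section GenLocus

variable (L : X.Modules) (s : Coh.structureModule X ⟶ L)

theorem mem_genLocus_iff (x : X) :
    x ∈ CohB1.genLocus L s ↔ ∃ U : X.Opens, x ∈ U ∧ ∀ y ∈ U, Function.Bijective (stalkMap s y) := by
  unfold CohB1.genLocus
  rw [TopologicalSpace.Opens.mem_sSup]
  constructor
  · rintro ⟨U, hU, hx⟩
    exact ⟨U, hx, (isIso_restrict_iff s U).1 hU⟩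
  · rintro ⟨U, hx, hU⟩
    exact ⟨U, (isIso_restrict_iff s U).2 hU, hx⟩

theorem stalkMap_bijective_of_mem_genLocus {x : X} (hx : x ∈ CohB1.genLocus L s) :
    Function.Bijective (stalkMap s x) := by
  obtain ⟨U, hxU, h⟩ := (mem_genLocus_iff L s x).1 hx
  exact h x hxU

theorem isIso_restrict_genLocus :
    IsIso ((Scheme.Modules.restrictFunctor (CohB1.genLocus L s).ι).map s) :=
  (isIso_restrict_iff s _).2 (fun _ hx => stalkMap_bijective_of_mem_genLocus L s hx)

theorem le_genLocus_iff (U : X.Opens) :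
    U ≤ CohB1.genLocus L s ↔ IsIso ((Scheme.Modules.restrictFunctor U.ι).map s) := by
  rw [isIso_restrict_iff]
  constructor
  · intro h x hx
    exact stalkMap_bijective_of_mem_genLocus L s (h hx)
  · intro h x hx
    exact (mem_genLocus_iff L s x).2 ⟨U, hx, h⟩

/-- the global section named by `s`. -/
noncomputable abbrev sec : Γ(L, ⊤) := PicF2.secVal L s ⊤

lemma homOfSec_sec : LocFree.homOfSec L (sec L s) = s := by
  apply L.unitHomEquiv.injective
  unfold LocFree.homOfSec
  rw [Equiv.apply_symm_apply]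
  apply PresheafOfModules.sections_ext
  intro V
  exact (SecTwist.map_val s (homOfLE (le_top : V.unop ≤ ⊤)))

lemma stalkMap_hom (y : X) (a : (Coh.structureModule X).presheaf.stalk y) :
    stalkMap s y a =
      (Groth.Agent.Helper13.WeakAss.unitStalkEquiv y a) • L.presheaf.germ ⊤ y trivial (sec L s) := by
  have h := stalkMap_homOfSec L (sec L s) y a
  rw [homOfSec_sec] at h
  exact h

lemma stalkMap_bijective_iff_isGen (y : X) :
    Function.Bijective (stalkMap s y) ↔ IsGen L (sec L s) y trivial := by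
  have key : (stalkMap s y : _ → _) =
      (fun r : X.presheaf.stalk y => r • L.presheaf.germ ⊤ y trivial (sec L s)) ∘
        (Groth.Agent.Helper13.WeakAss.unitStalkEquiv y) := by
    funext a
    exact stalkMap_hom L s y a
  rw [key]
  exact Function.Bijective.of_comp_iff _ (Groth.Agent.Helper13.WeakAss.unitStalkEquiv y).bijective

theorem mem_genLocus_iff_exists_isGen (x : X) :
    x ∈ CohB1.genLocus L s ↔
      ∃ U : X.Opens, x ∈ U ∧ ∀ y ∈ U, IsGen L (sec L s) y trivial := by
  rw [mem_genLocus_iff]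
  simp only [stalkMap_bijective_iff_isGen]

theorem isGen_of_mem_genLocus {x : X} (hx : x ∈ CohB1.genLocus L s) :
    IsGen L (sec L s) x trivial :=
  (stalkMap_bijective_iff_isGen L s x).1 (stalkMap_bijective_of_mem_genLocus L s hx)

end GenLocus

section Gen

variable (L : X.Modules)

lemma isGen_smul_iff {U : X.Opens} (e : Γ(L, U)) (a : Γ(X, U)) (y : X) (hy : y ∈ U)
    (he : IsGen L e y hy) : IsGen L (a • e) y hy ↔ y ∈ X.basicOpen a := by
  rw [Scheme.mem_basicOpen _ _ y hy, IsUnit.isUnit_iff_mulRight_bijective]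
  unfold IsGen at he ⊢
  have key : (fun r : X.presheaf.stalk y => r • L.presheaf.germ U y hy (a • e)) =
      (fun r : X.presheaf.stalk y => r • L.presheaf.germ U y hy e) ∘
        (fun r : X.presheaf.stalk y => r * X.presheaf.germ U y hy a) := by
    funext r
    rw [Function.comp_apply, Tensor.germ_smul, mul_smul]
  rw [key]
  exact Function.Bijective.of_comp_iff' he _

lemma exists_eq_smul_of_isGen {U : X.Opens} (e : Γ(L, U)) (y : X) (hy : y ∈ U)
    (he : IsGen L e y hy) {V : X.Opens} (hyV : y ∈ V) (t : Γ(L, V)) :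
    ∃ (W : X.Opens) (_ : y ∈ W) (hWU : W ≤ U) (hWV : W ≤ V) (a : Γ(X, W)),
      L.presheaf.map (homOfLE hWV).op t = a • L.presheaf.map (homOfLE hWU).op e := by
  obtain ⟨r, hr⟩ := he.2 (L.presheaf.germ V y hyV t)
  obtain ⟨W₁, hyW₁, a₁, rfl⟩ := TopCat.Presheaf.exists_germ_eq X.presheaf r
  let W₂ : X.Opens := W₁ ⊓ U ⊓ V
  have hyW₂ : y ∈ W₂ := ⟨⟨hyW₁, hy⟩, hyV⟩
  have h1 : L.presheaf.germ W₂ y hyW₂ (X.presheaf.map (homOfLE (inf_le_left.trans inf_le_left : W₂ ≤ W₁)).op a₁ •
      L.presheaf.map (homOfLE (inf_le_left.trans inf_le_right : W₂ ≤ U)).op e) =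
      L.presheaf.germ W₂ y hyW₂ (L.presheaf.map (homOfLE (inf_le_right : W₂ ≤ V)).op t) := by
    rw [Tensor.germ_smul, TopCat.Presheaf.germ_res_apply, TopCat.Presheaf.germ_res_apply,
      TopCat.Presheaf.germ_res_apply]
    exact hr
  obtain ⟨W, hyW, i₁, i₂, hc⟩ := TopCat.Presheaf.germ_eq L.presheaf y hyW₂ hyW₂ _ _ h1
  refine ⟨W, hyW, i₁.le.trans (inf_le_left.trans inf_le_right), i₁.le.trans inf_le_right,
    X.presheaf.map i₁.op (X.presheaf.map (homOfLE (inf_le_left.trans inf_le_left : W₂ ≤ W₁)).op a₁), ?_⟩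
  rw [Scheme.Modules.map_smul] at hc
  have e1 : L.presheaf.map i₁.op (L.presheaf.map (homOfLE (inf_le_left.trans inf_le_right : W₂ ≤ U)).op e) =
      L.presheaf.map (homOfLE (i₁.le.trans (inf_le_left.trans inf_le_right))).op e :=
    map_map_eq L _ _ _ e
  have e2 : L.presheaf.map i₂.op (L.presheaf.map (homOfLE (inf_le_right : W₂ ≤ V)).op t) =
      L.presheaf.map (homOfLE (i₁.le.trans inf_le_right)).op t :=
    map_map_eq L _ _ _ t
  rw [e1, e2] at hc
  exact hc.symm

variable (s : Coh.structureModule X ⟶ L)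

theorem mem_genLocus_iff_isGen_of_gen {U : X.Opens} (e : Γ(L, U))
    (he : ∀ (y : X) (hy : y ∈ U), IsGen L e y hy) (x : X) (hx : x ∈ U) :
    x ∈ CohB1.genLocus L s ↔ IsGen L (sec L s) x trivial := by
  refine ⟨isGen_of_mem_genLocus L s, fun hgen => ?_⟩
  obtain ⟨W, hxW, hWU, _, a, ha⟩ :=
    exists_eq_smul_of_isGen L e x hx (he x hx) (V := ⊤) trivial (sec L s)
  have he' : ∀ (y : X) (hy : y ∈ W), IsGen L (L.presheaf.map (homOfLE hWU).op e) y hy :=
    fun y hy => (isGen_res L (homOfLE hWU) e y hy).2 (he y (hWU hy))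
  have hxa : x ∈ X.basicOpen a := by
    rw [← isGen_smul_iff L _ a x hxW (he' x hxW), ← ha, isGen_res]
    exact hgen
  rw [mem_genLocus_iff_exists_isGen]
  refine ⟨X.basicOpen a, hxa, fun y hy => ?_⟩
  have hyW : y ∈ W := X.basicOpen_le a hy
  rw [← isGen_res L (homOfLE (le_top : W ≤ ⊤)) (sec L s) y hyW, ha,
    isGen_smul_iff L _ a y hyW (he' y hyW)]
  exact hy

theorem mem_genLocus_iff_isGen (hL : PicF.IsInvertible L) (x : X) :
    x ∈ CohB1.genLocus L s ↔ IsGen L (sec L s) x trivial := by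
  obtain ⟨U, hxU, e, he⟩ := (isInvertible_iff_exists_isGen L).1 hL x
  exact mem_genLocus_iff_isGen_of_gen L s e he x hxU

theorem genLocus_inf_eq_basicOpen {U : X.Opens} (e : Γ(L, U))
    (he : ∀ (y : X) (hy : y ∈ U), IsGen L e y hy) (a : Γ(X, U))
    (ha : L.presheaf.map (homOfLE (le_top : U ≤ ⊤)).op (sec L s) = a • e) :
    CohB1.genLocus L s ⊓ U = X.basicOpen a := by
  ext y
  constructor
  · rintro ⟨hy1, hy2⟩
    have hy1 : y ∈ CohB1.genLocus L s := hy1
    have hy2 : y ∈ U := hy2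
    rw [mem_genLocus_iff_isGen_of_gen L s e he y hy2] at hy1
    change y ∈ X.basicOpen a
    rw [← isGen_smul_iff L e a y hy2 (he y hy2), ← ha, isGen_res]
    exact hy1
  · intro hy
    have hy : y ∈ X.basicOpen a := hy
    have hy2 : y ∈ U := X.basicOpen_le a hy
    refine ⟨?_, hy2⟩
    change y ∈ CohB1.genLocus L s
    rw [mem_genLocus_iff_isGen_of_gen L s e he y hy2,
      ← isGen_res L (homOfLE (le_top : U ≤ ⊤)) (sec L s) y hy2, ha,
      isGen_smul_iff L e a y hy2 (he y hy2)]
    exact hy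

/-- every point has an affine neighbourhood on which `X_s` is a basic open. -/
theorem exists_affine_genLocus_inf_eq_basicOpen (hL : PicF.IsInvertible L) (x : X) :
    ∃ (U : X.Opens) (_ : x ∈ U) (_ : IsAffineOpen U) (e : Γ(L, U))
      (_ : ∀ (y : X) (hy : y ∈ U), IsGen L e y hy) (a : Γ(X, U)),
      L.presheaf.map (homOfLE (le_top : U ≤ ⊤)).op (sec L s) = a • e ∧
        CohB1.genLocus L s ⊓ U = X.basicOpen a := by
  obtain ⟨U₀, hxU₀, e₀, he₀⟩ := (isInvertible_iff_exists_isGen L).1 hL x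
  obtain ⟨W, hxW, hWU, _, a, ha⟩ :=
    exists_eq_smul_of_isGen L e₀ x hxU₀ (he₀ x hxU₀) (V := ⊤) trivial (sec L s)
  obtain ⟨U, hU, hxU, hUW⟩ := exists_isAffineOpen_mem_and_subset hxW
  have hUW' : U ≤ W := hUW
  refine ⟨U, hxU, hU, L.presheaf.map (homOfLE (hUW'.trans hWU)).op e₀,
    fun y hy => (isGen_res L (homOfLE (hUW'.trans hWU)) e₀ y hy).2 (he₀ y (hWU (hUW' hy))),
    X.presheaf.map (homOfLE hUW').op a, ?_, ?_⟩
  · have := congrArg (L.presheaf.map (homOfLE hUW').op) ha
    rw [Scheme.Modules.map_smul, map_map_eq L _ _ (homOfLE (le_top : U ≤ ⊤)).op,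
      map_map_eq L _ _ (homOfLE (hUW'.trans hWU)).op] at this
    exact this
  · apply genLocus_inf_eq_basicOpen L s _
      (fun y hy => (isGen_res L (homOfLE (hUW'.trans hWU)) e₀ y hy).2 (he₀ y (hWU (hUW' hy))))
    have := congrArg (L.presheaf.map (homOfLE hUW').op) ha
    rw [Scheme.Modules.map_smul, map_map_eq L _ _ (homOfLE (le_top : U ≤ ⊤)).op,
      map_map_eq L _ _ (homOfLE (hUW'.trans hWU)).op] at this
    exact this

end Gen

end Groth.Agent.Helper13.GenLoc
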