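import Mathlib
import Groth.Agent.Lib.Helper13.GenLocus

set_option autoImplicit false
universe u
open CategoryTheory CategoryTheory.Limits AlgebraicGeometry Opposite TopologicalSpace TensorProduct
open Groth.Agent.Helper13.QCoh Groth.Agent.Helper13.FinType Groth.Agent.Helper13.Tensor
open Groth.Agent.Helper13.Inv

namespace Groth.Agent.Helper13.GenLoc

variable {X : Scheme.{u}}

/-- near any point of `U`, a section of an invertible module is a multiple of a generator. -/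
theorem exists_local_rep (L : X.Modules) (hL : PicF.IsInvertible L) {U : X.Opens} (s : Γ(L, U))
    (x : X) (hx : x ∈ U) :
    ∃ (W : X.Opens) (_ : x ∈ W) (hWU : W ≤ U) (e : Γ(L, W))
      (_ : ∀ (y : X) (hy : y ∈ W), IsGen L e y hy) (a : Γ(X, W)),
      L.presheaf.map (homOfLE hWU).op s = a • e := by
  obtain ⟨U₀, hxU₀, e₀, he₀⟩ := (isInvertible_iff_exists_isGen L).1 hL x
  obtain ⟨W, hxW, hWU₀, hWU, a, ha⟩ :=
    exists_eq_smul_of_isGen L e₀ x hxU₀ (he₀ x hxU₀) hx s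
  exact ⟨W, hxW, hWU, L.presheaf.map (homOfLE hWU₀).op e₀,
    fun y hy => (isGen_res L (homOfLE hWU₀) e₀ y hy).2 (he₀ y (hWU₀ hy)), a, ha⟩

/-- restricting a local representation. -/
theorem local_rep_res (L : X.Modules) {U W W' : X.Opens} (s : Γ(L, U)) (hWU : W ≤ U)
    (hW' : W' ≤ W) (e : Γ(L, W)) (he : ∀ (y : X) (hy : y ∈ W), IsGen L e y hy) (a : Γ(X, W))
    (ha : L.presheaf.map (homOfLE hWU).op s = a • e) :
    (∀ (y : X) (hy : y ∈ W'), IsGen L (L.presheaf.map (homOfLE hW').op e) y hy) ∧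
      L.presheaf.map (homOfLE (hW'.trans hWU)).op s =
        X.presheaf.map (homOfLE hW').op a • L.presheaf.map (homOfLE hW').op e := by
  refine ⟨fun y hy => (isGen_res L (homOfLE hW') e y hy).2 (he y (hW' hy)), ?_⟩
  have := congrArg (L.presheaf.map (homOfLE hW').op) ha
  rw [Scheme.Modules.map_smul, map_map_eq L _ _ (homOfLE (hW'.trans hWU)).op] at this
  exact this

theorem isGen_tmul_iff (L L' : X.Modules) (hL : PicF.IsInvertible L) (hL' : PicF.IsInvertible L')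
    {U : X.Opens} (s : Γ(L, U)) (t : Γ(L', U)) (x : X) (hx : x ∈ U) :
    IsGen (CohB1.tensorMod L L') (tmul L L' s t) x hx ↔ IsGen L s x hx ∧ IsGen L' t x hx := by
  refine ⟨fun h => ?_, fun h => isGen_tmul L L' s t x hx h.1 h.2⟩
  obtain ⟨W₁, hxW₁, hW₁U, e₁, he₁, a₁, ha₁⟩ := exists_local_rep L hL s x hx
  obtain ⟨W₂, hxW₂, hW₂U, e₂, he₂, a₂, ha₂⟩ := exists_local_rep L' hL' t x hx
  obtain ⟨he, ha⟩ := local_rep_res L s hW₁U (inf_le_left : W₁ ⊓ W₂ ≤ W₁) e₁ he₁ a₁ ha₁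
  obtain ⟨he', ha'⟩ := local_rep_res L' t hW₂U (inf_le_right : W₁ ⊓ W₂ ≤ W₂) e₂ he₂ a₂ ha₂
  have hxW : x ∈ W₁ ⊓ W₂ := ⟨hxW₁, hxW₂⟩
  have hWU : W₁ ⊓ W₂ ≤ U := inf_le_left.trans hW₁U
  rw [← isGen_res _ (homOfLE hWU) _ x hxW, tmul_res, ha, ha', tmul_smul_left, tmul_smul_right,
    ← mul_smul, isGen_smul_iff _ _ _ x hxW (isGen_tmul L L' _ _ x hxW (he x hxW) (he' x hxW)),
    Scheme.basicOpen_mul] at h
  rw [← isGen_res L (homOfLE hWU) s x hxW, ← isGen_res L' (homOfLE hWU) t x hxW, ha, ha',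
    isGen_smul_iff L _ _ x hxW (he x hxW), isGen_smul_iff L' _ _ x hxW (he' x hxW)]
  exact h

end Groth.Agent.Helper13.GenLoc
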