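import Mathlib
import Groth.Agent.Lib.Helper13.GenLocusTensor

set_option autoImplicit false
universe u
open CategoryTheory CategoryTheory.Limits AlgebraicGeometry Opposite TopologicalSpace TensorProduct
open Groth.Agent.Helper13.QCoh Groth.Agent.Helper13.FinType Groth.Agent.Helper13.Tensor
open Groth.Agent.Helper13.Inv

namespace Groth.Agent.Helper13.GenLoc

variable {X : Scheme.{u}}

theorem isAffineHom_genLocus_ι (L : X.Modules) (hL : PicF.IsInvertible L)
    (s : Coh.structureModule X ⟶ L) : IsAffineHom (CohB1.genLocus L s).ι := by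
  apply isAffineHom_of_forall_exists_isAffineOpen
  intro x
  obtain ⟨U, hxU, hU, e, he, a, ha, hG⟩ := exists_affine_genLocus_inf_eq_basicOpen L s hL x
  refine ⟨U, hxU, hU, ?_⟩
  rw [← Scheme.Hom.isAffineOpen_iff_of_isOpenImmersion (CohB1.genLocus L s).ι]
  have : (CohB1.genLocus L s).ι ''ᵁ ((CohB1.genLocus L s).ι ⁻¹ᵁ U) = X.basicOpen a := by
    rw [← hG, Scheme.Hom.image_preimage_eq_opensRange_inf, Scheme.Opens.opensRange_ι]
  rw [this]
  exact hU.basicOpen a

theorem isAffineOpen_genLocus_inf (L : X.Modules) (hL : PicF.IsInvertible L)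
    (s : Coh.structureModule X ⟶ L) {V : X.Opens} (hV : IsAffineOpen V) :
    IsAffineOpen (CohB1.genLocus L s ⊓ V) := by
  haveI := isAffineHom_genLocus_ι L hL s
  have h := hV.preimage (CohB1.genLocus L s).ι
  rw [← Scheme.Hom.isAffineOpen_iff_of_isOpenImmersion (CohB1.genLocus L s).ι,
    Scheme.Hom.image_preimage_eq_opensRange_inf, Scheme.Opens.opensRange_ι] at h
  exact h

theorem isAffineOpen_genLocus_of_le (L : X.Modules) (hL : PicF.IsInvertible L)
    (s : Coh.structureModule X ⟶ L) {V : X.Opens} (hV : IsAffineOpen V)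
    (h : CohB1.genLocus L s ≤ V) : IsAffineOpen (CohB1.genLocus L s) := by
  have := isAffineOpen_genLocus_inf L hL s hV
  rwa [inf_eq_left.2 h] at this

end Groth.Agent.Helper13.GenLoc
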