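import Groth.Agent.Lib.Helper13.QCohWeakAss
import Mathlib.AlgebraicGeometry.Noetherian
import Mathlib.Algebra.Category.ModuleCat.Sheaf.LocallyFree

set_option autoImplicit false
universe u
open CategoryTheory CategoryTheory.Limits AlgebraicGeometry TopologicalSpace Opposite

namespace Groth.Agent.Helper13.QCoh

variable {X : Scheme.{u}}

lemma primeIdealOf_le_iff {V : X.Opens} (hV : IsAffineOpen V) (y z : X) (hy : y ∈ V) (hz : z ∈ V) :
    (hV.primeIdealOf ⟨y, hy⟩).asIdeal ≤ (hV.primeIdealOf ⟨z, hz⟩).asIdeal ↔ y ⤳ z := by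
  have h := PrimeSpectrum.le_iff_specializes (hV.primeIdealOf ⟨y, hy⟩) (hV.primeIdealOf ⟨z, hz⟩)
  have h' : hV.primeIdealOf ⟨y, hy⟩ ≤ hV.primeIdealOf ⟨z, hz⟩ ↔
      (hV.primeIdealOf ⟨y, hy⟩).asIdeal ≤ (hV.primeIdealOf ⟨z, hz⟩).asIdeal := Iff.rfl
  have h2 : hV.fromSpec (hV.primeIdealOf ⟨y, hy⟩) ⤳ hV.fromSpec (hV.primeIdealOf ⟨z, hz⟩) ↔
      hV.primeIdealOf ⟨y, hy⟩ ⤳ hV.primeIdealOf ⟨z, hz⟩ :=
    hV.fromSpec.isOpenEmbedding.toIsInducing.specializes_iff
  have e1 : hV.fromSpec (hV.primeIdealOf ⟨y, hy⟩) = y := hV.fromSpec_primeIdealOf ⟨y, hy⟩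
  have e2 : hV.fromSpec (hV.primeIdealOf ⟨z, hz⟩) = z := hV.fromSpec_primeIdealOf ⟨z, hz⟩
  rw [e1, e2] at h2
  exact h'.symm.trans (h.trans h2.symm)

/-- the germ of a function lies in the maximal ideal iff the function lies in the prime of the point -/
lemma germ_mem_maximalIdeal_iff {V : X.Opens} (hV : IsAffineOpen V) (x : X) (hx : x ∈ V) (a : Γ(X, V)) :
    X.presheaf.germ V x hx a ∈ IsLocalRing.maximalIdeal (X.presheaf.stalk x) ↔
      a ∈ (hV.primeIdealOf ⟨x, hx⟩).asIdeal := by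
  rw [IsLocalRing.mem_maximalIdeal, mem_nonunits_iff, ← X.mem_basicOpen a x hx,
    mem_basicOpen_iff_notMem_primeIdealOf hV x hx a, not_not]

/-- In a Noetherian local ring, a weakly associated witness can be improved to an element whose
annihilator is exactly the maximal ideal. -/
lemma exists_ann_eq_maximalIdeal {R : Type*} [CommRing R] [IsLocalRing R] [IsNoetherianRing R]
    {N : Type*} [AddCommGroup N] [Module R N] (m : N)
    (hm : Ideal.radical (LinearMap.ker (LinearMap.toSpanSingleton R N m)) = IsLocalRing.maximalIdeal R) :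
    ∃ m' : N, m' ≠ 0 ∧ ∀ r ∈ IsLocalRing.maximalIdeal R, r • m' = 0 := by
  have hass : IsAssociatedPrime (IsLocalRing.maximalIdeal R) N := by
    refine ⟨(IsLocalRing.maximalIdeal.isMaximal R).isPrime, m, ?_⟩
    rw [colon_bot_singleton_eq_ker]
    exact hm.symm
  obtain ⟨-, m', hm'⟩ := Submodule.isAssociatedPrime_iff.1 hass
  rw [colon_bot_singleton_eq_ker] at hm'
  refine ⟨m', ?_, ?_⟩
  · intro h0
    have : (1 : R) ∈ IsLocalRing.maximalIdeal R := by
      rw [hm', LinearMap.mem_ker, LinearMap.toSpanSingleton_apply, h0, smul_zero]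
    exact (IsLocalRing.maximalIdeal.isMaximal R).ne_top ((Ideal.eq_top_iff_one _).2 this)
  · intro r hr
    rw [hm', LinearMap.mem_ker, LinearMap.toSpanSingleton_apply] at hr
    exact hr

section AssNoeth

variable [IsLocallyNoetherian X] (F : X.Modules) [F.IsQuasicoherent] {V : X.Opens}
  (hV : IsAffineOpen V)

include hV in
/-- at an associated point `x` of a quasi-coherent module on a locally Noetherian scheme, there is a
section over any affine neighbourhood with nonzero germ at `x` killed by the prime ideal of `x` -/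
theorem exists_section_smul_eq_zero_of_isWeakAssPoint (x : X) (hx : x ∈ V)
    (hass : Curv2.IsWeakAssPoint F x) :
    ∃ t : Γ(F, V), F.presheaf.germ V x hx t ≠ 0 ∧
      ∀ a ∈ (hV.primeIdealOf ⟨x, hx⟩).asIdeal, a • t = 0 := by
  classical
  obtain ⟨m, hm⟩ := hass
  obtain ⟨m', hm'0, hm'⟩ := exists_ann_eq_maximalIdeal m hm
  obtain ⟨g, hxg, t, hgt⟩ := exists_germ_smul_eq F hV x hx m'
  have hgerm_t : F.presheaf.germ V x hx t ≠ 0 := by
    intro h0
    rw [h0] at hgt
    exact hm'0 (eq_zero_of_germ_smul_eq_zero F x hx g hxg m' hgt)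
  have hN : IsNoetherianRing Γ(X, V) := IsLocallyNoetherian.component_noetherian ⟨V, hV⟩
  obtain ⟨s, hs⟩ := (IsNoetherian.noetherian (hV.primeIdealOf ⟨x, hx⟩).asIdeal :
    (hV.primeIdealOf ⟨x, hx⟩).asIdeal.FG)
  have hkill : ∀ a ∈ s, ∃ ga : Γ(X, V), x ∈ X.basicOpen ga ∧ ga • (a • t) = 0 := by
    intro a ha
    have hap : a ∈ (hV.primeIdealOf ⟨x, hx⟩).asIdeal := hs ▸ Submodule.subset_span ha
    apply exists_smul_eq_zero_of_germ_eq_zero F hV x hx
    rw [germ_smul, ← hgt, smul_comm, hm' _ ((germ_mem_maximalIdeal_iff hV x hx a).2 hap), smul_zero]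
  choose! ga hga hgat using hkill
  set G : Γ(X, V) := ∏ a ∈ s, ga a with hG
  have hxG : x ∈ X.basicOpen G := by
    rw [X.mem_basicOpen G x hx, hG, map_prod]
    exact IsUnit.prod_iff.2 (fun a ha => (X.mem_basicOpen (ga a) x hx).1 (hga a ha))
  refine ⟨G • t, ?_, ?_⟩
  · intro h0
    rw [germ_smul] at h0
    exact hgerm_t (eq_zero_of_germ_smul_eq_zero F x hx G hxG _ h0)
  · intro a ha
    rw [← hs] at ha
    refine Submodule.span_induction (p := fun a _ => a • (G • t) = 0) ?_ ?_ ?_ ?_ ha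
    · intro a has
      obtain ⟨w, hw⟩ := Finset.dvd_prod_of_mem ga has
      have : a • (G • t) = w • (ga a • (a • t)) := by
        rw [hG, hw, smul_smul, smul_smul, smul_smul]
        congr 1
        ring
      rw [this, hgat a has, smul_zero]
    · rw [zero_smul]
    · intro a b _ _ h1 h2
      rw [add_smul, h1, h2, add_zero]
    · intro c a _ h1
      rw [smul_eq_mul, mul_smul, h1, smul_zero]

end AssNoeth

end Groth.Agent.Helper13.QCoh

namespace Groth.Agent.Helper13.QCoh

lemma isQuasicoherent_unit (X : Scheme.{u}) : (SheafOfModules.unit X.ringCatSheaf).IsQuasicoherent := by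
  have h : (SheafOfModules.free (R := X.ringCatSheaf) PUnit.{u+1}).IsQuasicoherent := inferInstance
  have e : SheafOfModules.free (R := X.ringCatSheaf) PUnit.{u+1} ≅ SheafOfModules.unit X.ringCatSheaf :=
    coproductUniqueIso (fun _ : PUnit.{u+1} => SheafOfModules.unit X.ringCatSheaf)
  exact (SheafOfModules.isQuasicoherent X.ringCatSheaf).prop_of_iso e h

end Groth.Agent.Helper13.QCoh
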