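import Mathlib
import Groth.Agent.Lib.Helper13.GenLocusAffine
import Groth.Agent.Lib.Helper13.QCohLocal
import Groth.Agent.Lib.Helper13.QCohAss

set_option autoImplicit false
universe u
open CategoryTheory CategoryTheory.Limits AlgebraicGeometry Opposite TopologicalSpace TensorProduct
open Groth.Agent.Helper13.QCoh Groth.Agent.Helper13.FinType Groth.Agent.Helper13.Tensor
open Groth.Agent.Helper13.Inv

namespace Groth.Agent.Helper13.Inv

variable {X : Scheme.{u}}

/-- the tautological presentation of a free module. -/
noncomputable def presentationFree (I : Type u) :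
    (SheafOfModules.free (R := X.ringCatSheaf) I).Presentation where
  generators := SheafOfModules.free.generatingSections I
  relations :=
    { I := ULift Empty
      s := fun j => Empty.rec _ j.down
      epi := IsZero.epi (IsZero.of_iso (isZero_zero _) (Limits.kernel.ofMono _)) _ }

theorem isQuasicoherent_of_isInvertible (L : X.Modules) (hL : PicF.IsInvertible L) :
    L.IsQuasicoherent := by
  choose U hxU e using hL
  refine Groth.Agent.Helper13.QCohLocal.isQuasicoherent_of_presentations L U ?_ (fun x => ⟨?_⟩)
  · rw [IsOpenCover, eq_top_iff]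
    intro x _
    exact Opens.mem_iSup.2 ⟨x, hxU x⟩
  · let e0 : SheafOfModules.free (R := (U x : Scheme.{u}).ringCatSheaf) PUnit.{u+1} ≅
        SheafOfModules.unit (U x : Scheme.{u}).ringCatSheaf :=
      coproductUniqueIso (fun _ : PUnit.{u+1} => SheafOfModules.unit (U x : Scheme.{u}).ringCatSheaf)
    exact SheafOfModules.Presentation.ofIsIso.{u, u, u} (e0.hom ≫ (e x).some.inv)
      (presentationFree PUnit.{u+1})

end Groth.Agent.Helper13.Inv
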