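import Mathlib.AlgebraicGeometry.Modules.Tilde
import Mathlib.AlgebraicGeometry.AffineScheme

set_option autoImplicit false
universe u
open CategoryTheory CategoryTheory.Limits AlgebraicGeometry TopologicalSpace Opposite

namespace Groth.Agent.Helper13.QCoh

variable {X : Scheme.{u}}

section Spec

variable {R : CommRingCat.{u}} (M : (Spec R).Modules) [M.IsQuasicoherent]

lemma spec_isLocalizing : IsLocalizing (modulesSpecToSheaf.obj M) :=
  (isIso_fromTildeΓ_iff_isLocalizing M).1 inferInstance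

lemma spec_exists_lift (f : R) (s : Γ(M, PrimeSpectrum.basicOpen f)) :
    ∃ (n : ℕ) (t : Γ(M, ⊤)), M.presheaf.map (homOfLE le_top : PrimeSpectrum.basicOpen f ⟶ ⊤).op t = f ^ n • s := by
  have h := spec_isLocalizing M f
  obtain ⟨⟨t, ⟨_, n, rfl⟩⟩, ht⟩ := h.surj s
  exact ⟨n, t, ht.symm⟩

lemma spec_exists_pow_smul_eq_zero (f : R) (t : Γ(M, ⊤))
    (ht : M.presheaf.map (homOfLE le_top : PrimeSpectrum.basicOpen f ⟶ ⊤).op t = 0) :
    ∃ n : ℕ, f ^ n • t = 0 := by
  have h := spec_isLocalizing M f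
  obtain ⟨⟨_, n, rfl⟩, hn⟩ := (IsLocalizedModule.eq_zero_iff (.powers f)
    ((modulesSpecToSheaf.obj M).obj.map (PrimeSpectrum.basicOpen f).leTop.op).hom).1 ht
  exact ⟨n, hn⟩

end Spec

section General

variable {U : X.Opens} (hU : IsAffineOpen U)

lemma fromSpec_image_le (V : (Spec Γ(X, U)).Opens) : hU.fromSpec ''ᵁ V ≤ U := by
  have h1 : hU.fromSpec ''ᵁ V ≤ hU.fromSpec.opensRange := by
    intro x hx
    obtain ⟨y, _, rfl⟩ := hx
    exact ⟨y, rfl⟩
  rwa [hU.opensRange_fromSpec] at h1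

lemma res_comp_appIso_hom (V : (Spec Γ(X, U)).Opens) :
    X.presheaf.map (homOfLE (fromSpec_image_le hU V)).op ≫ (hU.fromSpec.appIso V).hom =
      (Scheme.ΓSpecIso Γ(X, U)).inv ≫ (Spec Γ(X, U)).presheaf.map V.leTop.op := by
  rw [Scheme.Hom.appIso_hom, Scheme.Hom.naturality_assoc, hU.fromSpec_app_self, Category.assoc,
    ← Functor.map_comp, ← Functor.map_comp]
  rfl

/-- scalar identification -/
lemma appIso_inv_res (V : (Spec Γ(X, U)).Opens) (r : Γ(X, U)) :
    (hU.fromSpec.appIso V).inv ((Spec Γ(X, U)).presheaf.map V.leTop.op ((Scheme.ΓSpecIso Γ(X, U)).inv r)) =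
      X.presheaf.map (homOfLE (fromSpec_image_le hU V)).op r := by
  have h := congrArg (fun φ => (φ ≫ (hU.fromSpec.appIso V).inv).hom r) (res_comp_appIso_hom hU V)
  simp only [Category.assoc, Iso.hom_inv_id, Category.comp_id] at h
  rw [h]
  rfl

end General

end Groth.Agent.Helper13.QCoh

namespace Groth.Agent.Helper13.QCoh

variable {X : Scheme.{u}}

section General2

variable (F : X.Modules) {U : X.Opens} (hU : IsAffineOpen U)

lemma smul_restrict (V : (Spec Γ(X, U)).Opens) (r : Γ(X, U)) (x : Γ(F.restrict hU.fromSpec, V)) :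
    (r • x : Γ(F.restrict hU.fromSpec, V)) =
      ((X.presheaf.map (homOfLE (fromSpec_image_le hU V)).op r) • (show Γ(F, hU.fromSpec ''ᵁ V) from x) :
        Γ(F, hU.fromSpec ''ᵁ V)) := by
  rw [Scheme.Modules.smul_Spec_def, ← appIso_inv_res hU V r]
  rfl

end General2

end Groth.Agent.Helper13.QCoh


namespace Groth.Agent.Helper13.QCoh

variable {X : Scheme.{u}}

section Transport

variable (F : X.Modules)

lemma map_map_eq {W1 W2 W3 : X.Opens} (a : op W1 ⟶ op W2) (b : op W2 ⟶ op W3) (c : op W1 ⟶ op W3)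
    (x : Γ(F, W1)) : F.presheaf.map b (F.presheaf.map a x) = F.presheaf.map c x := by
  rw [← ConcreteCategory.comp_apply, ← F.presheaf.map_comp]
  congr 2

lemma map_eqToHom_injective {W1 W2 : X.Opens} (h : W2 = W1) :
    Function.Injective (F.presheaf.map (eqToHom h).op) := by
  subst h
  intro x y hxy
  simpa using hxy

lemma res_map_map_eq {W1 W2 W3 : X.Opens} (a : op W1 ⟶ op W2) (b : op W2 ⟶ op W3) (c : op W1 ⟶ op W3)
    (x : Γ(X, W1)) : X.presheaf.map b (X.presheaf.map a x) = X.presheaf.map c x := by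
  rw [← ConcreteCategory.comp_apply, ← X.presheaf.map_comp]
  congr 2

omit F in
lemma res_id_apply' {W : X.Opens} (a : op W ⟶ op W) (x : Γ(X, W)) : X.presheaf.map a x = x := by
  have : a = 𝟙 _ := Subsingleton.elim _ _
  rw [this, X.presheaf.map_id]
  rfl

lemma map_id_apply' {W : X.Opens} (a : op W ⟶ op W) (x : Γ(F, W)) : F.presheaf.map a x = x := by
  have : a = 𝟙 _ := Subsingleton.elim _ _
  rw [this, F.presheaf.map_id]
  rfl

lemma transport_aux₁ {U : X.Opens} (f : Γ(X, U)) (n : ℕ) (s : Γ(F, X.basicOpen f))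
    (W T : X.Opens) (eW : W = X.basicOpen f) (eT : T = U) (hWT : W ≤ T) (hWU : W ≤ U)
    (t' : Γ(F, T))
    (h : F.presheaf.map (homOfLE hWT).op t' =
      X.presheaf.map (homOfLE hWU).op (f ^ n) • F.presheaf.map (eqToHom eW).op s) :
    F.presheaf.map (homOfLE (X.basicOpen_le f)).op (F.presheaf.map (eqToHom eT.symm).op t') =
      (X.presheaf.map (homOfLE (X.basicOpen_le f)).op f) ^ n • s := by
  subst eW eT
  rw [map_id_apply' F] at h ⊢
  rw [h, map_pow]

variable [F.IsQuasicoherent] {U : X.Opens} (hU : IsAffineOpen U)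

include hU in
theorem exists_pow_smul_eq_res (f : Γ(X, U)) (s : Γ(F, X.basicOpen f)) :
    ∃ (n : ℕ) (t : Γ(F, U)), F.presheaf.map (homOfLE (X.basicOpen_le f)).op t =
      (X.presheaf.map (homOfLE (X.basicOpen_le f)).op f) ^ n • s := by
  have ef : hU.fromSpec ''ᵁ PrimeSpectrum.basicOpen f = X.basicOpen f := hU.fromSpec_image_basicOpen f
  have et : hU.fromSpec ''ᵁ ⊤ = U := by
    rw [Scheme.Hom.image_top_eq_opensRange, hU.opensRange_fromSpec]
  obtain ⟨n, t', ht'⟩ := spec_exists_lift (F.restrict hU.fromSpec) f (F.presheaf.map (eqToHom ef).op s)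
  have ht2 := ht'.trans (smul_restrict F hU (PrimeSpectrum.basicOpen f) (f ^ n) _)
  exact ⟨n, F.presheaf.map (eqToHom et.symm).op t', transport_aux₁ F f n s _ _ ef et _ _ t' ht2⟩

omit [F.IsQuasicoherent] in
lemma transport_aux₂ {U : X.Opens} (f : Γ(X, U)) (t : Γ(F, U))
    (W T : X.Opens) (eW : W = X.basicOpen f) (eT : T = U) (hWT : W ≤ T) :
    F.presheaf.map (homOfLE hWT).op (F.presheaf.map (eqToHom eT).op t) =
      F.presheaf.map (eqToHom eW).op (F.presheaf.map (homOfLE (X.basicOpen_le f)).op t) := by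
  subst eW eT
  rw [map_id_apply' F, map_id_apply' F]

omit [F.IsQuasicoherent] in
lemma transport_aux₃ {U : X.Opens} (r : Γ(X, U)) (t : Γ(F, U))
    (T : X.Opens) (eT : T = U) (hTU : T ≤ U)
    (h : X.presheaf.map (homOfLE hTU).op r • F.presheaf.map (eqToHom eT).op t = 0) : r • t = 0 := by
  subst eT
  rwa [map_id_apply' F, res_id_apply'] at h

include hU in
theorem exists_pow_smul_eq_zero (f : Γ(X, U)) (t : Γ(F, U))
    (ht : F.presheaf.map (homOfLE (X.basicOpen_le f)).op t = 0) : ∃ n : ℕ, f ^ n • t = 0 := by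
  have ef : hU.fromSpec ''ᵁ PrimeSpectrum.basicOpen f = X.basicOpen f := hU.fromSpec_image_basicOpen f
  have et : hU.fromSpec ''ᵁ ⊤ = U := by
    rw [Scheme.Hom.image_top_eq_opensRange, hU.opensRange_fromSpec]
  have h0 : (F.restrict hU.fromSpec).presheaf.map
      (homOfLE le_top : PrimeSpectrum.basicOpen f ⟶ ⊤).op (F.presheaf.map (eqToHom et).op t) = 0 := by
    refine (transport_aux₂ F f t _ _ ef et _).trans ?_
    rw [ht, map_zero]
    rfl
  obtain ⟨n, hn⟩ := spec_exists_pow_smul_eq_zero (F.restrict hU.fromSpec) f _ h0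
  have hn2 := (smul_restrict F hU ⊤ (f ^ n) _).symm.trans hn
  exact ⟨n, transport_aux₃ F (f ^ n) t _ et _ hn2⟩

end Transport

end Groth.Agent.Helper13.QCoh
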