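import Mathlib
import Groth.Agent.Lib.Helper13.QCoh
import Groth.Agent.Lib.Helper6.QcohLocal

set_option autoImplicit false
universe u
open CategoryTheory CategoryTheory.Limits AlgebraicGeometry Opposite TopologicalSpace Groth.Agent.Helper13.QCoh

namespace Groth.Agent.Helper13.QCohPush

variable {X Y : Scheme.{u}}

/-- variant of `exists_pow_smul_eq_res` for an open which is propositionally a basic open -/
theorem exists_pow_smul_eq_res' (F : X.Modules) [F.IsQuasicoherent] {U : X.Opens}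
    (hU : IsAffineOpen U) (f : Γ(X, U)) (W : X.Opens) (hW : W = X.basicOpen f) (hWU : W ≤ U)
    (s : Γ(F, W)) :
    ∃ (n : ℕ) (t : Γ(F, U)), F.presheaf.map (homOfLE hWU).op t =
      (X.presheaf.map (homOfLE hWU).op f) ^ n • s := by
  subst hW
  exact exists_pow_smul_eq_res F hU f s

/-- variant of `exists_pow_smul_eq_zero` for an open which is propositionally a basic open -/
theorem exists_pow_smul_eq_zero' (F : X.Modules) [F.IsQuasicoherent] {U : X.Opens}
    (hU : IsAffineOpen U) (f : Γ(X, U)) (W : X.Opens) (hW : W = X.basicOpen f) (hWU : W ≤ U)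
    (t : Γ(F, U)) (ht : F.presheaf.map (homOfLE hWU).op t = 0) : ∃ n : ℕ, f ^ n • t = 0 := by
  subst hW
  exact exists_pow_smul_eq_zero F hU f t ht

/-- The pushforward of a quasi-coherent module along an affine morphism is quasi-coherent. -/
theorem isQuasicoherent_pushforward (f : X ⟶ Y) [IsAffineHom f] (M : X.Modules)
    [M.IsQuasicoherent] : ((Scheme.Modules.pushforward f).obj M).IsQuasicoherent := by
  refine Groth.Agent.Helper6.QcohLocal.isQuasicoherent_of_affineOpens _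
    (fun V : Y.affineOpens => V.1) (fun V => V.2) (fun y => ?_) ?_ ?_
  · obtain ⟨_, ⟨V, hV, rfl⟩, hyV, -⟩ := Y.isBasis_affineOpens.exists_subset_of_mem_open
      (Set.mem_univ y) isOpen_univ
    exact ⟨⟨V, hV⟩, hyV⟩
  · rintro V r W U' rfl hW hWr s
    have hU : IsAffineOpen (f ⁻¹ᵁ V.1) := V.2.preimage f
    have hW' : f ⁻¹ᵁ W = X.basicOpen (f.app V.1 r) := by
      rw [hWr, Scheme.preimage_basicOpen]
    have hWU : f ⁻¹ᵁ W ≤ f ⁻¹ᵁ V.1 := fun x hx => hW hx
    obtain ⟨n, t, ht⟩ := exists_pow_smul_eq_res' M hU (f.app V.1 r) (f ⁻¹ᵁ W) hW' hWU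
      (id s : Γ(M, f ⁻¹ᵁ W))
    refine ⟨n, t, ?_⟩
    have h1 : (Y.presheaf.map (homOfLE (hW.trans (le_refl _))).op r ^ n • s :
        Γ((Scheme.Modules.pushforward f).obj M, W)) =
        ((f.app W (Y.presheaf.map (homOfLE (hW.trans (le_refl _))).op r)) ^ n •
          (id s : Γ(M, f ⁻¹ᵁ W)) : Γ(M, f ⁻¹ᵁ W)) := by
      have h0 : ∀ a : Γ(Y, W), (a • s : Γ((Scheme.Modules.pushforward f).obj M, W)) =
          ((f.app W a) • (id s : Γ(M, f ⁻¹ᵁ W)) : Γ(M, f ⁻¹ᵁ W)) := fun a => rfl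
      rw [h0, map_pow]
    rw [h1]
    have h2 : f.app W (Y.presheaf.map (homOfLE (hW.trans (le_refl _))).op r) =
        X.presheaf.map (homOfLE hWU).op (f.app V.1 r) := by
      have := f.naturality (homOfLE (hW.trans (le_refl _))).op
      exact congrArg (fun φ => φ.hom r) this
    rw [h2, ← ht]
    rfl
  · rintro V r W U' rfl hW hWr t ht
    have hU : IsAffineOpen (f ⁻¹ᵁ V.1) := V.2.preimage f
    have hW' : f ⁻¹ᵁ W = X.basicOpen (f.app V.1 r) := by
      rw [hWr, Scheme.preimage_basicOpen]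
    have hWU : f ⁻¹ᵁ W ≤ f ⁻¹ᵁ V.1 := fun x hx => hW hx
    obtain ⟨n, hn⟩ := exists_pow_smul_eq_zero' M hU (f.app V.1 r) (f ⁻¹ᵁ W) hW' hWU
      (id t : Γ(M, f ⁻¹ᵁ V.1)) ht
    refine ⟨n, ?_⟩
    have h1 : Y.presheaf.map (homOfLE (le_refl V.1)).op r = r := res_id_apply' _ r
    rw [h1]
    have h2 : (r ^ n • t : Γ((Scheme.Modules.pushforward f).obj M, V.1)) =
        ((f.app V.1 r) ^ n • (id t : Γ(M, f ⁻¹ᵁ V.1)) : Γ(M, f ⁻¹ᵁ V.1)) := by
      have h0 : ∀ a : Γ(Y, V.1), (a • t : Γ((Scheme.Modules.pushforward f).obj M, V.1)) =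
          ((f.app V.1 a) • (id t : Γ(M, f ⁻¹ᵁ V.1)) : Γ(M, f ⁻¹ᵁ V.1)) := fun a => rfl
      rw [h0, map_pow]
    rw [h2]
    exact hn

end Groth.Agent.Helper13.QCohPush
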