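import Mathlib
import Groth.Agent.Lib.Helper13.QCohPush

set_option autoImplicit false
universe u
open CategoryTheory CategoryTheory.Limits AlgebraicGeometry Opposite TopologicalSpace
open Groth.Agent.Helper13.QCoh Groth.Agent.Helper13.QCohPush

namespace Groth.Agent.Helper13.Qcqs

variable {X : Scheme.{u}} (F : X.Modules)

/-- restriction of sections of a module, as an additive map. -/
noncomputable def res {U V : X.Opens} (h : V ≤ U) : Γ(F, U) →+ Γ(F, V) :=
  (F.presheaf.map (homOfLE h).op).hom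

/-- restriction of functions, as a ring hom. -/
noncomputable def resO {U V : X.Opens} (h : V ≤ U) : Γ(X, U) →+* Γ(X, V) :=
  (X.presheaf.map (homOfLE h).op).hom

lemma res_def {U V : X.Opens} (h : V ≤ U) (t : Γ(F, U)) :
    res F h t = F.presheaf.map (homOfLE h).op t := rfl

lemma resO_def {U V : X.Opens} (h : V ≤ U) (a : Γ(X, U)) :
    resO h a = X.presheaf.map (homOfLE h).op a := rfl

lemma res_res {U V W : X.Opens} (h : V ≤ U) (h' : W ≤ V) (t : Γ(F, U)) :
    res F h' (res F h t) = res F (h'.trans h) t := by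
  simp only [res_def]
  exact map_map_eq F _ _ _ t

lemma resO_resO {U V W : X.Opens} (h : V ≤ U) (h' : W ≤ V) (a : Γ(X, U)) :
    resO h' (resO h a) = resO (h'.trans h) a := by
  simp only [resO_def]
  exact res_map_map_eq _ _ _ a

lemma res_self {U : X.Opens} (t : Γ(F, U)) : res F (le_refl U) t = t :=
  map_id_apply' F _ t

lemma resO_self {U : X.Opens} (a : Γ(X, U)) : resO (le_refl U) a = a :=
  res_id_apply' _ a

lemma res_smul {U V : X.Opens} (h : V ≤ U) (a : Γ(X, U)) (t : Γ(F, U)) :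
    res F h (a • t) = resO h a • res F h t :=
  Scheme.Modules.map_smul F (homOfLE h) a t

lemma eq_of_res_eq₂ {S V W : X.Opens} (hS : S ≤ W) (hV : V ≤ W) (hcov : W ≤ S ⊔ V)
    (a b : Γ(F, W)) (h₁ : res F hS a = res F hS b) (h₂ : res F hV a = res F hV b) : a = b :=
  TopCat.Sheaf.eq_of_locally_eq₂ ⟨F.presheaf, F.isSheaf⟩ (homOfLE hS) (homOfLE hV) hcov a b h₁ h₂

lemma subsingleton_of_le_bot {W : X.Opens} (hW : W ≤ ⊥) : Subsingleton Γ(F, W) := by
  refine ⟨fun a b => ?_⟩
  refine TopCat.Sheaf.eq_of_locally_eq' ⟨F.presheaf, F.isSheaf⟩ (fun i : PEmpty.{1} => i.elim) W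
    (fun i => i.elim) ?_ a b (fun i => i.elim)
  exact hW.trans bot_le

lemma res_pow_smul {U V : X.Opens} (h : V ≤ U) (a : Γ(X, U)) (n : ℕ) (t : Γ(F, U)) :
    res F h (a ^ n • t) = resO h a ^ n • res F h t := by
  rw [res_smul, map_pow]

/-- gluing two sections agreeing on the intersection. -/
lemma exists_glue₂ (S V : X.Opens) (a : Γ(F, S)) (b : Γ(F, V))
    (h : res F (inf_le_left : S ⊓ V ≤ S) a = res F (inf_le_right : S ⊓ V ≤ V) b) :
    ∃ t : Γ(F, S ⊔ V), res F (le_sup_left : S ≤ S ⊔ V) t = a ∧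
      res F (le_sup_right : V ≤ S ⊔ V) t = b := by
  have key : ∀ (W : X.Opens) (hWS : W ≤ S) (hWV : W ≤ V), res F hWS a = res F hWV b := by
    intro W hWS hWV
    have := congrArg (res F (le_inf hWS hWV)) h
    rwa [res_res, res_res] at this
  let Uf : Bool → X.Opens := fun i => if i then S else V
  let sf : ∀ i : Bool, Γ(F, Uf i) := fun i => by
    cases i
    · exact b
    · exact a
  have hcompat : TopCat.Presheaf.IsCompatible F.presheaf Uf sf := by
    intro i j
    cases i <;> cases j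
    · rfl
    · exact (key (V ⊓ S) inf_le_right inf_le_left).symm
    · exact key (S ⊓ V) inf_le_left inf_le_right
    · rfl
  have hle : ∀ i : Bool, Uf i ≤ S ⊔ V := by
    intro i
    cases i
    · exact le_sup_right
    · exact le_sup_left
  have hcov : S ⊔ V ≤ iSup Uf := by
    rw [sup_le_iff]
    exact ⟨le_iSup Uf true, le_iSup Uf false⟩
  obtain ⟨t, ht, -⟩ := TopCat.Sheaf.existsUnique_gluing' ⟨F.presheaf, F.isSheaf⟩ Uf (S ⊔ V)
    (fun i => homOfLE (hle i)) hcov sf hcompat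
  exact ⟨t, ht true, ht false⟩

/-- **(a)**: a section of a quasi-coherent module over a quasi-compact open `U` vanishing on
`D(g)` is killed by a power of `g`. -/
theorem exists_pow_smul_eq_zero_of_isCompact [F.IsQuasicoherent] {U : X.Opens}
    (hU : IsCompact (U : Set X)) (g : Γ(X, U)) (W : X.Opens) (hW : W = X.basicOpen g)
    (hWU : W ≤ U) (t : Γ(F, U)) (ht : res F hWU t = 0) : ∃ n : ℕ, g ^ n • t = 0 := by
  subst hW
  suffices H : ∀ S : X.Opens, IsCompact (S : Set X) → ∀ hSU : S ≤ U,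
      ∃ n : ℕ, res F hSU (g ^ n • t) = 0 by
    obtain ⟨n, hn⟩ := H U hU le_rfl
    exact ⟨n, by rwa [res_self] at hn⟩
  intro S hS
  refine compact_open_induction_on
    (P := fun S => ∀ hSU : S ≤ U, ∃ n : ℕ, res F hSU (g ^ n • t) = 0) S hS ?_ ?_
  · intro hSU
    exact ⟨0, (subsingleton_of_le_bot F le_rfl).elim _ _⟩
  · intro S hS V ih hSU
    have hS' : S ≤ U := le_sup_left.trans hSU
    have hV' : V.1 ≤ U := le_sup_right.trans hSU
    obtain ⟨n₁, hn₁⟩ := ih hS'
    have hW : V.1 ⊓ X.basicOpen g = X.basicOpen (resO hV' g) :=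
      (Scheme.basicOpen_res X g (homOfLE hV').op).symm
    obtain ⟨n₂, hn₂⟩ := exists_pow_smul_eq_zero' F V.2 (resO hV' g) (V.1 ⊓ X.basicOpen g) hW
      inf_le_left (res F hV' t) (by
        rw [← res_def, res_res, ← res_res F hWU inf_le_right, ht, map_zero])
    refine ⟨n₁ + n₂, ?_⟩
    apply eq_of_res_eq₂ F le_sup_left le_sup_right le_rfl
    · rw [res_res, map_zero, pow_add, mul_comm, mul_smul, res_smul, hn₁, smul_zero]
    · rw [res_res, map_zero, pow_add, mul_smul, res_smul, res_pow_smul, hn₂, smul_zero]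

/-- **(b)**: a section of a quasi-coherent module over `D(g)`, `g` a function on a quasi-compact
quasi-separated open `U`, extends to `U` after multiplication with a power of `g`. -/
theorem exists_pow_smul_eq_res_of_qcqs [F.IsQuasicoherent] {U : X.Opens}
    (hU : IsCompact (U : Set X)) (hU' : IsQuasiSeparated (U : Set X)) (g : Γ(X, U))
    (W : X.Opens) (hW : W = X.basicOpen g) (hWU : W ≤ U) (s : Γ(F, W)) :
    ∃ (n : ℕ) (t : Γ(F, U)), res F hWU t = resO hWU g ^ n • s := by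
  subst hW
  suffices H : ∀ S : X.Opens, IsCompact (S : Set X) → ∀ hSU : S ≤ U,
      ∃ (n : ℕ) (t : Γ(F, S)), res F (inf_le_left : S ⊓ X.basicOpen g ≤ S) t =
        resO (inf_le_left.trans hSU : S ⊓ X.basicOpen g ≤ U) g ^ n •
          res F (inf_le_right : S ⊓ X.basicOpen g ≤ X.basicOpen g) s by
    obtain ⟨n, t, ht⟩ := H U hU le_rfl
    refine ⟨n, t, ?_⟩
    have := congrArg (res F (le_inf hWU le_rfl : X.basicOpen g ≤ U ⊓ X.basicOpen g)) ht
    rwa [res_res, res_pow_smul, resO_resO, res_res, res_self] at this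
  intro S hS
  refine compact_open_induction_on
    (P := fun S => ∀ hSU : S ≤ U,
      ∃ (n : ℕ) (t : Γ(F, S)), res F (inf_le_left : S ⊓ X.basicOpen g ≤ S) t =
        resO (inf_le_left.trans hSU : S ⊓ X.basicOpen g ≤ U) g ^ n •
          res F (inf_le_right : S ⊓ X.basicOpen g ≤ X.basicOpen g) s) S hS ?_ ?_
  · intro hSU
    exact ⟨0, 0, (subsingleton_of_le_bot F inf_le_left).elim _ _⟩
  · intro S hS V ih hSU
    have hS' : S ≤ U := le_sup_left.trans hSU
    have hV' : V.1 ≤ U := le_sup_right.trans hSU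
    obtain ⟨n₁, t₁, ht₁⟩ := ih hS'
    have hW : V.1 ⊓ X.basicOpen g = X.basicOpen (resO hV' g) :=
      (Scheme.basicOpen_res X g (homOfLE hV').op).symm
    obtain ⟨n₂, t₂, ht₂⟩ := exists_pow_smul_eq_res' F V.2 (resO hV' g) (V.1 ⊓ X.basicOpen g) hW
      inf_le_left (res F (inf_le_right : V.1 ⊓ X.basicOpen g ≤ X.basicOpen g) s)
    rw [← res_def, ← resO_def, resO_resO] at ht₂
    -- the intersection
    have hI : IsCompact ((S ⊓ V.1 : X.Opens) : Set X) :=
      hU' S V.1 (fun x hx => hS' hx) S.2 hS (fun x hx => hV' hx) V.1.2 V.2.isCompact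
    have hIU : S ⊓ V.1 ≤ U := inf_le_left.trans hS'
    let d : Γ(F, S ⊓ V.1) := resO hIU g ^ n₂ • res F inf_le_left t₁ - resO hIU g ^ n₁ • res F inf_le_right t₂
    have hd : res F (inf_le_left : (S ⊓ V.1) ⊓ X.basicOpen g ≤ S ⊓ V.1) d = 0 := by
      have e₁ : res F (inf_le_left : (S ⊓ V.1) ⊓ X.basicOpen g ≤ S ⊓ V.1) (res F inf_le_left t₁) =
          resO (inf_le_left.trans hIU : (S ⊓ V.1) ⊓ X.basicOpen g ≤ U) g ^ n₁ •
            res F (inf_le_right : (S ⊓ V.1) ⊓ X.basicOpen g ≤ X.basicOpen g) s := by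
        have := congrArg (res F (inf_le_inf_right _ inf_le_left :
          (S ⊓ V.1) ⊓ X.basicOpen g ≤ S ⊓ X.basicOpen g)) ht₁
        rw [res_res, res_pow_smul, resO_resO, res_res] at this
        rw [res_res]
        exact this
      have e₂ : res F (inf_le_left : (S ⊓ V.1) ⊓ X.basicOpen g ≤ S ⊓ V.1) (res F inf_le_right t₂) =
          resO (inf_le_left.trans hIU : (S ⊓ V.1) ⊓ X.basicOpen g ≤ U) g ^ n₂ •
            res F (inf_le_right : (S ⊓ V.1) ⊓ X.basicOpen g ≤ X.basicOpen g) s := by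
        have := congrArg (res F (inf_le_inf_right _ inf_le_right :
          (S ⊓ V.1) ⊓ X.basicOpen g ≤ V.1 ⊓ X.basicOpen g)) ht₂
        rw [res_res, res_pow_smul, resO_resO, res_res] at this
        rw [res_res]
        exact this
      simp only [d, map_sub, res_pow_smul, resO_resO, e₁, e₂, smul_smul]
      rw [mul_comm, sub_self]
    obtain ⟨m, hm⟩ := exists_pow_smul_eq_zero_of_isCompact F hI (resO hIU g)
      ((S ⊓ V.1) ⊓ X.basicOpen g) (Scheme.basicOpen_res X g (homOfLE hIU).op).symm inf_le_left d hd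
    -- glue
    obtain ⟨t, htS, htV⟩ := exists_glue₂ F S V.1 (resO hS' g ^ (m + n₂) • t₁)
      (resO hV' g ^ (m + n₁) • t₂) (by
        rw [res_pow_smul, res_pow_smul, resO_resO, resO_resO, pow_add, pow_add, mul_smul, mul_smul,
          ← sub_eq_zero, ← smul_sub]
        exact hm)
    refine ⟨m + n₂ + n₁, t, ?_⟩
    apply eq_of_res_eq₂ F (inf_le_inf_right _ le_sup_left : S ⊓ X.basicOpen g ≤ _)
      (inf_le_inf_right _ le_sup_right : V.1 ⊓ X.basicOpen g ≤ _) (le_of_eq (inf_sup_right _ _ _))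
    · rw [res_res, res_pow_smul, resO_resO, res_res,
        ← res_res F (le_sup_left : S ≤ S ⊔ V.1) inf_le_left, htS, res_pow_smul, resO_resO, ht₁,
        smul_smul, ← pow_add]
    · rw [res_res, res_pow_smul, resO_resO, res_res,
        ← res_res F (le_sup_right : V.1 ≤ S ⊔ V.1) inf_le_left, htV, res_pow_smul, resO_resO, ht₂,
        smul_smul, ← pow_add, add_assoc, add_comm n₁ n₂, ← add_assoc]

variable {Y : Scheme.{u}}

/-- The pushforward of a quasi-coherent module along a quasi-compact quasi-separated morphism is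
quasi-coherent. -/
theorem isQuasicoherent_pushforward_of_qcqs (f : X ⟶ Y) [QuasiCompact f] [QuasiSeparated f]
    (M : X.Modules) [M.IsQuasicoherent] : ((Scheme.Modules.pushforward f).obj M).IsQuasicoherent := by
  refine Groth.Agent.Helper6.QcohLocal.isQuasicoherent_of_affineOpens _
    (fun V : Y.affineOpens => V.1) (fun V => V.2) (fun y => ?_) ?_ ?_
  · obtain ⟨_, ⟨V, hV, rfl⟩, hyV, -⟩ := Y.isBasis_affineOpens.exists_subset_of_mem_open
      (Set.mem_univ y) isOpen_univ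
    exact ⟨⟨V, hV⟩, hyV⟩
  · rintro V r W U' rfl hW hWr s
    have hU : IsCompact ((f ⁻¹ᵁ V.1 : X.Opens) : Set X) := f.isCompact_preimage V.2.isCompact
    have hU' : IsQuasiSeparated ((f ⁻¹ᵁ V.1 : X.Opens) : Set X) :=
      f.isQuasiSeparated_preimage V.2.isQuasiSeparated
    have hW' : f ⁻¹ᵁ W = X.basicOpen (f.app V.1 r) := by
      rw [hWr, Scheme.preimage_basicOpen]
    have hWU : f ⁻¹ᵁ W ≤ f ⁻¹ᵁ V.1 := fun x hx => hW hx
    obtain ⟨n, t, ht⟩ := exists_pow_smul_eq_res_of_qcqs M hU hU' (f.app V.1 r) (f ⁻¹ᵁ W) hW' hWU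
      (id s : Γ(M, f ⁻¹ᵁ W))
    rw [res_def, resO_def] at ht
    refine ⟨n, t, ?_⟩
    have h1 : (Y.presheaf.map (homOfLE (hW.trans (le_refl _))).op r ^ n • s :
        Γ((Scheme.Modules.pushforward f).obj M, W)) =
        ((f.app W (Y.presheaf.map (homOfLE (hW.trans (le_refl _))).op r)) ^ n •
          (id s : Γ(M, f ⁻¹ᵁ W)) : Γ(M, f ⁻¹ᵁ W)) := by
      have h0 : ∀ a : Γ(Y, W), (a • s : Γ((Scheme.Modules.pushforward f).obj M, W)) =
          ((f.app W a) • (id s : Γ(M, f ⁻¹ᵁ W)) : Γ(M, f ⁻¹ᵁ W)) := fun a => rfl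
      rw [h0, map_pow]
    rw [h1]
    have h2 : f.app W (Y.presheaf.map (homOfLE (hW.trans (le_refl _))).op r) =
        X.presheaf.map (homOfLE hWU).op (f.app V.1 r) := by
      have := f.naturality (homOfLE (hW.trans (le_refl _))).op
      exact congrArg (fun φ => φ.hom r) this
    rw [h2, ← ht]
    rfl
  · rintro V r W U' rfl hW hWr t ht
    have hU : IsCompact ((f ⁻¹ᵁ V.1 : X.Opens) : Set X) := f.isCompact_preimage V.2.isCompact
    have hW' : f ⁻¹ᵁ W = X.basicOpen (f.app V.1 r) := by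
      rw [hWr, Scheme.preimage_basicOpen]
    have hWU : f ⁻¹ᵁ W ≤ f ⁻¹ᵁ V.1 := fun x hx => hW hx
    obtain ⟨n, hn⟩ := exists_pow_smul_eq_zero_of_isCompact M hU (f.app V.1 r) (f ⁻¹ᵁ W) hW' hWU
      (id t : Γ(M, f ⁻¹ᵁ V.1)) ht
    refine ⟨n, ?_⟩
    have h1 : Y.presheaf.map (homOfLE (le_refl V.1)).op r = r := res_id_apply' _ r
    rw [h1]
    have h2 : (r ^ n • t : Γ((Scheme.Modules.pushforward f).obj M, V.1)) =
        ((f.app V.1 r) ^ n • (id t : Γ(M, f ⁻¹ᵁ V.1)) : Γ(M, f ⁻¹ᵁ V.1)) := by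
      have h0 : ∀ a : Γ(Y, V.1), (a • t : Γ((Scheme.Modules.pushforward f).obj M, V.1)) =
          ((f.app V.1 a) • (id t : Γ(M, f ⁻¹ᵁ V.1)) : Γ(M, f ⁻¹ᵁ V.1)) := fun a => rfl
      rw [h0, map_pow]
    rw [h2]
    exact hn

end Groth.Agent.Helper13.Qcqs
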