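import Mathlib
import Groth.Agent.Lib.Helper13.InvQCoh
import Groth.Agent.Lib.Helper13.Qcqs

set_option autoImplicit false
universe u
open CategoryTheory CategoryTheory.Limits AlgebraicGeometry Opposite TopologicalSpace TensorProduct
open Groth.Agent.Helper13.QCoh Groth.Agent.Helper13.FinType Groth.Agent.Helper13.Tensor
open Groth.Agent.Helper13.Inv

namespace Groth.Agent.Helper13.GenLoc

variable {X : Scheme.{u}}

lemma sec_homOfSec (L : X.Modules) (t : Γ(L, ⊤)) : sec L (LocFree.homOfSec L t) = t := by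
  have h := LocFree.homOfSec_app_one L t ⊤
  rw [map_id_apply' L] at h
  exact h

/-- `X_s` is unchanged by composing with an isomorphism. -/
theorem genLocus_comp_iso {L L' : X.Modules} (s : Coh.structureModule X ⟶ L) (e : L ≅ L') :
    CohB1.genLocus L' (s ≫ e.hom) = CohB1.genLocus L s := by
  unfold CohB1.genLocus
  congr 1
  ext U
  simp only [Set.mem_ofPred_eq, Functor.map_comp]
  constructor
  · intro h
    exact IsIso.of_isIso_comp_right _ ((Scheme.Modules.restrictFunctor U.ι).map e.hom)
  · intro h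
    infer_instance

/-- the open where `a • t` generates is contained in the non-vanishing locus of `a`. -/
theorem genLocus_smul_le (L : X.Modules) (hL : PicF.IsInvertible L) (a : Γ(X, ⊤)) (t : Γ(L, ⊤)) :
    CohB1.genLocus L (LocFree.homOfSec L (a • t)) ≤ X.basicOpen a := by
  intro y hy
  have hy : y ∈ CohB1.genLocus L (LocFree.homOfSec L (a • t)) := hy
  rw [mem_genLocus_iff_isGen L _ hL, sec_homOfSec] at hy
  obtain ⟨W, hyW, hWU, e, he, b, hb⟩ := exists_local_rep L hL t y trivial
  rw [← isGen_res L (homOfLE hWU) _ y hyW, Scheme.Modules.map_smul, hb, ← mul_smul,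
    isGen_smul_iff L e _ y hyW (he y hyW), Scheme.basicOpen_mul] at hy
  have h1 := hy.1
  rw [Scheme.basicOpen_res] at h1
  exact h1.2

/-- on a qcqs scheme, an affine basic open over which `L` is trivial is of the form `X_s`. -/
theorem exists_genLocus_eq_basicOpen (L : X.Modules) (hL : PicF.IsInvertible L)
    [CompactSpace X] [QuasiSeparatedSpace X] (f : Γ(X, ⊤)) (e : Γ(L, X.basicOpen f))
    (he : ∀ (y : X) (hy : y ∈ X.basicOpen f), IsGen L e y hy) :
    ∃ t : Γ(L, ⊤), CohB1.genLocus L (LocFree.homOfSec L t) = X.basicOpen f := by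
  haveI := isQuasicoherent_of_isInvertible L hL
  obtain ⟨n, t, ht⟩ := Groth.Agent.Helper13.Qcqs.exists_pow_smul_eq_res_of_qcqs L (U := ⊤)
    (by simpa using isCompact_univ) (by simpa using isQuasiSeparated_univ) f
    (X.basicOpen f) rfl le_top e
  refine ⟨f • t, le_antisymm (genLocus_smul_le L hL f t) ?_⟩
  intro y hy
  change y ∈ CohB1.genLocus L (LocFree.homOfSec L (f • t))
  rw [mem_genLocus_iff_isGen L _ hL, sec_homOfSec,
    ← isGen_res L (homOfLE (le_top : X.basicOpen f ≤ ⊤)) _ y hy, Scheme.Modules.map_smul]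
  change IsGen L (_ • Groth.Agent.Helper13.Qcqs.res L le_top t) y hy
  rw [ht, ← mul_smul, isGen_smul_iff L e _ y hy (he y hy)]
  change y ∈ X.basicOpen (Groth.Agent.Helper13.Qcqs.resO le_top f *
    Groth.Agent.Helper13.Qcqs.resO le_top f ^ n)
  rw [← pow_succ', Scheme.basicOpen_pow _ _ (Nat.succ_pos n)]
  change y ∈ X.basicOpen (X.presheaf.map (homOfLE le_top).op f)
  rw [Scheme.basicOpen_res]
  exact ⟨hy, hy⟩

end Groth.Agent.Helper13.GenLoc
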