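import Mathlib
import Groth.Agent.Lib.Helper13.GenLocusQcqs

set_option autoImplicit false
universe u
open CategoryTheory CategoryTheory.Limits AlgebraicGeometry Opposite TopologicalSpace TensorProduct
open Groth.Agent.Helper13.QCoh Groth.Agent.Helper13.FinType Groth.Agent.Helper13.Tensor
open Groth.Agent.Helper13.Inv

namespace Groth.Agent.Helper13.GenLoc

variable {X : Scheme.{u}}

/-- sections of `L` give sections of `L^{⊗ 1} = O ⊗ L` with the same locus. -/
theorem exists_tensorPow_one (L : X.Modules) (s : Coh.structureModule X ⟶ L) :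
    ∃ s' : Coh.structureModule X ⟶ CohB1.tensorPow L (0 + 1),
      CohB1.genLocus _ s' = CohB1.genLocus L s :=
  ⟨s ≫ (Tensor.lid L).inv, genLocus_comp_iso s (Tensor.lid L).symm⟩

/-- on a quasi-affine scheme, every point has an affine neighbourhood of the form `X_s`,
contained in a given open. -/
theorem exists_affine_genLocus_of_isQuasiAffine [X.IsQuasiAffine] (L : X.Modules)
    (hL : PicF.IsInvertible L) (x : X) (W : X.Opens) (hxW : x ∈ W) :
    ∃ s : Coh.structureModule X ⟶ L, x ∈ CohB1.genLocus L s ∧ IsAffineOpen (CohB1.genLocus L s) ∧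
      CohB1.genLocus L s ≤ W := by
  obtain ⟨U₀, hxU₀, e₀, he₀⟩ := (isInvertible_iff_exists_isGen L).1 hL x
  obtain ⟨_, ⟨f, hf, rfl⟩, hxf, hfU⟩ := Opens.isBasis_iff_nbhd.1
    (Scheme.IsQuasiAffine.isBasis_basicOpen X) (show x ∈ U₀ ⊓ W from ⟨hxU₀, hxW⟩)
  have hfU₀ : X.basicOpen f ≤ U₀ := hfU.trans inf_le_left
  obtain ⟨t, ht⟩ := exists_genLocus_eq_basicOpen L hL f (L.presheaf.map (homOfLE hfU₀).op e₀)
    (fun y hy => (isGen_res L (homOfLE hfU₀) e₀ y hy).2 (he₀ y (hfU₀ hy)))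
  refine ⟨LocFree.homOfSec L t, ?_, ?_, ?_⟩
  · rw [ht]; exact hxf
  · rw [ht]; exact hf
  · rw [ht]; exact hfU.trans inf_le_right

theorem isAmple_of_isQuasiAffine [X.IsQuasiAffine] (L : X.Modules)
    (hL : PicF.IsInvertible L) : CohB1.IsAmple L := by
  refine ⟨hL, inferInstance, fun x => ?_⟩
  obtain ⟨s, hx, hs, -⟩ := exists_affine_genLocus_of_isQuasiAffine L hL x ⊤ trivial
  obtain ⟨s', hs'⟩ := exists_tensorPow_one L s
  exact ⟨0, s', by rw [hs']; exact hx, by rw [hs']; exact hs⟩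

end Groth.Agent.Helper13.GenLoc

namespace Groth.Agent.Helper13.Inv

variable {X Y : Scheme.{u}}

theorem isInvertible_restrict (f : X ⟶ Y) [IsOpenImmersion f] (L : Y.Modules)
    (hL : PicF.IsInvertible L) : PicF.IsInvertible (L.restrict f) := by
  rw [isInvertible_iff_exists_isGen] at hL ⊢
  intro x
  obtain ⟨U, hxU, e, he⟩ := hL (f x)
  have hle : f ''ᵁ (f ⁻¹ᵁ U) ≤ U := by
    rw [Scheme.Hom.image_preimage_eq_opensRange_inf]
    exact inf_le_right
  refine ⟨f ⁻¹ᵁ U, hxU, toRes f L (L.presheaf.map (homOfLE hle).op e), fun y hy => ?_⟩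
  rw [isGen_restrict_iff, isGen_res]
  exact he _ _

end Groth.Agent.Helper13.Inv
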