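import Mathlib
import Groth.Agent.Lib.Helper13.TensorAssoc
import Groth.Agent.Lib.Helper13.TensorRestrict

set_option autoImplicit false
universe u
open CategoryTheory CategoryTheory.Limits AlgebraicGeometry Opposite TopologicalSpace TensorProduct

namespace Groth.Agent.Helper13.Tensor

variable {X Y : Scheme.{u}}

/-- functoriality of tensor powers in isomorphisms. -/
noncomputable def powIso {L L' : X.Modules} (e : L ≅ L') :
    ∀ n : ℕ, CohB1.tensorPow L n ≅ CohB1.tensorPow L' n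
  | 0 => Iso.refl _
  | n + 1 => mapIso (powIso e n) e

/-- `L^{m+n} ≅ L^m ⊗ L^n`. -/
noncomputable def powAdd (L : X.Modules) (m : ℕ) :
    ∀ n : ℕ, CohB1.tensorPow L (m + n) ≅ CohB1.tensorMod (CohB1.tensorPow L m) (CohB1.tensorPow L n)
  | 0 => (rid _).symm
  | n + 1 => mapIso (powAdd L m n) (Iso.refl L) ≪≫ assoc _ _ _

/-- `(L^m)^n ≅ L^{m n}`. -/
noncomputable def powMul (L : X.Modules) (m : ℕ) :
    ∀ n : ℕ, CohB1.tensorPow (CohB1.tensorPow L m) n ≅ CohB1.tensorPow L (m * n)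
  | 0 => Iso.refl _
  | n + 1 => mapIso (powMul L m n) (Iso.refl _) ≪≫ (powAdd L (m * n) m).symm

/-- `L^1 ≅ L`. -/
noncomputable def powOne (L : X.Modules) : CohB1.tensorPow L 1 ≅ L := lid L

/-- `O^n ≅ O`. -/
noncomputable def powUnit : ∀ n : ℕ, CohB1.tensorPow (Coh.structureModule X) n ≅ Coh.structureModule X
  | 0 => Iso.refl _
  | n + 1 => mapIso (powUnit n) (Iso.refl _) ≪≫ lid _

/-- `(A ⊗ B) ⊗ (C ⊗ D) ≅ (A ⊗ C) ⊗ (B ⊗ D)`. -/
noncomputable def interchange (A B C D : X.Modules) :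
    CohB1.tensorMod (CohB1.tensorMod A B) (CohB1.tensorMod C D) ≅
      CohB1.tensorMod (CohB1.tensorMod A C) (CohB1.tensorMod B D) :=
  assoc A B (CohB1.tensorMod C D) ≪≫
    mapIso (Iso.refl A) ((assoc B C D).symm ≪≫ mapIso (braid B C) (Iso.refl D) ≪≫ assoc C B D) ≪≫
    (assoc A C (CohB1.tensorMod B D)).symm

/-- `(L ⊗ L')^n ≅ L^n ⊗ L'^n`. -/
noncomputable def powTensor (L L' : X.Modules) :
    ∀ n : ℕ, CohB1.tensorPow (CohB1.tensorMod L L') n ≅
      CohB1.tensorMod (CohB1.tensorPow L n) (CohB1.tensorPow L' n)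
  | 0 => (lid _).symm
  | n + 1 => mapIso (powTensor L L' n) (Iso.refl _) ≪≫ interchange _ _ _ _

/-- restriction to an open subscheme commutes with tensor powers. -/
noncomputable def powRestrict (f : X ⟶ Y) [IsOpenImmersion f] (L : Y.Modules) :
    ∀ n : ℕ, (CohB1.tensorPow L n).restrict f ≅ CohB1.tensorPow (L.restrict f) n
  | 0 => Scheme.Modules.restrictUnitIso f
  | n + 1 => restrictIso f _ _ ≪≫ mapIso (powRestrict f L n) (Iso.refl _)

/-- tensor powers for equal exponents. -/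
noncomputable def powCast (L : X.Modules) {m n : ℕ} (h : m = n) :
    CohB1.tensorPow L m ≅ CohB1.tensorPow L n := eqToIso (by rw [h])

end Groth.Agent.Helper13.Tensor
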