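import Mathlib
import Groth.Agent.Lib.Helper13.TensorPow
import Groth.Agent.Lib.Helper13.AmpleQA

set_option autoImplicit false
universe u
open CategoryTheory CategoryTheory.Limits AlgebraicGeometry Opposite TopologicalSpace TensorProduct
open Groth.Agent.Helper13.QCoh Groth.Agent.Helper13.FinType Groth.Agent.Helper13.Tensor
open Groth.Agent.Helper13.Inv Groth.Agent.Helper13.GenLoc

namespace Groth.Agent.Helper13.Ample

variable {X : Scheme.{u}}

theorem genLocus_tmulHom (L L' : X.Modules) (hL : PicF.IsInvertible L) (hL' : PicF.IsInvertible L')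
    (f : Coh.structureModule X ⟶ L) (g : Coh.structureModule X ⟶ L') :
    CohB1.genLocus (CohB1.tensorMod L L') (SecTwist.tmulHom f g) =
      CohB1.genLocus L f ⊓ CohB1.genLocus L' g := by
  ext x
  change x ∈ CohB1.genLocus (CohB1.tensorMod L L') (SecTwist.tmulHom f g) ↔
    x ∈ CohB1.genLocus L f ∧ x ∈ CohB1.genLocus L' g
  rw [mem_genLocus_iff_isGen _ _ (isInvertible_tensorMod L L' hL hL'),
    mem_genLocus_iff_isGen _ _ hL, mem_genLocus_iff_isGen _ _ hL', ← isGen_tmul_iff L L' hL hL']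
  have : sec (CohB1.tensorMod L L') (SecTwist.tmulHom f g) = tmul L L' (sec L f) (sec L' g) :=
    SecTwist.val_tmulHom f g ⊤
  rw [this]

theorem genLocus_id : CohB1.genLocus (Coh.structureModule X) (𝟙 _) = ⊤ := by
  rw [eq_top_iff, le_genLocus_iff, CategoryTheory.Functor.map_id]
  infer_instance

theorem genLocus_powHom (L : X.Modules) (hL : PicF.IsInvertible L)
    (s : Coh.structureModule X ⟶ L) (n : ℕ) :
    CohB1.genLocus (CohB1.tensorPow L (n + 1)) (SecTwist.powHom s (n + 1)) = CohB1.genLocus L s := by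
  induction n with
  | zero =>
    change CohB1.genLocus (CohB1.tensorMod (CohB1.tensorPow L 0) L)
      (SecTwist.tmulHom (SecTwist.powHom s 0) s) = _
    rw [genLocus_tmulHom _ _ (isInvertible_tensorPow L hL 0) hL]
    change CohB1.genLocus (Coh.structureModule X) (𝟙 _) ⊓ _ = _
    rw [genLocus_id, top_inf_eq]
  | succ n ih =>
    change CohB1.genLocus (CohB1.tensorMod (CohB1.tensorPow L (n + 1)) L)
      (SecTwist.tmulHom (SecTwist.powHom s (n + 1)) s) = _
    rw [genLocus_tmulHom _ _ (isInvertible_tensorPow L hL (n + 1)) hL, ih, inf_idem]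

/-- ampleness with positive exponents instead of successors. -/
theorem isAmple_iff_exists_pos (L : X.Modules) :
    CohB1.IsAmple L ↔ PicF.IsInvertible L ∧ CompactSpace X ∧
      ∀ x : X, ∃ (n : ℕ) (_ : 0 < n) (s : Coh.structureModule X ⟶ CohB1.tensorPow L n),
        x ∈ CohB1.genLocus _ s ∧ IsAffineOpen (CohB1.genLocus _ s) := by
  constructor
  · rintro ⟨h1, h2, h3⟩
    refine ⟨h1, h2, fun x => ?_⟩
    obtain ⟨n, s, hs⟩ := h3 x
    exact ⟨n + 1, Nat.succ_pos n, s, hs⟩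
  · rintro ⟨h1, h2, h3⟩
    refine ⟨h1, h2, fun x => ?_⟩
    obtain ⟨n, hn, s, hs⟩ := h3 x
    obtain ⟨m, rfl⟩ : ∃ m, n = m + 1 := ⟨n - 1, by omega⟩
    exact ⟨m, s, hs⟩

theorem isAmple_of_iso {L L' : X.Modules} (e : L ≅ L') (hL : CohB1.IsAmple L) :
    CohB1.IsAmple L' := by
  obtain ⟨h1, h2, h3⟩ := hL
  refine ⟨isInvertible_of_iso e h1, h2, fun x => ?_⟩
  obtain ⟨n, s, hx, hs⟩ := h3 x
  refine ⟨n, s ≫ (powIso e (n + 1)).hom, ?_, ?_⟩
  · rw [genLocus_comp_iso]; exact hx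
  · rw [genLocus_comp_iso]; exact hs

theorem isAmple_tensorPow (L : X.Modules) (hL : CohB1.IsAmple L) (n : ℕ) (hn : 0 < n) :
    CohB1.IsAmple (CohB1.tensorPow L n) := by
  obtain ⟨h1, h2, h3⟩ := hL
  rw [isAmple_iff_exists_pos]
  refine ⟨isInvertible_tensorPow L h1 n, h2, fun x => ?_⟩
  obtain ⟨m, s, hx, hs⟩ := h3 x
  obtain ⟨k, rfl⟩ : ∃ k, n = k + 1 := ⟨n - 1, by omega⟩
  -- `s^{k+1}` is a section of `(L^{m+1})^{k+1} ≅ L^{(m+1)(k+1)} ≅ L^{(k+1)(m+1)} ≅ (L^{k+1})^{m+1}`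
  let e : CohB1.tensorPow (CohB1.tensorPow L (m + 1)) (k + 1) ≅
      CohB1.tensorPow (CohB1.tensorPow L (k + 1)) (m + 1) :=
    powMul L (m + 1) (k + 1) ≪≫ powCast L (Nat.mul_comm _ _) ≪≫ (powMul L (k + 1) (m + 1)).symm
  refine ⟨m + 1, Nat.succ_pos m, SecTwist.powHom s (k + 1) ≫ e.hom, ?_, ?_⟩
  · rw [genLocus_comp_iso, genLocus_powHom _ (isInvertible_tensorPow L h1 (m + 1))]; exact hx
  · rw [genLocus_comp_iso, genLocus_powHom _ (isInvertible_tensorPow L h1 (m + 1))]; exact hs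

theorem isAmple_of_isAmple_tensorPow (L : X.Modules) (hL : PicF.IsInvertible L) (n : ℕ)
    (hn : 0 < n) (h : CohB1.IsAmple (CohB1.tensorPow L n)) : CohB1.IsAmple L := by
  obtain ⟨-, h2, h3⟩ := h
  rw [isAmple_iff_exists_pos]
  refine ⟨hL, h2, fun x => ?_⟩
  obtain ⟨m, s, hx, hs⟩ := h3 x
  refine ⟨n * (m + 1), Nat.mul_pos hn (Nat.succ_pos m),
    s ≫ (powMul L n (m + 1)).hom, ?_, ?_⟩
  · rw [genLocus_comp_iso]; exact hx
  · rw [genLocus_comp_iso]; exact hs

theorem isAmple_tensorMod (L L' : X.Modules) (hL : CohB1.IsAmple L) (hL' : CohB1.IsAmple L') :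
    CohB1.IsAmple (CohB1.tensorMod L L') := by
  obtain ⟨h1, h2, h3⟩ := hL
  obtain ⟨h1', -, h3'⟩ := hL'
  rw [isAmple_iff_exists_pos]
  refine ⟨isInvertible_tensorMod L L' h1 h1', h2, fun x => ?_⟩
  obtain ⟨a, s, hx, hs⟩ := h3 x
  obtain ⟨b, s', hx', hs'⟩ := h3' x
  let e : CohB1.tensorMod (CohB1.tensorPow (CohB1.tensorPow L (a + 1)) (b + 1))
      (CohB1.tensorPow (CohB1.tensorPow L' (b + 1)) (a + 1)) ≅
      CohB1.tensorPow (CohB1.tensorMod L L') ((a + 1) * (b + 1)) :=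
    mapIso (powMul L (a + 1) (b + 1))
      (powMul L' (b + 1) (a + 1) ≪≫ powCast L' (Nat.mul_comm _ _)) ≪≫
      (powTensor L L' ((a + 1) * (b + 1))).symm
  have hG : CohB1.genLocus _ (SecTwist.tmulHom (SecTwist.powHom s (b + 1))
      (SecTwist.powHom s' (a + 1)) ≫ e.hom) =
      CohB1.genLocus _ s ⊓ CohB1.genLocus _ s' := by
    rw [genLocus_comp_iso, genLocus_tmulHom _ _
      (isInvertible_tensorPow _ (isInvertible_tensorPow L h1 (a + 1)) (b + 1))
      (isInvertible_tensorPow _ (isInvertible_tensorPow L' h1' (b + 1)) (a + 1)),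
      genLocus_powHom _ (isInvertible_tensorPow L h1 (a + 1)),
      genLocus_powHom _ (isInvertible_tensorPow L' h1' (b + 1))]
  refine ⟨(a + 1) * (b + 1), Nat.mul_pos (Nat.succ_pos a) (Nat.succ_pos b),
    SecTwist.tmulHom (SecTwist.powHom s (b + 1)) (SecTwist.powHom s' (a + 1)) ≫ e.hom, ?_, ?_⟩
  · rw [hG]; exact ⟨hx, hx'⟩
  · rw [hG, inf_comm]
    exact isAffineOpen_genLocus_inf _ (isInvertible_tensorPow L' h1' (b + 1)) s' hs

end Groth.Agent.Helper13.Ample
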