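import Mathlib
import Groth.Agent.Lib.Helper13.Ample

set_option autoImplicit false
universe u
open CategoryTheory CategoryTheory.Limits AlgebraicGeometry Opposite TopologicalSpace TensorProduct
open Groth.Agent.Helper13.QCoh Groth.Agent.Helper13.FinType Groth.Agent.Helper13.Tensor
open Groth.Agent.Helper13.Inv Groth.Agent.Helper13.GenLoc

namespace Groth.Agent.Helper13.Ample

section StalkComp

variable {X : Scheme.{u}} {M N P : X.Modules}

lemma stalkMap_comp_apply (a : M ⟶ N) (b : N ⟶ P) (y : X) (m : M.presheaf.stalk y) :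
    stalkMap (a ≫ b) y m = stalkMap b y (stalkMap a y m) := by
  obtain ⟨U, hyU, t, rfl⟩ := TopCat.Presheaf.exists_germ_eq M.presheaf m
  rw [stalkMap_germ, stalkMap_germ, stalkMap_germ]
  rfl

lemma stalkMap_iso_comp_bijective_iff (e : M ≅ N) (b : N ⟶ P) (y : X) :
    Function.Bijective (stalkMap (e.hom ≫ b) y) ↔ Function.Bijective (stalkMap b y) := by
  have h : (stalkMap (e.hom ≫ b) y : _ → _) = (stalkMap b y) ∘ (stalkMap e.hom y) := by
    funext m
    exact stalkMap_comp_apply e.hom b y m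
  rw [h]
  exact Function.Bijective.of_comp_iff _ (stalkMap_bijective_of_isIso e.hom y)

end StalkComp

variable {U X : Scheme.{u}} (j : U ⟶ X) [IsOpenImmersion j]

/-- restriction of a global section to an open subscheme. -/
noncomputable def restrictSec {M : X.Modules} (s : Coh.structureModule X ⟶ M) :
    Coh.structureModule U ⟶ M.restrict j :=
  (Scheme.Modules.restrictUnitIso j).inv ≫ (Scheme.Modules.restrictFunctor j).map s

lemma stalkMap_restrictSec_bijective_iff {M : X.Modules} (s : Coh.structureModule X ⟶ M) (y : U) :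
    Function.Bijective (stalkMap (restrictSec j s) y) ↔ Function.Bijective (stalkMap s (j y)) := by
  unfold restrictSec
  exact (stalkMap_iso_comp_bijective_iff (Scheme.Modules.restrictUnitIso j).symm _ y).trans
    (stalkMap_restrict_bijective_iff j s y)

theorem genLocus_restrictSec (M : X.Modules) (s : Coh.structureModule X ⟶ M) :
    CohB1.genLocus (M.restrict j) (restrictSec j s) = j ⁻¹ᵁ CohB1.genLocus M s := by
  ext x
  change x ∈ CohB1.genLocus (M.restrict j) (restrictSec j s) ↔ j x ∈ CohB1.genLocus M s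
  rw [mem_genLocus_iff, mem_genLocus_iff]
  constructor
  · rintro ⟨W, hxW, hW⟩
    refine ⟨j ''ᵁ W, ⟨x, hxW, rfl⟩, ?_⟩
    rintro _ ⟨y, hyW, rfl⟩
    exact (stalkMap_restrictSec_bijective_iff j s y).1 (hW y hyW)
  · rintro ⟨W, hxW, hW⟩
    exact ⟨j ⁻¹ᵁ W, hxW, fun y hy => (stalkMap_restrictSec_bijective_iff j s y).2 (hW _ hy)⟩

/-- ampleness restricts along affine open immersions from quasi-compact schemes. -/
theorem isAmple_restrict_of_isAffineHom (L : X.Modules) (hL : CohB1.IsAmple L) [IsAffineHom j]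
    [CompactSpace U] : CohB1.IsAmple (L.restrict j) := by
  obtain ⟨h1, -, h3⟩ := hL
  refine ⟨isInvertible_restrict j L h1, inferInstance, fun x => ?_⟩
  obtain ⟨n, s, hx, hs⟩ := h3 (j x)
  refine ⟨n, restrictSec j s ≫ (powRestrict j L (n + 1)).hom, ?_, ?_⟩
  · rw [genLocus_comp_iso, genLocus_restrictSec]; exact hx
  · rw [genLocus_comp_iso, genLocus_restrictSec]; exact hs.preimage j

/-- for an isomorphism `j`, every global section of the restriction comes from a global section,
with the corresponding locus. -/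
theorem exists_genLocus_eq_image_of_isIso [IsIso j] (M : X.Modules) (hM : PicF.IsInvertible M)
    (s' : Coh.structureModule U ⟶ M.restrict j) :
    ∃ s : Coh.structureModule X ⟶ M, CohB1.genLocus M s = j ''ᵁ CohB1.genLocus (M.restrict j) s' := by
  have htop : j ''ᵁ ⊤ = ⊤ := by
    rw [Scheme.Hom.image_top_eq_opensRange, Scheme.Hom.opensRange_of_isIso]
  let σ' : Γ(M, j ''ᵁ ⊤) := sec (M.restrict j) s'
  refine ⟨LocFree.homOfSec M (M.presheaf.map (eqToHom htop.symm).op σ'), ?_⟩
  ext y
  change y ∈ CohB1.genLocus M _ ↔ y ∈ j ''ᵁ CohB1.genLocus (M.restrict j) s'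
  rw [mem_genLocus_iff_isGen M _ hM, sec_homOfSec]
  obtain ⟨x, rfl⟩ : ∃ x, j x = y := by
    have : Function.Surjective j := (TopCat.homeoOfIso (asIso j.base)).surjective
    exact this y
  have h1 : j x ∈ j ''ᵁ CohB1.genLocus (M.restrict j) s' ↔ x ∈ CohB1.genLocus (M.restrict j) s' := by
    constructor
    · rintro ⟨x', hx', hxx'⟩
      have : x' = x := j.isOpenEmbedding.injective hxx'
      exact this ▸ hx'
    · intro hx
      exact ⟨x, hx, rfl⟩
  rw [h1, mem_genLocus_iff_isGen _ _ (isInvertible_restrict j M hM)]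
  have h2 : sec (M.restrict j) s' = toRes j M σ' := rfl
  rw [h2, isGen_restrict_iff]
  exact isGen_res M (eqToHom htop.symm) σ' (j x) trivial

theorem isAmple_of_isAmple_restrict_of_isIso [IsIso j] (L : X.Modules) (hL : PicF.IsInvertible L)
    (h : CohB1.IsAmple (L.restrict j)) : CohB1.IsAmple L := by
  obtain ⟨-, h2, h3⟩ := h
  haveI : CompactSpace X := by
    have e := TopCat.homeoOfIso (asIso j.base)
    exact e.compactSpace
  refine ⟨hL, inferInstance, fun y => ?_⟩
  obtain ⟨x, rfl⟩ : ∃ x, j x = y := by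
    have : Function.Surjective j := (TopCat.homeoOfIso (asIso j.base)).surjective
    exact this y
  obtain ⟨n, s', hx, hs⟩ := h3 x
  obtain ⟨s, hs2⟩ := exists_genLocus_eq_image_of_isIso j (CohB1.tensorPow L (n + 1))
    (isInvertible_tensorPow L hL (n + 1)) (s' ≫ (powRestrict j L (n + 1)).inv)
  have hh : CohB1.genLocus _ (s' ≫ (powRestrict j L (n + 1)).inv) = CohB1.genLocus _ s' :=
    genLocus_comp_iso s' (powRestrict j L (n + 1)).symm
  rw [hh] at hs2
  refine ⟨n, s, ?_, ?_⟩
  · rw [hs2]; exact ⟨x, hx, rfl⟩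
  · rw [hs2]; exact hs.image_of_isOpenImmersion j

end Groth.Agent.Helper13.Ample

namespace Groth.Agent.Helper13.Inv

variable {U X : Scheme.{u}}

theorem isInvertible_of_isInvertible_restrict (j : U ⟶ X) [IsOpenImmersion j]
    (hj : Function.Surjective j) (L : X.Modules) (h : PicF.IsInvertible (L.restrict j)) :
    PicF.IsInvertible L := by
  rw [isInvertible_iff_exists_isGen] at h ⊢
  intro y
  obtain ⟨x, rfl⟩ := hj y
  obtain ⟨W, hxW, s, hs⟩ := h x
  refine ⟨j ''ᵁ W, ⟨x, hxW, rfl⟩, (s : Γ(L, j ''ᵁ W)), ?_⟩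
  rintro _ ⟨x', hx', rfl⟩
  exact (isGen_restrict_iff j L (s : Γ(L, j ''ᵁ W)) x' hx').1 (hs x' hx')

end Groth.Agent.Helper13.Inv

namespace Groth.Agent.Helper13.Ample

theorem isAffineHom_preimage_ι {X Y : Scheme.{u}} (f : X ⟶ Y) (V : Y.Opens) [IsAffineHom V.ι] :
    IsAffineHom (f ⁻¹ᵁ V).ι :=
  MorphismProperty.of_isPullback (P := @IsAffineHom) (isPullback_morphismRestrict f V) inferInstance

theorem compactSpace_preimage {X Y : Scheme.{u}} (f : X ⟶ Y) [QuasiCompact f] (V : Y.Opens)
    (hV : IsCompact (V : Set Y)) : CompactSpace ((f ⁻¹ᵁ V : X.Opens) : Scheme.{u}) :=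
  isCompact_iff_compactSpace.1 (f.isCompact_preimage hV)

end Groth.Agent.Helper13.Ample
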