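import Mathlib
import Groth.Agent.Lib.Helper13.AmpleRestrict

set_option autoImplicit false
universe u
open CategoryTheory CategoryTheory.Limits AlgebraicGeometry Opposite TopologicalSpace TensorProduct
open Groth.Agent.Helper13.QCoh Groth.Agent.Helper13.FinType Groth.Agent.Helper13.Tensor
open Groth.Agent.Helper13.Inv Groth.Agent.Helper13.GenLoc

namespace Groth.Agent.Helper13.Ample

variable {X : Scheme.{u}}

lemma isGen_one (U : X.Opens) (y : X) (hy : y ∈ U) :
    IsGen (Coh.structureModule X) (LocFree.toO U 1) y hy := by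
  unfold IsGen
  have key : (fun r : X.presheaf.stalk y =>
      r • (Coh.structureModule X).presheaf.germ U y hy (LocFree.toO U 1)) =
      (Groth.Agent.Helper13.WeakAss.unitStalkEquiv y).symm := by
    funext r
    apply (Groth.Agent.Helper13.WeakAss.unitStalkEquiv y).injective
    rw [LinearEquiv.apply_symm_apply, map_smul,
      Groth.Agent.Helper13.WeakAss.unitStalkEquiv_germ]
    change r • X.presheaf.germ U y hy 1 = r
    rw [map_one, smul_eq_mul, mul_one]
  rw [key]
  exact (Groth.Agent.Helper13.WeakAss.unitStalkEquiv y).symm.bijective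

/-- for a section `r` of the structure sheaf, `X_r` is the basic open. -/
theorem genLocus_structureModule (s : Coh.structureModule X ⟶ Coh.structureModule X) :
    CohB1.genLocus (Coh.structureModule X) s =
      X.basicOpen (LocFree.ofO ⊤ (sec (Coh.structureModule X) s)) := by
  have h := genLocus_inf_eq_basicOpen (Coh.structureModule X) s (U := ⊤) (LocFree.toO ⊤ 1)
    (fun y hy => isGen_one ⊤ y hy) (LocFree.ofO ⊤ (sec (Coh.structureModule X) s)) (by
      rw [map_id_apply' (Coh.structureModule X)]
      change _ = LocFree.ofO ⊤ (sec (Coh.structureModule X) s) * (1 : Γ(X, ⊤))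
      rw [mul_one])
  rwa [inf_top_eq] at h

theorem isQuasiAffine_of_isAmple_structureModule (h : CohB1.IsAmple (Coh.structureModule X)) :
    X.IsQuasiAffine := by
  obtain ⟨-, h2, h3⟩ := h
  refine Scheme.IsQuasiAffine.of_forall_exists_mem_basicOpen X (fun x => ?_)
  obtain ⟨n, s, hx, hs⟩ := h3 x
  have hG : CohB1.genLocus _ (s ≫ (powUnit (n + 1)).hom) = CohB1.genLocus _ s :=
    genLocus_comp_iso s (powUnit (n + 1))
  rw [genLocus_structureModule] at hG
  exact ⟨_, by rw [hG]; exact hs, by rw [hG]; exact hx⟩

end Groth.Agent.Helper13.Ample
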