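import Mathlib
import Groth.Agent.Lib.Helper13.AmpleUnit

set_option autoImplicit false
universe u
open CategoryTheory CategoryTheory.Limits AlgebraicGeometry Opposite TopologicalSpace TensorProduct
open Groth.Agent.Helper13.QCoh Groth.Agent.Helper13.FinType Groth.Agent.Helper13.Tensor
open Groth.Agent.Helper13.Inv Groth.Agent.Helper13.GenLoc

namespace Groth.Agent.Helper13.Twist

variable {X : Scheme.{u}} (L : X.Modules)

/-- powers of a local section of `L`. -/
noncomputable def lpow {U : X.Opens} (e : Γ(L, U)) : ∀ n : ℕ, Γ(CohB1.tensorPow L n, U)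
  | 0 => LocFree.toO U 1
  | n + 1 => tmul (CohB1.tensorPow L n) L (lpow e n) e

lemma pow_eq_lpow (s : Coh.structureModule X ⟶ L) (n : ℕ) (U : X.Opens) :
    SecTwist.pow s n U = lpow L (SecTwist.val s U) n := by
  induction n with
  | zero => rfl
  | succ n ih =>
    change SecTwist.tmul (CohB1.tensorPow L n) L U (SecTwist.pow s n U) (SecTwist.val s U) = _
    rw [ih]
    rfl

lemma lpow_res {U V : X.Opens} (i : V ⟶ U) (e : Γ(L, U)) (n : ℕ) :
    (CohB1.tensorPow L n).presheaf.map i.op (lpow L e n) = lpow L (L.presheaf.map i.op e) n := by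
  induction n with
  | zero => exact map_one (X.presheaf.map i.op).hom
  | succ n ih =>
    change (CohB1.tensorMod (CohB1.tensorPow L n) L).presheaf.map i.op
      (tmul (CohB1.tensorPow L n) L (lpow L e n) e) = _
    rw [tmul_res, ih]
    rfl

lemma lpow_smul {U : X.Opens} (f : Γ(X, U)) (e : Γ(L, U)) (n : ℕ) :
    lpow L (f • e) n = f ^ n • lpow L e n := by
  induction n with
  | zero =>
    change lpow L (f • e) 0 = f ^ 0 • lpow L e 0
    rw [pow_zero, one_smul]
    rfl
  | succ n ih =>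
    change tmul (CohB1.tensorPow L n) L (lpow L (f • e) n) (f • e) =
      f ^ (n + 1) • tmul (CohB1.tensorPow L n) L (lpow L e n) e
    rw [ih, tmul_smul_left, tmul_smul_right, ← mul_smul, pow_succ]

variable (F : X.Modules)

/-- tensoring a section of `F ⊗ L^n` with a local section of `L`. -/
noncomputable def eps {W : X.Opens} (e : Γ(L, W)) (n : ℕ)
    (d : Γ(CohB1.tensorMod F (CohB1.tensorPow L n), W)) :
    Γ(CohB1.tensorMod F (CohB1.tensorPow L (n + 1)), W) :=
  (assoc F (CohB1.tensorPow L n) L).hom.app W (tmul _ L d e)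

lemma eps_add {W : X.Opens} (e : Γ(L, W)) (n : ℕ)
    (d d' : Γ(CohB1.tensorMod F (CohB1.tensorPow L n), W)) :
    eps L F e n (d + d') = eps L F e n d + eps L F e n d' := by
  unfold eps
  rw [tmul_add_left, map_add]
  rfl

lemma eps_zero {W : X.Opens} (e : Γ(L, W)) (n : ℕ) :
    eps L F e n 0 = 0 := by
  have h := eps_add L F e n 0 0
  rw [add_zero] at h
  exact left_eq_add.1 h

lemma eps_neg {W : X.Opens} (e : Γ(L, W)) (n : ℕ)
    (d : Γ(CohB1.tensorMod F (CohB1.tensorPow L n), W)) :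
    eps L F e n (-d) = - eps L F e n d := by
  have h := eps_add L F e n d (-d)
  rw [add_neg_cancel, eps_zero] at h
  exact (neg_eq_of_add_eq_zero_right h.symm).symm

lemma eps_sub {W : X.Opens} (e : Γ(L, W)) (n : ℕ)
    (d d' : Γ(CohB1.tensorMod F (CohB1.tensorPow L n), W)) :
    eps L F e n (d - d') = eps L F e n d - eps L F e n d' := by
  rw [sub_eq_add_neg, eps_add, eps_neg, ← sub_eq_add_neg]

lemma eps_smul_left {W : X.Opens} (e : Γ(L, W)) (n : ℕ) (r : Γ(X, W))
    (d : Γ(CohB1.tensorMod F (CohB1.tensorPow L n), W)) :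
    eps L F e n (r • d) = r • eps L F e n d := by
  unfold eps
  rw [tmul_smul_left, Scheme.Modules.Hom.app_smul]
  rfl

lemma eps_smul_right {W : X.Opens} (e : Γ(L, W)) (n : ℕ) (r : Γ(X, W))
    (d : Γ(CohB1.tensorMod F (CohB1.tensorPow L n), W)) :
    eps L F (r • e) n d = eps L F e n (r • d) := by
  unfold eps
  rw [tmul_smul_left, tmul_smul_right]

lemma eps_res {W W' : X.Opens} (i : W' ⟶ W) (e : Γ(L, W)) (n : ℕ)
    (d : Γ(CohB1.tensorMod F (CohB1.tensorPow L n), W)) :
    (CohB1.tensorMod F (CohB1.tensorPow L (n + 1))).presheaf.map i.op (eps L F e n d) =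
      eps L F (L.presheaf.map i.op e) n
        ((CohB1.tensorMod F (CohB1.tensorPow L n)).presheaf.map i.op d) := by
  unfold eps
  rw [← tmul_res]
  have := (assoc F (CohB1.tensorPow L n) L).hom.mapPresheaf.naturality i.op
  exact (congr($this (tmul _ L d e))).symm

lemma eps_tmul {W : X.Opens} (e : Γ(L, W)) (n : ℕ) (t : Γ(F, W)) (p : Γ(CohB1.tensorPow L n, W)) :
    eps L F e n (tmul F _ t p) = tmul F (CohB1.tensorPow L (n + 1)) t (tmul _ L p e) :=
  assoc_hom_app_tmul F (CohB1.tensorPow L n) L t p e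

variable (s : Coh.structureModule X ⟶ L)

/-- multiplication by `s^{⊗ m}`: `F ⊗ L^n → F ⊗ L^{n+m}` on sections. -/
noncomputable def mu : ∀ (m : ℕ) {W : X.Opens} (n : ℕ),
    Γ(CohB1.tensorMod F (CohB1.tensorPow L n), W) →
      Γ(CohB1.tensorMod F (CohB1.tensorPow L (n + m)), W)
  | 0, _, _, d => d
  | m + 1, W, n, d => eps L F (SecTwist.val s W) (n + m) (mu m n d)

lemma mu_succ (m : ℕ) {W : X.Opens} (n : ℕ) (d : Γ(CohB1.tensorMod F (CohB1.tensorPow L n), W)) :
    mu L F s (m + 1) n d = eps L F (SecTwist.val s W) (n + m) (mu L F s m n d) := rfl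

lemma mu_map_zero (m : ℕ) {W : X.Opens} (n : ℕ) :
    mu L F s m (W := W) n 0 = 0 := by
  induction m with
  | zero => rfl
  | succ m ih => rw [mu_succ, ih, eps_zero]

lemma mu_sub (m : ℕ) {W : X.Opens} (n : ℕ) (d d' : Γ(CohB1.tensorMod F (CohB1.tensorPow L n), W)) :
    mu L F s m n (d - d') = mu L F s m n d - mu L F s m n d' := by
  induction m with
  | zero => rfl
  | succ m ih => rw [mu_succ, ih, eps_sub]; rfl

lemma mu_smul (m : ℕ) {W : X.Opens} (n : ℕ) (r : Γ(X, W))
    (d : Γ(CohB1.tensorMod F (CohB1.tensorPow L n), W)) :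
    mu L F s m n (r • d) = r • mu L F s m n d := by
  induction m with
  | zero => rfl
  | succ m ih => rw [mu_succ, ih, eps_smul_left]; rfl

lemma mu_res (m : ℕ) {W W' : X.Opens} (i : W' ⟶ W) (n : ℕ)
    (d : Γ(CohB1.tensorMod F (CohB1.tensorPow L n), W)) :
    (CohB1.tensorMod F (CohB1.tensorPow L (n + m))).presheaf.map i.op (mu L F s m n d) =
      mu L F s m n ((CohB1.tensorMod F (CohB1.tensorPow L n)).presheaf.map i.op d) := by
  induction m with
  | zero => rfl
  | succ m ih =>
    rw [mu_succ, mu_succ, ← ih, ← SecTwist.map_val s i]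
    exact eps_res L F i _ _ _

lemma mu_twist (m : ℕ) {W : X.Opens} (n : ℕ) (t : Γ(F, W)) :
    mu L F s m n (SecTwist.twist s n F W t) = SecTwist.twist s (n + m) F W t := by
  induction m with
  | zero => rfl
  | succ m ih =>
    rw [mu_succ, ih]
    exact eps_tmul L F _ _ t _

/-- if `s = f • e` on `W` and `f^m` kills `d`, then `s^{⊗ m}` kills `d`. -/
lemma mu_eq_zero {W : X.Opens} (e : Γ(L, W)) (f : Γ(X, W)) (hf : SecTwist.val s W = f • e)
    (m : ℕ) (n : ℕ) (d : Γ(CohB1.tensorMod F (CohB1.tensorPow L n), W)) (h : f ^ m • d = 0) :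
    mu L F s m n d = 0 := by
  induction m generalizing d with
  | zero =>
    rw [pow_zero, one_smul] at h
    rw [h]
    rfl
  | succ m ih =>
    rw [mu_succ, hf, eps_smul_right, ← mu_smul, ih (f • d), eps_zero]
    rw [← mul_smul, ← pow_succ]
    exact h

end Groth.Agent.Helper13.Twist
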