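import Mathlib
import Groth.Agent.Lib.Helper13.TwistSec
import Groth.Agent.Lib.Helper13.TensorQCoh

set_option autoImplicit false
universe u
open CategoryTheory CategoryTheory.Limits AlgebraicGeometry Opposite TopologicalSpace TensorProduct
open Groth.Agent.Helper13.QCoh Groth.Agent.Helper13.FinType Groth.Agent.Helper13.Tensor
open Groth.Agent.Helper13.Inv Groth.Agent.Helper13.GenLoc Groth.Agent.Helper13.Qcqs

namespace Groth.Agent.Helper13.Twist

variable {X : Scheme.{u}}

theorem compact_open_induction_basis {B : Set X.Opens} (hB : Opens.IsBasis B)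
    (hBc : ∀ V ∈ B, IsCompact (V : Set X)) {P : X.Opens → Prop} (h₀ : P ⊥)
    (hstep : ∀ (S V : X.Opens), IsCompact (S : Set X) → V ∈ B → P S → P (S ⊔ V))
    (S : X.Opens) (hS : IsCompact (S : Set X)) : P S := by
  obtain ⟨Us, hUs, hfin, rfl⟩ := hB.exists_finite_of_isCompact hS
  suffices H : ∀ (Us : Set X.Opens) (hf : Us.Finite), Us ⊆ B →
      IsCompact ((sSup Us : X.Opens) : Set X) ∧ P (sSup Us) from (H Us hfin hUs).2
  intro Us hf
  refine Set.Finite.induction_on (motive := fun Us _ => Us ⊆ B →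
      IsCompact ((sSup Us : X.Opens) : Set X) ∧ P (sSup Us)) Us hf ?_ ?_
  · intro _
    rw [sSup_empty]
    exact ⟨by simp, h₀⟩
  · intro V Us' _ _ ih hsub
    rw [Set.insert_subset_iff] at hsub
    obtain ⟨hc, hp⟩ := ih hsub.2
    rw [sSup_insert, sup_comm]
    refine ⟨?_, hstep _ _ hc hsub.1 hp⟩
    rw [Opens.coe_sup]
    exact hc.union (hBc V hsub.1)

/-- the basis of affine opens over which `L` has a generator of which `s` is a multiple. -/
def trivOpens (L : X.Modules) (s : Coh.structureModule X ⟶ L) : Set X.Opens :=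
  {V | IsAffineOpen V ∧ ∃ (e : Γ(L, V)) (f : Γ(X, V)),
    (∀ (y : X) (hy : y ∈ V), IsGen L e y hy) ∧ SecTwist.val s V = f • e}

theorem isBasis_trivOpens (L : X.Modules) (hL : PicF.IsInvertible L)
    (s : Coh.structureModule X ⟶ L) : Opens.IsBasis (trivOpens L s) := by
  rw [Opens.isBasis_iff_nbhd]
  intro U x hxU
  obtain ⟨W, hxW, _, e, he, a, ha⟩ := exists_local_rep L hL (SecTwist.val s ⊤) x trivial
  obtain ⟨V, hV, hxV, hVU⟩ := exists_isAffineOpen_mem_and_subset (show x ∈ U ⊓ W from ⟨hxU, hxW⟩)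
  have hVU' : V ≤ U ⊓ W := hVU
  obtain ⟨he', ha'⟩ := local_rep_res L (SecTwist.val s ⊤) le_top (hVU'.trans inf_le_right) e he a ha
  refine ⟨V, ⟨hV, L.presheaf.map (homOfLE (hVU'.trans inf_le_right)).op e,
    X.presheaf.map (homOfLE (hVU'.trans inf_le_right)).op a, he', ?_⟩, hxV, hVU'.trans inf_le_left⟩
  rw [← ha']
  exact (SecTwist.map_val s (homOfLE (le_top : V ≤ ⊤))).symm

lemma isCompact_of_mem_trivOpens {L : X.Modules} {s : Coh.structureModule X ⟶ L} {V : X.Opens}
    (hV : V ∈ trivOpens L s) : IsCompact (V : Set X) := hV.1.isCompact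

/-- on a member of `trivOpens`, `X_s` is the basic open of the coefficient. -/
lemma genLocus_inf_of_mem_trivOpens (L : X.Modules) (s : Coh.structureModule X ⟶ L) {V : X.Opens}
    (e : Γ(L, V)) (f : Γ(X, V)) (he : ∀ (y : X) (hy : y ∈ V), IsGen L e y hy)
    (hf : SecTwist.val s V = f • e) : CohB1.genLocus L s ⊓ V = X.basicOpen f := by
  apply genLocus_inf_eq_basicOpen L s e he f
  rw [← hf]
  exact SecTwist.map_val s (homOfLE (le_top : V ≤ ⊤))

/-- the twist `t ⊗ s^N` over an open where `s = f • e`. -/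
lemma twist_eq_of_rep (L : X.Modules) (s : Coh.structureModule X ⟶ L) (F : X.Modules)
    {V : X.Opens} (e : Γ(L, V)) (f : Γ(X, V)) (hf : SecTwist.val s V = f • e) (N : ℕ)
    (t : Γ(F, V)) :
    SecTwist.twist s N F V t = tmul F (CohB1.tensorPow L N) (f ^ N • t) (lpow L e N) := by
  change tmul F (CohB1.tensorPow L N) t (SecTwist.pow s N V) = _
  rw [pow_eq_lpow, hf, lpow_smul, tmul_smul_right, tmul_smul_left]

section Kill

variable (L : X.Modules) (hL : PicF.IsInvertible L) (s : Coh.structureModule X ⟶ L)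
  (F : X.Modules) [F.IsQuasicoherent]

include hL in
/-- **killing**: a section of a quasi-coherent module over a quasi-compact open which vanishes on
`X_s` is killed by a power of `s`. -/
theorem exists_twist_eq_zero {T : X.Opens} (t : Γ(F, T))
    (ht : res F (inf_le_left : T ⊓ CohB1.genLocus L s ≤ T) t = 0) (S : X.Opens)
    (hS : IsCompact (S : Set X)) :
    ∀ hST : S ≤ T, ∃ n : ℕ, SecTwist.twist s n F S (res F hST t) = 0 := by
  refine compact_open_induction_basis (isBasis_trivOpens L hL s)
    (fun V hV => isCompact_of_mem_trivOpens hV)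
    (P := fun S => ∀ hST : S ≤ T, ∃ n : ℕ, SecTwist.twist s n F S (res F hST t) = 0)
    ?_ ?_ S hS
  · intro _
    exact ⟨0, (subsingleton_of_le_bot _ le_rfl).elim _ _⟩
  · rintro S V hS ⟨hV, e, f, he, hf⟩ ih hST
    have hS' : S ≤ T := le_sup_left.trans hST
    have hV' : V ≤ T := le_sup_right.trans hST
    obtain ⟨n₁, hn₁⟩ := ih hS'
    have hG := genLocus_inf_of_mem_trivOpens L s e f he hf
    obtain ⟨n₂, hn₂⟩ := Groth.Agent.Helper13.QCohPush.exists_pow_smul_eq_zero' F hV f
      (CohB1.genLocus L s ⊓ V) hG inf_le_right (res F hV' t) (by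
        rw [← res_def, res_res, ← res_res F (inf_le_left : T ⊓ CohB1.genLocus L s ≤ T)
          (le_inf (inf_le_right.trans hV') inf_le_left), ht, map_zero])
    refine ⟨n₁ + n₂, ?_⟩
    have hmapS : res (CohB1.tensorMod F (CohB1.tensorPow L (n₁ + n₂))) (le_sup_left : S ≤ S ⊔ V)
        (SecTwist.twist s (n₁ + n₂) F (S ⊔ V) (res F hST t)) =
        SecTwist.twist s (n₁ + n₂) F S (res F hS' t) := by
      rw [← res_res F hST le_sup_left t]
      exact SecTwist.map_twist s (n₁ + n₂) F (homOfLE (le_sup_left : S ≤ S ⊔ V)) (res F hST t)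
    have hmapV : res (CohB1.tensorMod F (CohB1.tensorPow L (n₁ + n₂))) (le_sup_right : V ≤ S ⊔ V)
        (SecTwist.twist s (n₁ + n₂) F (S ⊔ V) (res F hST t)) =
        SecTwist.twist s (n₁ + n₂) F V (res F hV' t) := by
      rw [← res_res F hST le_sup_right t]
      exact SecTwist.map_twist s (n₁ + n₂) F (homOfLE (le_sup_right : V ≤ S ⊔ V)) (res F hST t)
    refine eq_of_res_eq₂ (CohB1.tensorMod F (CohB1.tensorPow L (n₁ + n₂))) le_sup_left le_sup_right
      le_rfl _ _ ?_ ?_
    · refine hmapS.trans (Eq.trans ?_ (map_zero _).symm)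
      rw [← mu_twist, hn₁]
      exact mu_map_zero L F s n₂ n₁
    · refine hmapV.trans (Eq.trans ?_ (map_zero _).symm)
      rw [twist_eq_of_rep L s F e f hf, pow_add, mul_smul, hn₂, smul_zero]
      exact (tmulBilin F (CohB1.tensorPow L (n₁ + n₂)) V).map_zero₂ _

end Kill

section Ext

variable (L : X.Modules) (hL : PicF.IsInvertible L) (s : Coh.structureModule X ⟶ L)
  (F : X.Modules) [F.IsQuasicoherent]

include hL in
/-- **extension**: on a quasi-compact quasi-separated scheme, a section of a quasi-coherent module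
over `X_s`, multiplied by a power of `s`, extends. -/
theorem exists_twist_eq_res [QuasiSeparatedSpace X] (t : Γ(F, CohB1.genLocus L s)) (S : X.Opens)
    (hS : IsCompact (S : Set X)) :
    ∃ (n : ℕ) (u : Γ(CohB1.tensorMod F (CohB1.tensorPow L n), S)),
      ∀ (W : X.Opens) (hWS : W ≤ S) (hWG : W ≤ CohB1.genLocus L s),
        res _ hWS u = SecTwist.twist s n F W (res F hWG t) := by
  refine compact_open_induction_basis (isBasis_trivOpens L hL s)
    (fun V hV => isCompact_of_mem_trivOpens hV)
    (P := fun S => ∃ (n : ℕ) (u : Γ(CohB1.tensorMod F (CohB1.tensorPow L n), S)),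
      ∀ (W : X.Opens) (hWS : W ≤ S) (hWG : W ≤ CohB1.genLocus L s),
        res _ hWS u = SecTwist.twist s n F W (res F hWG t))
    ?_ ?_ S hS
  · exact ⟨0, 0, fun W hWS _ => (subsingleton_of_le_bot _ hWS).elim _ _⟩
  · rintro S V hS ⟨hV, e, f, he, hf⟩ ⟨n₁, uS, huS⟩
    have hG := genLocus_inf_of_mem_trivOpens L s e f he hf
    -- extend on the affine `V`
    obtain ⟨n₂, a, ha⟩ := Groth.Agent.Helper13.QCohPush.exists_pow_smul_eq_res' F hV f
      (CohB1.genLocus L s ⊓ V) hG inf_le_right (res F inf_le_left t)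
    -- common level
    let N := n₁ + n₂
    let uS' : Γ(CohB1.tensorMod F (CohB1.tensorPow L N), S) := mu L F s n₂ n₁ uS
    let uV' : Γ(CohB1.tensorMod F (CohB1.tensorPow L N), V) :=
      tmul F (CohB1.tensorPow L N) (f ^ n₁ • a) (lpow L e N)
    have hA : ∀ (W : X.Opens) (hWS : W ≤ S) (hWG : W ≤ CohB1.genLocus L s),
        res _ hWS uS' = SecTwist.twist s N F W (res F hWG t) := by
      intro W hWS hWG
      rw [res_def]
      refine (mu_res L F s n₂ (homOfLE hWS) n₁ uS).trans ?_
      rw [← mu_twist]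
      congr 1
      exact huS W hWS hWG
    have hB : ∀ (W : X.Opens) (hWV : W ≤ V) (hWG : W ≤ CohB1.genLocus L s),
        res _ hWV uV' = SecTwist.twist s N F W (res F hWG t) := by
      intro W hWV hWG
      have hfW : SecTwist.val s W = resO hWV f • res L hWV e := by
        rw [← SecTwist.map_val s (homOfLE hWV), hf]
        exact res_smul L hWV f e
      rw [twist_eq_of_rep L s F _ _ hfW, res_def]
      refine (tmul_res F (CohB1.tensorPow L N) (homOfLE hWV) _ _).trans ?_
      rw [lpow_res]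
      congr 1
      have h1 : res F hWV a = resO hWV f ^ n₂ • res F hWG t := by
        have := congrArg (res F (le_inf hWG hWV : W ≤ CohB1.genLocus L s ⊓ V)) ha
        rw [← res_def, res_res, res_smul, map_pow, res_res, ← resO_def, resO_resO] at this
        exact this
      change res F hWV (f ^ n₁ • a) = _
      rw [res_smul, map_pow, h1, ← mul_smul, ← pow_add]
    -- the difference on the overlap is killed by a power of `s`
    have hSV : IsCompact ((S ⊓ V : X.Opens) : Set X) :=
      QuasiSeparatedSpace.inter_isCompact S.1 V.1 S.2 hS V.2 hV.isCompact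
    haveI : (CohB1.tensorPow L N).IsQuasicoherent :=
      isQuasicoherent_of_isInvertible _ (isInvertible_tensorPow L hL N)
    let d : Γ(CohB1.tensorMod F (CohB1.tensorPow L N), S ⊓ V) :=
      res _ inf_le_left uS' - res _ inf_le_right uV'
    have hW₀ : (S ⊓ V) ⊓ (CohB1.genLocus L s ⊓ V) = X.basicOpen (resO (inf_le_right : S ⊓ V ≤ V) f) := by
      rw [hG]
      exact (Scheme.basicOpen_res X f (homOfLE (inf_le_right : S ⊓ V ≤ V)).op).symm
    obtain ⟨m, hm⟩ := exists_pow_smul_eq_zero_of_isCompact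
      (CohB1.tensorMod F (CohB1.tensorPow L N)) hSV (resO (inf_le_right : S ⊓ V ≤ V) f)
      ((S ⊓ V) ⊓ (CohB1.genLocus L s ⊓ V)) hW₀ inf_le_left d (by
        change res _ _ (res _ inf_le_left uS' - res _ inf_le_right uV') = 0
        rw [map_sub, res_res, res_res,
          hA _ (inf_le_left.trans inf_le_left) (inf_le_right.trans inf_le_left),
          hB _ (inf_le_left.trans inf_le_right) (inf_le_right.trans inf_le_left), sub_self])
    have hfSV : SecTwist.val s (S ⊓ V) = resO (inf_le_right : S ⊓ V ≤ V) f •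
        res L (inf_le_right : S ⊓ V ≤ V) e := by
      rw [← SecTwist.map_val s (homOfLE (inf_le_right : S ⊓ V ≤ V)), hf]
      exact res_smul L inf_le_right f e
    have hd : mu L F s m N d = 0 := mu_eq_zero L F s _ _ hfSV m N d hm
    -- glue
    have hglue : res _ (inf_le_left : S ⊓ V ≤ S) (mu L F s m N uS') =
        res _ (inf_le_right : S ⊓ V ≤ V) (mu L F s m N uV') := by
      rw [res_def, res_def]
      rw [mu_res L F s m (homOfLE (inf_le_left : S ⊓ V ≤ S)) N uS',
        mu_res L F s m (homOfLE (inf_le_right : S ⊓ V ≤ V)) N uV']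
      have := mu_sub L F s m N (res _ inf_le_left uS') (res _ inf_le_right uV')
      rw [hd] at this
      exact sub_eq_zero.1 this.symm
    obtain ⟨u, hu1, hu2⟩ := exists_glue₂ (CohB1.tensorMod F (CohB1.tensorPow L (N + m))) S V
      (mu L F s m N uS') (mu L F s m N uV') hglue
    have htw : ∀ (W' W : X.Opens) (h : W' ≤ W) (hWG : W ≤ CohB1.genLocus L s) (k : ℕ),
        res (CohB1.tensorMod F (CohB1.tensorPow L k)) h (SecTwist.twist s k F W (res F hWG t)) =
          SecTwist.twist s k F W' (res F (h.trans hWG) t) := by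
      intro W' W h hWG k
      rw [← res_res F hWG h t]
      exact SecTwist.map_twist s k F (homOfLE h) (res F hWG t)
    refine ⟨N + m, u, fun W hWS hWG => ?_⟩
    refine eq_of_res_eq₂ (CohB1.tensorMod F (CohB1.tensorPow L (N + m)))
      (inf_le_left : W ⊓ S ≤ W) (inf_le_left : W ⊓ V ≤ W) ?_ _ _ ?_ ?_
    · intro x hx
      rcases hWS hx with h | h
      · exact Or.inl ⟨hx, h⟩
      · exact Or.inr ⟨hx, h⟩
    · rw [htw _ _ inf_le_left hWG, res_res,
        ← res_res _ (le_sup_left : S ≤ S ⊔ V) (inf_le_right : W ⊓ S ≤ S), hu1, res_def]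
      refine (mu_res L F s m (homOfLE (inf_le_right : W ⊓ S ≤ S)) N uS').trans ?_
      rw [← mu_twist]
      congr 1
      exact hA _ inf_le_right (inf_le_left.trans hWG)
    · rw [htw _ _ inf_le_left hWG, res_res,
        ← res_res _ (le_sup_right : V ≤ S ⊔ V) (inf_le_right : W ⊓ V ≤ V), hu2, res_def]
      refine (mu_res L F s m (homOfLE (inf_le_right : W ⊓ V ≤ V)) N uV').trans ?_
      rw [← mu_twist]
      congr 1
      exact hB _ inf_le_right (inf_le_left.trans hWG)

end Ext

end Groth.Agent.Helper13.Twist
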