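import Mathlib
import Groth.Agent.Lib.Helper13.TwistExt

set_option autoImplicit false
universe u
open CategoryTheory CategoryTheory.Limits AlgebraicGeometry Opposite TopologicalSpace TensorProduct
open Groth.Agent.Helper13.QCoh Groth.Agent.Helper13.FinType Groth.Agent.Helper13.Tensor
open Groth.Agent.Helper13.Inv Groth.Agent.Helper13.GenLoc Groth.Agent.Helper13.Qcqs
open Groth.Agent.Helper13.Twist

namespace Groth.Agent.Helper13.Ample

variable {X : Scheme.{u}}

lemma isGen_lpow (L : X.Modules) {U : X.Opens} (e : Γ(L, U)) (y : X) (hy : y ∈ U)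
    (he : IsGen L e y hy) (n : ℕ) : IsGen (CohB1.tensorPow L n) (lpow L e n) y hy := by
  induction n with
  | zero => exact isGen_one U y hy
  | succ n ih => exact isGen_tmul _ L _ e y hy ih he

theorem isRetrocompact_genLocus (L : X.Modules) (hL : PicF.IsInvertible L)
    (s : Coh.structureModule X ⟶ L) : IsRetrocompact (X := X) (CohB1.genLocus L s) := by
  haveI := isAffineHom_genLocus_ι L hL s
  exact IsRetrocompact_iff_isSpectralMap_subtypeVal.mpr (CohB1.genLocus L s).ι.isSpectralMap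

theorem quasiSeparatedSpace_of_isAmple (L : X.Modules) (hL : CohB1.IsAmple L) :
    QuasiSeparatedSpace X := by
  obtain ⟨h1, -, h3⟩ := hL
  choose n s hx hs using h3
  exact QuasiSeparatedSpace.of_isOpenCover (U := fun x => CohB1.genLocus _ (s x))
    (eq_top_iff.mpr fun x _ => Opens.mem_iSup.mpr ⟨x, hx x⟩)
    (fun x => isRetrocompact_genLocus _ (isInvertible_tensorPow L h1 _) (s x))
    (fun x => (hs x).isQuasiSeparated)

/-- on a qcqs scheme, for a section `s` of an invertible module `M` with `X_s` affine, every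
basic open of `X_s` is of the form `X_σ` for a section `σ` of a positive power of `M`. -/
theorem exists_genLocus_eq_basicOpen_of_affine [CompactSpace X] [QuasiSeparatedSpace X]
    (M : X.Modules) (hM : PicF.IsInvertible M) (s : Coh.structureModule X ⟶ M)
    (g : Γ(X, CohB1.genLocus M s)) :
    ∃ (k : ℕ) (σ : Coh.structureModule X ⟶ CohB1.tensorPow M (k + 1)),
      CohB1.genLocus _ σ = X.basicOpen g := by
  haveI : (Coh.structureModule X).IsQuasicoherent :=
    isQuasicoherent_of_isInvertible _ isInvertible_structureModule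
  obtain ⟨k, u, hu⟩ := exists_twist_eq_res M hM s (Coh.structureModule X)
    (LocFree.toO (CohB1.genLocus M s) g) ⊤ (by simpa using isCompact_univ)
  have hu' := hu (CohB1.genLocus M s) le_top le_rfl
  rw [res_self] at hu'
  -- the section `v` of `M^k` restricting to `g • s^k` on `X_s`
  let v : Γ(CohB1.tensorPow M k, ⊤) := (lidHom (CohB1.tensorPow M k)).app ⊤ u
  have hv : res _ (le_top : CohB1.genLocus M s ≤ ⊤) v =
      g • lpow M (SecTwist.val s (CohB1.genLocus M s)) k := by
    have hnat : res _ (le_top : CohB1.genLocus M s ≤ ⊤) v =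
        (lidHom (CohB1.tensorPow M k)).app (CohB1.genLocus M s) (res _ le_top u) := by
      have := (lidHom (CohB1.tensorPow M k)).mapPresheaf.naturality
        (homOfLE (le_top : CohB1.genLocus M s ≤ ⊤)).op
      exact (congr($this u)).symm
    rw [hnat, hu']
    change (lidHom (CohB1.tensorPow M k)).app _ (tmul _ _ (LocFree.toO _ g)
      (SecTwist.pow s k (CohB1.genLocus M s))) = _
    rw [lidHom_app_tmul, pow_eq_lpow]
  have hgenS : ∀ (y : X) (hy : y ∈ CohB1.genLocus M s),
      IsGen M (SecTwist.val s (CohB1.genLocus M s)) y hy := by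
    intro y hy
    have h := isGen_of_mem_genLocus M s hy
    have h2 := (isGen_res M (homOfLE (le_top : CohB1.genLocus M s ≤ ⊤)) (sec M s) y hy).2 h
    have e : M.presheaf.map (homOfLE (le_top : CohB1.genLocus M s ≤ ⊤)).op (sec M s) =
        SecTwist.val s (CohB1.genLocus M s) := SecTwist.map_val s (homOfLE le_top)
    rwa [e] at h2
  refine ⟨k, SecTwist.tmulHom (LocFree.homOfSec _ v) s, ?_⟩
  change CohB1.genLocus (CohB1.tensorMod (CohB1.tensorPow M k) M) _ = _
  rw [genLocus_tmulHom _ _ (isInvertible_tensorPow M hM k) hM]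
  ext y
  constructor
  · rintro ⟨hy1, hy2⟩
    have hy1 : y ∈ CohB1.genLocus _ (LocFree.homOfSec (CohB1.tensorPow M k) v) := hy1
    have hy2 : y ∈ CohB1.genLocus M s := hy2
    rw [mem_genLocus_iff_isGen _ _ (isInvertible_tensorPow M hM k), sec_homOfSec,
      ← isGen_res _ (homOfLE (le_top : CohB1.genLocus M s ≤ ⊤)) v y hy2] at hy1
    have hy1' : IsGen _ (res _ (le_top : CohB1.genLocus M s ≤ ⊤) v) y hy2 := hy1
    rw [hv, isGen_smul_iff _ _ g y hy2 (isGen_lpow M _ y hy2 (hgenS y hy2) k)] at hy1'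
    exact hy1'
  · intro hy
    have hy : y ∈ X.basicOpen g := hy
    have hy2 : y ∈ CohB1.genLocus M s := X.basicOpen_le g hy
    refine ⟨?_, hy2⟩
    change y ∈ CohB1.genLocus _ (LocFree.homOfSec (CohB1.tensorPow M k) v)
    rw [mem_genLocus_iff_isGen _ _ (isInvertible_tensorPow M hM k), sec_homOfSec,
      ← isGen_res _ (homOfLE (le_top : CohB1.genLocus M s ≤ ⊤)) v y hy2]
    change IsGen _ (res _ (le_top : CohB1.genLocus M s ≤ ⊤) v) y hy2
    rw [hv, isGen_smul_iff _ _ g y hy2 (isGen_lpow M _ y hy2 (hgenS y hy2) k)]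
    exact hy

/-- for an ample `L`, the opens `X_s`, `s` a section of a positive power of `L`, form a basis. -/
theorem isBasis_genLocus_of_isAmple (L : X.Modules) (hL : CohB1.IsAmple L) :
    Opens.IsBasis {U : X.Opens | ∃ (n : ℕ) (s : Coh.structureModule X ⟶ CohB1.tensorPow L (n + 1)),
      U = CohB1.genLocus _ s} := by
  haveI := hL.2.1
  haveI := quasiSeparatedSpace_of_isAmple L hL
  rw [Opens.isBasis_iff_nbhd]
  intro U x hxU
  obtain ⟨n, s, hx, hs⟩ := hL.2.2 x
  obtain ⟨g, hg1, hg2⟩ := hs.exists_basicOpen_le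
    (V := U ⊓ CohB1.genLocus _ s) ⟨x, ⟨hxU, hx⟩⟩ hx
  obtain ⟨k, σ, hσ⟩ := exists_genLocus_eq_basicOpen_of_affine (CohB1.tensorPow L (n + 1))
    (isInvertible_tensorPow L hL.1 (n + 1)) s g
  obtain ⟨m, hm⟩ : ∃ m, (n + 1) * (k + 1) = m + 1 := ⟨n * k + n + k, by ring⟩
  refine ⟨_, ⟨m, σ ≫ (powMul L (n + 1) (k + 1) ≪≫ powCast L hm).hom, rfl⟩, ?_, ?_⟩
  · rw [genLocus_comp_iso, hσ]; exact hg2
  · rw [genLocus_comp_iso, hσ]; exact hg1.trans inf_le_left

/-- conversely, if the `X_s` form a basis on a quasi-compact `X`, then `L` is ample. -/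
theorem isAmple_of_isBasis_genLocus [CompactSpace X] (L : X.Modules) (hL : PicF.IsInvertible L)
    (hB : Opens.IsBasis {U : X.Opens | ∃ (n : ℕ)
      (s : Coh.structureModule X ⟶ CohB1.tensorPow L (n + 1)), U = CohB1.genLocus _ s}) :
    CohB1.IsAmple L := by
  refine ⟨hL, inferInstance, fun x => ?_⟩
  rw [Opens.isBasis_iff_nbhd] at hB
  obtain ⟨V, hV, hxV, -⟩ := exists_isAffineOpen_mem_and_subset (show x ∈ (⊤ : X.Opens) from trivial)
  obtain ⟨W, ⟨n, s, rfl⟩, hxW, hWV⟩ := hB hxV
  exact ⟨n, s, hxW, isAffineOpen_genLocus_of_le _ (isInvertible_tensorPow L hL (n + 1)) s hV hWV⟩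

end Groth.Agent.Helper13.Ample
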