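import Mathlib
import Groth.Agent.Lib.Helper13.AmpleBasis

set_option autoImplicit false
universe u
open CategoryTheory CategoryTheory.Limits AlgebraicGeometry Opposite TopologicalSpace TensorProduct
open Groth.Agent.Helper13.QCoh Groth.Agent.Helper13.FinType Groth.Agent.Helper13.Tensor
open Groth.Agent.Helper13.Inv Groth.Agent.Helper13.GenLoc Groth.Agent.Helper13.Qcqs
open Groth.Agent.Helper13.Twist

namespace Groth.Agent.Helper13.Ample

variable {U X : Scheme.{u}}

/-- ampleness restricts to quasi-compact open subschemes. -/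
theorem isAmple_restrict (j : U ⟶ X) [IsOpenImmersion j] [CompactSpace U] (L : X.Modules)
    (hL : CohB1.IsAmple L) : CohB1.IsAmple (L.restrict j) := by
  have hB := isBasis_genLocus_of_isAmple L hL
  rw [Opens.isBasis_iff_nbhd] at hB
  refine ⟨isInvertible_restrict j L hL.1, inferInstance, fun x => ?_⟩
  obtain ⟨V, hV, hxV, hVU⟩ := exists_isAffineOpen_mem_and_subset
    (show j x ∈ j.opensRange from ⟨x, rfl⟩)
  obtain ⟨W, ⟨n, s, rfl⟩, hxW, hWV⟩ := hB hxV
  have hW : IsAffineOpen (CohB1.genLocus _ s) :=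
    isAffineOpen_genLocus_of_le _ (isInvertible_tensorPow L hL.1 (n + 1)) s hV hWV
  refine ⟨n, restrictSec j s ≫ (powRestrict j L (n + 1)).hom, ?_, ?_⟩
  · rw [genLocus_comp_iso, genLocus_restrictSec]; exact hxW
  · rw [genLocus_comp_iso, genLocus_restrictSec,
      ← Scheme.Hom.isAffineOpen_iff_of_isOpenImmersion j,
      Scheme.Hom.image_preimage_eq_opensRange_inf, inf_eq_right.2 (hWV.trans hVU)]
    exact hW

/-- restriction in two steps. -/
noncomputable def restrictRestrictIso {V U X : Scheme.{u}} (k : V ⟶ U) (j : U ⟶ X)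
    [IsOpenImmersion k] [IsOpenImmersion j] (l : V ⟶ X) [IsOpenImmersion l] (h : k ≫ j = l)
    (L : X.Modules) : (L.restrict j).restrict k ≅ L.restrict l :=
  ((Scheme.Modules.restrictFunctorComp k j).app L).symm ≪≫
    (Scheme.Modules.restrictFunctorCongr h).app L

theorem isAmple_restrict_of_le {X : Scheme.{u}} (L : X.Modules) {U' U : X.Opens} (h : U' ≤ U)
    (hU' : IsCompact (U' : Set X)) (hL : CohB1.IsAmple (L.restrict U.ι)) :
    CohB1.IsAmple (L.restrict U'.ι) := by
  haveI : CompactSpace (U' : Scheme.{u}) := isCompact_iff_compactSpace.1 hU'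
  exact isAmple_of_iso (restrictRestrictIso (X.homOfLE h) U.ι U'.ι (X.homOfLE_ι h) L)
    (isAmple_restrict (X.homOfLE h) _ hL)

section LocBasic

variable {X : Scheme.{u}}

theorem isInvertible_of_forall_exists_restrict (L : X.Modules)
    (h : ∀ y : X, ∃ (V : Scheme.{u}) (j : V ⟶ X) (_ : IsOpenImmersion j),
      y ∈ Set.range j ∧ PicF.IsInvertible (L.restrict j)) : PicF.IsInvertible L := by
  rw [isInvertible_iff_exists_isGen]
  intro y
  obtain ⟨V, j, _, ⟨x, rfl⟩, hj⟩ := h y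
  rw [isInvertible_iff_exists_isGen] at hj
  obtain ⟨W, hxW, s, hs⟩ := hj x
  refine ⟨j ''ᵁ W, ⟨x, hxW, rfl⟩, (s : Γ(L, j ''ᵁ W)), ?_⟩
  rintro _ ⟨x', hx', rfl⟩
  exact (isGen_restrict_iff j L (s : Γ(L, j ''ᵁ W)) x' hx').1 (hs x' hx')

theorem isAmple_restrict_of_factor {U U' : Scheme.{u}} (j : U ⟶ X) (j' : U' ⟶ X)
    [IsOpenImmersion j] [IsOpenImmersion j'] [CompactSpace U']
    (hr : Set.range j' ⊆ Set.range j) (L : X.Modules)
    (h : CohB1.IsAmple (L.restrict j)) : CohB1.IsAmple (L.restrict j') := by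
  let k : U' ⟶ U := IsOpenImmersion.lift j j' hr
  have hk : k ≫ j = j' := IsOpenImmersion.lift_fac j j' hr
  haveI : IsOpenImmersion k := by
    haveI : IsOpenImmersion (k ≫ j) := by rw [hk]; infer_instance
    exact IsOpenImmersion.of_comp k j
  exact isAmple_of_iso (restrictRestrictIso k j j' hk L) (isAmple_restrict k _ h)

lemma isGen_smul_iff_of_mem_basicOpen (M : X.Modules) {W : X.Opens} (a : Γ(X, W)) (t : Γ(M, W))
    (y : X) (hy : y ∈ W) (hya : y ∈ X.basicOpen a) : IsGen M (a • t) y hy ↔ IsGen M t y hy := by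
  rw [Scheme.mem_basicOpen _ _ y hy, IsUnit.isUnit_iff_mulRight_bijective] at hya
  unfold IsGen
  have key : (fun r : X.presheaf.stalk y => r • M.presheaf.germ W y hy (a • t)) =
      (fun r : X.presheaf.stalk y => r • M.presheaf.germ W y hy t) ∘
        (fun r : X.presheaf.stalk y => r * X.presheaf.germ W y hy a) := by
    funext r
    rw [Function.comp_apply, Tensor.germ_smul, mul_smul]
  rw [key]
  exact Function.Bijective.of_comp_iff _ hya

/-- on a qcqs scheme, the locus inside `X_f` where a section `t` of `M` over `X_f` generates is of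
the form `X_τ` for a global section `τ`. -/
theorem exists_genLocus_eq_of_section [CompactSpace X] [QuasiSeparatedSpace X] (M : X.Modules)
    (hM : PicF.IsInvertible M) (f : Γ(X, ⊤)) (t : Γ(M, X.basicOpen f)) :
    ∃ τ : Γ(M, ⊤), ∀ z : X, z ∈ CohB1.genLocus M (LocFree.homOfSec M τ) ↔
      ∃ hz : z ∈ X.basicOpen f, IsGen M t z hz := by
  haveI := isQuasicoherent_of_isInvertible M hM
  obtain ⟨n, τ, hτ⟩ := exists_pow_smul_eq_res_of_qcqs M (U := ⊤)
    (by simpa using isCompact_univ) (by simpa using isQuasiSeparated_univ) f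
    (X.basicOpen f) rfl le_top t
  have hbo : ∀ (z : X) (hz : z ∈ X.basicOpen f),
      z ∈ X.basicOpen (resO (le_top : X.basicOpen f ≤ ⊤) f * resO le_top f ^ n) := by
    intro z hz
    rw [← pow_succ', Scheme.basicOpen_pow _ _ (Nat.succ_pos n)]
    change z ∈ X.basicOpen (X.presheaf.map (homOfLE le_top).op f)
    rw [Scheme.basicOpen_res]
    exact ⟨hz, hz⟩
  have hres : res M (le_top : X.basicOpen f ≤ ⊤) (f • τ) =
      (resO (le_top : X.basicOpen f ≤ ⊤) f * resO le_top f ^ n) • t := by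
    rw [res_smul, hτ, ← mul_smul]
  refine ⟨f • τ, fun z => ?_⟩
  constructor
  · intro hz
    have hzf : z ∈ X.basicOpen f := genLocus_smul_le M hM f τ hz
    refine ⟨hzf, ?_⟩
    rw [mem_genLocus_iff_isGen M _ hM, sec_homOfSec,
      ← isGen_res M (homOfLE (le_top : X.basicOpen f ≤ ⊤)) _ z hzf] at hz
    have hz' : IsGen M (res M (le_top : X.basicOpen f ≤ ⊤) (f • τ)) z hzf := hz
    rw [hres, isGen_smul_iff_of_mem_basicOpen M _ t z hzf (hbo z hzf)] at hz'
    exact hz'
  · rintro ⟨hzf, hz⟩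
    rw [mem_genLocus_iff_isGen M _ hM, sec_homOfSec,
      ← isGen_res M (homOfLE (le_top : X.basicOpen f ≤ ⊤)) _ z hzf]
    change IsGen M (res M (le_top : X.basicOpen f ≤ ⊤) (f • τ)) z hzf
    rw [hres, isGen_smul_iff_of_mem_basicOpen M _ t z hzf (hbo z hzf)]
    exact hz

lemma mem_genLocus_restrict_iff {V : Scheme.{u}} (j : V ⟶ X) [IsOpenImmersion j] (M : X.Modules)
    (hM : PicF.IsInvertible M) (s'' : Coh.structureModule V ⟶ M.restrict j) (z' : V) :
    z' ∈ CohB1.genLocus (M.restrict j) s'' ↔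
      IsGen M (show Γ(M, j ''ᵁ ⊤) from sec (M.restrict j) s'') (j z') ⟨z', trivial, rfl⟩ := by
  rw [mem_genLocus_iff_isGen _ _ (isInvertible_restrict j M hM)]
  exact isGen_restrict_iff j M (show Γ(M, j ''ᵁ ⊤) from sec (M.restrict j) s'') z' trivial

/-- ampleness is local for covers by basic opens of global functions. -/
theorem isAmple_of_basicOpen_cover [CompactSpace X] (L : X.Modules)
    (h : ∀ x : X, ∃ f : Γ(X, ⊤), x ∈ X.basicOpen f ∧
      CohB1.IsAmple (L.restrict (X.basicOpen f).ι)) : CohB1.IsAmple L := by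
  have hL : PicF.IsInvertible L := by
    apply isInvertible_of_forall_exists_restrict
    intro y
    obtain ⟨f, hyf, hf⟩ := h y
    exact ⟨_, (X.basicOpen f).ι, inferInstance, ⟨⟨y, hyf⟩, rfl⟩, hf.1⟩
  haveI : QuasiSeparatedSpace X := by
    choose f hxf hf using h
    refine QuasiSeparatedSpace.of_isOpenCover (U := fun x => X.basicOpen (f x))
      (eq_top_iff.mpr fun x _ => Opens.mem_iSup.mpr ⟨x, hxf x⟩)
      (fun x => isRetrocompact_basicOpen _) (fun x => ?_)
    exact (isQuasiSeparated_iff_quasiSeparatedSpace _ (X.basicOpen (f x)).2).2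
      (quasiSeparatedSpace_of_isAmple _ (hf x))
  refine ⟨hL, inferInstance, fun x => ?_⟩
  obtain ⟨f, hxf, hf⟩ := h x
  obtain ⟨n, s', hx, hs⟩ := hf.2.2 ⟨x, hxf⟩
  have hM : PicF.IsInvertible (CohB1.tensorPow L (n + 1)) := isInvertible_tensorPow L hL (n + 1)
  have hs'' : CohB1.genLocus _ (s' ≫ (powRestrict (X.basicOpen f).ι L (n + 1)).inv) =
      CohB1.genLocus _ s' :=
    genLocus_comp_iso s' (powRestrict (X.basicOpen f).ι L (n + 1)).symm
  have htop : (X.basicOpen f).ι ''ᵁ ⊤ = X.basicOpen f := Scheme.Opens.ι_image_top _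
  obtain ⟨τ, hτ⟩ := exists_genLocus_eq_of_section (CohB1.tensorPow L (n + 1)) hM f
    ((CohB1.tensorPow L (n + 1)).presheaf.map (eqToHom htop.symm).op
      (show Γ(CohB1.tensorPow L (n + 1), (X.basicOpen f).ι ''ᵁ ⊤) from
        sec ((CohB1.tensorPow L (n + 1)).restrict (X.basicOpen f).ι)
          (s' ≫ (powRestrict (X.basicOpen f).ι L (n + 1)).inv)))
  have hG : CohB1.genLocus (CohB1.tensorPow L (n + 1))
      (LocFree.homOfSec (CohB1.tensorPow L (n + 1)) τ) =
      (X.basicOpen f).ι ''ᵁ CohB1.genLocus _ s' := by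
    ext z
    change z ∈ CohB1.genLocus _ _ ↔ z ∈ (X.basicOpen f).ι ''ᵁ CohB1.genLocus _ s'
    rw [hτ z, ← hs'']
    constructor
    · rintro ⟨hz, hgen⟩
      refine ⟨⟨z, hz⟩, ?_, rfl⟩
      refine (mem_genLocus_restrict_iff (X.basicOpen f).ι _ hM _ ⟨z, hz⟩).2 ?_
      exact (isGen_res _ (eqToHom htop.symm) _ z hz).1 hgen
    · rintro ⟨z', hz', rfl⟩
      refine ⟨z'.2, ?_⟩
      have := (mem_genLocus_restrict_iff (X.basicOpen f).ι _ hM _ z').1 hz'
      exact (isGen_res _ (eqToHom htop.symm) _ ((X.basicOpen f).ι z') z'.2).2 this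
  refine ⟨n, LocFree.homOfSec _ τ, ?_, ?_⟩
  · rw [hG]; exact ⟨⟨x, hxf⟩, hx, rfl⟩
  · rw [hG]; exact hs.image_of_isOpenImmersion (X.basicOpen f).ι

end LocBasic

end Groth.Agent.Helper13.Ample
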