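import Mathlib
import Groth.Agent.Lib.Helper13.AmpleLocal
import Groth.Prelude.Def_LCI2

set_option autoImplicit false
universe u
open CategoryTheory CategoryTheory.Limits AlgebraicGeometry Opposite TopologicalSpace TensorProduct
open Groth.Agent.Helper13.QCoh Groth.Agent.Helper13.FinType Groth.Agent.Helper13.Tensor
open Groth.Agent.Helper13.Inv Groth.Agent.Helper13.GenLoc Groth.Agent.Helper13.Qcqs
open Groth.Agent.Helper13.Twist

namespace Groth.Agent.Helper13.Ample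

variable {X Y : Scheme.{u}}

/-- relative ampleness over an affine open `V` can be checked locally on `V`. -/
theorem isAmple_restrict_preimage_of_local (f : X ⟶ Y) [QuasiCompact f] (L : X.Modules)
    (V : Y.Opens) (hV : IsAffineOpen V)
    (h : ∀ y ∈ V, ∃ (Ω : X.Opens) (V' : Y.Opens), y ∈ V' ∧ f ⁻¹ᵁ V' ≤ Ω ∧
      CohB1.IsAmple (L.restrict Ω.ι)) :
    CohB1.IsAmple (L.restrict (f ⁻¹ᵁ V).ι) := by
  haveI : IsAffine (V : Scheme.{u}) := hV
  haveI : CompactSpace ((f ⁻¹ᵁ V : X.Opens) : Scheme.{u}) :=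
    compactSpace_preimage f V hV.isCompact
  apply isAmple_of_basicOpen_cover
  intro x'
  obtain ⟨Ω, V', hyV', hΩ, hamp⟩ := h (f ((f ⁻¹ᵁ V).ι x')) x'.2
  have hfx : V.ι ((f ∣_ V) x') = f ((f ⁻¹ᵁ V).ι x') := by
    rw [← Scheme.Hom.comp_apply, morphismRestrict_ι, Scheme.Hom.comp_apply]
  obtain ⟨_, ⟨r, rfl⟩, hyr, hrV'⟩ := Opens.isBasis_iff_nbhd.1 (isBasis_basicOpen (V : Scheme.{u}))
    (show (f ∣_ V) x' ∈ V.ι ⁻¹ᵁ V' from by
      change V.ι ((f ∣_ V) x') ∈ V'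
      rw [hfx]; exact hyV')
  refine ⟨(f ∣_ V).appTop r, ?_, ?_⟩
  · rw [← Scheme.preimage_basicOpen_top]
    exact hyr
  · haveI : CompactSpace (((f ⁻¹ᵁ V : X.Opens) : Scheme.{u}).basicOpen ((f ∣_ V).appTop r) :
        Scheme.{u}) := by
      rw [← Scheme.preimage_basicOpen_top]
      exact compactSpace_preimage (f ∣_ V) _
        (IsAffineOpen.isCompact ((isAffineOpen_top (V : Scheme.{u})).basicOpen r))
    have hr : Set.range ((((f ⁻¹ᵁ V : X.Opens) : Scheme.{u}).basicOpen ((f ∣_ V).appTop r)).ι ≫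
        (f ⁻¹ᵁ V).ι) ⊆ Set.range Ω.ι := by
      rintro _ ⟨p, rfl⟩
      have hp : (f ∣_ V) p.1 ∈ (V : Scheme.{u}).basicOpen r := by
        have hh : p.1 ∈ (f ∣_ V) ⁻¹ᵁ (V : Scheme.{u}).basicOpen r :=
          (Scheme.preimage_basicOpen_top (f ∣_ V) r).symm ▸ p.2
        exact hh
      have hp' : f ((f ⁻¹ᵁ V).ι p.1) ∈ V' := by
        have h1 : V.ι ((f ∣_ V) p.1) = f ((f ⁻¹ᵁ V).ι p.1) := by
          rw [← Scheme.Hom.comp_apply, morphismRestrict_ι, Scheme.Hom.comp_apply]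
        rw [← h1]
        exact hrV' hp
      rw [Scheme.Opens.range_ι]
      exact hΩ hp'
    have := isAmple_restrict_of_factor Ω.ι _ hr L hamp
    exact isAmple_of_iso (restrictRestrictIso _ _ _ rfl L).symm this

end Groth.Agent.Helper13.Ample
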