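import Mathlib
import Groth.Agent.Lib.Helper13.AmpleRel

set_option autoImplicit false
universe u
open CategoryTheory CategoryTheory.Limits AlgebraicGeometry Opposite TopologicalSpace TensorProduct
open Groth.Agent.Helper13.QCoh Groth.Agent.Helper13.FinType Groth.Agent.Helper13.Tensor
open Groth.Agent.Helper13.Inv Groth.Agent.Helper13.GenLoc Groth.Agent.Helper13.Qcqs
open Groth.Agent.Helper13.Twist

namespace Groth.Agent.Helper13.Ample

variable {X : Scheme.{u}}

/-- from sections of positive powers of `L` and `L'`, a section of a positive power of `L ⊗ L'`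
whose locus is the intersection. -/
theorem exists_section_tensorMod (L L' : X.Modules) (hL : PicF.IsInvertible L)
    (hL' : PicF.IsInvertible L') (a b : ℕ) (s : Coh.structureModule X ⟶ CohB1.tensorPow L (a + 1))
    (s' : Coh.structureModule X ⟶ CohB1.tensorPow L' (b + 1)) :
    ∃ (N : ℕ) (σ : Coh.structureModule X ⟶ CohB1.tensorPow (CohB1.tensorMod L L') (N + 1)),
      CohB1.genLocus _ σ = CohB1.genLocus _ s ⊓ CohB1.genLocus _ s' := by
  obtain ⟨N, hN⟩ : ∃ N, (a + 1) * (b + 1) = N + 1 := ⟨a * b + a + b, by ring⟩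
  let e : CohB1.tensorMod (CohB1.tensorPow (CohB1.tensorPow L (a + 1)) (b + 1))
      (CohB1.tensorPow (CohB1.tensorPow L' (b + 1)) (a + 1)) ≅
      CohB1.tensorPow (CohB1.tensorMod L L') (N + 1) :=
    mapIso (powMul L (a + 1) (b + 1))
      (powMul L' (b + 1) (a + 1) ≪≫ powCast L' (Nat.mul_comm _ _)) ≪≫
      (powTensor L L' ((a + 1) * (b + 1))).symm ≪≫ powCast _ hN
  refine ⟨N, SecTwist.tmulHom (SecTwist.powHom s (b + 1)) (SecTwist.powHom s' (a + 1)) ≫ e.hom, ?_⟩
  rw [genLocus_comp_iso, genLocus_tmulHom _ _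
    (isInvertible_tensorPow _ (isInvertible_tensorPow L hL (a + 1)) (b + 1))
    (isInvertible_tensorPow _ (isInvertible_tensorPow L' hL' (b + 1)) (a + 1)),
    genLocus_powHom _ (isInvertible_tensorPow L hL (a + 1)),
    genLocus_powHom _ (isInvertible_tensorPow L' hL' (b + 1))]

/-- `L` ample and `L'` invertible with every point in some `X_{s'}`, `s'` a section of a positive
power of `L'`: then `L ⊗ L'` is ample. -/
theorem isAmple_tensorMod_of_generated (L L' : X.Modules) (hL : CohB1.IsAmple L)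
    (hL' : PicF.IsInvertible L')
    (h : ∀ x : X, ∃ (n : ℕ) (s' : Coh.structureModule X ⟶ CohB1.tensorPow L' (n + 1)),
      x ∈ CohB1.genLocus _ s') : CohB1.IsAmple (CohB1.tensorMod L L') := by
  have hB := isBasis_genLocus_of_isAmple L hL
  rw [Opens.isBasis_iff_nbhd] at hB
  refine ⟨isInvertible_tensorMod L L' hL.1 hL', hL.2.1, fun x => ?_⟩
  obtain ⟨b, s', hx'⟩ := h x
  obtain ⟨V, hV, hxV, hVs'⟩ := exists_isAffineOpen_mem_and_subset hx'
  obtain ⟨W, ⟨a, s, rfl⟩, hxW, hWV⟩ := hB hxV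
  have hW : IsAffineOpen (CohB1.genLocus _ s) :=
    isAffineOpen_genLocus_of_le _ (isInvertible_tensorPow L hL.1 (a + 1)) s hV hWV
  obtain ⟨N, σ, hσ⟩ := exists_section_tensorMod L L' hL.1 hL' a b s s'
  have hle : CohB1.genLocus _ s ≤ CohB1.genLocus _ s' := hWV.trans hVs'
  rw [inf_eq_left.2 hle] at hσ
  exact ⟨N, σ, by rw [hσ]; exact hxW, by rw [hσ]; exact hW⟩

end Groth.Agent.Helper13.Ample
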