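import Mathlib
import Groth.Agent.Lib.Helper13.AmpleTensor
import Groth.Agent.Lib.Helper13.FinAffine2
import Groth.Prelude.Def_Curv2

set_option autoImplicit false
universe u
open CategoryTheory CategoryTheory.Limits AlgebraicGeometry Opposite TopologicalSpace TensorProduct
open Groth.Agent.Helper13.QCoh Groth.Agent.Helper13.FinType Groth.Agent.Helper13.Tensor
open Groth.Agent.Helper13.Inv Groth.Agent.Helper13.GenLoc Groth.Agent.Helper13.Qcqs
open Groth.Agent.Helper13.Twist

namespace Groth.Agent.Helper13.GlobGen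

variable {X : Scheme.{u}}

/-- `G` is generated by its global sections at the point `y`. -/
def GGAt (G : X.Modules) (y : X) : Prop :=
  Submodule.span (X.presheaf.stalk y)
    (Set.range fun t : Γ(G, ⊤) => G.presheaf.germ ⊤ y trivial t) = ⊤

theorem isGloballyGenerated_iff (G : X.Modules) :
    Curv2.IsGloballyGenerated G ↔ ∀ y : X, GGAt G y := by
  constructor
  · rintro ⟨ι, p, hp⟩ y
    have hp' : Epi ((SheafOfModules.freeHomEquiv G).symm (SheafOfModules.freeHomEquiv G p)) := by
      rw [Equiv.symm_apply_apply]; exact hp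
    have h := (epi_iff_genOn_top G _).1 hp' y trivial
    unfold GGAt
    rw [eq_top_iff, ← h]
    apply Submodule.span_mono
    rintro _ ⟨i, rfl⟩
    exact ⟨_, rfl⟩
  · intro h
    refine ⟨Γ(G, ⊤), (SheafOfModules.freeHomEquiv G).symm (fun t => sectionsOfTop G t), ?_⟩
    rw [epi_iff_genOn_top]
    intro y hy
    have := h y
    unfold GGAt at this
    rw [← this]
    congr 2
    funext t
    exact congrArg _ (secOn_sectionsOfTop G t)

theorem GGAt.of_iso {G G' : X.Modules} (e : G ≅ G') {y : X} (h : GGAt G y) : GGAt G' y := by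
  unfold GGAt at h ⊢
  rw [eq_top_iff]
  intro z _
  obtain ⟨w, rfl⟩ := (stalkLinearEquiv e y).surjective z
  have hw : w ∈ Submodule.span (X.presheaf.stalk y)
      (Set.range fun t : Γ(G, ⊤) => G.presheaf.germ ⊤ y trivial t) := by rw [h]; trivial
  have hmap := Submodule.apply_mem_span_image_of_mem_span (stalkLinearEquiv e y).toLinearMap hw
  refine Submodule.span_mono ?_ hmap
  rintro _ ⟨_, ⟨t, rfl⟩, rfl⟩
  refine ⟨e.hom.app (⊤ : X.Opens) t, ?_⟩
  exact (stalkMap_germ e.hom y (⊤ : X.Opens) trivial t).symm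

lemma genOn_of_isGen (N : X.Modules) {U : X.Opens} (p : Γ(N, U))
    (hp : ∀ (y : X) (hy : y ∈ U), IsGen N p y hy) : GenOn N U (fun _ : Unit => p) := by
  intro y hy
  rw [eq_top_iff]
  intro z _
  obtain ⟨r, rfl⟩ := (hp y hy).2 z
  exact Submodule.smul_mem _ _ (Submodule.subset_span ⟨(), rfl⟩)


theorem isFiniteType_of_isInvertible (L : X.Modules) (hL : PicF.IsInvertible L) :
    SheafOfModules.IsFiniteType (R := X.ringCatSheaf) L := by
  apply isFiniteType_of_genOn
  intro x
  obtain ⟨U, hxU, e, he⟩ := (isInvertible_iff_exists_isGen L).1 hL x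
  exact ⟨U, hxU, PUnit.{u+1}, inferInstance, fun _ => e, fun y hy => by
    rw [eq_top_iff]
    intro z _
    obtain ⟨r, rfl⟩ := (he y hy).2 z
    exact Submodule.smul_mem _ _ (Submodule.subset_span ⟨PUnit.unit, rfl⟩)⟩

/-- the comparison `(F ⊗ L^r) ⊗ (L^d)^m ≅ F ⊗ L^(r + d m)`. -/
noncomputable def twistIso (F L : X.Modules) (r d m : ℕ) :
    CohB1.tensorMod (CohB1.tensorMod F (CohB1.tensorPow L r))
      (CohB1.tensorPow (CohB1.tensorPow L d) m) ≅
      CohB1.tensorMod F (CohB1.tensorPow L (r + d * m)) :=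
  assoc F _ _ ≪≫ mapIso (Iso.refl F)
    (mapIso (Iso.refl _) (powMul L d m) ≪≫ (powAdd L r (d * m)).symm)

section Twist

variable [CompactSpace X] [QuasiSeparatedSpace X]

/-- Serre-type generation: for `σ` a section of an invertible `M` with `X_σ` affine, the twists
`G ⊗ M^m`, `m ≫ 0`, are generated by global sections at the points of `X_σ`. -/
theorem exists_ggAt_twist (G M : X.Modules) [G.IsQuasicoherent]
    [SheafOfModules.IsFiniteType (R := X.ringCatSheaf) G] (hM : PicF.IsInvertible M)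
    (σ : Coh.structureModule X ⟶ M) (hσ : IsAffineOpen (CohB1.genLocus M σ)) :
    ∃ m₀ : ℕ, ∀ m, m₀ ≤ m → ∀ y ∈ CohB1.genLocus M σ,
      GGAt (CohB1.tensorMod G (CohB1.tensorPow M m)) y := by
  classical
  obtain ⟨I, hI, t, ht⟩ := exists_finite_genOn_of_isFiniteType G hσ
  have hc : IsCompact ((⊤ : X.Opens) : Set X) := by simpa using isCompact_univ
  choose m u hu using fun i => exists_twist_eq_res M hM σ G (t i) ⊤ hc
  haveI := Fintype.ofFinite I
  refine ⟨Finset.univ.sup m, fun n hn y hy => ?_⟩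
  have key : ∀ i, ∃ v : Γ(CohB1.tensorMod G (CohB1.tensorPow M n), ⊤),
      ∀ (W : X.Opens) (hWG : W ≤ CohB1.genLocus M σ),
        res _ (le_top : W ≤ ⊤) v = SecTwist.twist σ n G W (res G hWG (t i)) := by
    intro i
    obtain ⟨k, rfl⟩ := Nat.exists_eq_add_of_le ((Finset.le_sup (Finset.mem_univ i)).trans hn)
    refine ⟨mu M G σ k (m i) (u i), fun W hWG => ?_⟩
    rw [res_def]
    refine (mu_res M G σ k (homOfLE le_top) (m i) (u i)).trans ?_
    rw [← mu_twist]
    congr 1
    exact hu i W le_top hWG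
  choose v hv using key
  have hp : ∀ (z : X) (hz : z ∈ CohB1.genLocus M σ),
      IsGen (CohB1.tensorPow M n) (SecTwist.pow σ n (CohB1.genLocus M σ)) z hz := by
    intro z hz
    rw [pow_eq_lpow]
    apply Groth.Agent.Helper13.Ample.isGen_lpow
    have := isGen_of_mem_genLocus M σ hz
    rw [← isGen_res M (homOfLE (le_top : CohB1.genLocus M σ ≤ ⊤)) _ z hz] at this
    have h2 : M.presheaf.map (homOfLE (le_top : CohB1.genLocus M σ ≤ ⊤)).op (sec M σ) =
        SecTwist.val σ (CohB1.genLocus M σ) := SecTwist.map_val σ (homOfLE le_top)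
    rw [h2] at this
    exact this
  have hgen := genOn_tmul G (CohB1.tensorPow M n) t _ ht (genOn_of_isGen _ _ hp) y hy
  unfold GGAt
  rw [eq_top_iff, ← hgen]
  apply Submodule.span_mono
  rintro _ ⟨⟨i, _⟩, rfl⟩
  refine ⟨v i, ?_⟩
  have h1 := hv i (CohB1.genLocus M σ) le_rfl
  rw [res_self] at h1
  change (CohB1.tensorMod G (CohB1.tensorPow M n)).presheaf.germ ⊤ y trivial (v i) =
    (CohB1.tensorMod G (CohB1.tensorPow M n)).presheaf.germ (CohB1.genLocus M σ) y hy
      (SecTwist.twist σ n G (CohB1.genLocus M σ) (t i))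
  refine (TopCat.Presheaf.germ_res_apply _ (homOfLE (le_top : CohB1.genLocus M σ ≤ ⊤)) y hy
    (v i)).symm.trans ?_
  exact congrArg _ h1


theorem exists_ggAt_of_section (L : X.Modules) (hL : PicF.IsInvertible L) (F : X.Modules)
    [F.IsQuasicoherent] [SheafOfModules.IsFiniteType (R := X.ringCatSheaf) F]
    (d : ℕ) (hd : 0 < d) (s : Coh.structureModule X ⟶ CohB1.tensorPow L d)
    (hs : IsAffineOpen (CohB1.genLocus _ s)) :
    ∃ n₀ : ℕ, ∀ n, n₀ ≤ n → ∀ y ∈ CohB1.genLocus _ s,
      GGAt (CohB1.tensorMod F (CohB1.tensorPow L n)) y := by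
  have key : ∀ r : ℕ, ∃ m₀ : ℕ, ∀ m, m₀ ≤ m → ∀ y ∈ CohB1.genLocus _ s,
      GGAt (CohB1.tensorMod F (CohB1.tensorPow L (r + d * m))) y := by
    intro r
    haveI : (CohB1.tensorPow L r).IsQuasicoherent :=
      isQuasicoherent_of_isInvertible _ (isInvertible_tensorPow L hL r)
    haveI : SheafOfModules.IsFiniteType (R := X.ringCatSheaf) (CohB1.tensorPow L r) :=
      isFiniteType_of_isInvertible _ (isInvertible_tensorPow L hL r)
    haveI : SheafOfModules.IsFiniteType (R := X.ringCatSheaf)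
      (CohB1.tensorMod F (CohB1.tensorPow L r)) := isFiniteType_tensorMod _ _
    obtain ⟨m₀, h⟩ := exists_ggAt_twist (CohB1.tensorMod F (CohB1.tensorPow L r))
      (CohB1.tensorPow L d) (isInvertible_tensorPow L hL d) s hs
    exact ⟨m₀, fun m hm y hy => (h m hm y hy).of_iso (twistIso F L r d m)⟩
  choose m₀ hm₀ using key
  refine ⟨d * ((Finset.range d).sup m₀ + 1), fun n hn y hy => ?_⟩
  obtain ⟨r, m, hr, rfl⟩ : ∃ r m, r < d ∧ n = r + d * m :=
    ⟨n % d, n / d, Nat.mod_lt _ hd, (Nat.mod_add_div n d).symm⟩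
  refine hm₀ r m ?_ y hy
  have h1 : d * ((Finset.range d).sup m₀ + 1) < d * (m + 1) := by
    calc d * ((Finset.range d).sup m₀ + 1) ≤ r + d * m := hn
      _ < d + d * m := by omega
      _ = d * (m + 1) := by ring
  have h2 := Nat.lt_of_mul_lt_mul_left h1
  exact (Finset.le_sup (Finset.mem_range.2 hr)).trans (by omega)

end Twist

/-- **Serre**: for `L` ample and `F` quasi-coherent of finite type, `F ⊗ L^n` is globally generated
for all large `n`. -/
theorem exists_isGloballyGenerated_twist (L : X.Modules) (hL : CohB1.IsAmple L) (F : X.Modules)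
    [F.IsQuasicoherent] [SheafOfModules.IsFiniteType (R := X.ringCatSheaf) F] :
    ∃ n₀ : ℕ, ∀ n, n₀ ≤ n →
      Curv2.IsGloballyGenerated (CohB1.tensorMod F (CohB1.tensorPow L n)) := by
  classical
  haveI := Groth.Agent.Helper13.Ample.quasiSeparatedSpace_of_isAmple L hL
  obtain ⟨h1, h2, h3⟩ := hL
  choose d s hx hs using h3
  choose n₀ hn₀ using fun x => exists_ggAt_of_section L h1 F (d x + 1) (Nat.succ_pos _) (s x) (hs x)
  obtain ⟨T, hT⟩ := isCompact_univ.elim_finite_subcover
    (fun x : X => ((CohB1.genLocus _ (s x) : X.Opens) : Set X))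
    (fun x => (CohB1.genLocus _ (s x)).2) (fun x _ => Set.mem_iUnion.2 ⟨x, hx x⟩)
  refine ⟨T.sup n₀, fun n hn => ?_⟩
  rw [isGloballyGenerated_iff]
  intro y
  obtain ⟨x, hxT, hy⟩ : ∃ x ∈ T, y ∈ CohB1.genLocus _ (s x) := by
    have := hT (Set.mem_univ y)
    simpa using this
  exact hn₀ x n ((Finset.le_sup hxT).trans hn) y hy


end Groth.Agent.Helper13.GlobGen
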