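import Mathlib
import Groth.Agent.Lib.Helper13.EpiStalk
import Groth.Agent.Lib.Helper13.FinAffine2

set_option autoImplicit false
universe u
open CategoryTheory CategoryTheory.Limits AlgebraicGeometry Opposite TopologicalSpace Groth.Agent.Helper13.QCoh

namespace Groth.Agent.Helper13.FinType

variable {X : Scheme.{u}} {G C : X.Modules} (π : G ⟶ C)

lemma GenOn.map_of_epi [Epi π] {I : Type*} {U : X.Opens} {s : I → Γ(G, U)} (h : GenOn G U s) :
    GenOn C U (fun i => π.app U (s i)) := by
  intro y hy
  have h1 : (Set.range fun i => C.presheaf.germ U y hy (π.app U (s i))) =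
      (stalkLinearMap π y) '' (Set.range fun i => G.presheaf.germ U y hy (s i)) := by
    ext z
    constructor
    · rintro ⟨i, rfl⟩
      exact ⟨_, ⟨i, rfl⟩, stalkMap_germ π y U hy (s i)⟩
    · rintro ⟨_, ⟨i, rfl⟩, rfl⟩
      exact ⟨i, (stalkMap_germ π y U hy (s i)).symm⟩
  rw [h1, ← Submodule.map_span, h y hy, Submodule.map_top, LinearMap.range_eq_top]
  exact stalkMap_surjective_of_epi π y

/-- a quotient of a module of finite type is of finite type -/
theorem isFiniteType_of_epi [Epi π] [SheafOfModules.IsFiniteType (R := X.ringCatSheaf) G] :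
    SheafOfModules.IsFiniteType (R := X.ringCatSheaf) C := by
  apply isFiniteType_of_genOn
  intro x
  obtain ⟨U, hxU, I, hI, s, hs⟩ := exists_genOn_of_isFiniteType G x
  exact ⟨U, hxU, I, hI, _, hs.map_of_epi π⟩

end Groth.Agent.Helper13.FinType
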