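import Mathlib
import Groth.Agent.Lib.Helper13.FinTypeEpi
import Groth.Agent.Lib.Helper13.QCohStalk

set_option autoImplicit false
set_option linter.unusedSectionVars false
universe u
open CategoryTheory CategoryTheory.Limits AlgebraicGeometry Opposite TopologicalSpace Groth.Agent.Helper13.QCoh

namespace Groth.Agent.Helper13.FinType

variable {X : Scheme.{u}}

/-- local lift of a section along an epimorphism -/
lemma exists_local_lift {G C : X.Modules} (π : G ⟶ C) [Epi π] {U : X.Opens} (c : Γ(C, U)) (x : X)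
    (hx : x ∈ U) : ∃ (W : X.Opens) (hW : W ≤ U) (_ : x ∈ W) (b : Γ(G, W)),
      π.app W b = C.presheaf.map (homOfLE hW).op c := by
  obtain ⟨m, hm⟩ := stalkMap_surjective_of_epi π x (C.presheaf.germ U x hx c)
  obtain ⟨V, hxV, b₀, rfl⟩ := TopCat.Presheaf.exists_germ_eq G.presheaf m
  rw [stalkMap_germ] at hm
  obtain ⟨W, hxW, iV, iU, hW⟩ := TopCat.Presheaf.germ_eq C.presheaf x hxV hx _ _ hm
  refine ⟨W, iU.le, hxW, G.presheaf.map iV.op b₀, ?_⟩
  have h2 : π.app W (G.presheaf.map iV.op b₀) = C.presheaf.map iV.op (π.app V b₀) := by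
    have := π.mapPresheaf.naturality iV.op
    exact congrArg (fun ψ => ψ b₀) this
  rw [h2]
  exact hW

/-- finitely many sections lift simultaneously near a point -/
lemma exists_local_lift_fam {G C : X.Modules} (π : G ⟶ C) [Epi π] {U : X.Opens} {I : Type*} [Finite I]
    (c : I → Γ(C, U)) (x : X) (hx : x ∈ U) :
    ∃ (W : X.Opens) (hW : W ≤ U) (_ : x ∈ W) (b : I → Γ(G, W)),
      ∀ i, π.app W (b i) = C.presheaf.map (homOfLE hW).op (c i) := by
  choose W hW hxW b hb using fun i => exists_local_lift π (c i) x hx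
  haveI := Fintype.ofFinite I
  let W₀ : X.Opens := U ⊓ ⨅ i, W i
  have hW₀ : ∀ i, W₀ ≤ W i := fun i => inf_le_right.trans (iInf_le W i)
  have hxW₀ : x ∈ W₀ := by
    refine ⟨hx, ?_⟩
    have : x ∈ ((⨅ i, W i : X.Opens) : Set X) := by
      rw [Opens.coe_iInf]
      exact Set.mem_iInter.2 hxW
    exact this
  refine ⟨W₀, inf_le_left, hxW₀, fun i => G.presheaf.map (homOfLE (hW₀ i)).op (b i), fun i => ?_⟩
  have h2 : π.app W₀ (G.presheaf.map (homOfLE (hW₀ i)).op (b i)) =
      C.presheaf.map (homOfLE (hW₀ i)).op (π.app (W i) (b i)) := by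
    have := π.mapPresheaf.naturality (homOfLE (hW₀ i)).op
    exact congrArg (fun ψ => ψ (b i)) this
  rw [h2, hb]
  exact map_map_eq C _ _ _ (c i)

/-- generation of the middle term of a short exact sequence -/
lemma GenOn.of_shortExact (S : ShortComplex X.Modules) (hS : S.ShortExact) {W : X.Opens}
    {I₁ I₃ : Type*} (s₁ : I₁ → Γ(S.X₁, W)) (b : I₃ → Γ(S.X₂, W))
    (h₁ : GenOn S.X₁ W s₁) (h₃ : GenOn S.X₃ W (fun j => S.g.app W (b j))) :
    GenOn S.X₂ W (Sum.elim (fun i => S.f.app W (s₁ i)) b) := by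
  haveI := hS.mono_f
  haveI := hS.epi_g
  intro y hy
  set T := Submodule.span (X.presheaf.stalk y)
    (Set.range fun k => S.X₂.presheaf.germ W y hy (Sum.elim (fun i => S.f.app W (s₁ i)) b k)) with hT
  -- step A
  have hA : ∀ n : S.X₃.presheaf.stalk y, ∃ m' ∈ T, stalkLinearMap S.g y m' = n := by
    intro n
    have hn : n ∈ Submodule.span (X.presheaf.stalk y)
        (Set.range fun j => S.X₃.presheaf.germ W y hy (S.g.app W (b j))) := by
      rw [h₃ y hy]; trivial
    induction hn using Submodule.span_induction with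
    | mem n hn =>
      obtain ⟨j, rfl⟩ := hn
      refine ⟨S.X₂.presheaf.germ W y hy (b j), Submodule.subset_span ⟨Sum.inr j, rfl⟩, ?_⟩
      exact stalkMap_germ S.g y W hy (b j)
    | zero => exact ⟨0, T.zero_mem, map_zero _⟩
    | add n₁ n₂ _ _ ih₁ ih₂ =>
      obtain ⟨m₁, hm₁, e₁⟩ := ih₁
      obtain ⟨m₂, hm₂, e₂⟩ := ih₂
      exact ⟨m₁ + m₂, T.add_mem hm₁ hm₂, by rw [map_add, e₁, e₂]⟩
    | smul r n _ ih =>
      obtain ⟨m₁, hm₁, e₁⟩ := ih
      exact ⟨r • m₁, T.smul_mem r hm₁, by rw [map_smul, e₁]⟩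
  -- step B
  have hB : ∀ a : S.X₁.presheaf.stalk y, stalkLinearMap S.f y a ∈ T := by
    intro a
    have ha : a ∈ Submodule.span (X.presheaf.stalk y)
        (Set.range fun i => S.X₁.presheaf.germ W y hy (s₁ i)) := by
      rw [h₁ y hy]; trivial
    induction ha using Submodule.span_induction with
    | mem a ha =>
      obtain ⟨i, rfl⟩ := ha
      have : stalkLinearMap S.f y (S.X₁.presheaf.germ W y hy (s₁ i)) =
          S.X₂.presheaf.germ W y hy (S.f.app W (s₁ i)) := stalkMap_germ S.f y W hy (s₁ i)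
      rw [this]
      exact Submodule.subset_span ⟨Sum.inl i, rfl⟩
    | zero => rw [map_zero]; exact T.zero_mem
    | add a₁ a₂ _ _ ih₁ ih₂ => rw [map_add]; exact T.add_mem ih₁ ih₂
    | smul r a _ ih => rw [map_smul]; exact T.smul_mem r ih
  rw [eq_top_iff]
  intro m _
  obtain ⟨m', hm', e⟩ := hA (stalkLinearMap S.g y m)
  have hk : stalkMap S.g y (m - m') = 0 := by
    have : stalkLinearMap S.g y (m - m') = 0 := by rw [map_sub, e, sub_self]
    exact this
  obtain ⟨a, ha⟩ := stalk_exact_of_exact_of_mono S hS.exact y (m - m') hk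
  have h2 : m - m' ∈ T := by
    rw [← ha]
    exact hB a
  have : m = (m - m') + m' := by abel
  rw [this]
  exact T.add_mem h2 hm'

/-- an extension of modules of finite type is of finite type -/
theorem isFiniteType_of_shortExact (S : ShortComplex X.Modules) (hS : S.ShortExact)
    [h1 : SheafOfModules.IsFiniteType (R := X.ringCatSheaf) S.X₁]
    [h3 : SheafOfModules.IsFiniteType (R := X.ringCatSheaf) S.X₃] :
    SheafOfModules.IsFiniteType (R := X.ringCatSheaf) S.X₂ := by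
  haveI := hS.epi_g
  apply isFiniteType_of_genOn
  intro x
  obtain ⟨U₁, hx₁, I₁, hI₁, s₁, hs₁⟩ := exists_genOn_of_isFiniteType S.X₁ x
  obtain ⟨U₃, hx₃, I₃, hI₃, s₃, hs₃⟩ := exists_genOn_of_isFiniteType S.X₃ x
  obtain ⟨W₃, hW₃, hxW₃, b, hb⟩ := exists_local_lift_fam S.g s₃ x hx₃
  let W : X.Opens := U₁ ⊓ W₃
  have hWU₁ : W ≤ U₁ := inf_le_left
  have hWW₃ : W ≤ W₃ := inf_le_right
  have g₁ : GenOn S.X₁ W (resFam S.X₁ s₁ hWU₁) := hs₁.mono hWU₁
  have g₃ : GenOn S.X₃ W (resFam S.X₃ s₃ (hWW₃.trans hW₃)) := hs₃.mono _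
  let b' : I₃ → Γ(S.X₂, W) := fun j => S.X₂.presheaf.map (homOfLE hWW₃).op (b j)
  have hb' : (fun j => S.g.app W (b' j)) = resFam S.X₃ s₃ (hWW₃.trans hW₃) := by
    funext j
    have h2 : S.g.app W (S.X₂.presheaf.map (homOfLE hWW₃).op (b j)) =
        S.X₃.presheaf.map (homOfLE hWW₃).op (S.g.app W₃ (b j)) := by
      have := S.g.mapPresheaf.naturality (homOfLE hWW₃).op
      exact congrArg (fun ψ => ψ (b j)) this
    show S.g.app W (S.X₂.presheaf.map (homOfLE hWW₃).op (b j)) = _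
    rw [h2, hb]
    exact map_map_eq S.X₃ _ _ _ (s₃ j)
  have g₃' : GenOn S.X₃ W (fun j => S.g.app W (b' j)) := by rw [hb']; exact g₃
  refine ⟨W, ⟨hx₁, hxW₃⟩, I₁ ⊕ I₃, inferInstance, _, GenOn.of_shortExact S hS _ b' g₁ g₃'⟩

end Groth.Agent.Helper13.FinType
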