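import Mathlib
import Groth.Prelude.Def_Coh

/-!
# Exactness of the underlying abelian sheaf functor and low-degree cohomology sequences
(the instance `preservesColimits_toSheaf` follows helper17's `Lib/Helper17/MT25`)
-/

set_option autoImplicit false
universe u
open CategoryTheory CategoryTheory.Limits AlgebraicGeometry Opposite TopologicalSpace

namespace Groth.Agent.Helper13.ToAbExact

section General

variable {C : Type u} [SmallCategory C] {J : GrothendieckTopology C} (R : Sheaf J RingCat.{u})

theorem preservesColimits_of_sheafification_comp {𝒟 : Type*} [Category 𝒟]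
    (G : SheafOfModules.{u} R ⥤ 𝒟)
    [PreservesColimitsOfSize.{u, u} (PresheafOfModules.sheafification.{u} (𝟙 R.obj) ⋙ G)] :
    PreservesColimitsOfSize.{u, u} G := by
  refine ⟨fun {K} _ => ⟨fun {F} => ?_⟩⟩
  let L := PresheafOfModules.sheafification.{u} (𝟙 R.obj)
  let G' : K ⥤ PresheafOfModules.{u} R.obj := F ⋙ SheafOfModules.forget R
  let e : F ≅ G' ⋙ L := Functor.isoWhiskerLeft F
    (asIso (PresheafOfModules.sheafificationAdjunction (𝟙 R.obj)).counit).symm
  have : PreservesColimitsOfSize.{u, u} L :=
    (PresheafOfModules.sheafificationAdjunction (𝟙 R.obj)).leftAdjoint_preservesColimits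
  have : PreservesColimit (G' ⋙ L) G := by
    have hc := colimit.isColimit G'
    have h1 : IsColimit (L.mapCocone (colimit.cocone G')) := isColimitOfPreserves L hc
    have h2 : IsColimit ((L ⋙ G).mapCocone (colimit.cocone G')) := isColimitOfPreserves _ hc
    exact preservesColimit_of_preserves_colimit_cocone h1 h2
  exact preservesColimit_of_iso_diagram _ e.symm

instance preservesColimits_toSheaf :
    PreservesColimitsOfSize.{u, u} (SheafOfModules.toSheaf.{u} R) := by
  have h1 : PreservesColimitsOfSize.{u, u} (PresheafOfModules.toPresheaf.{u} R.obj) :=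
    inferInstance
  have h2 : PreservesColimitsOfSize.{u, u} (presheafToSheaf J AddCommGrpCat.{u}) :=
    (sheafificationAdjunction J AddCommGrpCat.{u}).leftAdjoint_preservesColimits
  have h3 : PreservesColimitsOfSize.{u, u}
      (PresheafOfModules.toPresheaf.{u} R.obj ⋙ presheafToSheaf J AddCommGrpCat.{u}) :=
    inferInstance
  have : PreservesColimitsOfSize.{u, u}
      (PresheafOfModules.sheafification.{u} (𝟙 R.obj) ⋙ SheafOfModules.toSheaf.{u} R) := h3
  exact preservesColimits_of_sheafification_comp R _

instance preservesFiniteColimits_toSheaf :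
    PreservesFiniteColimits (SheafOfModules.toSheaf.{u} R) :=
  PreservesColimitsOfSize.preservesFiniteColimits _

end General

variable (X : Scheme.{u})

/-- the underlying abelian sheaf functor on `X.Modules` -/
noncomputable def toAbF : X.Modules ⥤ Sheaf (Opens.grothendieckTopology X) AddCommGrpCat.{u} :=
  SheafOfModules.toSheaf X.ringCatSheaf

instance : (toAbF X).Additive :=
  inferInstanceAs ((SheafOfModules.toSheaf X.ringCatSheaf).Additive)

noncomputable instance : PreservesFiniteLimits (toAbF X) :=
  inferInstanceAs (PreservesFiniteLimits (SheafOfModules.toSheaf X.ringCatSheaf))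

noncomputable instance : PreservesFiniteColimits (toAbF X) :=
  inferInstanceAs (PreservesFiniteColimits (SheafOfModules.toSheaf X.ringCatSheaf))

variable {X}

/-- the underlying abelian sheaf functor is exact -/
theorem toAb_shortExact (S : ShortComplex X.Modules) (hS : S.ShortExact) :
    (S.map (toAbF X)).ShortExact :=
  hS.map_of_exact _

open Abelian

/-- if `H¹` of the kernel vanishes, global sections are right exact -/
theorem app_top_surjective_of_H1 (S : ShortComplex X.Modules) (hS : S.ShortExact)
    (h1 : Subsingleton (Coh.HH X S.X₁ 1)) :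
    Function.Surjective (S.g.val.app (op ⊤)).hom := by
  intro t
  have hS' := toAb_shortExact S hS
  let T : (Opens X) := ⊤
  have hT : IsTerminal T := isTerminalTop
  let x₃ : Coh.HH X S.X₃ 0 := (Sheaf.H.equiv₀ (Coh.toAb S.X₃) hT).symm t
  obtain ⟨x₂, hx₂⟩ := Ext.covariant_sequence_exact₃ _ hS' x₃ (n₁ := 1) rfl
    (Subsingleton.elim (α := Coh.HH X S.X₁ 1) _ _)
  refine ⟨Sheaf.H.equiv₀ (Coh.toAb S.X₂) hT x₂, ?_⟩
  have hnat := Sheaf.H.equiv₀_naturality hT ((toAbF X).map S.g) x₂
  have h2 : Sheaf.H.map ((toAbF X).map S.g) 0 x₂ = x₃ := hx₂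
  rw [h2] at hnat
  refine Eq.trans ?_ (hnat.trans ?_)
  · rfl
  · exact (Sheaf.H.equiv₀ (Coh.toAb S.X₃) hT).apply_symm_apply t

/-- `H¹` of an extension of two modules with vanishing `H¹` vanishes -/
theorem H1_subsingleton_of_shortExact (S : ShortComplex X.Modules) (hS : S.ShortExact)
    (h1 : Subsingleton (Coh.HH X S.X₁ 1)) (h3 : Subsingleton (Coh.HH X S.X₃ 1)) :
    Subsingleton (Coh.HH X S.X₂ 1) := by
  have hS' := toAb_shortExact S hS
  refine subsingleton_of_forall_eq 0 fun x₂ => ?_
  obtain ⟨x₁, hx₁⟩ := Ext.covariant_sequence_exact₂ _ hS' x₂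
    (Subsingleton.elim (α := Coh.HH X S.X₃ 1) _ _)
  have h0 : x₁ = 0 := Subsingleton.elim (α := Coh.HH X S.X₁ 1) x₁ 0
  rw [← hx₁, h0, Ext.zero_comp]
  rfl

end Groth.Agent.Helper13.ToAbExact
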