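import Mathlib
import Groth.Prelude.Def_CohTop
import Groth.Agent.Lib.Helper24.CechEv

universe u
set_option linter.unusedSectionVars false
set_option autoImplicit false
open CategoryTheory CategoryTheory.Limits Opposite TopologicalSpace

namespace Groth.Agent.Helper13.CechAcyc

open Groth.Agent.Helper24.CechEv

variable {X : TopCat.{u}} {ι : Type u} (V : ι → Opens X) (P : (Opens X)ᵒᵖ ⥤ AddCommGrpCat.{u})

lemma hom_sum_apply {M N : AddCommGrpCat.{u}} {α : Type*} (s : Finset α) (f : α → (M ⟶ N)) (x : M) :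
    (∑ i ∈ s, f i).hom x = ∑ i ∈ s, (f i).hom x := by
  have h1 : (∑ i ∈ s, f i).hom = ∑ i ∈ s, (f i).hom :=
    map_sum (AddCommGrpCat.homAddEquiv (M := M) (N := N)) f s
  rw [h1, AddMonoidHom.finsetSum_apply]

/-- tuple of indices together with the proofs `T ≤ V (a k)` -/
def tup {n : ℕ} {T : Opens X} (a : Fin (n+1) → ι) (h : ∀ k, T ≤ V (a k)) : Fin (n+1) → Sg V T :=
  fun k => ⟨a k, homOfLE (h k)⟩

/-- the finite intersection, as the categorical product -/
noncomputable abbrev Va {n : ℕ} (a : Fin (n+1) → ι) : Opens X := ∏ᶜ (V ∘ a)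

lemma Va_le {n : ℕ} (a : Fin (n+1) → ι) (k : Fin (n+1)) : Va V a ≤ V (a k) :=
  leOfHom (Pi.π (V ∘ a) k)

lemma le_Va {n : ℕ} {T : Opens X} (a : Fin (n+1) → ι) (h : ∀ k, T ≤ V (a k)) : T ≤ Va V a :=
  leOfHom (Pi.lift (fun k => homOfLE (h k)))

/-- evaluation of a cochain on `T ≤ V (a 0) ⊓ ... ⊓ V (a n)` -/
noncomputable def evT {n : ℕ} (T : Opens X) (a : Fin (n+1) → ι) (h : ∀ k, T ≤ V (a k)) :
    (cech V P).X n →+ P.obj (op T) :=
  (ev V P T (tup V a h)).hom

lemma evT_congr {n : ℕ} (T : Opens X) {a a' : Fin (n+1) → ι} (e : a = a') (h : ∀ k, T ≤ V (a k))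
    (h' : ∀ k, T ≤ V (a' k)) (s : (cech V P).X n) : evT V P T a h s = evT V P T a' h' s := by
  subst e; rfl

lemma evT_d {n : ℕ} (T : Opens X) (b : Fin (n+2) → ι) (h : ∀ k, T ≤ V (b k)) (s : (cech V P).X n) :
    evT V P T b h (((cech V P).d n (n+1)).hom s) =
      ∑ j : Fin (n+2), (-1:ℤ)^(j:ℕ) • evT V P T (b ∘ (SimplexCategory.δ j).toOrderHom)
        (fun k => h _) s := by
  have h1 := congrArg (fun m => m.hom s) (d_ev V P T (tup V b h))
  simp only [AddCommGrpCat.hom_comp, AddMonoidHom.comp_apply] at h1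
  refine h1.trans ?_
  rw [hom_sum_apply]
  rfl

lemma evT_res {n : ℕ} {T T' : Opens X} (hT : T' ≤ T) (a : Fin (n+1) → ι) (h : ∀ k, T ≤ V (a k))
    (s : (cech V P).X n) :
    (P.map (homOfLE hT).op).hom (evT V P T a h s) = evT V P T' a (fun k => hT.trans (h k)) s := by
  have h1 := congrArg (fun m => m.hom s) (ev_map V P (homOfLE hT) (tup V a h))
  exact h1

lemma evT_map {n : ℕ} (φ : P ⟶ P) (T : Opens X) (a : Fin (n+1) → ι) (h : ∀ k, T ≤ V (a k))
    (s : (cech V P).X n) :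
    evT V P T a h ((((cechComplexFunctor V).map φ).f n).hom s) =
      (φ.app (op T)).hom (evT V P T a h s) := by
  have h1 := congrArg (fun m => m.hom s) (map_ev V φ T (tup V a h))
  exact h1

lemma ext_cochain {n : ℕ} (s s' : (cech V P).X n)
    (h : ∀ a : Fin (n+1) → ι, evT V P (Va V a) a (Va_le V a) s = evT V P (Va V a) a (Va_le V a) s') :
    s = s' := by
  apply (Concrete.productEquiv (fun a : Fin (n+1) → ι => P.obj (op (∏ᶜ (V ∘ a))))).injective
  funext b
  have h1 := h b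
  have h2 : ev V P (∏ᶜ (V ∘ b)) (tup V b (Va_le V b)) = ev V P (∏ᶜ (V ∘ b)) (tautσ V b) := rfl
  unfold evT at h1
  rw [h2, ev_taut] at h1
  exact ((Concrete.productEquiv_apply_apply _ _ _).trans h1).trans
    (Concrete.productEquiv_apply_apply _ _ _).symm

lemma exists_cochain {n : ℕ} (c : ∀ a : Fin (n+1) → ι, P.obj (op (Va V a))) :
    ∃ t : (cech V P).X n, ∀ a, evT V P (Va V a) a (Va_le V a) t = c a := by
  refine ⟨(Concrete.productEquiv (fun a : Fin (n+1) → ι => P.obj (op (∏ᶜ (V ∘ a))))).symm c, ?_⟩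
  intro a
  have h2 : ev V P (∏ᶜ (V ∘ a)) (tup V a (Va_le V a)) = ev V P (∏ᶜ (V ∘ a)) (tautσ V a) := rfl
  unfold evT
  rw [h2, ev_taut]
  exact Concrete.productEquiv_symm_apply_π _ _ _

section Action

/-- An action of a ring `R` on the sections of `P` over the opens contained in `U₀`
(the values of `sm` over the other opens are irrelevant). -/
structure PAction (R : Type u) [CommRing R] (U₀ : Opens X)
    (P : (Opens X)ᵒᵖ ⥤ AddCommGrpCat.{u}) where
  sm : R → ∀ T : Opens X, P.obj (op T) →+ P.obj (op T)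
  sm_res : ∀ (r : R) {T T' : Opens X} (h : T' ≤ T) (_ : T ≤ U₀) (m : P.obj (op T)),
    (P.map (homOfLE h).op).hom (sm r T m) = sm r T' ((P.map (homOfLE h).op).hom m)
  sm_mul : ∀ (a b : R) (T : Opens X) (_ : T ≤ U₀) (m : P.obj (op T)),
    sm (a * b) T m = sm a T (sm b T m)
  sm_one : ∀ (T : Opens X) (_ : T ≤ U₀) (m : P.obj (op T)), sm 1 T m = m
  sm_add : ∀ (a b : R) (T : Opens X) (_ : T ≤ U₀) (m : P.obj (op T)),
    sm (a + b) T m = sm a T m + sm b T m

variable {P} {R : Type u} [CommRing R] {U₀ : Opens X} (A : PAction R U₀ P)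

lemma PAction.sm_zero (T : Opens X) (hT : T ≤ U₀) (m : P.obj (op T)) : A.sm 0 T m = 0 := by
  have := A.sm_add 0 0 T hT m
  rw [add_zero] at this
  exact left_eq_add.1 this

lemma PAction.sm_sum {α : Type*} (s : Finset α) (c : α → R) (T : Opens X) (hT : T ≤ U₀)
    (m : P.obj (op T)) :
    A.sm (∑ k ∈ s, c k) T m = ∑ k ∈ s, A.sm (c k) T m := by
  classical
  induction s using Finset.induction_on with
  | empty => simp [A.sm_zero T hT]
  | insert a s ha ih => rw [Finset.sum_insert ha, Finset.sum_insert ha, A.sm_add _ _ T hT, ih]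

variable (hV : ∀ k, V k ≤ U₀)

include hV in
lemma Va_le_U₀ {n : ℕ} (a : Fin (n+1) → ι) : Va V a ≤ U₀ := (Va_le V a 0).trans (hV _)

/-- the action of `r` on cochains -/
noncomputable def act (r : R) (n : ℕ) (s : (cech V P).X n) : (cech V P).X n :=
  Classical.choose (exists_cochain V P
    (fun a => A.sm r (Va V a) (evT V P (Va V a) a (Va_le V a) s)))

lemma evT_act_Va {n : ℕ} (r : R) (a : Fin (n+1) → ι) (s : (cech V P).X n) :
    evT V P (Va V a) a (Va_le V a) (act V A r n s) =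
      A.sm r (Va V a) (evT V P (Va V a) a (Va_le V a) s) :=
  Classical.choose_spec (exists_cochain V P
    (fun a => A.sm r (Va V a) (evT V P (Va V a) a (Va_le V a) s))) a

include hV in
lemma evT_act {n : ℕ} (r : R) (T : Opens X) (a : Fin (n+1) → ι) (h : ∀ k, T ≤ V (a k))
    (s : (cech V P).X n) :
    evT V P T a h (act V A r n s) = A.sm r T (evT V P T a h s) := by
  have e1 := evT_res V P (le_Va V a h) a (Va_le V a) (act V A r n s)
  have e2 := evT_res V P (le_Va V a h) a (Va_le V a) s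
  rw [← e1, evT_act_Va, A.sm_res r _ (Va_le_U₀ V hV a), e2]

include hV in
lemma act_add {n : ℕ} (r : R) (s s' : (cech V P).X n) :
    act V A r n (s + s') = act V A r n s + act V A r n s' := by
  apply ext_cochain
  intro a
  rw [map_add, evT_act_Va, evT_act_Va, evT_act_Va, map_add, map_add]

include hV in
lemma act_zero {n : ℕ} (r : R) : act V A r n (0 : (cech V P).X n) = 0 := by
  apply ext_cochain
  intro a
  rw [evT_act_Va, map_zero, map_zero]

include hV in
lemma d_act {n : ℕ} (r : R) (s : (cech V P).X n) :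
    ((cech V P).d n (n+1)).hom (act V A r n s) =
      act V A r (n+1) (((cech V P).d n (n+1)).hom s) := by
  apply ext_cochain
  intro b
  rw [evT_act_Va, evT_d, evT_d, map_sum]
  refine Finset.sum_congr rfl fun j _ => ?_
  rw [map_zsmul, evT_act V A hV]

include hV in
lemma act_mul {n : ℕ} (a b : R) (s : (cech V P).X n) :
    act V A (a * b) n s = act V A a n (act V A b n s) := by
  apply ext_cochain
  intro c
  rw [evT_act_Va, evT_act_Va, evT_act_Va, A.sm_mul _ _ _ (Va_le_U₀ V hV c)]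

include hV in
lemma act_one {n : ℕ} (s : (cech V P).X n) : act V A 1 n s = s := by
  apply ext_cochain
  intro c
  rw [evT_act_Va, A.sm_one _ (Va_le_U₀ V hV c)]

include hV in
lemma act_sum {n : ℕ} {α : Type*} (t : Finset α) (c : α → R) (s : (cech V P).X n) :
    act V A (∑ k ∈ t, c k) n s = ∑ k ∈ t, act V A (c k) n s := by
  apply ext_cochain
  intro a
  rw [evT_act_Va, A.sm_sum _ _ _ (Va_le_U₀ V hV a), map_sum]
  refine Finset.sum_congr rfl fun k _ => ?_
  rw [evT_act_Va]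

end Action

section Main

lemma cons_le {n : ℕ} (k : ι) (a : Fin (n+1) → ι) {T : Opens X} (hk : T ≤ V k)
    (ha : ∀ j, T ≤ V (a j)) : ∀ j, T ≤ V ((Fin.cons k a : Fin (n+2) → ι) j) := by
  intro j
  refine Fin.cases ?_ (fun i => ?_) j
  · simpa using hk
  · simpa using ha i

lemma cons_comp_δ_zero {n : ℕ} (k : ι) (b : Fin (n+1) → ι) :
    (Fin.cons k b : Fin (n+2) → ι) ∘ (SimplexCategory.δ (0 : Fin (n+2))).toOrderHom = b := by
  funext i
  show (Fin.cons k b : Fin (n+2) → ι) (Fin.succAbove 0 i) = b i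
  rw [Fin.succAbove_zero, Fin.cons_succ]

lemma cons_comp_δ_succ {n : ℕ} (k : ι) (b : Fin (n+2) → ι) (j : Fin (n+2)) :
    (Fin.cons k b : Fin (n+3) → ι) ∘ (SimplexCategory.δ j.succ).toOrderHom =
      Fin.cons k (b ∘ (SimplexCategory.δ j).toOrderHom) := by
  funext i
  show (Fin.cons k b : Fin (n+3) → ι) (Fin.succAbove j.succ i) = _
  refine Fin.cases ?_ (fun i' => ?_) i
  · rw [Fin.succ_succAbove_zero, Fin.cons_zero, Fin.cons_zero]
  · rw [Fin.succ_succAbove_succ, Fin.cons_succ, Fin.cons_succ]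
    rfl

lemma cocycle_cons {n : ℕ} (s : (cech V P).X (n+1))
    (hs : ((cech V P).d (n+1) (n+2)).hom s = 0)
    (k : ι) (b : Fin (n+2) → ι) (T : Opens X) (hk : T ≤ V k) (hb : ∀ j, T ≤ V (b j)) :
    evT V P T b hb s = ∑ j : Fin (n+2), (-1:ℤ)^(j:ℕ) •
      evT V P T (Fin.cons k (b ∘ (SimplexCategory.δ j).toOrderHom))
        (cons_le V k _ hk (fun i => hb _)) s := by
  have h1 := evT_d V P T (Fin.cons k b : Fin (n+3) → ι) (cons_le V k b hk hb) s
  rw [hs, map_zero, Fin.sum_univ_succ] at h1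
  have h2 : evT V P T ((Fin.cons k b : Fin (n+3) → ι) ∘ (SimplexCategory.δ (0 : Fin (n+3))).toOrderHom)
      (fun i => cons_le V k b hk hb _) s = evT V P T b hb s :=
    evT_congr V P T (cons_comp_δ_zero k b) _ _ s
  have h3 : ∀ j : Fin (n+2),
      evT V P T ((Fin.cons k b : Fin (n+3) → ι) ∘ (SimplexCategory.δ j.succ).toOrderHom)
        (fun i => cons_le V k b hk hb _) s =
      evT V P T (Fin.cons k (b ∘ (SimplexCategory.δ j).toOrderHom))
        (cons_le V k _ hk (fun i => hb _)) s :=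
    fun j => evT_congr V P T (cons_comp_δ_succ k b j) _ _ s
  rw [h2] at h1
  simp only [Fin.val_zero, pow_zero, one_smul, Fin.val_succ, pow_succ, mul_neg, mul_one, neg_smul,
    Finset.sum_neg_distrib, h3] at h1
  exact (sub_eq_zero.1 (by rw [sub_eq_add_neg]; exact h1.symm))

variable [Fintype ι] {R : Type u} [CommRing R] {U₀ : Opens X} (A : PAction R U₀ P) (f : ι → R)
  (good : Opens X → Prop)

include good in
theorem exists_primitive (hV : ∀ k, V k ≤ U₀)
    (hgood : ∀ (n : ℕ) (a : Fin (n+1) → ι), good (Va V a))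
    (H1 : ∀ k T, good T → ∀ m : P.obj (op (V k ⊓ T)), ∃ (N : ℕ) (m' : P.obj (op T)),
      (P.map (homOfLE (inf_le_right : V k ⊓ T ≤ T)).op).hom m' = A.sm (f k ^ N) (V k ⊓ T) m)
    (H2 : ∀ k T, good T → ∀ m : P.obj (op T),
      (P.map (homOfLE (inf_le_right : V k ⊓ T ≤ T)).op).hom m = 0 →
        ∃ N : ℕ, A.sm (f k ^ N) T m = 0)
    (H3 : ∀ M : ℕ, ∃ (c : ι → R), ∑ k, c k * f k ^ M = 1)
    (n : ℕ) (s : (cech V P).X (n+1)) (hs : ((cech V P).d (n+1) (n+2)).hom s = 0) :
    ∃ t : (cech V P).X n, ((cech V P).d n (n+1)).hom t = s := by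
  classical
  have hVa : ∀ {m : ℕ} (a : Fin (m+1) → ι), Va V a ≤ U₀ := fun a => Va_le_U₀ V hV a
  -- Step A/B
  let W : ι → (Fin (n+1) → ι) → Opens X := fun k a => V k ⊓ Va V a
  have hW : ∀ k a j, W k a ≤ V ((Fin.cons k a : Fin (n+2) → ι) j) := fun k a =>
    cons_le V k a inf_le_left (fun j => inf_le_right.trans (Va_le V a j))
  let tk : ∀ k a, P.obj (op (W k a)) := fun k a => evT V P (W k a) (Fin.cons k a) (hW k a) s
  have hB : ∃ N₀ : ℕ, ∀ k a, ∃ τ : P.obj (op (Va V a)),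
      (P.map (homOfLE (inf_le_right : V k ⊓ Va V a ≤ Va V a)).op).hom τ =
        A.sm (f k ^ N₀) (W k a) (tk k a) := by
    choose N m' hm' using fun (ka : ι × (Fin (n+1) → ι)) =>
      H1 ka.1 (Va V ka.2) (hgood n ka.2) (tk ka.1 ka.2)
    refine ⟨Finset.univ.sup N, fun k a =>
      ⟨A.sm (f k ^ (Finset.univ.sup N - N (k,a))) _ (m' (k,a)), ?_⟩⟩
    rw [A.sm_res _ _ (hVa a), hm' (k,a), ← A.sm_mul _ _ _ (inf_le_left.trans (hV k)), ← pow_add,
      Nat.sub_add_cancel (Finset.le_sup (Finset.mem_univ _))]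
  obtain ⟨N₀, hN₀⟩ := hB
  choose τ hτ using hN₀
  -- Step C
  have hC : ∀ k, ∃ τc : (cech V P).X n, ∀ a, evT V P (Va V a) a (Va_le V a) τc = τ k a :=
    fun k => exists_cochain V P (τ k)
  choose τc hτc using hC
  let ek : ι → (cech V P).X (n+1) := fun k =>
    ((cech V P).d n (n+1)).hom (τc k) - act V A (f k ^ N₀) (n+1) s
  have hek : ∀ k (b : Fin (n+2) → ι),
      (P.map (homOfLE (inf_le_right : V k ⊓ Va V b ≤ Va V b)).op).hom
        (evT V P (Va V b) b (Va_le V b) (ek k)) = 0 := by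
    intro k b
    rw [evT_res]
    show evT V P (V k ⊓ Va V b) b _ (_ - _) = 0
    rw [map_sub, evT_d, evT_act V A hV,
      cocycle_cons V P s hs k b (V k ⊓ Va V b) inf_le_left
        (fun j => inf_le_right.trans (Va_le V b j)), map_sum, sub_eq_zero]
    refine Finset.sum_congr rfl fun j _ => ?_
    rw [map_zsmul]
    congr 1
    have hle : V k ⊓ Va V b ≤ W k (b ∘ (SimplexCategory.δ j).toOrderHom) :=
      le_inf inf_le_left (le_Va V _ (fun i => inf_le_right.trans (Va_le V b _)))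
    have e1 := evT_res V P (hle.trans inf_le_right) (b ∘ (SimplexCategory.δ j).toOrderHom)
      (Va_le V _) (τc k)
    rw [hτc] at e1
    have e2 : (P.map (homOfLE (hle.trans inf_le_right)).op).hom
          (τ k (b ∘ (SimplexCategory.δ j).toOrderHom)) =
        (P.map (homOfLE hle).op).hom ((P.map (homOfLE inf_le_right).op).hom
          (τ k (b ∘ (SimplexCategory.δ j).toOrderHom))) := by
      rw [← ConcreteCategory.comp_apply, ← P.map_comp]
      rfl
    rw [e2, hτ, A.sm_res _ _ (inf_le_left.trans (hV k)), evT_res] at e1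
    exact e1.symm
  -- Step D
  have hD : ∃ N₁ : ℕ, ∀ k, act V A (f k ^ N₁) (n+1) (ek k) = 0 := by
    choose N hN using fun (kb : ι × (Fin (n+2) → ι)) =>
      H2 kb.1 (Va V kb.2) (hgood (n+1) kb.2) _ (hek kb.1 kb.2)
    refine ⟨Finset.univ.sup N, fun k => ext_cochain V P _ _ fun b => ?_⟩
    rw [evT_act_Va, map_zero,
      ← Nat.sub_add_cancel (Finset.le_sup (Finset.mem_univ (k,b)) : N (k,b) ≤ Finset.univ.sup N),
      pow_add, A.sm_mul _ _ _ (hVa b), hN (k,b), map_zero]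
  obtain ⟨N₁, hN₁⟩ := hD
  have hd : ∀ k, ((cech V P).d n (n+1)).hom (act V A (f k ^ N₁) n (τc k)) =
      act V A (f k ^ (N₁ + N₀)) (n+1) s := by
    intro k
    rw [d_act V A hV]
    have : ((cech V P).d n (n+1)).hom (τc k) = ek k + act V A (f k ^ N₀) (n+1) s := by
      simp [ek]
    rw [this, act_add V A hV, hN₁, zero_add, ← act_mul V A hV, ← pow_add]
  -- Step E
  obtain ⟨c, hc⟩ := H3 (N₁ + N₀)
  refine ⟨∑ k, act V A (c k) n (act V A (f k ^ N₁) n (τc k)), ?_⟩
  rw [map_sum]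
  have h1 : ∀ k, ((cech V P).d n (n+1)).hom (act V A (c k) n (act V A (f k ^ N₁) n (τc k))) =
      act V A (c k * f k ^ (N₁ + N₀)) (n+1) s := by
    intro k
    rw [d_act V A hV, hd, ← act_mul V A hV]
  rw [Finset.sum_congr rfl (fun k _ => h1 k), ← act_sum V A hV, hc, act_one V A hV]

include good in
theorem isZero_cechH (hV : ∀ k, V k ≤ U₀)
    (hgood : ∀ (n : ℕ) (a : Fin (n+1) → ι), good (Va V a))
    (H1 : ∀ k T, good T → ∀ m : P.obj (op (V k ⊓ T)), ∃ (N : ℕ) (m' : P.obj (op T)),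
      (P.map (homOfLE (inf_le_right : V k ⊓ T ≤ T)).op).hom m' = A.sm (f k ^ N) (V k ⊓ T) m)
    (H2 : ∀ k T, good T → ∀ m : P.obj (op T),
      (P.map (homOfLE (inf_le_right : V k ⊓ T ≤ T)).op).hom m = 0 →
        ∃ N : ℕ, A.sm (f k ^ N) T m = 0)
    (H3 : ∀ M : ℕ, ∃ (c : ι → R), ∑ k, c k * f k ^ M = 1)
    (n : ℕ) : IsZero (CohTop.cechH P V (n+1)) := by
  show IsZero ((cech V P).homology (n+1))
  rw [← HomologicalComplex.exactAt_iff_isZero_homology,
    HomologicalComplex.exactAt_iff' (cech V P) n (n+1) (n+2) (by simp) (by simp),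
    ShortComplex.ab_exact_iff]
  intro x hx
  exact exists_primitive V P A f good hV hgood H1 H2 H3 n x hx

end Main

end Groth.Agent.Helper13.CechAcyc
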