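import Mathlib
import Groth.Prelude.Def_Coh
import Groth.Prelude.Def_CohTop
import Groth.Agent.Lib.Helper13.CechAcyc
import Groth.Agent.Lib.Helper13.QCohPush

universe u
set_option linter.unusedSectionVars false
set_option autoImplicit false
open CategoryTheory CategoryTheory.Limits Opposite TopologicalSpace AlgebraicGeometry

namespace Groth.Agent.Helper13.CechQCoh

open Groth.Agent.Helper13.CechAcyc Groth.Agent.Helper13.QCohPush

variable {X : Scheme.{u}} (M : X.Modules) (U₀ : X.Opens)

open Classical in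
/-- the action of `Γ(X, U₀)` on the sections of `M` over the opens contained in `U₀` -/
noncomputable def pact : PAction Γ(X, U₀) U₀ M.presheaf where
  sm r T := if h : T ≤ U₀ then
    DistribSMul.toAddMonoidHom Γ(M, T) (X.presheaf.map (homOfLE h).op r) else 0
  sm_res r T T' h hT m := by
    rw [dif_pos hT, dif_pos (h.trans hT)]
    show M.presheaf.map (homOfLE h).op (X.presheaf.map (homOfLE hT).op r • m) = _
    rw [Scheme.Modules.map_smul, ← ConcreteCategory.comp_apply, ← X.presheaf.map_comp]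
    rfl
  sm_mul a b T hT m := by
    rw [dif_pos hT, dif_pos hT, dif_pos hT]
    show X.presheaf.map (homOfLE hT).op (a * b) • m = _
    rw [map_mul, mul_smul]
    rfl
  sm_one T hT m := by
    rw [dif_pos hT]
    show X.presheaf.map (homOfLE hT).op 1 • m = _
    rw [map_one, one_smul]
  sm_add a b T hT m := by
    rw [dif_pos hT, dif_pos hT, dif_pos hT]
    show X.presheaf.map (homOfLE hT).op (a + b) • m = _
    rw [map_add, add_smul]
    rfl

lemma pact_sm {T : X.Opens} (hT : T ≤ U₀) (r : Γ(X, U₀)) (m : Γ(M, T)) :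
    (pact M U₀).sm r T m = X.presheaf.map (homOfLE hT).op r • m := by
  unfold pact
  classical
  simp only [dif_pos hT]
  rfl

variable {U₀}

lemma Va_eq_iInf {ι : Type u} (V : ι → X.Opens) {n : ℕ} (a : Fin (n+1) → ι) :
    Va V a = ⨅ k, V (a k) :=
  le_antisymm (le_iInf (Va_le V a)) (le_Va V a (fun k => iInf_le _ k))

lemma exists_basicOpen_eq_iInf {ι : Type u} (f : ι → Γ(X, U₀)) :
    ∀ (n : ℕ) (a : Fin (n+1) → ι), ∃ r : Γ(X, U₀), ⨅ k, X.basicOpen (f (a k)) = X.basicOpen r := by
  intro n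
  induction n with
  | zero =>
    intro a
    refine ⟨f (a 0), le_antisymm (iInf_le _ 0) (le_iInf fun k => ?_)⟩
    have : k = 0 := Fin.fin_one_eq_zero k
    rw [this]
  | succ n ih =>
    intro a
    obtain ⟨r', hr'⟩ := ih (fun k => a k.succ)
    refine ⟨f (a 0) * r', ?_⟩
    rw [Scheme.basicOpen_mul, ← hr']
    apply le_antisymm
    · exact le_inf (iInf_le _ 0) (le_iInf fun k => iInf_le _ k.succ)
    · refine le_iInf fun k => ?_
      refine Fin.cases inf_le_left (fun i => ?_) k
      exact inf_le_right.trans (iInf_le _ i)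

theorem isZero_cechH_basicOpen [M.IsQuasicoherent] (hU₀ : IsAffineOpen U₀) {ι : Type u} [Finite ι]
    (f : ι → Γ(X, U₀)) (hcov : ⨆ k, X.basicOpen (f k) = U₀) (n : ℕ) :
    IsZero (CohTop.cechH M.presheaf (fun k => X.basicOpen (f k)) (n+1)) := by
  haveI := Fintype.ofFinite ι
  refine isZero_cechH (fun k => X.basicOpen (f k)) M.presheaf (pact M U₀) f
    (fun T => IsAffineOpen T ∧ T ≤ U₀) (fun k => X.basicOpen_le _) ?_ ?_ ?_ ?_ n
  · intro m a
    obtain ⟨r, hr⟩ := exists_basicOpen_eq_iInf f m a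
    rw [Va_eq_iInf, hr]
    exact ⟨hU₀.basicOpen r, X.basicOpen_le r⟩
  · rintro k T ⟨hT, hTU⟩ m
    have hW : X.basicOpen (f k) ⊓ T = X.basicOpen (X.presheaf.map (homOfLE hTU).op (f k)) := by
      rw [Scheme.basicOpen_res, inf_comm]
    obtain ⟨N, t, ht⟩ := exists_pow_smul_eq_res' M hT (X.presheaf.map (homOfLE hTU).op (f k))
      (X.basicOpen (f k) ⊓ T) hW inf_le_right m
    refine ⟨N, t, ?_⟩
    rw [pact_sm M U₀ (inf_le_right.trans hTU), map_pow]
    refine ht.trans ?_
    congr 2
    rw [← ConcreteCategory.comp_apply, ← X.presheaf.map_comp]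
    rfl
  · rintro k T ⟨hT, hTU⟩ m hm
    have hW : X.basicOpen (f k) ⊓ T = X.basicOpen (X.presheaf.map (homOfLE hTU).op (f k)) := by
      rw [Scheme.basicOpen_res, inf_comm]
    obtain ⟨N, hN⟩ := exists_pow_smul_eq_zero' M hT (X.presheaf.map (homOfLE hTU).op (f k))
      (X.basicOpen (f k) ⊓ T) hW inf_le_right m hm
    refine ⟨N, ?_⟩
    rw [pact_sm M U₀ hTU, map_pow]
    exact hN
  · intro N
    have h1 : Ideal.span (Set.range f) = ⊤ := by
      rw [← hU₀.iSup_basicOpen_eq_self_iff]
      refine le_antisymm (iSup_le fun r => X.basicOpen_le _) ?_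
      refine hcov.symm.le.trans ?_
      exact iSup_le fun k => le_iSup (fun r : Set.range f => X.basicOpen r.1) ⟨f k, k, rfl⟩
    have h2 := Ideal.span_pow_eq_top (Set.range f) h1 N
    rw [← Set.range_comp] at h2
    have h3 : (1 : Γ(X, U₀)) ∈ Ideal.span (Set.range ((fun x => x ^ N) ∘ f)) := by
      rw [h2]; trivial
    obtain ⟨c, hc⟩ := (Ideal.mem_span_range_iff_exists_fun).1 h3
    exact ⟨c, hc⟩

end Groth.Agent.Helper13.CechQCoh
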