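import Mathlib
import Groth.Prelude.Def_Coh
import Groth.Prelude.Def_CohTop
import Groth.Agent.Lib.Helper13.CechQCoh
import Groth.Agent.S0493

universe u
set_option linter.unusedSectionVars false
set_option autoImplicit false
open CategoryTheory CategoryTheory.Limits Opposite TopologicalSpace AlgebraicGeometry

namespace Groth.Agent.Helper13.AffineVanish

open Groth.Agent.Helper13.CechAcyc Groth.Agent.Helper13.CechQCoh

variable {X : Scheme.{u}} (M : X.Modules)

/-- Cohomology of a quasi-coherent module over an affine open vanishes in positive degrees. -/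
theorem HU_subsingleton_of_isAffineOpen [M.IsQuasicoherent] (T : X.Opens) (hT : IsAffineOpen T)
    (p : ℕ) : Subsingleton (CohTop.HU (X := X.toTopCat) (Coh.toAb M) (p + 1) T) := by
  refine Groth.Agent.S0493.result (X := X.toTopCat) (Coh.toAb M) {U | IsAffineOpen U}
    X.isBasis_affineOpens
    (fun ι V => Finite ι ∧ ∃ (U₀ : X.Opens) (_ : IsAffineOpen U₀) (f : ι → Γ(X, U₀)),
      (V = fun k => X.basicOpen (f k)) ∧ ⨆ k, X.basicOpen (f k) = U₀)
    ?_ ?_ ?_ T hT p
  · rintro ι V ⟨_, U₀, hU₀, f, rfl, hcov⟩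
    refine ⟨?_, fun p a => ?_⟩
    · show IsAffineOpen (⨆ k, X.basicOpen (f k))
      rw [hcov]; exact hU₀
    · obtain ⟨r, hr⟩ := exists_basicOpen_eq_iInf f p a
      show IsAffineOpen (⨅ k, X.basicOpen (f (a k)))
      rw [hr]
      exact hU₀.basicOpen r
  · intro U hU κ W hW
    have hU' : IsAffineOpen U := hU
    have hx : ∀ x : U, ∃ f : Γ(X, U), (∃ k, X.basicOpen f ≤ W k) ∧ x.1 ∈ X.basicOpen f := by
      intro x
      have hxW : x.1 ∈ iSup W := hW ▸ x.2
      obtain ⟨k, hk⟩ := Opens.mem_iSup.1 hxW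
      obtain ⟨f, hf1, hf2⟩ := hU'.exists_basicOpen_le ⟨x.1, hk⟩ x.2
      exact ⟨f, ⟨k, hf1⟩, hf2⟩
    choose fx hfx1 hfx2 using hx
    obtain ⟨t, ht⟩ := hU'.isCompact.elim_finite_subcover (fun x : U => (X.basicOpen (fx x) : Set X))
      (fun x => (X.basicOpen (fx x)).isOpen) (fun x hxU => Set.mem_iUnion.2 ⟨⟨x, hxU⟩, hfx2 ⟨x, hxU⟩⟩)
    have hcov : ⨆ i : {x // x ∈ t}, X.basicOpen (fx i.1) = U := by
      apply le_antisymm
      · exact iSup_le fun i => X.basicOpen_le _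
      · intro x hxU
        obtain ⟨y, hy⟩ := Set.mem_iUnion.1 (ht hxU)
        obtain ⟨hyt, hy'⟩ := Set.mem_iUnion.1 hy
        exact Opens.mem_iSup.2 ⟨⟨y, hyt⟩, hy'⟩
    refine ⟨{x // x ∈ t}, fun i => X.basicOpen (fx i.1), ⟨inferInstance, U, hU', fun i => fx i.1, rfl, hcov⟩,
      hcov, fun i => hfx1 i.1⟩
  · rintro ι V ⟨_, U₀, hU₀, f, rfl, hcov⟩ p
    exact isZero_cechH_basicOpen M hU₀ f hcov p

end Groth.Agent.Helper13.AffineVanish
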