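import Mathlib
import Groth.Prelude.Def_CohTop

universe u
set_option linter.unusedSectionVars false
set_option autoImplicit false
open CategoryTheory CategoryTheory.Limits Opposite TopologicalSpace

namespace Groth.Agent.Helper13.HUTop

section Site
variable {C : Type u} [SmallCategory C] (J : GrothendieckTopology C) {T : C} (hT : IsTerminal T)

/-- homs into a terminal object -/
def uniq (U : C) : Unique (U ⟶ T) := ⟨⟨hT.from U⟩, fun _ => hT.hom_ext _ _⟩

/-- the free abelian presheaf on a terminal object is the constant presheaf `ℤ` -/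
noncomputable def freeIsoConst :
    (yoneda.obj T ⋙ AddCommGrpCat.free.{u}) ≅
      (Functor.const Cᵒᵖ).obj (AddCommGrpCat.of (ULift.{u} ℤ)) :=
  NatIso.ofComponents (fun U =>
    haveI : Unique (U.unop ⟶ T) := uniq hT _
    ((FreeAbelianGroup.uniqueEquiv (U.unop ⟶ T)).trans AddEquiv.ulift.symm).toAddCommGrpIso)
    (by
      intro U U' g
      haveI : Unique (U.unop ⟶ T) := uniq hT _
      haveI : Unique (U'.unop ⟶ T) := uniq hT _
      apply AddCommGrpCat.hom_ext
      apply FreeAbelianGroup.lift_ext
      intro x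
      apply ULift.ext
      show FreeAbelianGroup.lift (fun _ => (1 : ℤ))
        ((AddCommGrpCat.free.map ((yoneda.obj T).map g)).hom (FreeAbelianGroup.of x)) =
          FreeAbelianGroup.lift (fun _ => (1 : ℤ)) (FreeAbelianGroup.of x)
      have : (AddCommGrpCat.free.map ((yoneda.obj T).map g)).hom (FreeAbelianGroup.of x) =
          FreeAbelianGroup.of ((yoneda.obj T).map g x) := by
        show FreeAbelianGroup.map _ _ = _
        rw [FreeAbelianGroup.map_of_apply]
      rw [this, FreeAbelianGroup.lift_apply_of, FreeAbelianGroup.lift_apply_of])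

variable [HasSheafify J AddCommGrpCat.{u}] [HasExt.{u} (Sheaf J AddCommGrpCat.{u})]

/-- the free abelian sheaf on a terminal object is the constant sheaf `ℤ` -/
noncomputable def freeSheafIsoConst :
    (presheafToSheaf J AddCommGrpCat.{u}).obj (yoneda.obj T ⋙ AddCommGrpCat.free.{u}) ≅
      (constantSheaf J AddCommGrpCat.{u}).obj (AddCommGrpCat.of (ULift.{u} ℤ)) :=
  (presheafToSheaf J AddCommGrpCat.{u}).mapIso (freeIsoConst hT)

/-- cohomology over a terminal object is the cohomology of the sheaf -/
noncomputable def H'Equiv (F : Sheaf J AddCommGrpCat.{u}) (n : ℕ) :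
    (Sheaf.H' F n T : AddCommGrpCat.{u}) ≃+ Sheaf.H F n :=
  ((((Abelian.extFunctor n).mapIso (freeSheafIsoConst J hT).op).app F).symm).addCommGroupIsoToAddEquiv

end Site

section Top
variable {X : TopCat.{u}}

/-- `H^n(⊤, F) ≃ H^n(X, F)`. -/
noncomputable def HUtopEquiv (F : CohTop.Ab X) (n : ℕ) : CohTop.HU F n ⊤ ≃+ CohTop.H F n :=
  H'Equiv (Opens.grothendieckTopology X) (T := (⊤ : Opens X)) isTerminalTop F n

end Top

end Groth.Agent.Helper13.HUTop
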