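import Mathlib
import Groth.Prelude.Def_Coh
import Groth.Agent.Lib.Helper13.QCohKer
import Groth.Agent.Lib.Helper13.RestrictLim
import Groth.Agent.Lib.Helper13.ToAbExact
import Groth.Agent.S0007

universe u
set_option linter.unusedSectionVars false
set_option autoImplicit false
open CategoryTheory CategoryTheory.Limits Opposite TopologicalSpace AlgebraicGeometry

namespace Groth.Agent.Helper13.QCohExt

open Groth.Agent.Helper13.QCohLocal Groth.Agent.Helper13.ToAbExact

section Spec
variable {R : CommRingCat.{u}}

instance : (moduleSpecΓFunctor (R := R)).IsRightAdjoint := tilde.adjunction.isRightAdjoint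

instance : (moduleSpecΓFunctor (R := R)).Additive :=
  (tilde.adjunction (R := R)).right_adjoint_additive

/-- extensions of quasi-coherent modules on an affine scheme are quasi-coherent -/
theorem spec_case (S : ShortComplex (Spec (.of R)).Modules) (hS : S.ShortExact)
    [h1 : S.X₁.IsQuasicoherent] [h3 : S.X₃.IsQuasicoherent] : S.X₂.IsQuasicoherent := by
  have hsurj : Function.Surjective (S.g.val.app (op ⊤)).hom :=
    app_top_surjective_of_H1 S hS (Groth.Agent.S0007.result (Spec (.of R)) S.X₁ 1 Nat.one_pos)
  have := hS.mono_f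
  have := hS.epi_g
  -- global sections are short exact
  have hΓ : (S.map (moduleSpecΓFunctor (R := R))).ShortExact := by
    refine ShortComplex.ShortExact.mk' (hS.exact.map_of_mono_of_preservesKernel _ inferInstance
      inferInstance) (by
        show Mono ((moduleSpecΓFunctor (R := R)).map S.f)
        infer_instance) ?_
    show Epi ((moduleSpecΓFunctor (R := R)).map S.g)
    rw [ModuleCat.epi_iff_surjective]
    exact hsurj
  -- the tilde of global sections is short exact
  let T := (S.map (moduleSpecΓFunctor (R := R))).map (tilde.functor R)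
  let φ : T ⟶ S :=
    { τ₁ := Scheme.Modules.fromTildeΓNatTrans.app S.X₁
      τ₂ := Scheme.Modules.fromTildeΓNatTrans.app S.X₂
      τ₃ := Scheme.Modules.fromTildeΓNatTrans.app S.X₃
      comm₁₂ := (Scheme.Modules.fromTildeΓNatTrans.naturality S.f).symm
      comm₂₃ := (Scheme.Modules.fromTildeΓNatTrans.naturality S.g).symm }
  haveI i1 : IsIso φ.τ₁ := (isQuasicoherent_iff_isIso_fromTildeΓ S.X₁).1 h1
  haveI i3 : IsIso φ.τ₃ := (isQuasicoherent_iff_isIso_fromTildeΓ S.X₃).1 h3
  have := hΓ.epi_g
  have hT : T.ShortExact := by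
    refine ShortComplex.ShortExact.mk' (hΓ.exact.map_of_epi_of_preservesCokernel _ inferInstance
      inferInstance) ?_ (by
        show Epi ((tilde.functor R).map (S.map (moduleSpecΓFunctor (R := R))).g)
        infer_instance)
    have hm : Mono (T.f ≫ φ.τ₂) := by
      rw [← φ.comm₁₂]
      infer_instance
    exact mono_of_mono T.f φ.τ₂
  have i2 : IsIso φ.τ₂ := ShortComplex.isIso₂_of_shortExact_of_isIso₁₃ φ hT hS
  exact (isQuasicoherent_iff_isIso_fromTildeΓ S.X₂).2 i2

end Spec

variable {X : Scheme.{u}}

/-- extensions of quasi-coherent modules are quasi-coherent -/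
theorem main (S : ShortComplex X.Modules) (hS : S.ShortExact)
    (h1 : S.X₁.IsQuasicoherent) (h3 : S.X₃.IsQuasicoherent) : S.X₂.IsQuasicoherent := by
  apply isQuasicoherent_of_restrict_fromSpec
  intro U
  let F := Scheme.Modules.restrictFunctor U.2.fromSpec
  have hS' : (S.map F).ShortExact := hS.map_of_exact F
  haveI := h1
  haveI := h3
  haveI : (S.map F).X₁.IsQuasicoherent :=
    inferInstanceAs ((Scheme.Modules.restrictFunctor U.2.fromSpec).obj S.X₁).IsQuasicoherent
  haveI : (S.map F).X₃.IsQuasicoherent :=
    inferInstanceAs ((Scheme.Modules.restrictFunctor U.2.fromSpec).obj S.X₃).IsQuasicoherent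
  exact spec_case (S.map F) hS'

end Groth.Agent.Helper13.QCohExt
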