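import Mathlib
import Groth.Prelude.Def_Coh
import Groth.Agent.Lib.Helper13.QCohExt
import Groth.Agent.Lib.Helper13.QCohAss

universe u
set_option linter.unusedSectionVars false
set_option autoImplicit false
open CategoryTheory CategoryTheory.Limits Opposite TopologicalSpace AlgebraicGeometry

namespace Groth.Agent.Helper13.QCohFin

open Groth.Agent.Helper13.QCohLocal

variable {X : Scheme.{u}}

/-- binary biproducts of quasi-coherent modules are quasi-coherent -/
theorem isQuasicoherent_biprod (A B : X.Modules) [hA : A.IsQuasicoherent] [hB : B.IsQuasicoherent] :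
    (A ⊞ B).IsQuasicoherent := by
  have hS : (ShortComplex.mk (biprod.inl : A ⟶ A ⊞ B) (biprod.snd : A ⊞ B ⟶ B)
      biprod.inl_snd).ShortExact :=
    (ShortComplex.Splitting.ofHasBinaryBiproduct A B).shortExact
  exact Groth.Agent.Helper13.QCohExt.main _ hS hA hB

/-- pullbacks of quasi-coherent modules are quasi-coherent -/
theorem isQuasicoherent_pullback {A B C : X.Modules} [A.IsQuasicoherent] [B.IsQuasicoherent]
    [C.IsQuasicoherent] (f : A ⟶ C) (g : B ⟶ C) : (pullback f g).IsQuasicoherent := by
  haveI := isQuasicoherent_biprod A B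
  haveI : (kernel (biprod.desc f (-g))).IsQuasicoherent :=
    isQuasicoherent_kernel (biprod.desc f (-g))
  let e : kernel (biprod.desc f (-g)) ≅ pullback f g :=
    IsLimit.conePointUniqueUpToIso (kernelIsKernel (biprod.desc f (-g)))
      (Abelian.PullbackToBiproductIsKernel.isLimitPullbackToBiproduct f g)
  exact isQuasicoherent_of_iso e

/-- zero objects are quasi-coherent -/
theorem isQuasicoherent_of_isZero {Z : X.Modules} (hZ : IsZero Z) : Z.IsQuasicoherent := by
  haveI : (Coh.structureModule X).IsQuasicoherent := Groth.Agent.Helper13.QCoh.isQuasicoherent_unit X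
  haveI : (kernel (𝟙 (Coh.structureModule X))).IsQuasicoherent :=
    isQuasicoherent_kernel (𝟙 (Coh.structureModule X))
  have h0 : IsZero (kernel (𝟙 (Coh.structureModule X))) := isZero_kernel_of_mono _
  exact isQuasicoherent_of_iso (h0.iso hZ)

/-- binary products of quasi-coherent modules are quasi-coherent -/
theorem isQuasicoherent_prod (A B : X.Modules) [hA : A.IsQuasicoherent] [hB : B.IsQuasicoherent] :
    (A ⨯ B).IsQuasicoherent := by
  haveI := isQuasicoherent_biprod A B
  exact isQuasicoherent_of_iso (biprod.isoProd A B)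

theorem isQuasicoherent_pi_fin : ∀ (n : ℕ) (M : Fin n → X.Modules),
    (∀ i, (M i).IsQuasicoherent) → (∏ᶜ M).IsQuasicoherent := by
  intro n
  induction n with
  | zero =>
    intro M _
    apply isQuasicoherent_of_isZero
    have : IsTerminal (∏ᶜ M) := by
      refine IsTerminal.ofUniqueHom (fun Y => Pi.lift (fun i => i.elim0)) ?_
      intro Y m
      apply Pi.hom_ext
      intro i
      exact i.elim0
    exact (isZero_zero _).of_iso (this.uniqueUpToIso HasZeroObject.zeroIsTerminal)
  | succ n ih =>
    intro M hM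
    haveI := hM 0
    haveI := ih (fun i => M i.succ) (fun i => hM i.succ)
    haveI := isQuasicoherent_prod (M 0) (∏ᶜ fun i : Fin n => M i.succ)
    let c₁ : Fan fun i : Fin n => M i.succ := Fan.mk _ (Pi.π fun i : Fin n => M i.succ)
    let t₁ : IsLimit c₁ := productIsProduct _
    let c₂ : BinaryFan (M 0) c₁.pt := BinaryFan.mk prod.fst prod.snd
    let t₂ : IsLimit c₂ := prodIsProd _ _
    let e : (M 0 ⨯ ∏ᶜ fun i : Fin n => M i.succ) ≅ ∏ᶜ M :=
      IsLimit.conePointUniqueUpToIso (extendFanIsLimit M t₁ t₂) (productIsProduct M)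
    exact isQuasicoherent_of_iso e

/-- finite products of quasi-coherent modules are quasi-coherent -/
theorem isQuasicoherent_pi {ι : Type*} [Finite ι] (M : ι → X.Modules)
    (hM : ∀ i, (M i).IsQuasicoherent) : (∏ᶜ M).IsQuasicoherent := by
  obtain ⟨n, ⟨e⟩⟩ := Finite.exists_equiv_fin ι
  haveI : (∏ᶜ (M ∘ e.symm)).IsQuasicoherent :=
    isQuasicoherent_pi_fin n (M ∘ e.symm) (fun k => hM _)
  exact isQuasicoherent_of_iso (Pi.reindex e.symm M)

end Groth.Agent.Helper13.QCohFin
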