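import Mathlib
import Groth.Agent.Lib.Helper13.QCohLocal

set_option autoImplicit false
universe u
open CategoryTheory CategoryTheory.Limits AlgebraicGeometry Opposite TopologicalSpace

namespace Groth.Agent.Helper13.FinPres

open Groth.Agent.Helper13.QCohLocal

section General

variable {C : Type*} [Category C] {J : GrothendieckTopology C} {R : Sheaf J RingCat.{u}}
  [HasSheafify J AddCommGrpCat.{u}] [J.WEqualsLocallyBijective AddCommGrpCat.{u}]
  {C' : Type*} [Category C'] {J' : GrothendieckTopology C'} {S : Sheaf J' RingCat.{u}}
  [HasSheafify J' AddCommGrpCat.{u}] [J'.WEqualsLocallyBijective AddCommGrpCat.{u}]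

lemma isFinite_map {M : SheafOfModules.{u} R} (P : M.Presentation) [hP : P.IsFinite]
    (F : SheafOfModules.{u} R ⥤ SheafOfModules.{u} S) [PreservesColimitsOfSize.{u, u} F]
    (η : SheafOfModules.unit S ≅ F.obj (SheafOfModules.unit R)) : (P.map F η).IsFinite where
  isFiniteType_generators := ⟨hP.isFiniteType_generators.finite⟩
  isFiniteType_relations := ⟨hP.isFiniteType_relations.finite⟩

end General

variable {X : Scheme.{u}}

lemma isFinite_presentationOver (M : X.Modules) (U : X.Opens)
    (P : (M.restrict U.ι).Presentation) [P.IsFinite] : (presentationOver M U P).IsFinite := by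
  unfold presentationOver
  have := isFinite_map P (Scheme.Modules.overEquiv U).inverse
    (TopologicalSpace.Opens.sheafOfModulesEquivOverInverseUnit U X.ringCatSheaf).symm
  infer_instance

set_option backward.isDefEq.respectTransparency false in
lemma isFinite_presentationRestrict {Y : Scheme.{u}} (f : Y ⟶ X) [IsOpenImmersion f]
    {M : X.Modules} (P : M.Presentation) [P.IsFinite] :
    (Scheme.Modules.presentationRestrict f P).IsFinite := by
  unfold Scheme.Modules.presentationRestrict
  have : PreservesColimitsOfSize.{u, u} (Scheme.Modules.restrictFunctor f) := inferInstance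
  exact isFinite_map P _ _

lemma isFinite_presentationOpensRange {Y : Scheme.{u}} (j : Y ⟶ X) [IsOpenImmersion j]
    (M : X.Modules) (P : (M.restrict j).Presentation) [P.IsFinite] :
    (presentationOpensRange j M P).IsFinite := by
  unfold presentationOpensRange
  have := isFinite_presentationRestrict j.isoOpensRange.inv P
  infer_instance

end Groth.Agent.Helper13.FinPres

namespace Groth.Agent.Helper13.FinPres

open Groth.Agent.Helper13.QCohLocal

variable {X : Scheme.{u}}

/-- finite presentation from finite presentations of the restrictions to an open cover -/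
theorem isFinitePresentation_of_presentations (M : X.Modules) {ι : Type u}
    (U : ι → X.Opens) (hU : IsOpenCover U)
    (P : ∀ i, (M.restrict (U i).ι).Presentation) (hP : ∀ i, (P i).IsFinite) :
    SheafOfModules.IsFinitePresentation (R := X.ringCatSheaf) M := by
  let q : SheafOfModules.QuasicoherentData.{u, u, u, u} M :=
    { I := ι
      X := U
      coversTop := (Opens.coversTop_iff _ _).2 hU
      presentation := fun i => presentationOver M (U i) (P i) }
  have hq : q.IsFinitePresentation :=
    { isFinite_presentation := fun i => by
        have := hP i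
        exact isFinite_presentationOver M (U i) (P i) }
  exact { exists_quasicoherentData := ⟨q, hq⟩ }

/-- finite presentation from finite presentations of the restrictions along a jointly surjective
family of open immersions -/
theorem isFinitePresentation_of_family (M : X.Modules) {ι : Type u}
    (Y : ι → Scheme.{u}) (j : ∀ i, Y i ⟶ X) [∀ i, IsOpenImmersion (j i)]
    (hj : ∀ x : X, ∃ i, x ∈ (j i).opensRange)
    (P : ∀ i, (M.restrict (j i)).Presentation) (hP : ∀ i, (P i).IsFinite) :
    SheafOfModules.IsFinitePresentation (R := X.ringCatSheaf) M := by
  refine isFinitePresentation_of_presentations M (fun i => (j i).opensRange) ?_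
    (fun i => presentationOpensRange (j i) M (P i)) (fun i => ?_)
  · rw [IsOpenCover, eq_top_iff]
    intro x _
    obtain ⟨i, hi⟩ := hj x
    exact Opens.mem_iSup.2 ⟨i, hi⟩
  · have := hP i
    exact isFinite_presentationOpensRange (j i) M (P i)

end Groth.Agent.Helper13.FinPres

namespace Groth.Agent.Helper13.FinPres

variable {R : CommRingCat.{u}} (M : ModuleCat.{u} R)

lemma isFinite_presentationTilde (s : Set M) (hs : Submodule.span R s = ⊤)
    (t : Set (s →₀ R))
    (ht : Submodule.span R t = LinearMap.ker (Finsupp.linearCombination R ((↑) : s → M)))
    [hs' : Finite s] [ht' : Finite t] : (presentationTilde M s hs t ht).IsFinite where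
  isFiniteType_generators := ⟨hs'⟩
  isFiniteType_relations := ⟨ht'⟩

/-- a finitely presented module yields a finite presentation of its tilde -/
theorem exists_isFinite_presentation_tilde [Module.FinitePresentation R M] :
    ∃ P : (tilde M).Presentation, P.IsFinite := by
  obtain ⟨s, hs, hker⟩ := Module.FinitePresentation.out (R := R) (M := M)
  obtain ⟨t, ht⟩ := hker
  have h1 : Finite (s : Set M) := s.finite_toSet.to_subtype
  have h2 : Finite (t : Set ((s : Set M) →₀ R)) := t.finite_toSet.to_subtype
  exact ⟨presentationTilde M (s : Set M) hs (t : Set ((s : Set M) →₀ R)) ht,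
    isFinite_presentationTilde M _ hs _ ht⟩

end Groth.Agent.Helper13.FinPres
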