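import Mathlib
import Groth.Agent.Lib.Helper13.LocFree
import Groth.Agent.Lib.Helper13.FinAffine2
import Groth.Agent.Lib.Helper13.QCohKer
import Groth.Agent.Lib.Helper13.FinPres

set_option autoImplicit false
universe u
open CategoryTheory CategoryTheory.Limits AlgebraicGeometry Opposite TopologicalSpace
open Groth.Agent.Helper13.QCoh Groth.Agent.Helper13.FinType Groth.Agent.Helper13.QCohLoc
open Groth.Agent.Helper13.QCohLocal

namespace Groth.Agent.Helper13.LocFree

variable {X : Scheme.{u}}

/-- `free I ≅ O^n` for a finite type `I` of cardinality `n`. -/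
noncomputable def freeIsoFreeMod (I : Type u) [Finite I] :
    SheafOfModules.free (R := X.ringCatSheaf) I ≅ FlatMod.freeMod X (Nat.card I) :=
  Sigma.whiskerEquiv (f := fun _ : I => SheafOfModules.unit X.ringCatSheaf)
    (g := fun _ : Fin (Nat.card I) => Coh.structureModule X)
    (Finite.equivFin I) (fun _ => Iso.refl _)

lemma finitePresentation_sections_free (I : Type u) [Finite I] (V : X.Opens) :
    Module.FinitePresentation Γ(X, V) Γ(SheafOfModules.free (R := X.ringCatSheaf) I, V) := by
  let e : (Fin (Nat.card I) → Γ(X, V)) ≃ₗ[Γ(X, V)] Γ(SheafOfModules.free (R := X.ringCatSheaf) I, V) :=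
    (secLinearEquiv (Nat.card I) V).trans (appLinearEquiv (freeIsoFreeMod (X := X) I) V).symm
  exact Module.FinitePresentation.of_equiv e


/-- if sections `s i` of a quasi-coherent module on an affine scheme generate (as a sheaf), they
span the global sections. -/
lemma span_secOn_eq_top [IsAffine X] (N : X.Modules) [N.IsQuasicoherent] {I : Type u}
    (s : I → SheafOfModules.sections N) (h : Epi ((SheafOfModules.freeHomEquiv N).symm s)) :
    Submodule.span Γ(X, ⊤) (Set.range fun i => secOn N (s i) ⊤) = ⊤ :=
  span_eq_top_of_genOn N (isAffineOpen_top X) _ ((epi_iff_genOn_top N s).1 h)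

/-- **P2**: on an affine scheme, the global sections of a module with a finite presentation form a
finitely presented module. -/
theorem finitePresentation_sections_of_presentation [IsAffine X] (N : X.Modules)
    (P : N.Presentation) [hP : P.IsFinite] : Module.FinitePresentation Γ(X, ⊤) Γ(N, ⊤) := by
  haveI : N.IsQuasicoherent := P.isQuasicoherent
  let I := P.generators.I
  haveI : Finite I := hP.isFiniteType_generators.finite
  let π : SheafOfModules.free (R := X.ringCatSheaf) I ⟶ N := P.generators.π
  haveI : Epi π := P.generators.epi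
  haveI : (SheafOfModules.free (R := X.ringCatSheaf) I).IsQuasicoherent := inferInstance
  let K : X.Modules := kernel π
  haveI : K.IsQuasicoherent := isQuasicoherent_kernel π
  let J := P.relations.I
  haveI : Finite J := hP.isFiniteType_relations.finite
  haveI := finitePresentation_sections_free (X := X) I ⊤
  let φ : Γ(SheafOfModules.free (R := X.ringCatSheaf) I, ⊤) →ₗ[Γ(X, ⊤)] Γ(N, ⊤) := appLinearMap π ⊤
  have hsurj : Function.Surjective φ := by
    rw [← LinearMap.range_eq_top, eq_top_iff, ← span_secOn_eq_top N P.generators.s P.generators.epi,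
      Submodule.span_le]
    rintro _ ⟨i, rfl⟩
    refine ⟨secOn _ (SheafOfModules.freeSection i) ⊤, ?_⟩
    have := SheafOfModules.sectionsMap_freeHomEquiv_symm_freeSection P.generators.s i
    exact congrArg (fun σ : N.sections => secOn N σ ⊤) this
  refine Module.finitePresentation_of_surjective φ hsurj ?_
  -- the kernel is the image of the sections of the kernel sheaf
  let ψ : Γ(K, ⊤) →ₗ[Γ(X, ⊤)] Γ(SheafOfModules.free (R := X.ringCatSheaf) I, ⊤) :=
    appLinearMap (kernel.ι π) ⊤
  have hker : LinearMap.ker φ = LinearMap.range ψ := by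
    apply le_antisymm
    · intro t ht
      let S : ShortComplex X.Modules := ShortComplex.mk (kernel.ι π) π (kernel.condition π)
      have hS : S.Exact := ShortComplex.exact_of_f_is_kernel _ (kernelIsKernel π)
      haveI : Mono S.f := inferInstanceAs (Mono (kernel.ι π))
      obtain ⟨m, hm⟩ := app_exact_of_exact_of_mono S hS ⊤ t ht
      exact ⟨m, hm⟩
    · rintro _ ⟨m, rfl⟩
      have h0 : (kernel.ι π ≫ π : K ⟶ N) = 0 := kernel.condition π
      have h1 := congrArg (fun θ : K ⟶ N => Scheme.Modules.Hom.app θ ⊤ m) h0
      exact h1
  rw [hker, LinearMap.range_eq_map, ← span_secOn_eq_top K P.relations.s P.relations.epi,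
    Submodule.map_span]
  exact Submodule.fg_span (Set.Finite.image _ (Set.finite_range _))

end Groth.Agent.Helper13.LocFree
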