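import Mathlib

set_option autoImplicit false

namespace Groth.Agent.Helper13.LocTransfer

open Module

/-- a basis of the standard localization of a module gives a basis of any other localization. -/
theorem nonempty_basis_of_isLocalizedModule {R M : Type*} [CommRing R] [AddCommGroup M] [Module R M]
    (S : Submonoid R) {Rₛ Mₛ : Type*} [CommRing Rₛ] [Algebra R Rₛ] [IsLocalization S Rₛ]
    [AddCommGroup Mₛ] [Module R Mₛ] [Module Rₛ Mₛ] [IsScalarTower R Rₛ Mₛ]
    (f : M →ₗ[R] Mₛ) [IsLocalizedModule S f] {I : Type*}
    (b : Basis I (Localization S) (LocalizedModule S M)) : Nonempty (Basis I Rₛ Mₛ) := by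
  let A := Localization S
  let σ : A ≃ₐ[R] Rₛ := IsLocalization.algEquiv S A Rₛ
  letI : Module A Mₛ := Module.compHom Mₛ (σ : A →+* Rₛ)
  haveI : IsScalarTower R A Mₛ := by
    refine ⟨fun r a m => ?_⟩
    change σ (r • a) • m = r • (σ a • m)
    rw [map_smul, smul_assoc]
  let e : LocalizedModule S M ≃ₗ[R] Mₛ := IsLocalizedModule.iso S f
  let eA : LocalizedModule S M ≃ₗ[A] Mₛ := e.extendScalarsOfIsLocalization S A
  let b₁ : Basis I A Mₛ := b.map eA
  exact ⟨b₁.mapCoeffs σ.toRingEquiv (fun c x => rfl)⟩

end Groth.Agent.Helper13.LocTransfer

namespace Groth.Agent.Helper13.LocTransfer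

/-- finite presentation is invariant under a change of rings along a ring isomorphism acting
compatibly. -/
theorem finitePresentation_of_ringEquiv {R R' M : Type*} [CommRing R] [CommRing R'] [AddCommGroup M]
    [Module R M] [Module R' M] (σ : R ≃+* R') (h : ∀ (c : R) (x : M), σ c • x = c • x)
    [Module.FinitePresentation R' M] : Module.FinitePresentation R M := by
  letI : Algebra R R' := σ.toRingHom.toAlgebra
  haveI : IsScalarTower R R' M := by
    refine ⟨fun r r' x => ?_⟩
    change (σ r * r') • x = r • (r' • x)
    rw [mul_smul, h]
  let e : R ≃ₗ[R] R' :=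
    { σ with
      map_smul' := fun r a => by
        change σ (r * a) = σ r * σ a
        exact map_mul σ r a }
  haveI : Module.FinitePresentation R R' := Module.FinitePresentation.of_equiv e
  exact Module.FinitePresentation.trans R M R'

theorem finitePresentation_of_ringEquiv' {R R' M : Type*} [CommRing R] [CommRing R'] [AddCommGroup M]
    [Module R M] [Module R' M] (σ : R ≃+* R') (h : ∀ (c : R) (x : M), σ c • x = c • x)
    [Module.FinitePresentation R M] : Module.FinitePresentation R' M :=
  finitePresentation_of_ringEquiv σ.symm (fun c x => by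
    have := h (σ.symm c) x
    rw [σ.apply_symm_apply] at this
    exact this.symm)

end Groth.Agent.Helper13.LocTransfer

namespace Groth.Agent.Helper13.LocTransfer

section RingEquiv

variable {R R' M : Type*} [CommRing R] [CommRing R'] [AddCommGroup M]
    [Module R M] [Module R' M] (σ : R ≃+* R') (h : ∀ (c : R) (x : M), σ c • x = c • x)

include h in
theorem finite_of_ringEquiv [Module.Finite R' M] : Module.Finite R M := by
  obtain ⟨s, hs⟩ := ‹Module.Finite R' M›
  refine ⟨s, ?_⟩
  rw [eq_top_iff] at hs ⊢
  intro x _
  have hx := hs (Submodule.mem_top (x := x))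
  induction hx using Submodule.span_induction with
  | mem y hy => exact Submodule.subset_span hy
  | zero => exact Submodule.zero_mem _
  | add a b _ _ ha hb => exact Submodule.add_mem _ (ha trivial) (hb trivial)
  | smul c a _ ha =>
    have := Submodule.smul_mem (Submodule.span R (s : Set M)) (σ.symm c) (ha trivial)
    rw [← h, σ.apply_symm_apply] at this
    exact this

include h in
theorem flat_of_ringEquiv [Module.Flat R' M] : Module.Flat R M := by
  letI : Algebra R R' := σ.toRingHom.toAlgebra
  haveI : IsScalarTower R R' M := by
    refine ⟨fun r r' x => ?_⟩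
    change (σ r * r') • x = r • (r' • x)
    rw [mul_smul, h]
  let e : R ≃ₗ[R] R' :=
    { σ with
      map_smul' := fun r a => by
        change σ (r * a) = σ r * σ a
        exact map_mul σ r a }
  haveI : Module.Flat R R' := Module.Flat.of_linearEquiv e.symm
  exact Module.Flat.trans R R' M

include h in
theorem projective_of_ringEquiv [Module.Finite R' M] [Module.Projective R' M] :
    Module.Projective R M := by
  haveI : Module.FinitePresentation R' M := Module.finitePresentation_of_projective R' M
  haveI : Module.FinitePresentation R M := finitePresentation_of_ringEquiv σ h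
  haveI : Module.Flat R M := flat_of_ringEquiv σ h
  exact Module.Flat.projective_of_finitePresentation

end RingEquiv

end Groth.Agent.Helper13.LocTransfer
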