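import Mathlib
import Groth.Agent.Lib.Helper13.LocFree
import Groth.Agent.Lib.Helper13.LocTransfer

set_option autoImplicit false
universe u
open CategoryTheory CategoryTheory.Limits AlgebraicGeometry Opposite TopologicalSpace
open Groth.Agent.Helper13.LocTransfer

namespace Groth.Agent.Helper13.LocFree

variable {X Y : Scheme.{u}} (f : Y ⟶ X) [IsOpenImmersion f] (M : X.Modules)

theorem finitePresentation_restrict_iff (W' : Y.Opens) :
    Module.FinitePresentation Γ(Y, W') Γ(M.restrict f, W') ↔
      Module.FinitePresentation Γ(X, f ''ᵁ W') Γ(M, f ''ᵁ W') := by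
  letI := modRestrict f M W'
  constructor
  · intro h
    haveI : Module.FinitePresentation Γ(Y, W') Γ(M, f ''ᵁ W') := h
    exact finitePresentation_of_ringEquiv (f.appIso W').commRingCatIsoToRingEquiv
      (modRestrict_smul f M W')
  · intro h
    have h2 : Module.FinitePresentation Γ(Y, W') Γ(M, f ''ᵁ W') :=
      finitePresentation_of_ringEquiv' (f.appIso W').commRingCatIsoToRingEquiv
        (modRestrict_smul f M W')
    exact h2

omit [IsOpenImmersion f] in
theorem finitePresentation_congr {V₁ V₂ : X.Opens} (e : V₁ = V₂)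
    (h : Module.FinitePresentation Γ(X, V₁) Γ(M, V₁)) :
    Module.FinitePresentation Γ(X, V₂) Γ(M, V₂) := by
  subst e
  exact h

theorem finitePresentation_restrict_top_iff (U : X.Opens) :
    Module.FinitePresentation Γ(↑U, ⊤) Γ(M.restrict U.ι, ⊤) ↔
      Module.FinitePresentation Γ(X, U) Γ(M, U) := by
  rw [finitePresentation_restrict_iff]
  have e : U.ι ''ᵁ ⊤ = U := by rw [Scheme.Opens.ι_image_top]
  exact ⟨finitePresentation_congr M e, finitePresentation_congr M e.symm⟩

end Groth.Agent.Helper13.LocFree
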