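import Mathlib
import Groth.Agent.Lib.Helper13.FinPres
import Groth.Agent.Lib.Helper13.FinPresSec
import Groth.Agent.Lib.Helper13.SecTransport

set_option autoImplicit false
universe u
open CategoryTheory CategoryTheory.Limits AlgebraicGeometry Opposite TopologicalSpace
open Groth.Agent.Helper13.FinPres Scheme.Modules
open Groth.Agent.Helper13.QCoh Groth.Agent.Helper13.FinType Groth.Agent.Helper13.QCohLocal

namespace Groth.Agent.Helper13.LocFree

variable {X : Scheme.{u}}

set_option backward.isDefEq.respectTransparency false in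
/-- **P1**: a finitely presented module has finite presentations on an affine open cover. -/
lemma exists_isOpenCover_finite_presentation (M : X.Modules)
    [hM : SheafOfModules.IsFinitePresentation (R := X.ringCatSheaf) M] :
    ∃ (ι : Type u) (U : ι → X.Opens) (P : ∀ i, (M.restrict (U i).ι).Presentation),
      IsOpenCover U ∧ (∀ i, IsAffineOpen (U i)) ∧ ∀ i, (P i).IsFinite := by
  obtain ⟨σ, hσ⟩ := SheafOfModules.IsFinitePresentation.exists_quasicoherentData (R := X.ringCatSheaf) M
  obtain ⟨I, W, cov, pres⟩ := σ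
  have hfin : ∀ i, (pres i).IsFinite := fun i => hσ.isFinite_presentation i
  choose κ hsub heq using fun i ↦ Opens.isBasis_iff_cover.mp X.isBasis_affineOpens (W i)
  have key : ∀ j : (Σ (i : I), κ i), ∃ P : (M.restrict (Scheme.Opens.ι j.2.1)).Presentation, P.IsFinite := by
    intro i
    let u := X.homOfLE (U := i.2) (V := W i.1) (by simp [heq, le_sSup])
    have : PreservesColimitsOfSize.{u, u} (restrictFunctor u) := inferInstance
    let F := (overEquiv (W i.1)).functor ⋙ restrictFunctor u
    let iso : SheafOfModules.overFunctor X.ringCatSheaf _ ⋙ F ≅ restrictFunctor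
      (Scheme.Opens.ι i.2.1) := (Functor.associator _ _ _).symm ≪≫
        Functor.isoWhiskerRight (Scheme.Modules.overFunctorEquiv _) _ ≪≫
        (restrictFunctorComp _ _).symm ≪≫ (restrictFunctorCongr (by simp [u]))
    haveI := hfin i.1
    haveI : ((pres i.1).map F (Scheme.Modules.restrictUnitIso _).symm).IsFinite :=
      isFinite_map (pres i.1) F _
    exact ⟨SheafOfModules.Presentation.ofIsIso.{u, u, u} (iso.app M).hom <|
      (pres i.1).map F (Scheme.Modules.restrictUnitIso _).symm, inferInstance⟩
  choose P hP using key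
  refine ⟨Σ (i : I), κ i, fun j ↦ j.2, P, ?_, ?_, hP⟩
  · rw [Opens.coversTop_iff, IsOpenCover] at cov
    rw [IsOpenCover, iSup_sigma, ← cov]
    refine iSup_congr fun i ↦ ?_
    rw [heq i, sSup_eq_iSup']
  · intro j
    exact hsub _ j.2.2


/-- **P**: a finitely presented module has finitely presented modules of sections over the members
of an affine open cover. -/
theorem exists_affine_finitePresentation_sections (M : X.Modules)
    [hM : SheafOfModules.IsFinitePresentation (R := X.ringCatSheaf) M] (x : X) :
    ∃ U : X.Opens, IsAffineOpen U ∧ x ∈ U ∧ Module.FinitePresentation Γ(X, U) Γ(M, U) := by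
  obtain ⟨ι, U, P, hcov, haff, hfin⟩ := exists_isOpenCover_finite_presentation M
  have hx : x ∈ ⨆ i, U i := by rw [hcov.iSup_eq_top]; trivial
  obtain ⟨i, hi⟩ := Opens.mem_iSup.1 hx
  refine ⟨U i, haff i, hi, ?_⟩
  haveI : IsAffine (U i : Scheme.{u}) := haff i
  haveI := hfin i
  exact (finitePresentation_restrict_top_iff M (U i)).1
    (finitePresentation_sections_of_presentation _ (P i))

/-- **Q** (affine scheme version): a quasi-coherent module on an affine scheme whose global sections
are finitely presented admits a finite presentation. -/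
theorem exists_finite_presentation_of_sections [IsAffine X] (N : X.Modules) [N.IsQuasicoherent]
    [hfp : Module.FinitePresentation Γ(X, ⊤) Γ(N, ⊤)] : ∃ P : N.Presentation, P.IsFinite := by
  obtain ⟨n, s, hs⟩ := Module.Finite.exists_fin (R := Γ(X, ⊤)) (M := Γ(N, ⊤))
  let I := ULift.{u} (Fin n)
  let S : I → SheafOfModules.sections N := fun i => sectionsOfTop N (s i.down)
  have hS : (fun i : I => secOn N (S i) ⊤) = fun i : I => s i.down := by
    funext i
    exact secOn_sectionsOfTop N _
  have hspan : Submodule.span Γ(X, ⊤) (Set.range fun i : I => s i.down) = ⊤ := by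
    rw [← hs]
    congr 1
    ext t
    constructor
    · rintro ⟨i, rfl⟩; exact ⟨i.down, rfl⟩
    · rintro ⟨i, rfl⟩; exact ⟨⟨i⟩, rfl⟩
  have hepi : Epi ((SheafOfModules.freeHomEquiv N).symm S) := by
    rw [epi_iff_genOn_top, hS]
    exact genOn_of_span_eq_top N (isAffineOpen_top X) _ hspan
  let G : N.GeneratingSections := { I := I, s := S, epi := hepi }
  let π : SheafOfModules.free (R := X.ringCatSheaf) I ⟶ N := G.π
  haveI : (SheafOfModules.free (R := X.ringCatSheaf) I).IsQuasicoherent := inferInstance
  let K : X.Modules := kernel π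
  haveI : K.IsQuasicoherent := isQuasicoherent_kernel π
  haveI := finitePresentation_sections_free (X := X) I ⊤
  let φ : Γ(SheafOfModules.free (R := X.ringCatSheaf) I, ⊤) →ₗ[Γ(X, ⊤)] Γ(N, ⊤) := appLinearMap π ⊤
  have hsurj : Function.Surjective φ := by
    rw [← LinearMap.range_eq_top, eq_top_iff, ← span_secOn_eq_top N S hepi, Submodule.span_le]
    rintro _ ⟨i, rfl⟩
    refine ⟨secOn _ (SheafOfModules.freeSection i) ⊤, ?_⟩
    have := SheafOfModules.sectionsMap_freeHomEquiv_symm_freeSection S i
    exact congrArg (fun σ : N.sections => secOn N σ ⊤) this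
  have hkerfg : (LinearMap.ker φ).FG := Module.FinitePresentation.fg_ker φ hsurj
  let ψ : Γ(K, ⊤) →ₗ[Γ(X, ⊤)] Γ(SheafOfModules.free (R := X.ringCatSheaf) I, ⊤) :=
    appLinearMap (kernel.ι π) ⊤
  have hψinj : Function.Injective ψ := by
    have hmono : Mono (kernel.ι π : K ⟶ SheafOfModules.free (R := X.ringCatSheaf) I) :=
      inferInstanceAs (Mono (kernel.ι π))
    exact (mono_iff_app_injective (kernel.ι π : K ⟶ SheafOfModules.free (R := X.ringCatSheaf) I)).1 hmono ⊤
  have hker : LinearMap.ker φ = LinearMap.range ψ := by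
    apply le_antisymm
    · intro t ht
      let T : ShortComplex X.Modules := ShortComplex.mk (kernel.ι π) π (kernel.condition π)
      have hT : T.Exact := ShortComplex.exact_of_f_is_kernel _ (kernelIsKernel π)
      haveI : Mono T.f := inferInstanceAs (Mono (kernel.ι π))
      obtain ⟨m, hm⟩ := app_exact_of_exact_of_mono T hT ⊤ t ht
      exact ⟨m, hm⟩
    · rintro _ ⟨m, rfl⟩
      have h0 : (kernel.ι π ≫ π : K ⟶ N) = 0 := kernel.condition π
      have h1 := congrArg (fun θ : K ⟶ N => Scheme.Modules.Hom.app θ ⊤ m) h0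
      exact h1
  have hKfin : Module.Finite Γ(X, ⊤) Γ(K, ⊤) := by
    have e : Γ(K, ⊤) ≃ₗ[Γ(X, ⊤)] LinearMap.range ψ := LinearEquiv.ofInjective ψ hψinj
    haveI : Module.Finite Γ(X, ⊤) (LinearMap.range ψ) := by
      rw [← hker]
      exact Module.Finite.of_fg hkerfg
    exact Module.Finite.equiv e.symm
  obtain ⟨m, t, ht⟩ := Module.Finite.exists_fin (R := Γ(X, ⊤)) (M := Γ(K, ⊤))
  let J := ULift.{u} (Fin m)
  let T : J → SheafOfModules.sections K := fun j => sectionsOfTop K (t j.down)
  have hT : (fun j : J => secOn K (T j) ⊤) = fun j : J => t j.down := by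
    funext j
    exact secOn_sectionsOfTop K _
  have hspanK : Submodule.span Γ(X, ⊤) (Set.range fun j : J => t j.down) = ⊤ := by
    rw [← ht]
    congr 1
    ext z
    constructor
    · rintro ⟨j, rfl⟩; exact ⟨j.down, rfl⟩
    · rintro ⟨j, rfl⟩; exact ⟨⟨j⟩, rfl⟩
  have hepiK : Epi ((SheafOfModules.freeHomEquiv K).symm T) := by
    rw [epi_iff_genOn_top, hT]
    exact genOn_of_span_eq_top K (isAffineOpen_top X) _ hspanK
  let GK : SheafOfModules.GeneratingSections (kernel G.π) := { I := J, s := T, epi := hepiK }
  refine ⟨{ generators := G, relations := GK }, ?_⟩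
  exact { isFiniteType_generators := ⟨inferInstanceAs (Finite (ULift.{u} (Fin n)))⟩
          isFiniteType_relations := ⟨inferInstanceAs (Finite (ULift.{u} (Fin m)))⟩ }

end Groth.Agent.Helper13.LocFree
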