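import Mathlib
import Groth.Agent.Lib.Helper13.FinPresLocal

set_option autoImplicit false
universe u
open CategoryTheory CategoryTheory.Limits AlgebraicGeometry Opposite TopologicalSpace
open Groth.Agent.Helper13.FinPres Scheme.Modules
open Groth.Agent.Helper13.QCoh Groth.Agent.Helper13.FinType Groth.Agent.Helper13.QCohLocal
open Groth.Agent.Helper13.QCohLoc

namespace Groth.Agent.Helper13.LocFree

variable {X : Scheme.{u}} (M : X.Modules) [M.IsQuasicoherent]

/-- finite presentation of sections passes to basic opens. -/
lemma finitePresentation_basicOpen {U : X.Opens} (hU : IsAffineOpen U) (f : Γ(X, U))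
    [Module.FinitePresentation Γ(X, U) Γ(M, U)] :
    Module.FinitePresentation Γ(X, X.basicOpen f) Γ(M, X.basicOpen f) := by
  letI := modBasicOpen M f
  haveI := isScalarTower_basicOpen M f
  haveI := isLocalizedModule_basicOpen M hU f
  haveI : IsLocalization (Submonoid.powers f) Γ(X, X.basicOpen f) := hU.isLocalization_basicOpen f
  exact _root_.FinitePresentation.of_isBaseChange (resBasicOpen M f)
    (IsLocalizedModule.isBaseChange (Submonoid.powers f) Γ(X, X.basicOpen f) (resBasicOpen M f))

/-- finite presentation of sections can be checked on a cover by basic opens. -/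
lemma finitePresentation_of_span_eq_top {U : X.Opens} (hU : IsAffineOpen U) (s : Set Γ(X, U))
    (hs : Ideal.span s = ⊤)
    (h : ∀ f : s, Module.FinitePresentation Γ(X, X.basicOpen f.1) Γ(M, X.basicOpen f.1)) :
    Module.FinitePresentation Γ(X, U) Γ(M, U) := by
  letI : ∀ f : s, Module Γ(X, U) Γ(M, X.basicOpen f.1) := fun f => modBasicOpen M f.1
  haveI : ∀ f : s, IsScalarTower Γ(X, U) Γ(X, X.basicOpen f.1) Γ(M, X.basicOpen f.1) :=
    fun f => isScalarTower_basicOpen M f.1
  haveI : ∀ f : s, IsLocalizedModule (Submonoid.powers f.1) (resBasicOpen M f.1) :=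
    fun f => isLocalizedModule_basicOpen M hU f.1
  haveI : ∀ f : s, IsLocalization.Away f.1 Γ(X, X.basicOpen f.1) :=
    fun f => hU.isLocalization_basicOpen f.1
  exact Module.FinitePresentation.of_localizationSpan' s hs
    (Mₚ := fun f => Γ(M, X.basicOpen f.1)) (Rₚ := fun f => Γ(X, X.basicOpen f.1))
    (fun f => resBasicOpen M f.1) h

/-- **affine-local**: sections of a finitely presented module over any affine open are finitely
presented. -/
theorem finitePresentation_sections_of_isFinitePresentation
    [hM : SheafOfModules.IsFinitePresentation (R := X.ringCatSheaf) M]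
    {V : X.Opens} (hV : IsAffineOpen V) : Module.FinitePresentation Γ(X, V) Γ(M, V) := by
  choose U hU hxU hfp using exists_affine_finitePresentation_sections M
  let P : X.affineOpens → Prop := fun W => Module.FinitePresentation Γ(X, W.1) Γ(M, W.1)
  have key : P ⟨V, hV⟩ := by
    apply of_affine_open_cover (P := P) (fun x : X => (⟨U x, hU x⟩ : X.affineOpens))
    · rw [eq_top_iff]
      intro x _
      exact Opens.mem_iSup.2 ⟨x, hxU x⟩
    · intro W f hW
      haveI : Module.FinitePresentation Γ(X, W.1) Γ(M, W.1) := hW
      exact finitePresentation_basicOpen M W.2 f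
    · intro W s hs h
      exact finitePresentation_of_span_eq_top M W.2 (s : Set Γ(X, W.1)) hs h
    · intro x
      exact hfp x
  exact key


/-- **Q**: a quasi-coherent module whose sections over the members of an affine open cover are
finitely presented is finitely presented. -/
theorem isFinitePresentation_of_finitePresentation_sections
    (h : ∀ x : X, ∃ U : X.Opens, IsAffineOpen U ∧ x ∈ U ∧
      Module.FinitePresentation Γ(X, U) Γ(M, U)) :
    SheafOfModules.IsFinitePresentation (R := X.ringCatSheaf) M := by
  choose U hU hxU hfp using h
  have key : ∀ x : X, ∃ P : (M.restrict (U x).ι).Presentation, P.IsFinite := by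
    intro x
    haveI : IsAffine (U x : Scheme.{u}) := hU x
    haveI : Module.FinitePresentation Γ(↑(U x), ⊤) Γ(M.restrict (U x).ι, ⊤) :=
      (finitePresentation_restrict_top_iff M (U x)).2 (hfp x)
    exact exists_finite_presentation_of_sections (M.restrict (U x).ι)
  choose P hP using key
  refine isFinitePresentation_of_presentations M U ?_ P hP
  rw [IsOpenCover, eq_top_iff]
  intro x _
  exact Opens.mem_iSup.2 ⟨x, hxU x⟩

/-- For a quasi-coherent module: finitely presented iff sections over every affine open are
finitely presented. -/
theorem isFinitePresentation_iff_finitePresentation_sections :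
    SheafOfModules.IsFinitePresentation (R := X.ringCatSheaf) M ↔
      ∀ U : X.Opens, IsAffineOpen U → Module.FinitePresentation Γ(X, U) Γ(M, U) := by
  constructor
  · intro h U hU
    exact finitePresentation_sections_of_isFinitePresentation M hU
  · intro h
    apply isFinitePresentation_of_finitePresentation_sections M
    intro x
    obtain ⟨_, ⟨V, hV, rfl⟩, hxV, -⟩ :=
      X.isBasis_affineOpens.exists_subset_of_mem_open (Set.mem_univ x) isOpen_univ
    exact ⟨V, hV, hxV, h V hV⟩

end Groth.Agent.Helper13.LocFree
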