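import Mathlib
import Groth.Agent.Lib.Helper13.FinPresAffine

set_option autoImplicit false
universe u
open CategoryTheory CategoryTheory.Limits AlgebraicGeometry Opposite TopologicalSpace
open Groth.Agent.Helper13.QCoh Groth.Agent.Helper13.FinType Groth.Agent.Helper13.QCohLocal
open Groth.Agent.Helper13.QCohLoc Groth.Agent.Helper13.LocTransfer

namespace Groth.Agent.Helper13.LocFree

variable {X : Scheme.{u}} (M : X.Modules) [M.IsQuasicoherent]

/-- **L**: if the sections of a quasi-coherent module over an affine open `U` are finitely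
presented and the stalk at `x ∈ U` is free, then the sections over some basic open neighbourhood of
`x` are free of finite rank. -/
theorem exists_basicOpen_basis {U : X.Opens} (hU : IsAffineOpen U) (x : U)
    [Module.FinitePresentation Γ(X, U) Γ(M, U)]
    [Module.Free (X.presheaf.stalk (x : X)) (M.presheaf.stalk (x : X))] :
    ∃ r : Γ(X, U), (x : X) ∈ X.basicOpen r ∧ ∃ n : ℕ,
      Nonempty (Module.Basis (Fin n) Γ(X, X.basicOpen r) Γ(M, X.basicOpen r)) := by
  letI := modStalk M x
  haveI := isScalarTower_stalk M x
  haveI := isLocalizedModule_germ M hU x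
  haveI : IsLocalization (hU.primeIdealOf x).asIdeal.primeCompl (X.presheaf.stalk (x : X)) :=
    hU.isLocalization_stalk x
  obtain ⟨r, hr, hfree, -⟩ := Module.FinitePresentation.exists_free_localizedModule_powers
    (hU.primeIdealOf x).asIdeal.primeCompl (germLin M x) (X.presheaf.stalk (x : X))
  refine ⟨r, (mem_basicOpen_iff_notMem_primeIdealOf hU x x.2 r).2 hr, ?_⟩
  letI := modBasicOpen M r
  haveI := isScalarTower_basicOpen M r
  haveI := isLocalizedModule_basicOpen M hU r
  haveI : IsLocalization (Submonoid.powers r) Γ(X, X.basicOpen r) := hU.isLocalization_basicOpen r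
  let b := Module.Free.chooseBasis (Localization (Submonoid.powers r))
    (LocalizedModule (Submonoid.powers r) Γ(M, U))
  obtain ⟨b'⟩ := nonempty_basis_of_isLocalizedModule (Rₛ := Γ(X, X.basicOpen r))
    (Submonoid.powers r) (resBasicOpen M r) b
  haveI : Module.Finite Γ(X, X.basicOpen r) Γ(M, X.basicOpen r) :=
    Module.Finite.of_isLocalizedModule (Rₚ := Γ(X, X.basicOpen r)) (Submonoid.powers r)
      (resBasicOpen M r)
  rcases subsingleton_or_nontrivial Γ(X, X.basicOpen r) with hsub | hnt
  · haveI : Subsingleton Γ(M, X.basicOpen r) := Module.subsingleton Γ(X, X.basicOpen r) _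
    exact ⟨0, ⟨Module.Basis.empty _⟩⟩
  · haveI := Module.Finite.finite_basis b'
    exact ⟨_, ⟨b'.reindex (Finite.equivFin _)⟩⟩

/-- a finitely presented quasi-coherent module with free stalks is finite locally free. -/
theorem isFinLocFree_of_isFinitePresentation_of_free_stalks
    [SheafOfModules.IsFinitePresentation (R := X.ringCatSheaf) M]
    (h : ∀ x : X, Module.Free (X.presheaf.stalk x) (M.presheaf.stalk x)) :
    FlatMod.IsFinLocFree M := by
  rw [isFinLocFree_iff_of_isQuasicoherent]
  intro x
  obtain ⟨_, ⟨U, hU, rfl⟩, hxU, -⟩ :=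
    X.isBasis_affineOpens.exists_subset_of_mem_open (Set.mem_univ x) isOpen_univ
  haveI := finitePresentation_sections_of_isFinitePresentation M hU
  haveI := h x
  obtain ⟨r, hxr, n, hb⟩ := exists_basicOpen_basis M hU ⟨x, hxU⟩
  exact ⟨X.basicOpen r, n, hU.basicOpen r, hxr, hb⟩


/-- a finite locally free quasi-coherent module is finitely presented. -/
theorem isFinitePresentation_of_isFinLocFree (h : FlatMod.IsFinLocFree M) :
    SheafOfModules.IsFinitePresentation (R := X.ringCatSheaf) M := by
  rw [isFinLocFree_iff_of_isQuasicoherent] at h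
  apply isFinitePresentation_of_finitePresentation_sections M
  intro x
  obtain ⟨U, n, hU, hxU, ⟨b⟩⟩ := h x
  haveI : Module.Free Γ(X, U) Γ(M, U) := Module.Free.of_basis b
  haveI : Module.Finite Γ(X, U) Γ(M, U) := Module.Finite.of_basis b
  exact ⟨U, hU, hxU, Module.finitePresentation_of_projective _ _⟩

/-- freeness passes from sections over an affine open to stalks. -/
lemma free_stalk_of_free_sections {U : X.Opens} (hU : IsAffineOpen U) (x : U)
    [Module.Free Γ(X, U) Γ(M, U)] :
    Module.Free (X.presheaf.stalk (x : X)) (M.presheaf.stalk (x : X)) := by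
  letI := modStalk M x
  haveI := isScalarTower_stalk M x
  haveI := isLocalizedModule_germ M hU x
  haveI : IsLocalization (hU.primeIdealOf x).asIdeal.primeCompl (X.presheaf.stalk (x : X)) :=
    hU.isLocalization_stalk x
  exact Module.free_of_isLocalizedModule (Rₛ := X.presheaf.stalk (x : X))
    (hU.primeIdealOf x).asIdeal.primeCompl (germLin M x)

/-- finiteness passes from sections over an affine open to stalks. -/
lemma finite_stalk_of_finite_sections {U : X.Opens} (hU : IsAffineOpen U) (x : U)
    [Module.Finite Γ(X, U) Γ(M, U)] :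
    Module.Finite (X.presheaf.stalk (x : X)) (M.presheaf.stalk (x : X)) := by
  letI := modStalk M x
  haveI := isScalarTower_stalk M x
  haveI := isLocalizedModule_germ M hU x
  haveI : IsLocalization (hU.primeIdealOf x).asIdeal.primeCompl (X.presheaf.stalk (x : X)) :=
    hU.isLocalization_stalk x
  exact Module.Finite.of_isLocalizedModule (Rₚ := X.presheaf.stalk (x : X))
    (hU.primeIdealOf x).asIdeal.primeCompl (germLin M x)

/-- the stalks of a finite locally free quasi-coherent module are free. -/
theorem free_stalk_of_isFinLocFree (h : FlatMod.IsFinLocFree M) (x : X) :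
    Module.Free (X.presheaf.stalk x) (M.presheaf.stalk x) := by
  rw [isFinLocFree_iff_of_isQuasicoherent] at h
  obtain ⟨U, n, hU, hxU, ⟨b⟩⟩ := h x
  haveI : Module.Free Γ(X, U) Γ(M, U) := Module.Free.of_basis b
  exact free_stalk_of_free_sections M hU ⟨x, hxU⟩

/-- the stalks of a quasi-coherent module of finite type are finite. -/
theorem finite_stalk_of_isFiniteType [SheafOfModules.IsFiniteType (R := X.ringCatSheaf) M] (x : X) :
    Module.Finite (X.presheaf.stalk x) (M.presheaf.stalk x) := by
  obtain ⟨_, ⟨U, hU, rfl⟩, hxU, -⟩ :=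
    X.isBasis_affineOpens.exists_subset_of_mem_open (Set.mem_univ x) isOpen_univ
  haveI : Module.Finite Γ(X, U) Γ(M, U) := finite_sections_of_isFiniteType M hU
  exact finite_stalk_of_finite_sections M hU ⟨x, hxU⟩

/-- **S9806-type**: for a quasi-coherent module, finite locally free iff finitely presented with
free stalks. -/
theorem isFinLocFree_iff_isFinitePresentation_and_free_stalks :
    FlatMod.IsFinLocFree M ↔ SheafOfModules.IsFinitePresentation (R := X.ringCatSheaf) M ∧
      ∀ x : X, Module.Free (X.presheaf.stalk x) (M.presheaf.stalk x) := by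
  constructor
  · intro h
    exact ⟨isFinitePresentation_of_isFinLocFree M h, free_stalk_of_isFinLocFree M h⟩
  · rintro ⟨h1, h2⟩
    exact isFinLocFree_of_isFinitePresentation_of_free_stalks M h2

/-- **S9805-type**: for a quasi-coherent module, finite locally free iff finitely presented and
flat. -/
theorem isFinLocFree_iff_isFinitePresentation_and_isFlat :
    FlatMod.IsFinLocFree M ↔ SheafOfModules.IsFinitePresentation (R := X.ringCatSheaf) M ∧
      FlatMod.IsFlat M := by
  rw [isFinLocFree_iff_isFinitePresentation_and_free_stalks]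
  constructor
  · rintro ⟨h1, h2⟩
    refine ⟨h1, fun x => ?_⟩
    haveI := h2 x
    exact Module.Flat.of_free
  · rintro ⟨h1, h2⟩
    refine ⟨h1, fun x => ?_⟩
    haveI : Module.Finite (X.presheaf.stalk x) (M.presheaf.stalk x) := finite_stalk_of_isFiniteType M x
    haveI : Module.Flat (X.presheaf.stalk x) (M.presheaf.stalk x) := h2 x
    exact Module.free_of_flat_of_isLocalRing

end Groth.Agent.Helper13.LocFree
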