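import Mathlib
import Groth.Prelude.Def_Fitting
import Groth.Agent.Lib.Helper10.FittingE
import Groth.Agent.Lib.Helper13.FinAffine2
import Groth.Agent.Lib.Helper13.QCohLoc
import Groth.Agent.Lib.Helper13.LocFree2

set_option autoImplicit false
universe u
open CategoryTheory CategoryTheory.Limits AlgebraicGeometry Opposite TopologicalSpace
open Groth.Agent.Helper13.QCoh Groth.Agent.Helper13.FinType Groth.Agent.Helper13.QCohLoc
open Groth.Agent.Lib.Helper10.Fitting

namespace Groth.Agent.Helper13.FittSheaf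

variable {X : Scheme.{u}} (F : X.Modules) [F.IsQuasicoherent]
  [SheafOfModules.IsFiniteType (R := X.ringCatSheaf) F]

/-- Fitting ideals of sections commute with restriction to basic opens. -/
lemma fitt_basicOpen {U : X.Opens} (hU : IsAffineOpen U) (f : Γ(X, U)) (r : ℕ) :
    Fitt.ideal Γ(X, X.basicOpen f) Γ(F, X.basicOpen f) r =
      (Fitt.ideal Γ(X, U) Γ(F, U) r).map (algebraMap Γ(X, U) Γ(X, X.basicOpen f)) := by
  letI := modBasicOpen F f
  haveI := isScalarTower_basicOpen F f
  haveI := isLocalizedModule_basicOpen F hU f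
  haveI : IsLocalization (Submonoid.powers f) Γ(X, X.basicOpen f) := hU.isLocalization_basicOpen f
  haveI : Module.Finite Γ(X, U) Γ(F, U) := finite_sections_of_isFiniteType F hU
  exact fitt_isBaseChange _ (resBasicOpen F f)
    (IsLocalizedModule.isBaseChange (Submonoid.powers f) _ _) r

/-- Fitting ideals of stalks are the extensions of the Fitting ideals of sections. -/
lemma fitt_stalk {U : X.Opens} (hU : IsAffineOpen U) (x : U) (r : ℕ) :
    Fitt.ideal (X.presheaf.stalk (x : X)) (F.presheaf.stalk (x : X)) r =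
      (Fitt.ideal Γ(X, U) Γ(F, U) r).map (algebraMap Γ(X, U) (X.presheaf.stalk (x : X))) := by
  letI := modStalk F x
  haveI := isScalarTower_stalk F x
  haveI := isLocalizedModule_germ F hU x
  haveI : IsLocalization (hU.primeIdealOf x).asIdeal.primeCompl (X.presheaf.stalk (x : X)) :=
    hU.isLocalization_stalk x
  haveI : Module.Finite Γ(X, U) Γ(F, U) := finite_sections_of_isFiniteType F hU
  exact fitt_isBaseChange _ (germLin F x)
    (IsLocalizedModule.isBaseChange (hU.primeIdealOf x).asIdeal.primeCompl _ _) r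

/-- the Fitting ideals of the sections over affine opens form an ideal sheaf. -/
noncomputable def fittData (r : ℕ) : X.IdealSheafData where
  ideal U := Fitt.ideal Γ(X, U.1) Γ(F, U.1) r
  map_ideal_basicOpen U f := (fitt_basicOpen F U.2 f r).symm

theorem sheafIdeal_eq (r : ℕ) : Fitt.sheafIdeal F r = fittData F r :=
  Scheme.IdealSheafData.ofIdeals_ideal (fittData F r)

theorem sheafIdeal_ideal (r : ℕ) (U : X.affineOpens) :
    (Fitt.sheafIdeal F r).ideal U = Fitt.ideal Γ(X, U.1) Γ(F, U.1) r := by
  rw [sheafIdeal_eq]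
  rfl

lemma notMem_support_iff_aux {U : X.Opens} (hU : IsAffineOpen U) (x : U) (r : ℕ) :
    (x : X) ∉ (Fitt.sheafIdeal F r).support ↔
      Fitt.ideal (X.presheaf.stalk (x : X)) (F.presheaf.stalk (x : X)) r = ⊤ := by
  rw [Scheme.IdealSheafData.mem_support_iff_of_mem (U := ⟨U, hU⟩) x.2, sheafIdeal_ideal,
    fitt_stalk F hU x r, Scheme.mem_zeroLocus_iff]
  haveI : IsLocalization (hU.primeIdealOf x).asIdeal.primeCompl (X.presheaf.stalk (x : X)) :=
    hU.isLocalization_stalk x
  constructor
  · intro h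
    rw [not_forall] at h
    obtain ⟨f, hf⟩ := h
    rw [Classical.not_imp, not_not] at hf
    obtain ⟨hfI, hxf⟩ := hf
    rw [Ideal.eq_top_iff_one]
    have hu : IsUnit (algebraMap Γ(X, U) (X.presheaf.stalk (x : X)) f) := by
      rw [Scheme.mem_basicOpen _ _ _ x.2] at hxf
      exact hxf
    obtain ⟨u, hu'⟩ := hu
    have : (1 : X.presheaf.stalk (x : X)) =
        ↑u⁻¹ * algebraMap Γ(X, U) (X.presheaf.stalk (x : X)) f := by
      rw [← hu', Units.inv_mul]
    rw [this]
    exact Ideal.mul_mem_left _ _ (Ideal.mem_map_of_mem _ hfI)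
  · intro h hall
    have hle : Fitt.ideal Γ(X, U) Γ(F, U) r ≤ (hU.primeIdealOf x).asIdeal := by
      intro f hf
      by_contra hnot
      exact hall f hf ((mem_basicOpen_iff_notMem_primeIdealOf hU x x.2 f).2 hnot)
    have h2 := Ideal.map_mono (f := algebraMap Γ(X, U) (X.presheaf.stalk (x : X))) hle
    rw [h, top_le_iff] at h2
    have h3 := IsLocalization.AtPrime.map_eq_maximalIdeal
      (hU.primeIdealOf x).asIdeal (X.presheaf.stalk (x : X))
    rw [h3] at h2
    exact (IsLocalRing.maximalIdeal.isMaximal _).ne_top h2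

/-- a point lies outside the support of the `r`-th Fitting ideal iff the `r`-th Fitting ideal of
the stalk is the unit ideal. -/
theorem notMem_support_iff (x : X) (r : ℕ) :
    x ∉ (Fitt.sheafIdeal F r).support ↔
      Fitt.ideal (X.presheaf.stalk x) (F.presheaf.stalk x) r = ⊤ := by
  obtain ⟨_, ⟨U, hU, rfl⟩, hxU, -⟩ :=
    X.isBasis_affineOpens.exists_subset_of_mem_open (Set.mem_univ x) isOpen_univ
  exact notMem_support_iff_aux F hU ⟨x, hxU⟩ r

end Groth.Agent.Helper13.FittSheaf
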