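import Mathlib.AlgebraicGeometry.IdealSheaf.Functorial
import Mathlib.AlgebraicGeometry.IdealSheaf.Subscheme
import Mathlib.AlgebraicGeometry.Morphisms.Flat

set_option autoImplicit false
universe u
open CategoryTheory CategoryTheory.Limits AlgebraicGeometry TopologicalSpace

namespace Groth.Agent.Helper13.IdealComap

/-- kernel of `inl` into a pushout along a surjection -/
lemma ker_inl_of_isPushout {A B K C : CommRingCat.{u}} (φ : A ⟶ B) (π : A ⟶ K) (i : B ⟶ C) (j : K ⟶ C)
    (hP : IsPushout φ π i j) (hπ : Function.Surjective π.hom) :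
    RingHom.ker i.hom = (RingHom.ker π.hom).map φ.hom := by
  apply le_antisymm
  · -- build the cocone on the quotient
    let Q := CommRingCat.of (B ⧸ (RingHom.ker π.hom).map φ.hom)
    let q : B ⟶ Q := CommRingCat.ofHom (Ideal.Quotient.mk _)
    have hk : ∀ a : A, π.hom a = 0 → (q.hom.comp φ.hom) a = 0 := by
      intro a ha
      simp only [RingHom.comp_apply, q, CommRingCat.hom_ofHom]
      rw [Ideal.Quotient.eq_zero_iff_mem]
      exact Ideal.mem_map_of_mem _ ha
    let k : K ⟶ Q := CommRingCat.ofHom (RingHom.liftOfSurjective π.hom hπ ⟨q.hom.comp φ.hom, hk⟩)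
    have w : φ ≫ q = π ≫ k := by
      ext a
      simp only [CommRingCat.hom_comp, RingHom.comp_apply, k, CommRingCat.hom_ofHom]
      rw [RingHom.liftOfRightInverse_comp_apply]
      rfl
    let d := hP.desc q k w
    have hd : i ≫ d = q := hP.inl_desc q k w
    intro b hb
    rw [RingHom.mem_ker] at hb
    have h1 : q.hom b = 0 := by
      rw [← hd]
      simp only [CommRingCat.hom_comp, RingHom.comp_apply, hb, map_zero]
    simp only [q, CommRingCat.hom_ofHom] at h1
    rwa [Ideal.Quotient.eq_zero_iff_mem] at h1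
  · rw [Ideal.map_le_iff_le_comap]
    intro a ha
    rw [RingHom.mem_ker] at ha
    rw [Ideal.mem_comap, RingHom.mem_ker]
    have := congrArg (fun t => t.hom a) hP.w
    simp only [CommRingCat.hom_comp, RingHom.comp_apply] at this
    rw [this, ha, map_zero]


/-- the ideal of the inverse image ideal sheaf on an affine open lying over an affine open -/
theorem ideal_comap {X Y : Scheme.{u}} (f : X ⟶ Y) (I : Y.IdealSheafData) (V : Y.affineOpens)
    (U : X.affineOpens) (e : U.1 ≤ f ⁻¹ᵁ V.1) :
    (I.comap f).ideal U = (I.ideal V).map (f.appLE V.1 U.1 e).hom := by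
  let ι := I.subschemeι
  let fst := pullback.fst f ι
  let snd := pullback.snd f ι
  have H : IsPullback fst snd f ι := IsPullback.of_hasPullback f ι
  have hUT : IsAffineOpen (ι ⁻¹ᵁ V.1) := V.2.preimage ι
  have hUY : fst ⁻¹ᵁ U.1 = fst ⁻¹ᵁ U.1 ⊓ snd ⁻¹ᵁ (ι ⁻¹ᵁ V.1) := by
    symm
    apply inf_eq_left.2
    intro p hp
    change ι (snd p) ∈ V.1
    have h1 : ι (snd p) = f (fst p) := by
      have := congrArg (fun t : pullback f ι ⟶ Y => t p) H.w
      simp only [Scheme.Hom.comp_apply] at this
      exact this.symm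
    rw [h1]
    exact e hp
  have hiso := isIso_pushoutSection_of_isAffineOpen H (le_refl (ι ⁻¹ᵁ V.1)) e hUY V.2 hUT U.2
  have hpo := (isIso_pushoutSection_iff H (le_refl (ι ⁻¹ᵁ V.1)) e hUY).1 hiso
  have hker := ker_inl_of_isPushout _ _ _ _ hpo (by
    rw [← Scheme.Hom.app_eq_appLE]
    exact I.subschemeι_app_surjective V)
  rw [← Scheme.Hom.app_eq_appLE, ← Scheme.Hom.app_eq_appLE, I.ker_subschemeι_app V] at hker
  rw [← hker]
  change (Scheme.Hom.ker fst).ideal U = _
  rw [Scheme.Hom.ker_apply]

end Groth.Agent.Helper13.IdealComap
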