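import Mathlib

open CategoryTheory AlgebraicGeometry Limits Opposite TopologicalSpace TensorProduct

universe u

namespace Groth.Agent.Helper13.Pullback

variable {R S : CommRingCat.{u}} (φ : R ⟶ S)

/-- Global sections of a pushforward along `Spec.map φ` is restriction of scalars of global
sections. -/
noncomputable def pushforwardCompΓIso :
    Scheme.Modules.pushforward (Spec.map φ) ⋙ moduleSpecΓFunctor (R := R) ≅
      moduleSpecΓFunctor (R := S) ⋙ ModuleCat.restrictScalars φ.hom :=
  Functor.isoWhiskerRight (pushforwardCompModulesSpecToSheafIso φ)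
    (TopCat.Sheaf.forget _ _ ⋙ (evaluation _ _).obj (.op ⊤)) ≪≫
    NatIso.ofComponents (fun M => Iso.refl _) (by intros; rfl)

/-- The adjunction `tilde ⋙ pullback ⊣ pushforward ⋙ Γ`. -/
noncomputable def adjL :
    tilde.functor R ⋙ Scheme.Modules.pullback (Spec.map φ) ⊣
      Scheme.Modules.pushforward (Spec.map φ) ⋙ moduleSpecΓFunctor (R := R) :=
  (tilde.adjunction (R := R)).comp (Scheme.Modules.pullbackPushforwardAdjunction (Spec.map φ))

/-- The adjunction `extendScalars ⋙ tilde ⊣ Γ ⋙ restrictScalars`. -/
noncomputable def adjR :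
    ModuleCat.extendScalars.{u, u, u} φ.hom ⋙ tilde.functor S ⊣
      moduleSpecΓFunctor (R := S) ⋙ ModuleCat.restrictScalars φ.hom :=
  (ModuleCat.extendRestrictScalarsAdj.{u, u, u} φ.hom).comp (tilde.adjunction (R := S))

/-- Pullback of `M^~` along `Spec.map φ` is `(S ⊗[R] M)^~`, naturally in `M`. -/
noncomputable def tildePullbackIso :
    tilde.functor R ⋙ Scheme.Modules.pullback (Spec.map φ) ≅
      ModuleCat.extendScalars.{u, u, u} φ.hom ⋙ tilde.functor S :=
  (adjL φ).leftAdjointUniq ((adjR φ).ofNatIsoRight (pushforwardCompΓIso φ).symm)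

/-- Pullback of `M^~` along `Spec.map φ` is `(S ⊗[R] M)^~`. -/
noncomputable def pullbackTildeIso (M : ModuleCat.{u} R) :
    (Scheme.Modules.pullback (Spec.map φ)).obj (tilde M) ≅
      tilde ((ModuleCat.extendScalars.{u, u, u} φ.hom).obj M) :=
  (tildePullbackIso φ).app M


section Ext


open ChangeOfRings

variable (R S : Type u) [CommRing R] [CommRing S] [Algebra R S] (M : ModuleCat.{u} R)

set_option backward.isDefEq.respectTransparency false in
/-- the identity of `S` as a linear equivalence between two `R`-module structures. -/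
noncomputable def restrictSelfEquiv :
    ((ModuleCat.restrictScalars (algebraMap R S)).obj (ModuleCat.of S S)) ≃ₗ[R] S where
  toFun := fun x => x
  invFun := fun x => x
  map_add' := fun _ _ => rfl
  map_smul' := fun a x => by
    change algebraMap R S a * (show S from x) = a • (show S from x)
    rw [Algebra.smul_def]
  left_inv := fun _ => rfl
  right_inv := fun _ => rfl

set_option backward.isDefEq.respectTransparency false in
/-- `extendScalars` agrees with the usual base change. -/
noncomputable def extendScalarsEquiv :
    ((ModuleCat.extendScalars.{u, u, u} (algebraMap R S)).obj M) ≃ₗ[S] S ⊗[R] M := by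
  let e : (((ModuleCat.restrictScalars (algebraMap R S)).obj (ModuleCat.of S S)) ⊗[R] M) ≃ₗ[R]
      S ⊗[R] M := TensorProduct.congr (restrictSelfEquiv R S) (LinearEquiv.refl R M)
  exact
  { toFun := fun x => e x
    invFun := fun y => e.symm y
    map_add' := fun x y => e.map_add x y
    left_inv := fun x => e.symm_apply_apply x
    right_inv := fun y => e.apply_symm_apply y
    map_smul' := fun s x => by
      induction x using TensorProduct.induction_on with
      | zero => simp
      | tmul s' m =>
        let s'' : S := s'
        change e ((show ((ModuleCat.restrictScalars (algebraMap R S)).obj (ModuleCat.of S S)) from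
          (s * s'')) ⊗ₜ m) = s • e (s' ⊗ₜ m)
        simp only [e, TensorProduct.congr_tmul, LinearEquiv.refl_apply]
        change (s * s'') ⊗ₜ[R] m = s • (s'' ⊗ₜ[R] m)
        rw [TensorProduct.smul_tmul', smul_eq_mul]
      | add x y hx hy =>
        rw [smul_add, map_add, map_add, hx, hy, smul_add] }


end Ext

/-- Pullback of `M^~` along `Spec A → Spec A'` is `(A ⊗[A'] M)^~`, with the usual tensor product. -/
noncomputable def pullbackTildeIso' (A' A : Type u) [CommRing A'] [CommRing A] [Algebra A' A]
    (N' : Type u) [AddCommGroup N'] [Module A' N'] :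
    (Scheme.Modules.pullback (Spec.map (CommRingCat.ofHom (algebraMap A' A)))).obj
        (tilde (ModuleCat.of A' N')) ≅ tilde (ModuleCat.of A (A ⊗[A'] N')) :=
  pullbackTildeIso (CommRingCat.ofHom (algebraMap A' A)) (ModuleCat.of A' N') ≪≫
    (tilde.functor (CommRingCat.of A)).mapIso (extendScalarsEquiv A' A (ModuleCat.of A' N')).toModuleIso

end Groth.Agent.Helper13.Pullback
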