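import Mathlib
import Groth.Agent.Lib.Helper13.PullbackTilde
import Groth.Agent.Lib.Helper13.QCohLocal
import Groth.Agent.Lib.Helper13.QCohKer

open CategoryTheory AlgebraicGeometry Limits Opposite TopologicalSpace TensorProduct

universe u

namespace Groth.Agent.Helper13.Pullback

section General

variable {X Y X' Y' : Scheme.{u}} (f : X ⟶ Y) (a : X' ⟶ X) (b : Y' ⟶ Y)
  [IsOpenImmersion a] [IsOpenImmersion b] (f' : X' ⟶ Y') (h : a ≫ f = f' ≫ b)

/-- pullback commutes with restriction to opens. -/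
noncomputable def pullbackRestrictIso :
    Scheme.Modules.pullback f ⋙ Scheme.Modules.restrictFunctor a ≅
      Scheme.Modules.restrictFunctor b ⋙ Scheme.Modules.pullback f' :=
  Functor.isoWhiskerLeft _ (Scheme.Modules.restrictFunctorIsoPullback a) ≪≫
    Scheme.Modules.pullbackComp a f ≪≫ Scheme.Modules.pullbackCongr h ≪≫
    (Scheme.Modules.pullbackComp f' b).symm ≪≫
    Functor.isoWhiskerRight (Scheme.Modules.restrictFunctorIsoPullback b).symm _

end General

section Affine

variable {X Y : Scheme.{u}} (f : X ⟶ Y) {A B : CommRingCat.{u}} (a : Spec B ⟶ X) (b : Spec A ⟶ Y)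
  [IsOpenImmersion a] [IsOpenImmersion b] (φ : A ⟶ B) (h : a ≫ f = Spec.map φ ≫ b)

/-- Local description of the pullback of a quasi-coherent module. -/
noncomputable def pullbackRestrictTildeIso (G : Y.Modules) [IsIso (G.restrict b).fromTildeΓ] :
    ((Scheme.Modules.pullback f).obj G).restrict a ≅
      tilde ((ModuleCat.extendScalars.{u, u, u} φ.hom).obj
        (moduleSpecΓFunctor.obj (G.restrict b))) :=
  (pullbackRestrictIso f a b (Spec.map φ) h).app G ≪≫
    (Scheme.Modules.pullback (Spec.map φ)).mapIso (asIso (G.restrict b).fromTildeΓ).symm ≪≫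
    pullbackTildeIso φ _

end Affine

end Groth.Agent.Helper13.Pullback

namespace Groth.Agent.Helper13.Pullback

open Groth.Agent.Helper13.QCohLocal

variable {X Y : Scheme.{u}} (f : X ⟶ Y)

/-- The pullback of a quasi-coherent module is quasi-coherent. -/
instance isQuasicoherent_pullback (G : Y.Modules) [G.IsQuasicoherent] :
    ((Scheme.Modules.pullback f).obj G).IsQuasicoherent := by
  let ι := {p : X.affineOpens × Y.affineOpens // p.1.1 ≤ f ⁻¹ᵁ p.2.1}
  refine isQuasicoherent_of_affine_family _ (ι := ι) (fun i => Γ(X, i.1.1.1))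
    (fun i => i.1.1.2.fromSpec) (fun x => ?_) (fun i => ?_)
  · obtain ⟨_, ⟨V, hV, rfl⟩, hxV, -⟩ := Y.isBasis_affineOpens.exists_subset_of_mem_open
      (Set.mem_univ (f x)) isOpen_univ
    obtain ⟨_, ⟨U, hU, rfl⟩, hxU, hUV⟩ := X.isBasis_affineOpens.exists_subset_of_mem_open
      (show x ∈ ((f ⁻¹ᵁ V : X.Opens) : Set X) from hxV) (f ⁻¹ᵁ V).2
    refine ⟨⟨(⟨U, hU⟩, ⟨V, hV⟩), hUV⟩, ?_⟩
    rw [IsAffineOpen.opensRange_fromSpec]
    exact hxU
  · obtain ⟨⟨⟨U, hU⟩, ⟨V, hV⟩⟩, hUV⟩ := i
    have e := pullbackRestrictTildeIso f hU.fromSpec hV.fromSpec (f.appLE V U hUV)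
      (IsAffineOpen.SpecMap_appLE_fromSpec f hV hU hUV).symm G
    have : (((Scheme.Modules.pullback f).obj G).restrict hU.fromSpec).IsQuasicoherent :=
      isQuasicoherent_of_iso e.symm
    infer_instance

end Groth.Agent.Helper13.Pullback
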