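import Mathlib
import Groth.Agent.Lib.Helper13.PullbackTilde
import Groth.Agent.Lib.Helper13.QCoh
import Groth.Agent.Lib.Helper13.PullbackLocal

open CategoryTheory AlgebraicGeometry Limits Opposite TopologicalSpace TensorProduct

universe u

namespace Groth.Agent.Helper13.Pullback

open Groth.Agent.Helper13.QCoh

variable {X : Scheme.{u}}

lemma fromSpec_image_top {U : X.Opens} (hU : IsAffineOpen U) : hU.fromSpec ''ᵁ ⊤ = U := by
  rw [Scheme.Hom.image_top_eq_opensRange, hU.opensRange_fromSpec]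

/-- Sections over an affine open `U`, as a `Γ(X, U)`-module, are the global sections of the
restriction to `Spec Γ(X, U)`. -/
noncomputable def sectionsEquiv (F : X.Modules) {U : X.Opens} (hU : IsAffineOpen U) :
    Γ(F, U) ≃ₗ[Γ(X, U)] Γ(F.restrict hU.fromSpec, ⊤) where
  toFun t := F.presheaf.map (eqToHom (fromSpec_image_top hU)).op t
  invFun t := F.presheaf.map (eqToHom (fromSpec_image_top hU).symm).op t
  map_add' a b := map_add _ a b
  map_smul' r t := by
    dsimp only [RingHom.id_apply]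
    rw [smul_restrict]
    exact Scheme.Modules.map_smul F (eqToHom (fromSpec_image_top hU)) r t
  left_inv t := by
    change F.presheaf.map _ (F.presheaf.map _ t) = t
    rw [map_map_eq F _ _ (𝟙 _), map_id_apply' F]
  right_inv t := by
    change F.presheaf.map _ (F.presheaf.map _ _) = t
    rw [map_map_eq F _ _ (𝟙 _), map_id_apply' F]

end Groth.Agent.Helper13.Pullback

namespace Groth.Agent.Helper13.Pullback

open Groth.Agent.Helper13.QCoh

variable {X Y : Scheme.{u}} (f : X ⟶ Y)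

/-- an iso of modules on `Spec R` induces an `R`-linear equivalence on global sections. -/
noncomputable def ΓLinearEquivOfIso {R : CommRingCat.{u}} {M N : (Spec R).Modules} (e : M ≅ N) :
    Γ(M, ⊤) ≃ₗ[R] Γ(N, ⊤) :=
  (moduleSpecΓFunctor.mapIso e).toLinearEquiv

/-- Sections of the pullback of a quasi-coherent module over an affine open `U ≤ f⁻¹ V`, `V` affine:
`Γ(f^* G, U) ≃ Γ(X, U) ⊗[Γ(Y, V)] Γ(G, V)`. -/
noncomputable def sectionsPullbackEquiv (G : Y.Modules) [G.IsQuasicoherent] {U : X.Opens}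
    (hU : IsAffineOpen U) {V : Y.Opens} (hV : IsAffineOpen V) (e : U ≤ f ⁻¹ᵁ V) :
    letI := (f.appLE V U e).hom.toAlgebra
    Γ((Scheme.Modules.pullback f).obj G, U) ≃ₗ[Γ(X, U)] Γ(X, U) ⊗[Γ(Y, V)] Γ(G, V) := by
  letI := (f.appLE V U e).hom.toAlgebra
  let e1 := sectionsEquiv ((Scheme.Modules.pullback f).obj G) hU
  let e2 := ΓLinearEquivOfIso (pullbackRestrictTildeIso f hU.fromSpec hV.fromSpec (f.appLE V U e)
      (IsAffineOpen.SpecMap_appLE_fromSpec f hV hU e).symm G)
  let e3 := (tilde.isoTop ((ModuleCat.extendScalars.{u, u, u} (f.appLE V U e).hom).obj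
        (moduleSpecΓFunctor.obj (G.restrict hV.fromSpec)))).symm.toLinearEquiv
  let e4 := extendScalarsEquiv Γ(Y, V) Γ(X, U) (moduleSpecΓFunctor.obj (G.restrict hV.fromSpec))
  let e5 : Γ(X, U) ⊗[Γ(Y, V)] Γ(G.restrict hV.fromSpec, ⊤) ≃ₗ[Γ(X, U)] Γ(X, U) ⊗[Γ(Y, V)] Γ(G, V) :=
    TensorProduct.AlgebraTensorModule.congr (LinearEquiv.refl Γ(X, U) Γ(X, U))
      (sectionsEquiv G hV).symm
  exact e1.trans (e2.trans (e3.trans (e4.trans e5)))

end Groth.Agent.Helper13.Pullback
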