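import Mathlib
import Groth.Agent.Lib.Helper13.FittSheaf
import Groth.Agent.Lib.Helper13.PullbackSections
import Groth.Agent.Lib.Helper13.IdealComap

set_option autoImplicit false
universe u
open CategoryTheory CategoryTheory.Limits AlgebraicGeometry Opposite TopologicalSpace TensorProduct
open Groth.Agent.Helper13.QCoh Groth.Agent.Helper13.FinType Groth.Agent.Helper13.QCohLoc
open Groth.Agent.Lib.Helper10.Fitting Groth.Agent.Helper13.Pullback

namespace Groth.Agent.Helper13.FittSheaf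

variable {X Y : Scheme.{u}} (f : X ⟶ Y) (G : Y.Modules) [G.IsQuasicoherent]
  [SheafOfModules.IsFiniteType (R := Y.ringCatSheaf) G]

/-- the pullback of a quasi-coherent module of finite type is of finite type. -/
instance isFiniteType_pullback :
    SheafOfModules.IsFiniteType (R := X.ringCatSheaf) ((Scheme.Modules.pullback f).obj G) := by
  apply isFiniteType_of_finite_sections
  intro x
  obtain ⟨_, ⟨V, hV, rfl⟩, hxV, -⟩ := Y.isBasis_affineOpens.exists_subset_of_mem_open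
    (Set.mem_univ (f x)) isOpen_univ
  obtain ⟨_, ⟨U, hU, rfl⟩, hxU, hUV⟩ := X.isBasis_affineOpens.exists_subset_of_mem_open
    (show x ∈ ((f ⁻¹ᵁ V : X.Opens) : Set X) from hxV) (f ⁻¹ᵁ V).2
  refine ⟨U, hxU, hU, ?_⟩
  letI := (f.appLE V U hUV).hom.toAlgebra
  haveI : Module.Finite Γ(Y, V) Γ(G, V) := finite_sections_of_isFiniteType G hV
  exact Module.Finite.equiv (sectionsPullbackEquiv f G hU hV hUV).symm

/-- Fitting ideals of the sections of a pullback. -/
theorem fitt_pullback {U : X.Opens} (hU : IsAffineOpen U) {V : Y.Opens} (hV : IsAffineOpen V)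
    (e : U ≤ f ⁻¹ᵁ V) (i : ℕ) :
    Fitt.ideal Γ(X, U) Γ((Scheme.Modules.pullback f).obj G, U) i =
      (Fitt.ideal Γ(Y, V) Γ(G, V) i).map (f.appLE V U e).hom := by
  letI := (f.appLE V U e).hom.toAlgebra
  haveI : Module.Finite Γ(Y, V) Γ(G, V) := finite_sections_of_isFiniteType G hV
  rw [fitt_congr (sectionsPullbackEquiv f G hU hV e) i, fitt_baseChange]
  rfl

theorem sheafIdeal_comap (i : ℕ) :
    (Fitt.sheafIdeal G i).comap f = Fitt.sheafIdeal ((Scheme.Modules.pullback f).obj G) i := by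
  have key : ∀ x : X, ∃ (U : X.affineOpens), x ∈ U.1 ∧ ∃ V : Y.affineOpens, U.1 ≤ f ⁻¹ᵁ V.1 := by
    intro x
    obtain ⟨_, ⟨V, hV, rfl⟩, hxV, -⟩ := Y.isBasis_affineOpens.exists_subset_of_mem_open
      (Set.mem_univ (f x)) isOpen_univ
    obtain ⟨_, ⟨U, hU, rfl⟩, hxU, hUV⟩ := X.isBasis_affineOpens.exists_subset_of_mem_open
      (show x ∈ ((f ⁻¹ᵁ V : X.Opens) : Set X) from hxV) (f ⁻¹ᵁ V).2
    exact ⟨⟨U, hU⟩, hxU, ⟨V, hV⟩, hUV⟩
  choose U hxU V hUV using key
  have hcov : ⨆ x : X, (U x).1 = ⊤ := by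
    rw [eq_top_iff]
    intro x _
    exact Opens.mem_iSup.2 ⟨x, hxU x⟩
  refine Scheme.IdealSheafData.ext_of_iSup_eq_top U hcov (fun x => ?_)
  rw [Groth.Agent.Helper13.IdealComap.ideal_comap f _ (V x) (U x) (hUV x), sheafIdeal_ideal,
    sheafIdeal_ideal, fitt_pullback f G (U x).2 (V x).2 (hUV x) i]

end Groth.Agent.Helper13.FittSheaf
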