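import Mathlib
import Groth.Prelude.Def_Coh

set_option autoImplicit false
universe u
open CategoryTheory CategoryTheory.Limits AlgebraicGeometry Opposite TopologicalSpace

namespace Groth.Agent.Helper13.PbUnit

variable {X Y : Scheme.{u}} (f : X ⟶ Y)

instance final_opensMap : (Opens.map f.base).Final :=
  Functor.final_of_exists_of_isFiltered _ (fun _ => ⟨⊤, ⟨homOfLE le_top⟩⟩)
    (fun _ _ => ⟨_, 𝟙 _, Subsingleton.elim _ _⟩)

instance isRightAdjoint_pushforward :
    (SheafOfModules.pushforward.{u} f.toRingCatSheafHom).IsRightAdjoint :=
  inferInstanceAs ((Scheme.Modules.pushforward f).IsRightAdjoint)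

/-- the canonical map from the pullback of the structure sheaf to the structure sheaf. -/
noncomputable def pullbackUnitHom :
    (Scheme.Modules.pullback f).obj (Coh.structureModule Y) ⟶ Coh.structureModule X :=
  SheafOfModules.pullbackObjUnitToUnit f.toRingCatSheafHom

instance : IsIso (pullbackUnitHom f) :=
  @SheafOfModules.instIsIsoPullbackObjUnitToUnitOfFinal _ _ _ _ _ _ _ _ _ _ f.toRingCatSheafHom _ _

/-- the pullback of the structure sheaf is the structure sheaf. -/
noncomputable def pullbackUnitIso :
    (Scheme.Modules.pullback f).obj (Coh.structureModule Y) ≅ Coh.structureModule X :=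
  asIso (pullbackUnitHom f)

end Groth.Agent.Helper13.PbUnit
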