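import Mathlib

open TensorProduct

universe u

namespace Groth.Agent.Helper13.Pullback

/-- Nakayama: for a local homomorphism `A → B` of local rings and a finite `A`-module `M`,
`B ⊗[A] M = 0` implies `M = 0`. -/
theorem subsingleton_of_subsingleton_tensorProduct_of_isLocalHom
    {A B : Type u} [CommRing A] [CommRing B] [IsLocalRing A] [IsLocalRing B] [Algebra A B]
    [IsLocalHom (algebraMap A B)] {M : Type u} [AddCommGroup M] [Module A M] [Module.Finite A M]
    (h : Subsingleton (B ⊗[A] M)) : Subsingleton M := by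
  rw [← IsLocalRing.subsingleton_tensorProduct (R := A)]
  let k := IsLocalRing.ResidueField A
  let l := IsLocalRing.ResidueField B
  have e1 : l ⊗[B] (B ⊗[A] M) ≃ₗ[l] l ⊗[A] M :=
    TensorProduct.AlgebraTensorModule.cancelBaseChange A B l l M
  have e2 : l ⊗[k] (k ⊗[A] M) ≃ₗ[l] l ⊗[A] M :=
    TensorProduct.AlgebraTensorModule.cancelBaseChange A k l l M
  have h1 : Subsingleton (l ⊗[B] (B ⊗[A] M)) := inferInstance
  have h2 : Subsingleton (l ⊗[A] M) := e1.symm.toEquiv.subsingleton
  have h3 : Subsingleton (l ⊗[k] (k ⊗[A] M)) := e2.toEquiv.subsingleton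
  exact (Module.FaithfullyFlat.subsingleton_tensorProduct_iff_right k l).1 h3

end Groth.Agent.Helper13.Pullback
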