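import Mathlib

open TensorProduct

universe u

namespace Groth.Agent.Helper13.Pullback

section Alg

variable {A B Aq Bp : Type u} [CommRing A] [CommRing B] [CommRing Aq] [CommRing Bp]
  [Algebra A B] [Algebra A Aq] [Algebra B Bp] [Algebra Aq Bp] [Algebra A Bp]
  [IsScalarTower A B Bp] [IsScalarTower A Aq Bp]
  (S : Submonoid A) (T : Submonoid B) [IsLocalization S Aq] [IsLocalization T Bp]
  {M Mq N Np : Type u} [AddCommGroup M] [Module A M] [AddCommGroup Mq] [Module A Mq]
  [Module Aq Mq] [IsScalarTower A Aq Mq]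
  [AddCommGroup N] [Module B N] [AddCommGroup Np] [Module B Np] [Module Bp Np]
  [IsScalarTower B Bp Np]
  (g : M →ₗ[A] Mq) [IsLocalizedModule S g] (h : N →ₗ[B] Np) [IsLocalizedModule T h]

/-- Localization of a base change is the base change of the localization along the map of
localized rings. -/
noncomputable def localizedBaseChangeEquiv (e : N ≃ₗ[B] B ⊗[A] M) : Np ≃ₗ[Bp] Bp ⊗[Aq] Mq :=
  (IsLocalizedModule.isBaseChange T Bp h).equiv.symm ≪≫ₗ
    TensorProduct.AlgebraTensorModule.congr (LinearEquiv.refl Bp Bp) e ≪≫ₗ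
    TensorProduct.AlgebraTensorModule.cancelBaseChange A B Bp Bp M ≪≫ₗ
    (TensorProduct.AlgebraTensorModule.cancelBaseChange A Aq Bp Bp M).symm ≪≫ₗ
    TensorProduct.AlgebraTensorModule.congr (LinearEquiv.refl Bp Bp)
      (IsLocalizedModule.isBaseChange S Aq g).equiv

end Alg

end Groth.Agent.Helper13.Pullback
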