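import Mathlib
import Groth.Agent.Lib.Helper13.PullbackSections
import Groth.Agent.Lib.Helper13.LocBaseChange
import Groth.Agent.Lib.Helper13.QCohLoc

open CategoryTheory AlgebraicGeometry Limits Opposite TopologicalSpace TensorProduct

universe u

namespace Groth.Agent.Helper13.Pullback

open Groth.Agent.Helper13.QCoh Groth.Agent.Helper13.QCohLoc

variable {X Y : Scheme.{u}} (f : X ⟶ Y)

/-- The stalk of the pullback of a quasi-coherent module:
`(f^* G)_x ≃ O_{X,x} ⊗[O_{Y,f x}] G_{f x}`. -/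
theorem exists_stalk_pullback_equiv (G : Y.Modules) [G.IsQuasicoherent] (x : X) :
    letI := (f.stalkMap x).hom.toAlgebra
    Nonempty (((Scheme.Modules.pullback f).obj G).presheaf.stalk x ≃ₗ[X.presheaf.stalk x]
      (X.presheaf.stalk x) ⊗[Y.presheaf.stalk (f x)] (G.presheaf.stalk (f x))) := by
  letI := (f.stalkMap x).hom.toAlgebra
  obtain ⟨_, ⟨V, hV, rfl⟩, hxV, -⟩ := Y.isBasis_affineOpens.exists_subset_of_mem_open
    (Set.mem_univ (f x)) isOpen_univ
  obtain ⟨_, ⟨U, hU, rfl⟩, hxU, hUV⟩ := X.isBasis_affineOpens.exists_subset_of_mem_open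
    (show x ∈ ((f ⁻¹ᵁ V : X.Opens) : Set X) from hxV) (f ⁻¹ᵁ V).2
  letI algBBp : Algebra Γ(X, U) (X.presheaf.stalk x) :=
    X.presheaf.algebra_section_stalk ⟨x, hxU⟩
  letI algAAq : Algebra Γ(Y, V) (Y.presheaf.stalk (f x)) :=
    Y.presheaf.algebra_section_stalk ⟨f x, hxV⟩
  letI algAB : Algebra Γ(Y, V) Γ(X, U) := (f.appLE V U hUV).hom.toAlgebra
  letI algABp : Algebra Γ(Y, V) (X.presheaf.stalk x) :=
    ((algebraMap Γ(X, U) (X.presheaf.stalk x)).comp (algebraMap Γ(Y, V) Γ(X, U))).toAlgebra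
  haveI : IsScalarTower Γ(Y, V) Γ(X, U) (X.presheaf.stalk x) :=
    IsScalarTower.of_algebraMap_eq (fun _ => rfl)
  haveI : IsScalarTower Γ(Y, V) (Y.presheaf.stalk (f x)) (X.presheaf.stalk x) := by
    refine IsScalarTower.of_algebraMap_eq (fun r => ?_)
    change X.presheaf.germ U x hxU (f.appLE V U hUV r) =
      f.stalkMap x (Y.presheaf.germ V (f x) hxV r)
    rw [Scheme.Hom.germ_stalkMap_apply, Scheme.Hom.appLE, CommRingCat.comp_apply,
      TopCat.Presheaf.germ_res_apply]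
  -- modules
  letI modM : Module Γ(Y, V) (G.presheaf.stalk (f x)) := modStalk G (⟨f x, hxV⟩ : V)
  haveI : IsScalarTower Γ(Y, V) (Y.presheaf.stalk (f x)) (G.presheaf.stalk (f x)) :=
    isScalarTower_stalk G (⟨f x, hxV⟩ : V)
  letI modN : Module Γ(X, U) (((Scheme.Modules.pullback f).obj G).presheaf.stalk x) :=
    modStalk ((Scheme.Modules.pullback f).obj G) (⟨x, hxU⟩ : U)
  haveI : IsScalarTower Γ(X, U) (X.presheaf.stalk x)
      (((Scheme.Modules.pullback f).obj G).presheaf.stalk x) :=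
    isScalarTower_stalk ((Scheme.Modules.pullback f).obj G) (⟨x, hxU⟩ : U)
  haveI h1 := isLocalizedModule_germ G hV (⟨f x, hxV⟩ : V)
  haveI h2 := isLocalizedModule_germ ((Scheme.Modules.pullback f).obj G) hU (⟨x, hxU⟩ : U)
  haveI h3 : IsLocalization.AtPrime (Y.presheaf.stalk (f x))
      (hV.primeIdealOf (⟨f x, hxV⟩ : V)).asIdeal := hV.isLocalization_stalk ⟨f x, hxV⟩
  haveI h4 : IsLocalization.AtPrime (X.presheaf.stalk x)
      (hU.primeIdealOf (⟨x, hxU⟩ : U)).asIdeal := hU.isLocalization_stalk ⟨x, hxU⟩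
  exact ⟨localizedBaseChangeEquiv (hV.primeIdealOf (⟨f x, hxV⟩ : V)).asIdeal.primeCompl
    (hU.primeIdealOf (⟨x, hxU⟩ : U)).asIdeal.primeCompl
    (germLin G (⟨f x, hxV⟩ : V)) (germLin ((Scheme.Modules.pullback f).obj G) (⟨x, hxU⟩ : U))
    (sectionsPullbackEquiv f G hU hV hUV)⟩

end Groth.Agent.Helper13.Pullback
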