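import Mathlib
import Groth.Prelude.Def_CohB1
import Groth.Agent.Lib.Helper13.PullbackStalk
import Groth.Agent.Lib.Helper13.LocalTensor
import Groth.Agent.Lib.Helper13.LocFree2
import Groth.Agent.Lib.Helper13.FinTypeEpi
import Groth.Agent.Lib.Helper13.QCohKer

open CategoryTheory AlgebraicGeometry Limits Opposite TopologicalSpace TensorProduct

universe u

namespace Groth.Agent.Helper13.Pullback

open Groth.Agent.Helper13.FinType

variable {X Y : Scheme.{u}}

/-- a module is zero iff its support is empty. -/
theorem isZero_iff_support_eq_empty (Q : X.Modules) : IsZero Q ↔ CohB1.support Q = ∅ := by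
  constructor
  · intro hQ
    rw [Set.eq_empty_iff_forall_notMem]
    intro x hx
    apply hx
    refine ⟨fun a b => ?_⟩
    have key : ∀ t : Q.presheaf.stalk x, t = 0 := by
      intro t
      obtain ⟨U, hxU, s, rfl⟩ := TopCat.Presheaf.exists_germ_eq Q.presheaf t
      have h0 : (𝟙 Q : Q ⟶ Q) = 0 := hQ.eq_of_src _ _
      have h1 : s = 0 := by
        have := congrArg (fun φ : Q ⟶ Q => φ.app U s) h0
        simpa using this
      rw [h1, map_zero]
    rw [key a, key b]
  · intro h
    rw [IsZero.iff_id_eq_zero]
    apply hom_ext_stalk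
    intro x m
    have hx : Subsingleton (Q.presheaf.stalk x) := by
      by_contra hne
      have : x ∈ CohB1.support Q := hne
      rw [h] at this
      exact this
    exact Subsingleton.elim _ _

/-- support of the pullback of a quasi-coherent module of finite type. -/
theorem support_pullback (f : Y ⟶ X) (F : X.Modules) [F.IsQuasicoherent]
    [SheafOfModules.IsFiniteType (R := X.ringCatSheaf) F] :
    CohB1.support ((Scheme.Modules.pullback f).obj F) = f.base ⁻¹' CohB1.support F := by
  ext x
  simp only [CohB1.support, Set.mem_ofPred_eq, Set.mem_preimage]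
  rw [not_iff_not]
  letI := (f.stalkMap x).hom.toAlgebra
  obtain ⟨e⟩ := exists_stalk_pullback_equiv f F x
  haveI : Module.Finite (X.presheaf.stalk (f x)) (F.presheaf.stalk (f x)) :=
    Groth.Agent.Helper13.LocFree.finite_stalk_of_isFiniteType F (f x)
  haveI : IsLocalHom (algebraMap (X.presheaf.stalk (f x)) (Y.presheaf.stalk x)) := by
    change IsLocalHom (f.stalkMap x).hom
    infer_instance
  constructor
  · intro h
    have h' : Subsingleton (TensorProduct (X.presheaf.stalk (f x)) (Y.presheaf.stalk x)
        (F.presheaf.stalk (f x))) := e.symm.toEquiv.subsingleton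
    exact subsingleton_of_subsingleton_tensorProduct_of_isLocalHom h'
  · intro h
    exact e.toEquiv.subsingleton

/-- the pullback of a map to a quasi-coherent module of finite type is an epimorphism iff the
range of `f` misses the support of the cokernel. -/
theorem epi_pullback_map_iff (f : Y ⟶ X) {F G : X.Modules} [F.IsQuasicoherent] [G.IsQuasicoherent]
    [SheafOfModules.IsFiniteType (R := X.ringCatSheaf) G] (u : F ⟶ G) :
    Epi ((Scheme.Modules.pullback f).map u) ↔
      Disjoint (Set.range f.base) (CohB1.support (cokernel u)) := by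
  haveI hqc : SheafOfModules.IsQuasicoherent (R := X.ringCatSheaf) (cokernel u : X.Modules) :=
    Groth.Agent.Helper13.QCohLocal.isQuasicoherent_cokernel u
  haveI hepi : Epi (cokernel.π u) := coequalizer.π_epi
  haveI hft : SheafOfModules.IsFiniteType (R := X.ringCatSheaf) (cokernel u : X.Modules) :=
    @isFiniteType_of_epi _ _ _ (cokernel.π u) hepi _
  have hsupp := support_pullback f (cokernel u)
  rw [Preadditive.epi_iff_isZero_cokernel,
    (PreservesCokernel.iso (Scheme.Modules.pullback f) u).symm.isZero_iff,
    isZero_iff_support_eq_empty, hsupp, Set.disjoint_iff_inter_eq_empty,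
    Set.eq_empty_iff_forall_notMem, Set.eq_empty_iff_forall_notMem]
  constructor
  · rintro h _ ⟨⟨y, rfl⟩, hy⟩
    exact h y hy
  · intro h y hy
    exact h (f y) ⟨⟨y, rfl⟩, hy⟩

end Groth.Agent.Helper13.Pullback
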