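import Mathlib
import Groth.Agent.Lib.Helper13.InvGen
import Groth.Agent.Lib.Helper13.LocFree

set_option autoImplicit false
universe u
open CategoryTheory CategoryTheory.Limits AlgebraicGeometry Opposite TopologicalSpace
open Groth.Agent.Helper13.QCoh Groth.Agent.Helper13.FinType Groth.Agent.Helper13.LocFree

namespace Groth.Agent.Helper13.StalkBasis

variable {X : Scheme.{u}}

/-- finitely many germs of a module have representatives over a common neighbourhood. -/
lemma exists_common_germ (M : X.Modules) (y : X) {n : ℕ} (m : Fin n → M.presheaf.stalk y) :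
    ∃ (V : X.Opens) (hy : y ∈ V) (t : Fin n → Γ(M, V)),
      ∀ i, M.presheaf.germ V y hy (t i) = m i := by
  induction n with
  | zero => exact ⟨⊤, trivial, fun i => i.elim0, fun i => i.elim0⟩
  | succ k ih =>
    obtain ⟨V, hy, t, ht⟩ := ih (fun i => m i.succ)
    obtain ⟨W, hyW, t₀, ht₀⟩ := TopCat.Presheaf.exists_germ_eq M.presheaf (m 0)
    refine ⟨W ⊓ V, ⟨hyW, hy⟩, Fin.cons (M.presheaf.map (homOfLE inf_le_left).op t₀)
      (fun i => M.presheaf.map (homOfLE inf_le_right).op (t i)), ?_⟩
    intro i
    refine Fin.cases ?_ ?_ i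
    · rw [Fin.cons_zero, TopCat.Presheaf.germ_res_apply]
      exact ht₀
    · intro j
      rw [Fin.cons_succ, TopCat.Presheaf.germ_res_apply]
      exact ht j

/-- finitely many germs of functions have representatives over a common neighbourhood. -/
lemma exists_common_germ_ring (y : X) {n : ℕ} (m : Fin n → X.presheaf.stalk y) :
    ∃ (V : X.Opens) (hy : y ∈ V) (t : Fin n → Γ(X, V)),
      ∀ i, X.presheaf.germ V y hy (t i) = m i := by
  induction n with
  | zero => exact ⟨⊤, trivial, fun i => i.elim0, fun i => i.elim0⟩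
  | succ k ih =>
    obtain ⟨V, hy, t, ht⟩ := ih (fun i => m i.succ)
    obtain ⟨W, hyW, t₀, ht₀⟩ := TopCat.Presheaf.exists_germ_eq X.presheaf (m 0)
    refine ⟨W ⊓ V, ⟨hyW, hy⟩, Fin.cons (X.presheaf.map (homOfLE inf_le_left).op t₀)
      (fun i => X.presheaf.map (homOfLE inf_le_right).op (t i)), ?_⟩
    intro i
    refine Fin.cases ?_ ?_ i
    · rw [Fin.cons_zero, TopCat.Presheaf.germ_res_apply]
      exact ht₀
    · intro j
      rw [Fin.cons_succ, TopCat.Presheaf.germ_res_apply]
      exact ht j

variable {n : ℕ}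

/-- the linear combination map `O_y^n → M_y` attached to `n` sections. -/
noncomputable def comb (M : X.Modules) {U : X.Opens} (s : Fin n → Γ(M, U)) (y : X) (hy : y ∈ U)
    (c : Fin n → X.presheaf.stalk y) : M.presheaf.stalk y :=
  ∑ i, c i • M.presheaf.germ U y hy (s i)

/-- the germs of the `s i` at `y` form a basis of the stalk. -/
def IsBasisAt (M : X.Modules) {U : X.Opens} (s : Fin n → Γ(M, U)) (y : X) (hy : y ∈ U) : Prop :=
  Function.Bijective (comb M s y hy)

lemma comb_res (M : X.Modules) {U V : X.Opens} (i : V ⟶ U) (s : Fin n → Γ(M, U)) (y : X)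
    (hy : y ∈ V) :
    comb M (fun j => M.presheaf.map i.op (s j)) y hy = comb M s y (i.le hy) := by
  funext c
  unfold comb
  refine Finset.sum_congr rfl (fun j _ => ?_)
  rw [TopCat.Presheaf.germ_res_apply]

lemma isBasisAt_res (M : X.Modules) {U V : X.Opens} (i : V ⟶ U) (s : Fin n → Γ(M, U)) (y : X)
    (hy : y ∈ V) :
    IsBasisAt M (fun j => M.presheaf.map i.op (s j)) y hy ↔ IsBasisAt M s y (i.le hy) := by
  unfold IsBasisAt
  rw [comb_res]

lemma comb_add (M : X.Modules) {U : X.Opens} (s : Fin n → Γ(M, U)) (y : X) (hy : y ∈ U)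
    (c d : Fin n → X.presheaf.stalk y) : comb M s y hy (c + d) = comb M s y hy c + comb M s y hy d := by
  unfold comb
  rw [← Finset.sum_add_distrib]
  refine Finset.sum_congr rfl (fun j _ => ?_)
  rw [Pi.add_apply, add_smul]

lemma comb_zero (M : X.Modules) {U : X.Opens} (s : Fin n → Γ(M, U)) (y : X) (hy : y ∈ U) :
    comb M s y hy 0 = 0 := by
  unfold comb
  simp

/-- germ of a section of `O^n` with all coordinates vanishing near `y`. -/
lemma germ_secOfCoord_eq_zero {V : X.Opens} (y : X) (hy : y ∈ V) (c : Fin n → Γ(X, V))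
    (h : ∀ i, X.presheaf.germ V y hy (c i) = 0) :
    (FlatMod.freeMod X n).presheaf.germ V y hy (secOfCoord n V c) = 0 := by
  unfold secOfCoord
  rw [map_sum]
  refine Finset.sum_eq_zero (fun i _ => ?_)
  rw [← stalkMap_germ]
  have : (Coh.structureModule X).presheaf.germ V y hy (toO V (c i)) = 0 := by
    apply (Groth.Agent.Helper13.WeakAss.unitStalkEquiv y).injective
    rw [Groth.Agent.Helper13.WeakAss.unitStalkEquiv_germ, map_zero]
    exact h i
  rw [this, map_zero]

lemma stalkMap_descSec_germ (M : X.Modules) (s : Fin n → Γ(M, ⊤)) {V : X.Opens} (y : X)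
    (hy : y ∈ V) (c : Fin n → Γ(X, V)) :
    stalkMap (descSec M s) y ((FlatMod.freeMod X n).presheaf.germ V y hy (secOfCoord n V c)) =
      comb M s y trivial (fun i => X.presheaf.germ V y hy (c i)) := by
  rw [stalkMap_germ, descSec_app_secOfCoord, map_sum]
  unfold comb
  refine Finset.sum_congr rfl (fun i _ => ?_)
  rw [germ_smul, TopCat.Presheaf.germ_res_apply]

/-- **Tool B**: `n` global sections whose germs form a basis of every stalk trivialise the
module. -/
theorem isIso_descSec_of_isBasisAt (M : X.Modules) (s : Fin n → Γ(M, ⊤))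
    (h : ∀ y, IsBasisAt M s y trivial) : IsIso (descSec M s) := by
  apply isIso_of_stalk_bijective
  intro y
  constructor
  · rw [injective_iff_map_eq_zero]
    intro a ha
    obtain ⟨V, hyV, t, rfl⟩ := TopCat.Presheaf.exists_germ_eq (FlatMod.freeMod X n).presheaf a
    obtain ⟨c, rfl⟩ := (secEquiv n V).surjective t
    change stalkMap (descSec M s) y ((FlatMod.freeMod X n).presheaf.germ V y hyV
      (secOfCoord n V c)) = 0 at ha
    rw [stalkMap_descSec_germ, ← comb_zero M s y trivial] at ha
    have h0 := (h y).1 ha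
    apply germ_secOfCoord_eq_zero
    intro i
    exact congrFun h0 i
  · intro m
    obtain ⟨c, rfl⟩ := (h y).2 m
    obtain ⟨V, hyV, γ, hγ⟩ := exists_common_germ_ring y c
    refine ⟨(FlatMod.freeMod X n).presheaf.germ V y hyV (secOfCoord n V γ), ?_⟩
    rw [stalkMap_descSec_germ]
    congr 1
    funext i
    exact hγ i

end Groth.Agent.Helper13.StalkBasis
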