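import Mathlib
import Groth.Agent.Lib.Helper13.StalkBasis
import Groth.Agent.Lib.Helper13.FinAffine2

set_option autoImplicit false
universe u
open CategoryTheory CategoryTheory.Limits AlgebraicGeometry Opposite TopologicalSpace
open Groth.Agent.Helper13.QCoh Groth.Agent.Helper13.FinType Groth.Agent.Helper13.LocFree
open Groth.Agent.Helper13.Inv

namespace Groth.Agent.Helper13.StalkBasis

section Transfer

variable {X Y : Scheme.{u}} (f : X ⟶ Y) [IsOpenImmersion f] (M : Y.Modules) {n : ℕ}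

lemma comb_restrict {U : X.Opens} (s : Fin n → Γ(M, f ''ᵁ U)) (x : X) (hx : x ∈ U)
    (c : Fin n → Y.presheaf.stalk (f x)) :
    τ f M x (comb (M.restrict f) (fun i => toRes f M (s i)) x hx (fun i => f.stalkMap x (c i))) =
      comb M s (f x) ⟨x, hx, rfl⟩ c := by
  unfold comb
  rw [map_sum]
  refine Finset.sum_congr rfl (fun i _ => ?_)
  rw [τ_smul, τ_germ]
  rfl

lemma isBasisAt_restrict_iff {U : X.Opens} (s : Fin n → Γ(M, f ''ᵁ U)) (x : X) (hx : x ∈ U) :
    IsBasisAt (M.restrict f) (fun i => toRes f M (s i)) x hx ↔ IsBasisAt M s (f x) ⟨x, hx, rfl⟩ := by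
  have hσ : Function.Bijective (f.stalkMap x) :=
    (ConcreteCategory.isIso_iff_bijective _).1 inferInstance
  let e : Y.presheaf.stalk (f x) ≃ X.presheaf.stalk x := Equiv.ofBijective _ hσ
  let E : (Fin n → Y.presheaf.stalk (f x)) ≃ (Fin n → X.presheaf.stalk x) :=
    Equiv.piCongrRight (fun _ => e)
  have key : comb M s (f x) ⟨x, hx, rfl⟩ =
      (τ f M x) ∘ (comb (M.restrict f) (fun i => toRes f M (s i)) x hx) ∘ E := by
    funext c
    exact (comb_restrict f M s x hx c).symm
  unfold IsBasisAt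
  rw [key]
  constructor
  · intro h
    exact (τ f M x).bijective.comp (h.comp E.bijective)
  · intro h
    have h1 := (τ f M x).symm.bijective.comp h
    have h2 : (⇑(τ f M x).symm ∘ ⇑(τ f M x) ∘
        (comb (M.restrict f) (fun i => toRes f M (s i)) x hx) ∘ E) =
        (comb (M.restrict f) (fun i => toRes f M (s i)) x hx) ∘ E := by
      funext r
      simp
    rw [h2] at h1
    exact (Function.Bijective.of_comp_iff _ E.bijective).1 h1

end Transfer

variable {X : Scheme.{u}} {n : ℕ}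

/-- **Tool B, local form**: `n` sections over `U` whose germs form a basis of every stalk over `U`
trivialise the module over `U`. -/
theorem nonempty_restrict_iso_freeMod (M : X.Modules) {U : X.Opens} (s : Fin n → Γ(M, U))
    (h : ∀ (y : X) (hy : y ∈ U), IsBasisAt M s y hy) :
    Nonempty (M.restrict U.ι ≅ FlatMod.freeMod (↑U) n) := by
  let s₀ : Fin n → Γ(M, U.ι ''ᵁ ⊤) := fun i => M.presheaf.map (eqToHom (ι_image_top U)).op (s i)
  have hgen : ∀ y : (U : Scheme.{u}),
      IsBasisAt (M.restrict U.ι) (fun i => toRes U.ι M (s₀ i)) y trivial := by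
    intro y
    rw [isBasisAt_restrict_iff U.ι M (U := ⊤) s₀ y trivial, isBasisAt_res]
    exact h _ _
  haveI := isIso_descSec_of_isBasisAt (M.restrict U.ι) (fun i => toRes U.ι M (s₀ i)) hgen
  exact ⟨(asIso (descSec (M.restrict U.ι) (fun i => toRes U.ι M (s₀ i)))).symm⟩

/-- finitely many open neighbourhoods have a common open refinement. -/
lemma exists_common_open {I : Type*} [Finite I] (y : X) (W : I → X.Opens) (hW : ∀ j, y ∈ W j) :
    ∃ V : X.Opens, y ∈ V ∧ ∀ j, V ≤ W j := by
  refine ⟨⟨⋂ j, (W j : Set X), isOpen_iInter_of_finite (fun j => (W j).2)⟩, ?_, ?_⟩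
  · exact Set.mem_iInter.2 hW
  · intro j z hz
    exact Set.mem_iInter.1 hz j

/-- **openness of generation**: if the germs at `y` of finitely many sections of a module of
finite type span the stalk, they span all stalks near `y`. -/
theorem exists_genOn_nhd (M : X.Modules) [SheafOfModules.IsFiniteType (R := X.ringCatSheaf) M]
    {U : X.Opens} (s : Fin n → Γ(M, U)) (y : X) (hy : y ∈ U)
    (hspan : Submodule.span (X.presheaf.stalk y)
      (Set.range fun i => M.presheaf.germ U y hy (s i)) = ⊤) :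
    ∃ (V : X.Opens) (hVU : V ≤ U), y ∈ V ∧ GenOn M V (resFam M s hVU) := by
  obtain ⟨U', hyU', I, hfin, σ, hσ⟩ := exists_genOn_of_isFiniteType M y
  -- each σ_j is, near y, a combination of the s_i
  have key : ∀ j : I, ∃ (W : X.Opens), y ∈ W ∧ ∃ (hWU : W ≤ U) (hWU' : W ≤ U'),
      M.presheaf.map (homOfLE hWU').op (σ j) ∈
        Submodule.span Γ(X, W) (Set.range (resFam M s hWU)) := by
    intro j
    have hmem : M.presheaf.germ U' y hyU' (σ j) ∈ Submodule.span (X.presheaf.stalk y)
        (Set.range fun i => M.presheaf.germ U y hy (s i)) := by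
      rw [hspan]; trivial
    obtain ⟨c, hc⟩ := (Submodule.mem_span_range_iff_exists_fun _).1 hmem
    obtain ⟨V₁, hyV₁, γ, hγ⟩ := exists_common_germ_ring y c
    let W₀ : X.Opens := V₁ ⊓ U ⊓ U'
    have hyW₀ : y ∈ W₀ := ⟨⟨hyV₁, hy⟩, hyU'⟩
    have h1 : W₀ ≤ V₁ := inf_le_left.trans inf_le_left
    have h2 : W₀ ≤ U := inf_le_left.trans inf_le_right
    have h3 : W₀ ≤ U' := inf_le_right
    let t : Γ(M, W₀) := ∑ i, X.presheaf.map (homOfLE h1).op (γ i) • resFam M s h2 i
    have hgerm : M.presheaf.germ W₀ y hyW₀ t =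
        M.presheaf.germ W₀ y hyW₀ (M.presheaf.map (homOfLE h3).op (σ j)) := by
      rw [TopCat.Presheaf.germ_res_apply, ← hc, map_sum]
      refine Finset.sum_congr rfl (fun i _ => ?_)
      rw [germ_smul, TopCat.Presheaf.germ_res_apply, TopCat.Presheaf.germ_res_apply, hγ]
    obtain ⟨W, hyW, i₁, i₂, heq⟩ := TopCat.Presheaf.germ_eq M.presheaf y hyW₀ hyW₀ _ _ hgerm
    refine ⟨W, hyW, i₁.le.trans h2, i₁.le.trans h3, ?_⟩
    have ht : t ∈ Submodule.span Γ(X, W₀) (Set.range (resFam M s h2)) := by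
      refine Submodule.sum_mem _ (fun i _ => Submodule.smul_mem _ _ (Submodule.subset_span ⟨i, rfl⟩))
    have := res_mem_span s h2 i₁.le t ht
    have e1 : M.presheaf.map (homOfLE i₁.le).op t = M.presheaf.map i₁.op t := rfl
    rw [e1, heq] at this
    rw [← ConcreteCategory.comp_apply, ← Functor.map_comp] at this
    exact this
  choose W hyW hWU hWU' hW using key
  obtain ⟨V₀, hyV₀, hV₀⟩ := exists_common_open y W hyW
  refine ⟨V₀ ⊓ U ⊓ U', inf_le_left.trans inf_le_right, ⟨⟨hyV₀, hy⟩, hyU'⟩, ?_⟩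
  intro z hz
  have hzU' : z ∈ U' := hz.2
  have hzU : z ∈ U := hz.1.2
  rw [eq_top_iff, ← hσ z hzU', Submodule.span_le]
  rintro _ ⟨j, rfl⟩
  have hzW : z ∈ W j := hV₀ j hz.1.1
  have h1 := germ_mem_span s (hWU j) _ (hW j) z hzW
  rw [TopCat.Presheaf.germ_res_apply] at h1
  have h2 : (fun i => M.presheaf.germ (V₀ ⊓ U ⊓ U') z hz
      (resFam M s (inf_le_left.trans inf_le_right : V₀ ⊓ U ⊓ U' ≤ U) i)) =
      fun i => M.presheaf.germ U z hzU (s i) := by
    funext i
    exact TopCat.Presheaf.germ_res_apply _ _ _ _ _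
  rw [h2]
  exact h1

end Groth.Agent.Helper13.StalkBasis
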