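import Mathlib
import Groth.Agent.Lib.Helper13.PbUnit
import Groth.Agent.Lib.Helper13.PullbackEpi
import Groth.Agent.Lib.Helper13.GenLocus
import Groth.Agent.Lib.Helper13.StalkBasis2
import Groth.Agent.Lib.Helper13.FittPullback
import Groth.Agent.Lib.Helper13.GlobGen

set_option autoImplicit false
universe u
open CategoryTheory CategoryTheory.Limits AlgebraicGeometry Opposite TopologicalSpace
open Groth.Agent.Helper13.QCoh Groth.Agent.Helper13.FinType Groth.Agent.Helper13.Pullback
open Groth.Agent.Helper13.PbUnit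

namespace Groth.Agent.Helper13.PbInv

variable {Z S : Scheme.{u}} (u : Z ⟶ S)

/-- the pullback of an invertible module is invertible. -/
theorem isInvertible_pullback (L : S.Modules) (hL : PicF.IsInvertible L) :
    PicF.IsInvertible ((Scheme.Modules.pullback u).obj L) := by
  intro z
  obtain ⟨U, hzU, ⟨e⟩⟩ := hL (u z)
  refine ⟨u ⁻¹ᵁ U, hzU, ⟨?_⟩⟩
  have h : (u ⁻¹ᵁ U).ι ≫ u = (u ∣_ U) ≫ U.ι := (morphismRestrict_ι u U).symm
  exact (pullbackRestrictIso u (u ⁻¹ᵁ U).ι U.ι (u ∣_ U) h).app L ≪≫
    (Scheme.Modules.pullback (u ∣_ U)).mapIso e ≪≫ pullbackUnitIso (u ∣_ U)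

end Groth.Agent.Helper13.PbInv

namespace Groth.Agent.Helper13.PbInv

open Groth.Agent.Helper13.StalkBasis Groth.Agent.Helper13.GenLoc Groth.Agent.Helper13.Inv

variable {X Y : Scheme.{u}}

lemma stalkMap_zero {M N : X.Modules} (y : X) (m : M.presheaf.stalk y) :
    stalkMap (0 : M ⟶ N) y m = 0 := by
  obtain ⟨V, hyV, t, rfl⟩ := TopCat.Presheaf.exists_germ_eq M.presheaf m
  rw [stalkMap_germ]
  exact map_zero _

lemma stalkMap_comp {M N P : X.Modules} (φ : M ⟶ N) (ψ : N ⟶ P) (y : X) (m : M.presheaf.stalk y) :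
    stalkMap (φ ≫ ψ) y m = stalkMap ψ y (stalkMap φ y m) := by
  obtain ⟨V, hyV, t, rfl⟩ := TopCat.Presheaf.exists_germ_eq M.presheaf m
  rw [stalkMap_germ, stalkMap_germ, stalkMap_germ]
  rfl

/-- the support of a module of finite type is closed (open complement). -/
lemma exists_open_disjoint_support (Q : X.Modules)
    [SheafOfModules.IsFiniteType (R := X.ringCatSheaf) Q] (y : X) (hy : y ∉ CohB1.support Q) :
    ∃ W : X.Opens, y ∈ W ∧ Disjoint (W : Set X) (CohB1.support Q) := by
  have hsub : Subsingleton (Q.presheaf.stalk y) := not_not.1 hy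
  have hspan : Submodule.span (X.presheaf.stalk y)
      (Set.range fun i : Fin 0 => Q.presheaf.germ ⊤ y trivial (Fin.elim0 i)) = ⊤ := by
    rw [eq_top_iff]
    intro m _
    rw [Subsingleton.elim m 0]
    exact Submodule.zero_mem _
  obtain ⟨W, hWtop, hyW, hgen⟩ := exists_genOn_nhd Q (U := ⊤) (fun i : Fin 0 => Fin.elim0 i) y trivial hspan
  refine ⟨W, hyW, ?_⟩
  rw [Set.disjoint_left]
  intro z hzW hz
  apply hz
  have h := hgen z hzW
  have h0 : (Set.range fun i : Fin 0 => Q.presheaf.germ W z hzW
      (resFam Q (fun i : Fin 0 => Fin.elim0 i) hWtop i)) = ∅ := by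
    rw [Set.range_eq_empty_iff]
    infer_instance
  rw [h0, Submodule.span_empty] at h
  refine ⟨fun a b => ?_⟩
  have ha : a ∈ (⊥ : Submodule (X.presheaf.stalk z) (Q.presheaf.stalk z)) := by rw [h]; trivial
  have hb : b ∈ (⊥ : Submodule (X.presheaf.stalk z) (Q.presheaf.stalk z)) := by rw [h]; trivial
  rw [(Submodule.mem_bot _).1 ha, (Submodule.mem_bot _).1 hb]

/-- **P2**: a map to a quasi-coherent module of finite type is surjective on the stalk at `y` iff
`y` is not in the support of the cokernel. -/
theorem stalkMap_surjective_iff_notMem_support {M N : X.Modules} [M.IsQuasicoherent]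
    [N.IsQuasicoherent] [SheafOfModules.IsFiniteType (R := X.ringCatSheaf) N] (φ : M ⟶ N) (y : X) :
    Function.Surjective (stalkMap φ y) ↔ y ∉ CohB1.support (cokernel φ) := by
  haveI hepi : Epi (cokernel.π φ) := coequalizer.π_epi
  haveI hft : SheafOfModules.IsFiniteType (R := X.ringCatSheaf) (cokernel φ : X.Modules) :=
    @isFiniteType_of_epi _ _ _ (cokernel.π φ) hepi _
  constructor
  · intro h hy
    apply hy
    refine ⟨fun a b => ?_⟩
    have key : ∀ q : (cokernel φ : X.Modules).presheaf.stalk y, q = 0 := by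
      intro q
      obtain ⟨n, rfl⟩ := stalkMap_surjective_of_epi (cokernel.π φ) y q
      obtain ⟨m, rfl⟩ := h n
      rw [← stalkMap_comp, cokernel.condition, stalkMap_zero]
    rw [key a, key b]
  · intro hy
    obtain ⟨W, hyW, hdisj⟩ := exists_open_disjoint_support (cokernel φ) y hy
    have h1 : Epi ((Scheme.Modules.pullback W.ι).map φ) := by
      rw [epi_pullback_map_iff]
      have : Set.range W.ι.base = (W : Set X) := by
        rw [Scheme.Opens.range_ι]
      rw [this]
      exact hdisj
    have h2 : Epi ((Scheme.Modules.restrictFunctor W.ι).map φ) := by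
      have hnat := (Scheme.Modules.restrictFunctorIsoPullback W.ι).hom.naturality φ
      have : (Scheme.Modules.restrictFunctor W.ι).map φ =
          (Scheme.Modules.restrictFunctorIsoPullback W.ι).hom.app M ≫
            (Scheme.Modules.pullback W.ι).map φ ≫
            (Scheme.Modules.restrictFunctorIsoPullback W.ι).inv.app N := by
        rw [← Category.assoc, ← hnat, Category.assoc, Iso.hom_inv_id_app, Category.comp_id]
      rw [this]
      infer_instance
    have h3 := stalkMap_surjective_of_epi ((Scheme.Modules.restrictFunctor W.ι).map φ) ⟨y, hyW⟩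
    intro n
    obtain ⟨m, hm⟩ := h3 ((τ W.ι N ⟨y, hyW⟩).symm n)
    refine ⟨τ W.ι M ⟨y, hyW⟩ m, ?_⟩
    have := τ_stalkMap W.ι φ ⟨y, hyW⟩ m
    rw [hm, AddEquiv.apply_symm_apply] at this
    exact this.symm

/-- **P3**: surjectivity on stalks is compatible with pullback. -/
theorem stalkMap_pullback_surjective_iff (u : Y ⟶ X) {M N : X.Modules} [M.IsQuasicoherent]
    [N.IsQuasicoherent] [SheafOfModules.IsFiniteType (R := X.ringCatSheaf) N] (φ : M ⟶ N) (z : Y) :
    Function.Surjective (stalkMap ((Scheme.Modules.pullback u).map φ) z) ↔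
      Function.Surjective (stalkMap φ (u z)) := by
  haveI hqc : SheafOfModules.IsQuasicoherent (R := X.ringCatSheaf) (cokernel φ : X.Modules) :=
    Groth.Agent.Helper13.QCohLocal.isQuasicoherent_cokernel φ
  haveI hepi : Epi (cokernel.π φ) := coequalizer.π_epi
  haveI hft : SheafOfModules.IsFiniteType (R := X.ringCatSheaf) (cokernel φ : X.Modules) :=
    @isFiniteType_of_epi _ _ _ (cokernel.π φ) hepi _
  rw [stalkMap_surjective_iff_notMem_support, stalkMap_surjective_iff_notMem_support, not_iff_not]
  have hsupp := support_pullback u (cokernel φ)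
  have hiso := PreservesCokernel.iso (Scheme.Modules.pullback u) φ
  have h1 : z ∈ CohB1.support (cokernel ((Scheme.Modules.pullback u).map φ)) ↔
      z ∈ CohB1.support ((Scheme.Modules.pullback u).obj (cokernel φ)) := by
    simp only [CohB1.support, Set.mem_ofPred_eq, not_iff_not]
    exact (Groth.Agent.Helper13.Inv.stalkLinearEquiv hiso.symm z).toEquiv.subsingleton_congr
  rw [h1, hsupp]
  rfl

end Groth.Agent.Helper13.PbInv

namespace Groth.Agent.Helper13.PbInv

open Groth.Agent.Helper13.StalkBasis Groth.Agent.Helper13.GenLoc Groth.Agent.Helper13.Inv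

variable {X Y : Scheme.{u}}

/-- **P1**: for an invertible module, `X_s` is the set of points where `s` is surjective on the
stalk. -/
theorem mem_genLocus_iff_stalkMap_surjective (L : X.Modules) (hL : PicF.IsInvertible L)
    (s : Coh.structureModule X ⟶ L) (y : X) :
    y ∈ CohB1.genLocus L s ↔ Function.Surjective (stalkMap s y) := by
  rw [mem_genLocus_iff_isGen L s hL y, ← stalkMap_bijective_iff_isGen]
  refine ⟨fun h => h.2, fun h => ⟨?_, h⟩⟩
  obtain ⟨U, hyU, e, he⟩ := (isInvertible_iff_exists_isGen L).1 hL y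
  -- `O_y ≃ L_y` via the generator
  let g : X.presheaf.stalk y →ₗ[X.presheaf.stalk y] L.presheaf.stalk y :=
    LinearMap.toSpanSingleton _ _ (L.presheaf.germ U y hyU e)
  have hg : Function.Injective g := by
    have := (he y hyU).1
    exact this
  let f : X.presheaf.stalk y →ₗ[X.presheaf.stalk y] L.presheaf.stalk y :=
    (stalkLinearMap s y).comp (Groth.Agent.Helper13.WeakAss.unitStalkEquiv y).symm.toLinearMap
  have hf : Function.Surjective f := by
    intro n
    obtain ⟨m, rfl⟩ := h n
    exact ⟨Groth.Agent.Helper13.WeakAss.unitStalkEquiv y m, by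
      change stalkMap s y ((Groth.Agent.Helper13.WeakAss.unitStalkEquiv y).symm _) = _
      rw [LinearEquiv.symm_apply_apply]⟩
  haveI : Module.Finite (X.presheaf.stalk y) (L.presheaf.stalk y) :=
    Module.Finite.of_surjective g (he y hyU).2
  have hinj := OrzechProperty.injective_of_surjective_of_injective g f hg hf
  intro a b hab
  have : f (Groth.Agent.Helper13.WeakAss.unitStalkEquiv y a) =
      f (Groth.Agent.Helper13.WeakAss.unitStalkEquiv y b) := by
    change stalkMap s y ((Groth.Agent.Helper13.WeakAss.unitStalkEquiv y).symm _) =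
      stalkMap s y ((Groth.Agent.Helper13.WeakAss.unitStalkEquiv y).symm _)
    rw [LinearEquiv.symm_apply_apply, LinearEquiv.symm_apply_apply]
    exact hab
  exact (Groth.Agent.Helper13.WeakAss.unitStalkEquiv y).injective (hinj this)

/-- **S4413-type**: `X_s` commutes with pullback. -/
theorem genLocus_pullback (u : Y ⟶ X) (L : X.Modules) (hL : PicF.IsInvertible L)
    (s : Coh.structureModule X ⟶ L)
    (e : Coh.structureModule Y ≅ (Scheme.Modules.pullback u).obj (Coh.structureModule X)) :
    CohB1.genLocus ((Scheme.Modules.pullback u).obj L)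
      (e.hom ≫ (Scheme.Modules.pullback u).map s) = u ⁻¹ᵁ CohB1.genLocus L s := by
  haveI : L.IsQuasicoherent := isQuasicoherent_of_isInvertible L hL
  haveI : SheafOfModules.IsFiniteType (R := X.ringCatSheaf) L :=
    Groth.Agent.Helper13.GlobGen.isFiniteType_of_isInvertible L hL
  haveI : (Coh.structureModule X).IsQuasicoherent := Groth.Agent.Helper13.QCoh.isQuasicoherent_unit X
  ext z
  change z ∈ CohB1.genLocus _ _ ↔ u z ∈ CohB1.genLocus L s
  rw [mem_genLocus_iff_stalkMap_surjective _ (isInvertible_pullback u L hL),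
    mem_genLocus_iff_stalkMap_surjective L hL, ← stalkMap_pullback_surjective_iff u s z]
  have hbij : Function.Bijective (stalkMap e.hom z) := stalkMap_bijective_of_isIso e.hom z
  have hcomp : (stalkMap (e.hom ≫ (Scheme.Modules.pullback u).map s) z : _ → _) =
      (stalkMap ((Scheme.Modules.pullback u).map s) z) ∘ (stalkMap e.hom z) := by
    funext m
    exact stalkMap_comp _ _ z m
  rw [hcomp]
  exact ⟨fun h => Function.Surjective.of_comp h, fun h => h.comp hbij.2⟩

end Groth.Agent.Helper13.PbInv
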