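import Mathlib
import Groth.Prelude.Def_Coh
import Groth.Agent.Lib.Helper9.CohGraph
import Groth.Agent.Lib.Helper13.FreeMod
import Groth.Agent.Lib.Helper13.GlobGen
import Groth.Agent.Lib.Helper13.InvQCoh

/-!
# Roofs representing morphisms over an open subscheme (helper13)

* `exists_roof`: on a Noetherian scheme, a morphism `e : F₁|_U ⟶ F₂|_U` between restrictions of
  coherent modules is represented by a roof `F₁ ⟵ G ⟶ F₂` of coherent modules whose left leg is an
  isomorphism over `U`;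
* `app_eq_smul_of_natTrans`: an endomorphism of the identity functor of the category of coherent
  modules acts on every coherent module as multiplication by the image of `1`.
-/

set_option autoImplicit false
universe u
open CategoryTheory CategoryTheory.Limits AlgebraicGeometry Opposite TopologicalSpace

namespace Groth.Agent.Helper13.CohRoof

theorem isCoh_structureModule (X : Scheme.{u}) : Coh.IsCoh (Coh.structureModule X) :=
  ⟨Groth.Agent.Helper13.Inv.isQuasicoherent_of_isInvertible _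
      Groth.Agent.Helper13.Inv.isInvertible_structureModule,
    Groth.Agent.Helper13.GlobGen.isFiniteType_of_isInvertible _
      Groth.Agent.Helper13.Inv.isInvertible_structureModule⟩

theorem exists_roof (X : Scheme.{u}) [IsNoetherian X] (U : X.Opens)
    (F₁ F₂ : X.Modules) (h₁ : Coh.IsCoh F₁) (h₂ : Coh.IsCoh F₂)
    (e : F₁.restrict U.ι ⟶ F₂.restrict U.ι) :
    ∃ (G : X.Modules) (p₁ : G ⟶ F₁) (p₂ : G ⟶ F₂), Coh.IsCoh G ∧
      IsIso ((Scheme.Modules.restrictFunctor U.ι).map p₁) ∧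
      (Scheme.Modules.restrictFunctor U.ι).map p₁ ≫ e =
        (Scheme.Modules.restrictFunctor U.ι).map p₂ := by
  haveI q₁ : F₁.IsQuasicoherent := h₁.1
  haveI q₂ : F₂.IsQuasicoherent := h₂.1
  haveI t₁ : SheafOfModules.IsFiniteType (R := X.ringCatSheaf) F₁ := h₁.2
  haveI t₂ : SheafOfModules.IsFiniteType (R := X.ringCatSheaf) F₂ := h₂.2
  haveI : TopologicalSpace.NoetherianSpace (U : Scheme.{u}) :=
    inferInstanceAs (TopologicalSpace.NoetherianSpace (U : Set X))
  haveI : QuasiCompact U.ι := inferInstance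
  haveI : QuasiSeparated U.ι := inferInstance
  haveI hqP : ((Scheme.Modules.pushforward U.ι).obj
      ((Scheme.Modules.restrictFunctor U.ι).obj F₂)).IsQuasicoherent :=
    Groth.Agent.Helper13.Qcqs.isQuasicoherent_pushforward_of_qcqs U.ι _
  obtain ⟨a, ha⟩ : ∃ a : F₁ ⟶ (Scheme.Modules.pushforward U.ι).obj
      ((Scheme.Modules.restrictFunctor U.ι).obj F₂),
      a = (Scheme.Modules.restrictAdjunction U.ι).unit.app F₁ ≫
        (Scheme.Modules.pushforward U.ι).map e := ⟨_, rfl⟩
  obtain ⟨b, hb⟩ : ∃ b : F₂ ⟶ (Scheme.Modules.pushforward U.ι).obj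
      ((Scheme.Modules.restrictFunctor U.ι).obj F₂),
      b = (Scheme.Modules.restrictAdjunction U.ι).unit.app F₂ := ⟨_, rfl⟩
  haveI hGq : (pullback a b).IsQuasicoherent :=
    Groth.Agent.Helper13.QCohFin.isQuasicoherent_pullback a b
  have hpb : IsPullback ((Scheme.Modules.restrictFunctor U.ι).map (pullback.fst a b))
      ((Scheme.Modules.restrictFunctor U.ι).map (pullback.snd a b))
      ((Scheme.Modules.restrictFunctor U.ι).map a)
      ((Scheme.Modules.restrictFunctor U.ι).map b) :=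
    (IsPullback.of_hasPullback a b).map (Scheme.Modules.restrictFunctor U.ι)
  haveI hb' : IsIso ((Scheme.Modules.restrictFunctor U.ι).map b) := by
    rw [hb]; exact Groth.Agent.Helper9.CohGraph.isIso_restrict_map_unit U.ι F₂
  refine ⟨pullback a b, pullback.fst a b, pullback.snd a b, ⟨hGq, ?_⟩, ?_, ?_⟩
  · haveI : (F₁ ⊞ F₂).IsQuasicoherent :=
      Groth.Agent.Helper13.QCohFin.isQuasicoherent_biprod F₁ F₂
    haveI hft : SheafOfModules.IsFiniteType (R := X.ringCatSheaf) (F₁ ⊞ F₂ : X.Modules) :=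
      Groth.Agent.Helper9.CohGraph.isFiniteType_biprod F₁ F₂
    haveI : Mono (biprod.lift (pullback.fst a b) (pullback.snd a b)) := by
      constructor
      intro Z k l h
      apply pullback.hom_ext
      · have := congrArg (fun m => m ≫ biprod.fst) h
        simpa using this
      · have := congrArg (fun m => m ≫ biprod.snd) h
        simpa using this
    exact Groth.Agent.Helper28.CohSub.isFiniteType_of_mono
      (biprod.lift (pullback.fst a b) (pullback.snd a b))
  · exact hpb.isIso_fst_of_isIso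
  · have hw := hpb.w
    have h1 := congrArg (fun t => t ≫ (Scheme.Modules.restrictAdjunction U.ι).counit.app
      ((Scheme.Modules.restrictFunctor U.ι).obj F₂)) hw
    simp only [Category.assoc] at h1
    have hb2 : (Scheme.Modules.restrictFunctor U.ι).map b ≫
        (Scheme.Modules.restrictAdjunction U.ι).counit.app
          ((Scheme.Modules.restrictFunctor U.ι).obj F₂) = 𝟙 _ := by
      rw [hb]
      exact (Scheme.Modules.restrictAdjunction U.ι).left_triangle_components F₂
    have ha2 : (Scheme.Modules.restrictFunctor U.ι).map a ≫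
        (Scheme.Modules.restrictAdjunction U.ι).counit.app
          ((Scheme.Modules.restrictFunctor U.ι).obj F₂) = e := by
      rw [ha, Functor.map_comp, Category.assoc]
      have hnat := (Scheme.Modules.restrictAdjunction U.ι).counit.naturality e
      simp only [Functor.comp_map, Functor.id_map] at hnat
      rw [hnat, ← Category.assoc,
        (Scheme.Modules.restrictAdjunction U.ι).left_triangle_components F₁, Category.id_comp]
    rw [hb2, ha2, Category.comp_id] at h1
    exact h1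

section Center

open Groth.Agent.Helper13

/-- the category of coherent modules. -/
abbrev CohCat (X : Scheme.{u}) : Type _ :=
  ObjectProperty.FullSubcategory (fun M : X.Modules => Coh.IsCoh M)

/-- the structure sheaf as an object of the category of coherent modules. -/
noncomputable def unitObj (X : Scheme.{u}) : CohCat X :=
  ⟨Coh.structureModule X, isCoh_structureModule X⟩

variable {X : Scheme.{u}} [IsNoetherian X] (φ : 𝟭 (CohCat X) ⟶ 𝟭 (CohCat X))

/-- the image of `1` under the component at the structure sheaf. -/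
noncomputable def centerElt : Γ(X, ⊤) :=
  LocFree.ofO ⊤ ((φ.app (unitObj X)).hom.app ⊤ (LocFree.toO ⊤ 1))

lemma app_unit_one (V : X.Opens) :
    (φ.app (unitObj X)).hom.app V (LocFree.toO V 1) =
      LocFree.toO V (X.presheaf.map (homOfLE (le_top : V ≤ ⊤)).op (centerElt φ)) := by
  have h := (φ.app (unitObj X)).hom.mapPresheaf.naturality (homOfLE (le_top : V ≤ ⊤)).op
  have h2 := congrArg (fun ψ => ψ (LocFree.toO ⊤ 1)) h
  have h3 : (Coh.structureModule X).presheaf.map (homOfLE (le_top : V ≤ ⊤)).op (LocFree.toO ⊤ 1) =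
      LocFree.toO V 1 := map_one (X.presheaf.map (homOfLE (le_top : V ≤ ⊤)).op).hom
  have h4 : (φ.app (unitObj X)).hom.app V
      ((Coh.structureModule X).presheaf.map (homOfLE (le_top : V ≤ ⊤)).op (LocFree.toO ⊤ 1)) =
      (Coh.structureModule X).presheaf.map (homOfLE (le_top : V ≤ ⊤)).op
        ((φ.app (unitObj X)).hom.app ⊤ (LocFree.toO ⊤ 1)) := h2
  rw [h3] at h4
  exact h4

theorem app_image_top_eq_smul (M : CohCat X) (U : X.Opens) (m : Γ(M.obj, U.ι ''ᵁ ⊤)) :
    (φ.app M).hom.app (U.ι ''ᵁ ⊤) m =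
      (X.presheaf.map (homOfLE (le_top : U.ι ''ᵁ ⊤ ≤ ⊤)).op (centerElt φ)) • m := by
  classical
  let L : (U : Scheme.{u}).Modules := M.obj.restrict U.ι
  let m' : Γ(L, ⊤) := m
  let e : (Coh.structureModule X).restrict U.ι ⟶ L :=
    (Scheme.Modules.restrictUnitIso U.ι).hom ≫ LocFree.homOfSec L m'
  obtain ⟨G, p₁, p₂, hG, hiso, hcomm⟩ := exists_roof X U (Coh.structureModule X) M.obj
    (isCoh_structureModule X) M.property e
  let Gc : CohCat X := ⟨G, hG⟩
  let q₁ : Gc ⟶ unitObj X := ObjectProperty.homMk p₁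
  let q₂ : Gc ⟶ M := ObjectProperty.homMk p₂
  obtain ⟨fO, hfO⟩ : ∃ fO : Coh.structureModule X ⟶ Coh.structureModule X,
      fO = (φ.app (unitObj X)).hom := ⟨_, rfl⟩
  obtain ⟨fG, hfG⟩ : ∃ fG : G ⟶ G, fG = (φ.app Gc).hom := ⟨_, rfl⟩
  obtain ⟨fM, hfM⟩ : ∃ fM : M.obj ⟶ M.obj, fM = (φ.app M).hom := ⟨_, rfl⟩
  have n1 : p₁ ≫ fO = fG ≫ p₁ := by
    rw [hfO, hfG]
    exact congrArg (fun t => t.hom) (φ.naturality q₁)
  have n2 : p₂ ≫ fM = fG ≫ p₂ := by
    rw [hfM, hfG]
    exact congrArg (fun t => t.hom) (φ.naturality q₂)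
  have n1' : (Scheme.Modules.restrictFunctor U.ι).map p₁ ≫
      (Scheme.Modules.restrictFunctor U.ι).map fO =
      (Scheme.Modules.restrictFunctor U.ι).map fG ≫
        (Scheme.Modules.restrictFunctor U.ι).map p₁ := by
    rw [← Functor.map_comp, n1, Functor.map_comp]
  have n2' : (Scheme.Modules.restrictFunctor U.ι).map p₂ ≫
      (Scheme.Modules.restrictFunctor U.ι).map fM =
      (Scheme.Modules.restrictFunctor U.ι).map fG ≫
        (Scheme.Modules.restrictFunctor U.ι).map p₂ := by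
    rw [← Functor.map_comp, n2, Functor.map_comp]
  have key : (Scheme.Modules.restrictFunctor U.ι).map fO ≫ e =
      e ≫ (Scheme.Modules.restrictFunctor U.ι).map fM := by
    haveI := hiso
    rw [← cancel_epi ((Scheme.Modules.restrictFunctor U.ι).map p₁)]
    rw [← Category.assoc, n1', Category.assoc, hcomm, ← n2', ← hcomm, Category.assoc]
  -- sections of `e`
  have he : ∀ c : Γ(X, U.ι ''ᵁ ⊤), e.app ⊤ (LocFree.toO (U.ι ''ᵁ ⊤) c) = c • m := by
    intro c
    have h1 : e.app ⊤ (LocFree.toO (U.ι ''ᵁ ⊤) c) =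
        (LocFree.homOfSec L m').app ⊤ (LocFree.toO ⊤ ((U.ι.appIso ⊤).hom c)) := rfl
    rw [h1, LocFree.homOfSec_app]
    have h2 : L.presheaf.map (homOfLE (le_top : (⊤ : (U : Scheme.{u}).Opens) ≤ ⊤)).op m' = m' := by
      have : (homOfLE (le_top : (⊤ : (U : Scheme.{u}).Opens) ≤ ⊤)) = 𝟙 _ := rfl
      rw [this, op_id, L.presheaf.map_id]
      rfl
    rw [h2]
    have h3 : ((U.ι.appIso ⊤).hom c) • m' =
        ((U.ι.appIso ⊤).inv ((U.ι.appIso ⊤).hom c)) • m := rfl
    rw [h3]
    congr 1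
    exact congrArg (fun ψ => ψ c) (U.ι.appIso ⊤).hom_inv_id
  have hk := congrArg (fun ψ => ψ.app ⊤ (LocFree.toO (U.ι ''ᵁ ⊤) 1)) key
  have hl : ((Scheme.Modules.restrictFunctor U.ι).map fO ≫ e).app ⊤
      (LocFree.toO (U.ι ''ᵁ ⊤) 1) =
      e.app ⊤ (fO.app (U.ι ''ᵁ ⊤) (LocFree.toO (U.ι ''ᵁ ⊤) 1)) := rfl
  have hr : (e ≫ (Scheme.Modules.restrictFunctor U.ι).map fM).app ⊤
      (LocFree.toO (U.ι ''ᵁ ⊤) 1) =
      fM.app (U.ι ''ᵁ ⊤) (e.app ⊤ (LocFree.toO (U.ι ''ᵁ ⊤) 1)) := rfl
  have hk' : e.app ⊤ (fO.app (U.ι ''ᵁ ⊤) (LocFree.toO (U.ι ''ᵁ ⊤) 1)) =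
      fM.app (U.ι ''ᵁ ⊤) (e.app ⊤ (LocFree.toO (U.ι ''ᵁ ⊤) 1)) :=
    hl.symm.trans (hk.trans hr)
  have hu : fO.app (U.ι ''ᵁ ⊤) (LocFree.toO (U.ι ''ᵁ ⊤) 1) =
      LocFree.toO (U.ι ''ᵁ ⊤)
        (X.presheaf.map (homOfLE (le_top : U.ι ''ᵁ ⊤ ≤ ⊤)).op (centerElt φ)) := by
    rw [hfO]
    exact app_unit_one φ (U.ι ''ᵁ ⊤)
  rw [hu, he, he, one_smul] at hk'
  rw [← hfM]
  exact hk'.symm

end Center

end Groth.Agent.Helper13.CohRoof
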