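import Mathlib
import Groth.Agent.Lib.Helper13.GlobGen

set_option autoImplicit false
universe u
open CategoryTheory CategoryTheory.Limits AlgebraicGeometry Opposite TopologicalSpace TensorProduct
open Groth.Agent.Helper13.QCoh Groth.Agent.Helper13.FinType Groth.Agent.Helper13.Tensor
open Groth.Agent.Helper13.Inv Groth.Agent.Helper13.GenLoc Groth.Agent.Helper13.Qcqs
open Groth.Agent.Helper13.Twist

namespace Groth.Agent.Helper13.GlobGen

variable {X : Scheme.{u}}

theorem isGloballyGenerated_of_iso {G G' : X.Modules} (e : G ≅ G')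
    (h : Curv2.IsGloballyGenerated G) : Curv2.IsGloballyGenerated G' := by
  rw [isGloballyGenerated_iff] at h ⊢
  exact fun y => (h y).of_iso e

/-- an invertible module generated by global sections at `y` has a global section generating it
at `y`. -/
theorem exists_isGen_of_ggAt (L : X.Modules) (hL : PicF.IsInvertible L) (y : X) (h : GGAt L y) :
    ∃ t : Γ(L, ⊤), IsGen L t y trivial := by
  obtain ⟨U, hyU, e, he⟩ := (isInvertible_iff_exists_isGen L).1 hL y
  have hg := he y hyU
  by_contra hcon
  rw [not_exists] at hcon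
  let g := L.presheaf.germ U y hyU e
  let φ : X.presheaf.stalk y →ₗ[X.presheaf.stalk y] L.presheaf.stalk y :=
    LinearMap.toSpanSingleton _ _ g
  have hφ : Function.Bijective φ := hg
  let N : Submodule (X.presheaf.stalk y) (L.presheaf.stalk y) :=
    Submodule.map φ (IsLocalRing.maximalIdeal (X.presheaf.stalk y))
  have hN : ∀ t : Γ(L, ⊤), L.presheaf.germ ⊤ y trivial t ∈ N := by
    intro t
    obtain ⟨a, ha⟩ := hφ.2 (L.presheaf.germ ⊤ y trivial t)
    refine ⟨a, ?_, ha⟩
    by_contra hna
    have hu : IsUnit a := by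
      by_contra hnu
      exact hna ((IsLocalRing.mem_maximalIdeal a).2 hnu)
    apply hcon t
    unfold IsGen
    have key : (fun r : X.presheaf.stalk y => r • L.presheaf.germ ⊤ y trivial t) =
        φ ∘ (fun r : X.presheaf.stalk y => r * a) := by
      funext r
      rw [Function.comp_apply, ← ha]
      change r • (a • g) = (r * a) • g
      rw [mul_smul]
    rw [key]
    exact hφ.comp (IsUnit.isUnit_iff_mulRight_bijective.1 hu)
  have htop : (⊤ : Submodule (X.presheaf.stalk y) (L.presheaf.stalk y)) ≤ N := by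
    rw [← h, Submodule.span_le]
    rintro _ ⟨t, rfl⟩
    exact hN t
  obtain ⟨a, ha, hag⟩ := htop (Submodule.mem_top : g ∈ ⊤)
  have h1 : φ a = φ 1 := by
    rw [hag]
    change g = (1 : X.presheaf.stalk y) • g
    rw [one_smul]
  have := hφ.1 h1
  rw [this] at ha
  exact (IsLocalRing.maximalIdeal.isMaximal _).ne_top ((Ideal.eq_top_iff_one _).2 ha)

/-- a globally generated invertible module has, at each point, a global section generating it. -/
theorem exists_mem_genLocus_of_isGloballyGenerated (N : X.Modules) (hN : PicF.IsInvertible N)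
    (h : Curv2.IsGloballyGenerated N) (x : X) :
    ∃ (n : ℕ) (s' : Coh.structureModule X ⟶ CohB1.tensorPow N (n + 1)),
      x ∈ CohB1.genLocus _ s' := by
  rw [isGloballyGenerated_iff] at h
  obtain ⟨t, ht⟩ := exists_isGen_of_ggAt N hN x (h x)
  refine ⟨0, LocFree.homOfSec N t ≫ (powOne N).symm.hom, ?_⟩
  rw [genLocus_comp_iso, mem_genLocus_iff_isGen N _ hN, sec_homOfSec]
  exact ht

/-- for `L` ample and `L'` invertible, `L^n ⊗ L'` is ample and globally generated for `n ≫ 0`. -/
theorem exists_isAmple_and_isGloballyGenerated (L L' : X.Modules) (hL : CohB1.IsAmple L)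
    (hL' : PicF.IsInvertible L') :
    ∃ n₀ : ℕ, 0 < n₀ ∧ ∀ n, n₀ ≤ n →
      CohB1.IsAmple (CohB1.tensorMod (CohB1.tensorPow L n) L') ∧
        Curv2.IsGloballyGenerated (CohB1.tensorMod (CohB1.tensorPow L n) L') := by
  haveI : L'.IsQuasicoherent := isQuasicoherent_of_isInvertible _ hL'
  haveI := isFiniteType_of_isInvertible L' hL'
  obtain ⟨n₁, hn₁⟩ := exists_isGloballyGenerated_twist L hL L'
  have hgg : ∀ n, n₁ ≤ n →
      Curv2.IsGloballyGenerated (CohB1.tensorMod (CohB1.tensorPow L n) L') :=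
    fun n hn => isGloballyGenerated_of_iso (braid _ _) (hn₁ n hn)
  refine ⟨n₁ + 1, Nat.succ_pos _, fun n hn => ⟨?_, hgg n (by omega)⟩⟩
  obtain ⟨k, rfl⟩ : ∃ k, n = (k + 1) + n₁ := ⟨n - n₁ - 1, by omega⟩
  have hinv : PicF.IsInvertible (CohB1.tensorMod (CohB1.tensorPow L n₁) L') :=
    isInvertible_tensorMod _ _ (isInvertible_tensorPow L hL.1 n₁) hL'
  have hA := Groth.Agent.Helper13.Ample.isAmple_tensorMod_of_generated
    (CohB1.tensorPow L (k + 1)) (CohB1.tensorMod (CohB1.tensorPow L n₁) L')
    (Groth.Agent.Helper13.Ample.isAmple_tensorPow L hL (k + 1) (Nat.succ_pos _)) hinv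
    (exists_mem_genLocus_of_isGloballyGenerated _ hinv (hgg n₁ le_rfl))
  refine Groth.Agent.Helper13.Ample.isAmple_of_iso ?_ hA
  exact (assoc _ _ _).symm ≪≫ mapIso (powAdd L (k + 1) n₁).symm (Iso.refl _)

end Groth.Agent.Helper13.GlobGen
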