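import Mathlib
import Groth.Agent.Lib.Helper13.GlobGen2

set_option autoImplicit false
universe u
open CategoryTheory CategoryTheory.Limits AlgebraicGeometry Opposite TopologicalSpace TensorProduct
open Groth.Agent.Helper13.QCoh Groth.Agent.Helper13.FinType Groth.Agent.Helper13.Tensor
open Groth.Agent.Helper13.Inv Groth.Agent.Helper13.GenLoc Groth.Agent.Helper13.Qcqs
open Groth.Agent.Helper13.Twist

namespace Groth.Agent.Helper13.GlobGen

variable {X : Scheme.{u}}

/-- on a quasi-affine scheme every quasi-coherent module is globally generated. -/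
theorem isGloballyGenerated_of_isQuasiAffine [X.IsQuasiAffine] (F : X.Modules)
    [F.IsQuasicoherent] : Curv2.IsGloballyGenerated F := by
  rw [isGloballyGenerated_iff]
  intro y
  obtain ⟨_, ⟨_, ⟨f, hf, rfl⟩, rfl⟩, hyf, -⟩ :=
    (Scheme.IsQuasiAffine.isBasis_basicOpen X).exists_subset_of_mem_open (Set.mem_univ y) isOpen_univ
  have hyf : y ∈ X.basicOpen f := hyf
  unfold GGAt
  rw [eq_top_iff]
  intro m _
  obtain ⟨g, hyg, t, hgt⟩ := exists_germ_smul_eq F hf y hyf m
  have hc : IsCompact ((⊤ : X.Opens) : Set X) := by simpa using isCompact_univ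
  have hq : IsQuasiSeparated ((⊤ : X.Opens) : Set X) := by
    simpa using (isQuasiSeparated_univ_iff.2 (inferInstance : QuasiSeparatedSpace X))
  obtain ⟨n, u, hu⟩ := exists_pow_smul_eq_res_of_qcqs F hc hq f (X.basicOpen f) rfl le_top t
  have h1 : F.presheaf.germ ⊤ y trivial u =
      (X.presheaf.germ (X.basicOpen f) y hyf (resO (le_top : X.basicOpen f ≤ ⊤) f ^ n) *
        X.presheaf.germ (X.basicOpen f) y hyf g) • m := by
    rw [mul_smul, hgt, ← Tensor.germ_smul, ← hu]
    exact (TopCat.Presheaf.germ_res_apply F.presheaf (homOfLE (le_top : X.basicOpen f ≤ ⊤)) y hyf u).symm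
  have hunit : IsUnit (X.presheaf.germ (X.basicOpen f) y hyf (resO (le_top : X.basicOpen f ≤ ⊤) f ^ n) *
        X.presheaf.germ (X.basicOpen f) y hyf g) := by
    refine IsUnit.mul ?_ ((X.mem_basicOpen g y hyf).1 hyg)
    rw [map_pow]
    refine IsUnit.pow _ ?_
    have : X.presheaf.germ (X.basicOpen f) y hyf (resO (le_top : X.basicOpen f ≤ ⊤) f) =
        X.presheaf.germ ⊤ y trivial f :=
      TopCat.Presheaf.germ_res_apply X.presheaf (homOfLE (le_top : X.basicOpen f ≤ ⊤)) y hyf f
    rw [this]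
    exact (X.mem_basicOpen f y trivial).1 hyf
  obtain ⟨c, hc⟩ := hunit
  have h2 : m = ((c⁻¹ : (X.presheaf.stalk y)ˣ) : X.presheaf.stalk y) • F.presheaf.germ ⊤ y trivial u := by
    rw [h1, ← hc, ← mul_smul, Units.inv_mul, one_smul]
  rw [h2]
  exact Submodule.smul_mem _ _ (Submodule.subset_span ⟨u, rfl⟩)

end Groth.Agent.Helper13.GlobGen
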