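import Mathlib
import Groth.Agent.Lib.Helper13.GlobGen3

set_option autoImplicit false
universe u
open CategoryTheory CategoryTheory.Limits AlgebraicGeometry Opposite TopologicalSpace TensorProduct
open Groth.Agent.Helper13.QCoh Groth.Agent.Helper13.FinType Groth.Agent.Helper13.Tensor
open Groth.Agent.Helper13.Inv Groth.Agent.Helper13.GenLoc Groth.Agent.Helper13.Qcqs
open Groth.Agent.Helper13.Twist

namespace Groth.Agent.Helper13.GlobGen

variable {X : Scheme.{u}}

lemma isGloballyGenerated_iff_genOn (G : X.Modules) :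
    Curv2.IsGloballyGenerated G ↔ GenOn G ⊤ (fun t : Γ(G, ⊤) => t) := by
  rw [isGloballyGenerated_iff]
  exact ⟨fun h y _ => h y, fun h y => h y trivial⟩

theorem isGloballyGenerated_structureModule :
    Curv2.IsGloballyGenerated (Coh.structureModule X) := by
  rw [isGloballyGenerated_iff]
  intro y
  unfold GGAt
  rw [eq_top_iff]
  intro z _
  obtain ⟨r, rfl⟩ := (Groth.Agent.Helper13.Ample.isGen_one (⊤ : X.Opens) y trivial).2 z
  exact Submodule.smul_mem _ _ (Submodule.subset_span ⟨_, rfl⟩)

theorem isGloballyGenerated_tensorMod (F G : X.Modules) (hF : Curv2.IsGloballyGenerated F)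
    (hG : Curv2.IsGloballyGenerated G) : Curv2.IsGloballyGenerated (CohB1.tensorMod F G) := by
  rw [isGloballyGenerated_iff_genOn] at hF hG
  have h := genOn_tmul F G _ _ hF hG
  rw [isGloballyGenerated_iff]
  intro y
  unfold GGAt
  rw [eq_top_iff, ← h y trivial]
  apply Submodule.span_mono
  rintro _ ⟨ij, rfl⟩
  exact ⟨_, rfl⟩

/-- finitely many globally generated invertible modules with affine `X_s` covering a
quasi-compact `X` give an ample module. -/
theorem exists_isAmple_of_globallyGenerated [CompactSpace X]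
    (h : ∀ x : X, ∃ (L : X.Modules) (s : Coh.structureModule X ⟶ L), PicF.IsInvertible L ∧
      Curv2.IsGloballyGenerated L ∧ x ∈ CohB1.genLocus L s ∧ IsAffineOpen (CohB1.genLocus L s)) :
    ∃ M : X.Modules, CohB1.IsAmple M := by
  classical
  choose L s hinv hgg hx hs using h
  obtain ⟨T, hT⟩ := isCompact_univ.elim_finite_subcover
    (fun x : X => ((CohB1.genLocus _ (s x) : X.Opens) : Set X))
    (fun x => (CohB1.genLocus _ (s x)).2) (fun x _ => Set.mem_iUnion.2 ⟨x, hx x⟩)
  have key : ∀ T : Finset X, ∃ M : X.Modules, PicF.IsInvertible M ∧ Curv2.IsGloballyGenerated M ∧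
      ∀ x ∈ T, ∀ y ∈ CohB1.genLocus _ (s x),
        ∃ (n : ℕ) (σ : Coh.structureModule X ⟶ CohB1.tensorPow M (n + 1)),
          y ∈ CohB1.genLocus _ σ ∧ IsAffineOpen (CohB1.genLocus _ σ) := by
    intro T
    induction T using Finset.induction_on with
    | empty =>
      exact ⟨Coh.structureModule X, isInvertible_structureModule, isGloballyGenerated_structureModule,
        fun x hx => absurd hx (Finset.notMem_empty x)⟩
    | insert x₀ T _ ih =>
      obtain ⟨M, hM1, hM2, hM3⟩ := ih
      refine ⟨CohB1.tensorMod M (L x₀), isInvertible_tensorMod _ _ hM1 (hinv x₀),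
        isGloballyGenerated_tensorMod _ _ hM2 (hgg x₀), fun x hxT y hy => ?_⟩
      rw [Finset.mem_insert] at hxT
      rcases hxT with rfl | hxT
      · obtain ⟨a, t, hyt⟩ := exists_mem_genLocus_of_isGloballyGenerated M hM1 hM2 y
        let s' : Coh.structureModule X ⟶ CohB1.tensorPow (L x) (0 + 1) :=
          s x ≫ (powOne (L x)).symm.hom
        have hs' : CohB1.genLocus _ s' = CohB1.genLocus _ (s x) := genLocus_comp_iso _ _
        obtain ⟨N, σ, hσ⟩ := Groth.Agent.Helper13.Ample.exists_section_tensorMod M (L x) hM1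
          (hinv x) a 0 t s'
        refine ⟨N, σ, ?_, ?_⟩
        · rw [hσ, hs']; exact ⟨hyt, hy⟩
        · rw [hσ, hs']
          exact isAffineOpen_genLocus_inf _ (isInvertible_tensorPow M hM1 _) t (hs x)
      · obtain ⟨a, σ₀, hy0, haff⟩ := hM3 x hxT y hy
        obtain ⟨b, t', hyt'⟩ := exists_mem_genLocus_of_isGloballyGenerated (L x₀) (hinv x₀)
          (hgg x₀) y
        obtain ⟨N, σ, hσ⟩ := Groth.Agent.Helper13.Ample.exists_section_tensorMod M (L x₀) hM1
          (hinv x₀) a b σ₀ t'
        refine ⟨N, σ, ?_, ?_⟩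
        · rw [hσ]; exact ⟨hy0, hyt'⟩
        · rw [hσ, inf_comm]
          exact isAffineOpen_genLocus_inf _ (isInvertible_tensorPow (L x₀) (hinv x₀) _) t' haff
  obtain ⟨M, hM1, hM2, hM3⟩ := key T
  refine ⟨M, hM1, inferInstance, fun y => ?_⟩
  obtain ⟨x, hxT, hy⟩ : ∃ x ∈ T, y ∈ CohB1.genLocus _ (s x) := by
    have := hT (Set.mem_univ y)
    simpa using this
  exact hM3 x hxT y hy

end Groth.Agent.Helper13.GlobGen
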