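import Mathlib
import Groth.Agent.Lib.Helper13.GlobGen4

set_option autoImplicit false
universe u
open CategoryTheory CategoryTheory.Limits AlgebraicGeometry Opposite TopologicalSpace TensorProduct
open Groth.Agent.Helper13.QCoh Groth.Agent.Helper13.FinType Groth.Agent.Helper13.Tensor
open Groth.Agent.Helper13.Inv Groth.Agent.Helper13.GenLoc Groth.Agent.Helper13.Qcqs
open Groth.Agent.Helper13.Twist Groth.Agent.Helper13.GlobGen

namespace Groth.Agent.Helper13.SemiLocal

/-- a finite nonempty subset of a T0 space has a point to which no other point of the subset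
specializes. -/
theorem exists_most_generic {T : Type*} [TopologicalSpace T] [T0Space T] (E : Finset T)
    (hE : E.Nonempty) : ∃ x ∈ E, ∀ z ∈ E, z ⤳ x → z = x := by
  classical
  induction E using Finset.induction_on with
  | empty => exact absurd hE Finset.not_nonempty_empty
  | insert a E _ ih =>
    by_cases hne : E.Nonempty
    · obtain ⟨x₀, hx₀, h₀⟩ := ih hne
      by_cases ha : a ⤳ x₀ ∧ a ≠ x₀
      · refine ⟨a, Finset.mem_insert_self _ _, fun z hz hza => ?_⟩
        rcases Finset.mem_insert.1 hz with rfl | hzE
        · rfl
        · have h1 : z = x₀ := h₀ z hzE (hza.trans ha.1)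
          subst h1
          exact absurd (ha.1.antisymm hza).eq ha.2
      · refine ⟨x₀, Finset.mem_insert_of_mem hx₀, fun z hz hzx => ?_⟩
        rcases Finset.mem_insert.1 hz with rfl | hzE
        · by_contra hne'
          exact ha ⟨hzx, hne'⟩
        · exact h₀ z hzE hzx
    · rw [Finset.not_nonempty_iff_eq_empty] at hne
      subst hne
      refine ⟨a, Finset.mem_insert_self _ _, fun z hz _ => ?_⟩
      simpa using hz

variable {X : Scheme.{u}}

/-- the submodule `𝔪_y L_y` of the stalk. -/
noncomputable def mStalk (L : X.Modules) (y : X) :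
    Submodule (X.presheaf.stalk y) (L.presheaf.stalk y) :=
  (IsLocalRing.maximalIdeal (X.presheaf.stalk y)) • (⊤ : Submodule (X.presheaf.stalk y) (L.presheaf.stalk y))

/-- for an invertible module, a section generates at `y` iff its germ is not in `𝔪_y L_y`. -/
theorem isGen_iff_germ_notMem (L : X.Modules) (hL : PicF.IsInvertible L) {U : X.Opens}
    (e : Γ(L, U)) (y : X) (hy : y ∈ U) :
    IsGen L e y hy ↔ L.presheaf.germ U y hy e ∉ mStalk L y := by
  constructor
  · intro h hmem
    set v := L.presheaf.germ U y hy e with hv
    have htop : (⊤ : Submodule (X.presheaf.stalk y) (L.presheaf.stalk y)) =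
        Submodule.span (X.presheaf.stalk y) {v} := by
      rw [eq_comm, eq_top_iff]
      intro z _
      obtain ⟨r, rfl⟩ := h.2 z
      exact Submodule.smul_mem _ _ (Submodule.subset_span rfl)
    unfold mStalk at hmem
    rw [htop, Submodule.mem_smul_span_singleton] at hmem
    obtain ⟨a, ha, hav⟩ := hmem
    have h1 : (fun r : X.presheaf.stalk y => r • v) a = (fun r : X.presheaf.stalk y => r • v) 1 := by
      change a • v = (1 : X.presheaf.stalk y) • v
      rw [hav, one_smul]
    have := h.1 h1
    rw [this] at ha
    exact (IsLocalRing.maximalIdeal.isMaximal _).ne_top ((Ideal.eq_top_iff_one _).2 ha)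
  · intro hn
    obtain ⟨U₀, hyU₀, e₀, he₀⟩ := (isInvertible_iff_exists_isGen L).1 hL y
    have hg := he₀ y hyU₀
    set g := L.presheaf.germ U₀ y hyU₀ e₀ with hgdef
    obtain ⟨c, hc⟩ := hg.2 (L.presheaf.germ U y hy e)
    have hc : c • g = L.presheaf.germ U y hy e := hc
    have hu : IsUnit c := by
      by_contra hnu
      apply hn
      rw [← hc]
      exact Submodule.smul_mem_smul ((IsLocalRing.mem_maximalIdeal c).2 hnu) Submodule.mem_top
    unfold IsGen
    have key : (fun r : X.presheaf.stalk y => r • L.presheaf.germ U y hy e) =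
        (fun r : X.presheaf.stalk y => r • g) ∘ (fun r : X.presheaf.stalk y => r * c) := by
      funext r
      rw [Function.comp_apply, ← hc, mul_smul]
    rw [key]
    exact hg.comp (IsUnit.isUnit_iff_mulRight_bijective.1 hu)

lemma germ_smul_mem_mStalk (L : X.Modules) {U : X.Opens} (a : Γ(X, U)) (m : Γ(L, U)) (y : X)
    (hy : y ∈ U) (ha : y ∉ X.basicOpen a) : L.presheaf.germ U y hy (a • m) ∈ mStalk L y := by
  rw [Tensor.germ_smul]
  refine Submodule.smul_mem_smul ?_ Submodule.mem_top
  rw [IsLocalRing.mem_maximalIdeal]
  intro hu
  exact ha ((X.mem_basicOpen a y hy).2 hu)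

lemma germ_smul_mem_mStalk_iff (L : X.Modules) {U : X.Opens} (a : Γ(X, U)) (m : Γ(L, U)) (y : X)
    (hy : y ∈ U) (ha : y ∈ X.basicOpen a) :
    L.presheaf.germ U y hy (a • m) ∈ mStalk L y ↔ L.presheaf.germ U y hy m ∈ mStalk L y := by
  rw [Tensor.germ_smul]
  obtain ⟨c, hc⟩ := (X.mem_basicOpen a y hy).1 ha
  rw [← hc]
  constructor
  · intro h
    have := Submodule.smul_mem (mStalk L y) ((c⁻¹ : (X.presheaf.stalk y)ˣ) : X.presheaf.stalk y) h
    rwa [← mul_smul, Units.inv_mul, one_smul] at this
  · intro h
    exact Submodule.smul_mem _ _ h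


/-- **semilocal generation** on a quasi-affine scheme: for a finite set `E` inside an open `W`,
an invertible module has a global section generating it at every point of `E` and at no point
outside `W`. -/
theorem exists_section_isGen_finite [X.IsQuasiAffine] (L : X.Modules) (hL : PicF.IsInvertible L)
    (W : X.Opens) (E : Finset X) (hEW : ∀ x ∈ E, x ∈ W) :
    ∃ t : Γ(L, ⊤), (∀ x ∈ E, IsGen L t x trivial) ∧ ∀ y : X, IsGen L t y trivial → y ∈ W := by
  classical
  haveI : L.IsQuasicoherent := isQuasicoherent_of_isInvertible L hL
  have hgg := (isGloballyGenerated_iff L).1 (isGloballyGenerated_of_isQuasiAffine L)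
  induction E using Finset.strongInduction with
  | H E ih =>
    by_cases hne : E.Nonempty
    · obtain ⟨x, hxE, hx⟩ := exists_most_generic E hne
      obtain ⟨t', ht'1, ht'2⟩ := ih (E.erase x) (Finset.erase_ssubset hxE)
        (fun z hz => hEW z (Finset.mem_of_mem_erase hz))
      by_cases hgx : IsGen L t' x trivial
      · refine ⟨t', fun z hz => ?_, ht'2⟩
        by_cases hzx : z = x
        · subst hzx; exact hgx
        · exact ht'1 z (Finset.mem_erase.2 ⟨hzx, hz⟩)
      · -- the closed set of specializations of the other points
        let S : Set X := ⋃ z ∈ E.erase x, closure {z}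
        have hS : IsClosed S := isClosed_biUnion_finset (fun z _ => isClosed_closure)
        have hxS : x ∉ S := by
          intro hxS
          simp only [S, Set.mem_iUnion] at hxS
          obtain ⟨z, hz, hxz⟩ := hxS
          have hzx : z ⤳ x := specializes_iff_mem_closure.2 hxz
          exact (Finset.mem_erase.1 hz).1 (hx z (Finset.mem_of_mem_erase hz) hzx)
        let W' : X.Opens := ⟨(W : Set X) ∩ Sᶜ, W.2.inter hS.isOpen_compl⟩
        have hxW' : x ∈ W' := ⟨hEW x hxE, hxS⟩
        obtain ⟨_, ⟨d, _, rfl⟩, hxd, hdW'⟩ :=
          (Opens.isBasis_iff_nbhd.1 (Scheme.IsQuasiAffine.isBasis_basicOpen X)) hxW'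
        obtain ⟨m, hm⟩ := exists_isGen_of_ggAt L hL x (hgg x)
        refine ⟨t' + d • m, fun z hz => ?_, fun y hy => ?_⟩
        · rw [isGen_iff_germ_notMem L hL, map_add]
          by_cases hzx : z = x
          · subst hzx
            rw [isGen_iff_germ_notMem L hL] at hgx hm
            rw [not_not] at hgx
            intro hsum
            have h2 := (Submodule.add_mem_iff_right _ hgx).1 hsum
            rw [germ_smul_mem_mStalk_iff L d m z trivial hxd] at h2
            exact hm h2
          · have hzE : z ∈ E.erase x := Finset.mem_erase.2 ⟨hzx, hz⟩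
            have h1 := ht'1 z hzE
            rw [isGen_iff_germ_notMem L hL] at h1
            have hzd : z ∉ X.basicOpen d := by
              intro hzd
              have := (hdW' hzd).2
              apply this
              simp only [S, Set.mem_iUnion]
              exact ⟨z, hzE, subset_closure rfl⟩
            intro hsum
            exact h1 ((Submodule.add_mem_iff_left _ (germ_smul_mem_mStalk L d m z trivial hzd)).1 hsum)
        · by_contra hyW
          rw [isGen_iff_germ_notMem L hL, map_add] at hy
          apply hy
          refine Submodule.add_mem _ ?_ ?_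
          · by_contra h1
            rw [← isGen_iff_germ_notMem L hL] at h1
            exact hyW (ht'2 y h1)
          · apply germ_smul_mem_mStalk L d m y trivial
            intro hyd
            exact hyW (hdW' hyd).1
    · rw [Finset.not_nonempty_iff_eq_empty] at hne
      subst hne
      refine ⟨0, fun x hx => absurd hx (Finset.notMem_empty x), fun y hy => ?_⟩
      rw [isGen_iff_germ_notMem L hL, map_zero] at hy
      exact absurd (Submodule.zero_mem _) hy

end Groth.Agent.Helper13.SemiLocal
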