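import Mathlib
import Groth.Agent.Lib.Helper13.SemiLocal

set_option autoImplicit false
universe u
open CategoryTheory CategoryTheory.Limits AlgebraicGeometry Opposite TopologicalSpace TensorProduct
open Groth.Agent.Helper13.QCoh Groth.Agent.Helper13.FinType Groth.Agent.Helper13.Tensor
open Groth.Agent.Helper13.Inv Groth.Agent.Helper13.GenLoc Groth.Agent.Helper13.Qcqs
open Groth.Agent.Helper13.Twist Groth.Agent.Helper13.GlobGen

namespace Groth.Agent.Helper13.SemiLocal

variable {X : Scheme.{u}}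

/-- prime avoidance on a quasi-affine scheme: a finite set inside an open lies in a basic open
inside that open. -/
theorem exists_basicOpen_finite [X.IsQuasiAffine] (W : X.Opens) (E : Finset X)
    (hEW : ∀ x ∈ E, x ∈ W) :
    ∃ f : Γ(X, ⊤), (∀ x ∈ E, x ∈ X.basicOpen f) ∧ X.basicOpen f ≤ W := by
  obtain ⟨t, ht1, ht2⟩ := exists_section_isGen_finite (Coh.structureModule X)
    isInvertible_structureModule W E hEW
  have key : ∀ y : X, IsGen (Coh.structureModule X) t y trivial ↔
      y ∈ X.basicOpen (LocFree.ofO ⊤ t) := by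
    intro y
    have h := isGen_smul_iff (Coh.structureModule X) (LocFree.toO ⊤ 1) (LocFree.ofO ⊤ t) y trivial
      (Groth.Agent.Helper13.Ample.isGen_one ⊤ y trivial)
    have e : (LocFree.ofO ⊤ t) • (LocFree.toO (X := X) ⊤ 1) = t := by
      change LocFree.ofO ⊤ t * (1 : Γ(X, ⊤)) = _
      rw [mul_one]
    rw [e] at h
    exact h
  exact ⟨LocFree.ofO ⊤ t, fun x hx => (key x).1 (ht1 x hx), fun y hy => ht2 y ((key y).2 hy)⟩

/-- on a quasi-affine scheme, a finite set inside an open lies in an *affine* basic open inside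
that open. -/
theorem exists_affine_basicOpen_finite [X.IsQuasiAffine] (W : X.Opens) (E : Finset X)
    (hEW : ∀ x ∈ E, x ∈ W) :
    ∃ f : Γ(X, ⊤), (∀ x ∈ E, x ∈ X.basicOpen f) ∧ X.basicOpen f ≤ W ∧
      IsAffineOpen (X.basicOpen f) := by
  classical
  let j := X.toSpecΓ
  obtain ⟨g, hg1, hg2⟩ := exists_basicOpen_finite (X := Spec Γ(X, ⊤)) (j ''ᵁ W) (E.image j)
    (fun y hy => by
      obtain ⟨x, hx, rfl⟩ := Finset.mem_image.1 hy
      exact ⟨x, hEW x hx, rfl⟩)
  have hpre : j ⁻¹ᵁ (Scheme.basicOpen _ g) = X.basicOpen (j.appTop g) :=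
    Scheme.preimage_basicOpen_top j g
  refine ⟨j.appTop g, fun x hx => ?_, ?_, ?_⟩
  · rw [← hpre]
    exact hg1 (j x) (Finset.mem_image_of_mem _ hx)
  · rw [← hpre]
    intro x hx
    obtain ⟨x', hx', hxx'⟩ := hg2 hx
    have : x' = x := j.isOpenEmbedding.injective hxx'
    rw [← this]
    exact hx'
  · rw [← hpre, ← Scheme.Hom.isAffineOpen_iff_of_isOpenImmersion j,
      Scheme.Hom.image_preimage_eq_opensRange_inf]
    have : j.opensRange ⊓ Scheme.basicOpen _ g = Scheme.basicOpen _ g := by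
      rw [inf_eq_right]
      intro y hy
      obtain ⟨x', _, hxx'⟩ := hg2 hy
      exact ⟨x', hxx'⟩
    rw [this]
    exact (isAffineOpen_top _).basicOpen g

/-- `X_{f • t} = X_t ⊓ X_f` for an invertible module. -/
theorem genLocus_homOfSec_smul (L : X.Modules) (hL : PicF.IsInvertible L) (f : Γ(X, ⊤))
    (t : Γ(L, ⊤)) :
    CohB1.genLocus L (LocFree.homOfSec L (f • t)) =
      CohB1.genLocus L (LocFree.homOfSec L t) ⊓ X.basicOpen f := by
  ext y
  change y ∈ CohB1.genLocus L (LocFree.homOfSec L (f • t)) ↔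
    (y ∈ CohB1.genLocus L (LocFree.homOfSec L t) ∧ y ∈ X.basicOpen f)
  rw [mem_genLocus_iff_isGen L _ hL, mem_genLocus_iff_isGen L _ hL, sec_homOfSec, sec_homOfSec,
    isGen_iff_germ_notMem L hL, isGen_iff_germ_notMem L hL]
  constructor
  · intro h
    have hy : y ∈ X.basicOpen f := by
      by_contra hy
      exact h (germ_smul_mem_mStalk L f t y trivial hy)
    refine ⟨?_, hy⟩
    rwa [germ_smul_mem_mStalk_iff L f t y trivial hy] at h
  · rintro ⟨h, hy⟩
    rwa [germ_smul_mem_mStalk_iff L f t y trivial hy]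

/-- **EGA II 4.5.4 for quasi-affine schemes**: for an invertible module on a quasi-affine scheme
and a finite set `E` in an open `W`, some global section `s` has `E ⊆ X_s ⊆ W`, `X_s` affine. -/
theorem exists_affine_genLocus_finite [X.IsQuasiAffine] (L : X.Modules) (hL : PicF.IsInvertible L)
    (W : X.Opens) (E : Finset X) (hEW : ∀ x ∈ E, x ∈ W) :
    ∃ s : Coh.structureModule X ⟶ L, IsAffineOpen (CohB1.genLocus L s) ∧
      (∀ x ∈ E, x ∈ CohB1.genLocus L s) ∧ CohB1.genLocus L s ≤ W := by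
  obtain ⟨f, hf1, hf2, hf3⟩ := exists_affine_basicOpen_finite W E hEW
  obtain ⟨t, ht1, -⟩ := exists_section_isGen_finite L hL ⊤ E (fun _ _ => trivial)
  refine ⟨LocFree.homOfSec L (f • t), ?_, fun x hx => ?_, ?_⟩
  · rw [genLocus_homOfSec_smul L hL]
    exact isAffineOpen_genLocus_inf L hL _ hf3
  · rw [genLocus_homOfSec_smul L hL]
    refine ⟨?_, hf1 x hx⟩
    change x ∈ CohB1.genLocus L (LocFree.homOfSec L t)
    rw [mem_genLocus_iff_isGen L _ hL, sec_homOfSec]
    exact ht1 x hx
  · rw [genLocus_homOfSec_smul L hL]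
    exact inf_le_right.trans hf2

end Groth.Agent.Helper13.SemiLocal
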