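import Mathlib
import Groth.Agent.Lib.Helper13.SemiLocal2

set_option autoImplicit false
universe u
open CategoryTheory CategoryTheory.Limits AlgebraicGeometry Opposite TopologicalSpace TensorProduct
open Groth.Agent.Helper13.QCoh Groth.Agent.Helper13.FinType Groth.Agent.Helper13.Tensor
open Groth.Agent.Helper13.Inv Groth.Agent.Helper13.GenLoc Groth.Agent.Helper13.Qcqs
open Groth.Agent.Helper13.Twist Groth.Agent.Helper13.GlobGen

namespace Groth.Agent.Helper13.SemiLocal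

variable {X : Scheme.{u}}

/-- a section generating `L` at every point of `U` trivialises `L` over `U`. -/
theorem nonempty_restrict_iso_of_isGen (L : X.Modules) {U : X.Opens} (s : Γ(L, U))
    (hs : ∀ (y : X) (hy : y ∈ U), IsGen L s y hy) :
    Nonempty (L.restrict U.ι ≅ Coh.structureModule (↑U : Scheme.{u})) := by
  let s₀ : Γ(L, U.ι ''ᵁ ⊤) := L.presheaf.map (eqToHom (ι_image_top U)).op s
  have hgen : ∀ y : (U : Scheme.{u}), IsGen (L.restrict U.ι) (toRes U.ι L s₀) y trivial := by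
    intro y
    rw [isGen_restrict_iff U.ι L (U := ⊤) s₀ y trivial, isGen_res]
    exact hs _ _
  haveI := isIso_homOfSec (L.restrict U.ι) (toRes U.ι L s₀) hgen
  exact ⟨(asIso (LocFree.homOfSec (L.restrict U.ι) (toRes U.ι L s₀))).symm⟩

/-- **semilocal triviality**: an invertible module is trivial on an affine neighbourhood of any
finite set contained in a quasi-affine open (inside any given open neighbourhood). -/
theorem exists_affine_trivial_finite (L : X.Modules) (hL : PicF.IsInvertible L) (U₀ : X.Opens)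
    [(↑U₀ : Scheme.{u}).IsQuasiAffine] (W : X.Opens) (E : Finset X)
    (hEW : ∀ x ∈ E, x ∈ W) (hEU : ∀ x ∈ E, x ∈ U₀) :
    ∃ U : X.Opens, IsAffineOpen U ∧ (∀ x ∈ E, x ∈ U) ∧ U ≤ W ∧ U ≤ U₀ ∧
      ∃ t : Γ(L, U), ∀ (y : X) (hy : y ∈ U), IsGen L t y hy := by
  classical
  let M := L.restrict U₀.ι
  have hM : PicF.IsInvertible M := isInvertible_restrict U₀.ι L hL
  let EY : Finset (↑U₀ : Scheme.{u}) := E.subtype (· ∈ U₀)
  obtain ⟨s, hs1, hs2, hs3⟩ := exists_affine_genLocus_finite M hM (U₀.ι ⁻¹ᵁ W) EY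
    (fun y hy => hEW y.1 (Finset.mem_subtype.1 hy))
  let G := CohB1.genLocus M s
  refine ⟨U₀.ι ''ᵁ G, hs1.image_of_isOpenImmersion U₀.ι, fun x hx => ?_, ?_, ?_, ?_⟩
  · exact ⟨⟨x, hEU x hx⟩, hs2 ⟨x, hEU x hx⟩ (Finset.mem_subtype.2 hx), rfl⟩
  · rintro _ ⟨y, hy, rfl⟩
    exact hs3 hy
  · rintro _ ⟨y, _, rfl⟩
    exact y.2
  · -- the section
    let t₀ : Γ(L, U₀.ι ''ᵁ G) := (M.presheaf.map (homOfLE (le_top : G ≤ ⊤)).op (sec M s) : Γ(M, G))
    refine ⟨t₀, ?_⟩
    rintro _ ⟨y, hy, rfl⟩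
    have h1 : IsGen M (sec M s) y trivial := isGen_of_mem_genLocus M s hy
    rw [← isGen_res M (homOfLE (le_top : G ≤ ⊤)) (sec M s) y hy] at h1
    exact (isGen_restrict_iff U₀.ι L (U := G) t₀ y hy).1 h1

end Groth.Agent.Helper13.SemiLocal
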