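import Mathlib
import Groth.Agent.Lib.Helper13.SemiLocal3

set_option autoImplicit false
universe u
open CategoryTheory CategoryTheory.Limits AlgebraicGeometry Opposite TopologicalSpace TensorProduct
open Groth.Agent.Helper13.QCoh Groth.Agent.Helper13.FinType Groth.Agent.Helper13.Tensor
open Groth.Agent.Helper13.Inv Groth.Agent.Helper13.GenLoc Groth.Agent.Helper13.Qcqs
open Groth.Agent.Helper13.Twist Groth.Agent.Helper13.GlobGen

namespace Groth.Agent.Helper13.SemiLocal

variable {X : Scheme.{u}}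

/-- over an open contained in `X_σ`, the map `σ` is bijective on sections. -/
theorem app_bijective_of_le_genLocus (N : X.Modules) (σ : Coh.structureModule X ⟶ N)
    (W : X.Opens) (hW : W ≤ CohB1.genLocus N σ) : Function.Bijective (σ.app W) :=
  TopCat.Presheaf.app_bijective_of_stalkFunctor_map_bijective
    (F := ⟨(Coh.structureModule X).presheaf, (Coh.structureModule X).isSheaf⟩)
    (G := ⟨N.presheaf, N.isSheaf⟩) ⟨σ.mapPresheaf⟩ W
    (fun _ hx => stalkMap_bijective_of_mem_genLocus N σ (hW hx))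

theorem bijective_smul_of_le_genLocus (N : X.Modules) (t : Γ(N, ⊤)) (W : X.Opens)
    (hW : W ≤ CohB1.genLocus N (LocFree.homOfSec N t)) :
    Function.Bijective (fun r : Γ(X, W) => r • N.presheaf.map (homOfLE (le_top : W ≤ ⊤)).op t) := by
  have h := app_bijective_of_le_genLocus N (LocFree.homOfSec N t) W hW
  have key : (fun r : Γ(X, W) => r • N.presheaf.map (homOfLE (le_top : W ≤ ⊤)).op t) =
      fun r : Γ(X, W) => (LocFree.homOfSec N t).app W (LocFree.toO W r) := by
    funext r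
    exact (LocFree.homOfSec_app N t W r).symm
  rw [key]
  exact h

lemma mem_genLocus_homOfSec_iff (N : X.Modules) (hN : PicF.IsInvertible N) (t : Γ(N, ⊤)) (y : X) :
    y ∈ CohB1.genLocus N (LocFree.homOfSec N t) ↔ N.presheaf.germ ⊤ y trivial t ∉ mStalk N y := by
  rw [mem_genLocus_iff_isGen N _ hN, sec_homOfSec, isGen_iff_germ_notMem N hN]

/-- if `X_{t₁}` and `X_{t₂}` are affine then so is `X_{t₁ + t₂}`. -/
theorem isAffineOpen_genLocus_add (N : X.Modules) (hN : PicF.IsInvertible N) (t₁ t₂ : Γ(N, ⊤))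
    (h₁ : IsAffineOpen (CohB1.genLocus N (LocFree.homOfSec N t₁)))
    (h₂ : IsAffineOpen (CohB1.genLocus N (LocFree.homOfSec N t₂))) :
    IsAffineOpen (CohB1.genLocus N (LocFree.homOfSec N (t₁ + t₂))) := by
  set Y := CohB1.genLocus N (LocFree.homOfSec N (t₁ + t₂)) with hY
  have hb := bijective_smul_of_le_genLocus N (t₁ + t₂) Y le_rfl
  set e := N.presheaf.map (homOfLE (le_top : Y ≤ ⊤)).op (t₁ + t₂) with he
  obtain ⟨f₁, hf₁⟩ := hb.2 (N.presheaf.map (homOfLE (le_top : Y ≤ ⊤)).op t₁)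
  obtain ⟨f₂, hf₂⟩ := hb.2 (N.presheaf.map (homOfLE (le_top : Y ≤ ⊤)).op t₂)
  have hf₁ : f₁ • e = N.presheaf.map (homOfLE (le_top : Y ≤ ⊤)).op t₁ := hf₁
  have hf₂ : f₂ • e = N.presheaf.map (homOfLE (le_top : Y ≤ ⊤)).op t₂ := hf₂
  have hsum : f₁ + f₂ = 1 := by
    apply hb.1
    change (f₁ + f₂) • e = (1 : Γ(X, Y)) • e
    rw [add_smul, hf₁, hf₂, one_smul, he, map_add]
  have hgen : ∀ (y : X) (hy : y ∈ Y), IsGen N e y hy := by
    intro y hy
    have h := isGen_of_mem_genLocus N _ hy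
    rw [sec_homOfSec] at h
    exact (isGen_res N (homOfLE (le_top : Y ≤ ⊤)) (t₁ + t₂) y hy).2 h
  have hbo : ∀ (t : Γ(N, ⊤)) (f : Γ(X, Y)), f • e = N.presheaf.map (homOfLE (le_top : Y ≤ ⊤)).op t →
      IsAffineOpen (CohB1.genLocus N (LocFree.homOfSec N t)) → IsAffineOpen (X.basicOpen f) := by
    intro t f hf ht
    have h := genLocus_inf_eq_basicOpen N (LocFree.homOfSec N t) e hgen f (by
      rw [sec_homOfSec]; exact hf.symm)
    rw [← h, inf_comm]
    exact isAffineOpen_genLocus_inf N hN _ ht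
  refine isAffineOpen_of_isAffineOpen_basicOpen Y {f₁, f₂} ?_ ?_
  · rw [Ideal.eq_top_iff_one, ← hsum]
    exact Ideal.add_mem _ (Ideal.subset_span (by simp)) (Ideal.subset_span (by simp))
  · intro f hf
    rcases hf with rfl | rfl
    · exact hbo t₁ _ hf₁ h₁
    · exact hbo t₂ _ hf₂ h₂

end Groth.Agent.Helper13.SemiLocal
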