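import Mathlib
import Groth.Agent.Lib.Helper13.SemiLocal4

set_option autoImplicit false
universe u
open CategoryTheory CategoryTheory.Limits AlgebraicGeometry Opposite TopologicalSpace TensorProduct
open Groth.Agent.Helper13.QCoh Groth.Agent.Helper13.FinType Groth.Agent.Helper13.Tensor
open Groth.Agent.Helper13.Inv Groth.Agent.Helper13.GenLoc Groth.Agent.Helper13.Qcqs
open Groth.Agent.Helper13.Twist Groth.Agent.Helper13.GlobGen Groth.Agent.Helper13.Ample

namespace Groth.Agent.Helper13.SemiLocal

variable {X : Scheme.{u}}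

/-- for an ample `L`, every point has arbitrarily small *affine* neighbourhoods `X_σ`. -/
theorem exists_affine_genLocus_nhd (L : X.Modules) (hL : CohB1.IsAmple L) (U : X.Opens) (x : X)
    (hxU : x ∈ U) :
    ∃ (m : ℕ) (σ : Coh.structureModule X ⟶ CohB1.tensorPow L (m + 1)),
      x ∈ CohB1.genLocus _ σ ∧ CohB1.genLocus _ σ ≤ U ∧ IsAffineOpen (CohB1.genLocus _ σ) := by
  haveI := hL.2.1
  haveI := quasiSeparatedSpace_of_isAmple L hL
  obtain ⟨n, s, hx, hs⟩ := hL.2.2 x
  obtain ⟨g, hg1, hg2⟩ := hs.exists_basicOpen_le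
    (V := U ⊓ CohB1.genLocus _ s) ⟨x, ⟨hxU, hx⟩⟩ hx
  obtain ⟨k, σ, hσ⟩ := exists_genLocus_eq_basicOpen_of_affine (CohB1.tensorPow L (n + 1))
    (isInvertible_tensorPow L hL.1 (n + 1)) s g
  obtain ⟨m, hm⟩ : ∃ m, (n + 1) * (k + 1) = m + 1 := ⟨n * k + n + k, by ring⟩
  refine ⟨m, σ ≫ (powMul L (n + 1) (k + 1) ≪≫ powCast L hm).hom, ?_, ?_, ?_⟩
  · rw [genLocus_comp_iso, hσ]; exact hg2
  · rw [genLocus_comp_iso, hσ]; exact hg1.trans inf_le_left
  · rw [genLocus_comp_iso, hσ]; exact hs.basicOpen g

/-- **EGA II 4.5.4**: for an ample `L` and a finite set `Z` inside an open `U` there is a section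
`s` of a positive power of `L` with `Z ⊆ X_s ⊆ U` and `X_s` affine. -/
theorem exists_affine_genLocus_finite_of_isAmple (L : X.Modules) (hL : CohB1.IsAmple L)
    (U : X.Opens) (Z : Finset X) (hZU : ∀ z ∈ Z, z ∈ U) :
    ∃ (n : ℕ) (s : Coh.structureModule X ⟶ CohB1.tensorPow L (n + 1)),
      (∀ z ∈ Z, z ∈ CohB1.genLocus _ s) ∧ CohB1.genLocus _ s ≤ U ∧
        IsAffineOpen (CohB1.genLocus _ s) := by
  classical
  induction Z using Finset.strongInduction with
  | H Z ih =>
    by_cases hne : Z.Nonempty
    · obtain ⟨x, hxZ, hx⟩ := exists_most_generic Z hne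
      obtain ⟨a, s', h1, h2, h3⟩ := ih (Z.erase x) (Finset.erase_ssubset hxZ)
        (fun z hz => hZU z (Finset.mem_of_mem_erase hz))
      by_cases hgx : x ∈ CohB1.genLocus _ s'
      · refine ⟨a, s', fun z hz => ?_, h2, h3⟩
        by_cases hzx : z = x
        · subst hzx; exact hgx
        · exact h1 z (Finset.mem_erase.2 ⟨hzx, hz⟩)
      · let S : Set X := ⋃ z ∈ Z.erase x, closure {z}
        have hS : IsClosed S := isClosed_biUnion_finset (fun z _ => isClosed_closure)
        have hxS : x ∉ S := by
          intro hxS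
          simp only [S, Set.mem_iUnion] at hxS
          obtain ⟨z, hz, hxz⟩ := hxS
          have hzx : z ⤳ x := specializes_iff_mem_closure.2 hxz
          exact (Finset.mem_erase.1 hz).1 (hx z (Finset.mem_of_mem_erase hz) hzx)
        let U' : X.Opens := ⟨(U : Set X) ∩ Sᶜ, U.2.inter hS.isOpen_compl⟩
        have hxU' : x ∈ U' := ⟨hZU x hxZ, hxS⟩
        obtain ⟨b, d, hxd, hdU', hdaff⟩ := exists_affine_genLocus_nhd L hL U' x hxU'
        -- common degree
        let N := CohB1.tensorPow L ((a + 1) * (b + 1))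
        have hN : PicF.IsInvertible N := isInvertible_tensorPow L hL.1 _
        let p₁ : Coh.structureModule X ⟶ N :=
          SecTwist.powHom s' (b + 1) ≫ (powMul L (a + 1) (b + 1)).hom
        let p₂ : Coh.structureModule X ⟶ N :=
          SecTwist.powHom d (a + 1) ≫
            (powMul L (b + 1) (a + 1) ≪≫ powCast L (Nat.mul_comm (b + 1) (a + 1))).hom
        have hp₁ : CohB1.genLocus N p₁ = CohB1.genLocus _ s' := by
          rw [genLocus_comp_iso, genLocus_powHom _ (isInvertible_tensorPow L hL.1 _)]
        have hp₂ : CohB1.genLocus N p₂ = CohB1.genLocus _ d := by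
          rw [genLocus_comp_iso, genLocus_powHom _ (isInvertible_tensorPow L hL.1 _)]
        let t₁ := sec N p₁
        let t₂ := sec N p₂
        have ht₁ : LocFree.homOfSec N t₁ = p₁ := homOfSec_sec N p₁
        have ht₂ : LocFree.homOfSec N t₂ = p₂ := homOfSec_sec N p₂
        have hm₁ : ∀ y : X, y ∈ CohB1.genLocus _ s' ↔ N.presheaf.germ ⊤ y trivial t₁ ∉ mStalk N y := by
          intro y
          rw [← hp₁, ← ht₁]
          exact mem_genLocus_homOfSec_iff N hN t₁ y
        have hm₂ : ∀ y : X, y ∈ CohB1.genLocus _ d ↔ N.presheaf.germ ⊤ y trivial t₂ ∉ mStalk N y := by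
          intro y
          rw [← hp₂, ← ht₂]
          exact mem_genLocus_homOfSec_iff N hN t₂ y
        obtain ⟨m, hm⟩ : ∃ m, (a + 1) * (b + 1) = m + 1 := ⟨a * b + a + b, by ring⟩
        refine ⟨m, LocFree.homOfSec N (t₁ + t₂) ≫ (powCast L hm).hom, fun z hz => ?_, ?_, ?_⟩
        · rw [genLocus_comp_iso, mem_genLocus_homOfSec_iff N hN, map_add]
          by_cases hzx : z = x
          · subst hzx
            have e1 := (not_iff_not.2 (hm₁ z)).1 hgx
            rw [not_not] at e1
            have e2 := (hm₂ z).1 hxd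
            intro hsum
            exact e2 ((Submodule.add_mem_iff_right _ e1).1 hsum)
          · have hzE : z ∈ Z.erase x := Finset.mem_erase.2 ⟨hzx, hz⟩
            have e1 := (hm₁ z).1 (h1 z hzE)
            have hzd : z ∉ CohB1.genLocus _ d := by
              intro hzd
              apply (hdU' hzd).2
              simp only [S, Set.mem_iUnion]
              exact ⟨z, hzE, subset_closure rfl⟩
            have e2 := (not_iff_not.2 (hm₂ z)).1 hzd
            rw [not_not] at e2
            intro hsum
            exact e1 ((Submodule.add_mem_iff_left _ e2).1 hsum)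
        · rw [genLocus_comp_iso]
          intro y hy
          rw [mem_genLocus_homOfSec_iff N hN, map_add] at hy
          by_contra hyU
          apply hy
          refine Submodule.add_mem _ ?_ ?_
          · by_contra e1
            exact hyU (h2 ((hm₁ y).2 e1))
          · by_contra e2
            exact hyU (hdU' ((hm₂ y).2 e2)).1
        · rw [genLocus_comp_iso]
          refine isAffineOpen_genLocus_add N hN t₁ t₂ ?_ ?_
          · rw [ht₁, hp₁]; exact h3
          · rw [ht₂, hp₂]; exact hdaff
    · rw [Finset.not_nonempty_iff_eq_empty] at hne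
      subst hne
      have hN : PicF.IsInvertible (CohB1.tensorPow L (0 + 1)) := isInvertible_tensorPow L hL.1 _
      have hbot : CohB1.genLocus _ (LocFree.homOfSec (CohB1.tensorPow L (0 + 1)) 0) = ⊥ := by
        rw [eq_bot_iff]
        intro y hy
        rw [mem_genLocus_homOfSec_iff _ hN, map_zero] at hy
        exact absurd (Submodule.zero_mem _) hy
      refine ⟨0, LocFree.homOfSec _ 0, fun z hz => absurd hz (Finset.notMem_empty z), ?_, ?_⟩
      · rw [hbot]; exact bot_le
      · rw [hbot]; exact isAffineOpen_bot X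

end Groth.Agent.Helper13.SemiLocal
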