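import Mathlib
import Groth.Agent.Lib.Helper13.SemiLocal5

set_option autoImplicit false
universe u
open CategoryTheory CategoryTheory.Limits AlgebraicGeometry Opposite TopologicalSpace TensorProduct
open Groth.Agent.Helper13.QCoh Groth.Agent.Helper13.FinType Groth.Agent.Helper13.Tensor
open Groth.Agent.Helper13.Inv Groth.Agent.Helper13.GenLoc Groth.Agent.Helper13.Qcqs
open Groth.Agent.Helper13.Twist Groth.Agent.Helper13.GlobGen Groth.Agent.Helper13.Ample

namespace Groth.Agent.Helper13.SemiLocal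

variable {X : Scheme.{u}}

lemma isGen_pow_of_mem_genLocus (M : X.Modules) (σ : Coh.structureModule X ⟶ M) (n : ℕ) (z : X)
    (hz : z ∈ CohB1.genLocus M σ) :
    IsGen (CohB1.tensorPow M n) (SecTwist.pow σ n (CohB1.genLocus M σ)) z hz := by
  rw [pow_eq_lpow]
  apply isGen_lpow
  have := isGen_of_mem_genLocus M σ hz
  rw [← isGen_res M (homOfLE (le_top : CohB1.genLocus M σ ≤ ⊤)) _ z hz] at this
  have h2 : M.presheaf.map (homOfLE (le_top : CohB1.genLocus M σ ≤ ⊤)).op (sec M σ) =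
      SecTwist.val σ (CohB1.genLocus M σ) := SecTwist.map_val σ (homOfLE le_top)
  rw [h2] at this
  exact this

/-- extension of `t ⊗ σ^m` for all large `m`. -/
theorem exists_twist_eq_res_ge [CompactSpace X] [QuasiSeparatedSpace X] (M : X.Modules)
    (hM : PicF.IsInvertible M) (σ : Coh.structureModule X ⟶ M) (G : X.Modules)
    [G.IsQuasicoherent] (t : Γ(G, CohB1.genLocus M σ)) :
    ∃ m₀ : ℕ, ∀ m, m₀ ≤ m → ∃ v : Γ(CohB1.tensorMod G (CohB1.tensorPow M m), ⊤),
      res _ (le_top : CohB1.genLocus M σ ≤ ⊤) v = SecTwist.twist σ m G (CohB1.genLocus M σ) t := by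
  have hc : IsCompact ((⊤ : X.Opens) : Set X) := by simpa using isCompact_univ
  obtain ⟨m₀, u, hu⟩ := exists_twist_eq_res M hM σ G t ⊤ hc
  refine ⟨m₀, fun m hm => ?_⟩
  obtain ⟨k, rfl⟩ := Nat.exists_eq_add_of_le hm
  refine ⟨mu M G σ k m₀ u, ?_⟩
  rw [res_def]
  refine (mu_res M G σ k (homOfLE le_top) m₀ u).trans ?_
  rw [← mu_twist]
  congr 1
  have := hu (CohB1.genLocus M σ) le_top le_rfl
  rw [res_self] at this
  exact this

/-- for an ample `L`, an invertible `E` and finitely many points, there are sections of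
`E ⊗ L^{kn}` generating at all the points. -/
theorem exists_section_twist_generating (L : X.Modules) (hL : CohB1.IsAmple L) (E : X.Modules)
    (hE : PicF.IsInvertible E) (Z : Finset X) :
    ∃ n : ℕ, ∀ k : ℕ, 1 ≤ k →
      ∃ s : Coh.structureModule X ⟶ CohB1.tensorMod E (CohB1.tensorPow L (k * n)),
        ∀ z ∈ Z, z ∈ CohB1.genLocus (CohB1.tensorMod E (CohB1.tensorPow L (k * n))) s := by
  haveI := hL.2.1
  haveI := quasiSeparatedSpace_of_isAmple L hL
  haveI : E.IsQuasicoherent := isQuasicoherent_of_isInvertible E hE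
  -- an affine `X_σ₀` containing `Z`
  obtain ⟨a₀, σ₀, h01, -, h03⟩ := exists_affine_genLocus_finite_of_isAmple L hL ⊤ Z
    (fun _ _ => trivial)
  haveI : IsAffine (↑(CohB1.genLocus _ σ₀) : Scheme.{u}) := h03
  -- an affine open `U ⊆ X_σ₀` containing `Z` on which `E` is trivial
  obtain ⟨U, -, hU2, -, -, t, ht⟩ := exists_affine_trivial_finite E hE (CohB1.genLocus _ σ₀) ⊤ Z
    (fun _ _ => trivial) h01
  -- an affine `X_σ ⊆ U` containing `Z`
  obtain ⟨a, σ, h1, h2, -⟩ := exists_affine_genLocus_finite_of_isAmple L hL U Z hU2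
  let M := CohB1.tensorPow L (a + 1)
  have hM : PicF.IsInvertible M := isInvertible_tensorPow L hL.1 _
  let e : Γ(E, CohB1.genLocus M σ) := res E h2 t
  have he : ∀ (y : X) (hy : y ∈ CohB1.genLocus M σ), IsGen E e y hy :=
    fun y hy => (isGen_res E (homOfLE h2) t y hy).2 (ht y (h2 hy))
  obtain ⟨m₀, hm₀⟩ := exists_twist_eq_res_ge M hM σ E e
  refine ⟨(a + 1) * m₀, fun k hk => ?_⟩
  obtain ⟨v, hv⟩ := hm₀ (k * m₀) (Nat.le_mul_of_pos_left m₀ hk)
  have hN : PicF.IsInvertible (CohB1.tensorMod E (CohB1.tensorPow M (k * m₀))) :=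
    isInvertible_tensorMod _ _ hE (isInvertible_tensorPow M hM _)
  have heq : (a + 1) * (k * m₀) = k * ((a + 1) * m₀) := by ring
  let φ : CohB1.tensorMod E (CohB1.tensorPow M (k * m₀)) ≅
      CohB1.tensorMod E (CohB1.tensorPow L (k * ((a + 1) * m₀))) :=
    mapIso (Iso.refl E) (powMul L (a + 1) (k * m₀) ≪≫ powCast L heq)
  refine ⟨LocFree.homOfSec _ v ≫ φ.hom, fun z hz => ?_⟩
  rw [genLocus_comp_iso, mem_genLocus_iff_isGen _ _ hN, sec_homOfSec,
    ← isGen_res _ (homOfLE (le_top : CohB1.genLocus M σ ≤ ⊤)) v z (h1 z hz)]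
  change IsGen _ (res _ (le_top : CohB1.genLocus M σ ≤ ⊤) v) z (h1 z hz)
  rw [hv]
  exact isGen_tmul E (CohB1.tensorPow M (k * m₀)) e _ z (h1 z hz) (he z (h1 z hz))
    (isGen_pow_of_mem_genLocus M σ (k * m₀) z (h1 z hz))

end Groth.Agent.Helper13.SemiLocal
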