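import Mathlib
import Groth.Agent.Lib.Helper13.SemiLocal6

set_option autoImplicit false
universe u
open CategoryTheory CategoryTheory.Limits AlgebraicGeometry Opposite TopologicalSpace TensorProduct
open Groth.Agent.Helper13.QCoh Groth.Agent.Helper13.FinType Groth.Agent.Helper13.Tensor
open Groth.Agent.Helper13.Inv Groth.Agent.Helper13.GenLoc Groth.Agent.Helper13.Qcqs
open Groth.Agent.Helper13.Twist Groth.Agent.Helper13.GlobGen Groth.Agent.Helper13.Ample

namespace Groth.Agent.Helper13.SemiLocal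

variable {X : Scheme.{u}}

/-- for an ample `A`, an invertible `E` and finitely many points, for every large `N` there is a
section of `E ⊗ A^N` generating at all the points. -/
theorem exists_section_twist_generating_all (A : X.Modules) (hA : CohB1.IsAmple A) (E : X.Modules)
    (hE : PicF.IsInvertible E) (Z : Finset X) :
    ∃ N₀ : ℕ, ∀ N : ℕ, N₀ ≤ N →
      ∃ s : Coh.structureModule X ⟶ CohB1.tensorMod E (CohB1.tensorPow A N),
        ∀ z ∈ Z, z ∈ CohB1.genLocus (CohB1.tensorMod E (CohB1.tensorPow A N)) s := by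
  haveI := hA.2.1
  haveI := quasiSeparatedSpace_of_isAmple A hA
  obtain ⟨a₀, σ₀, h01, -, h03⟩ := exists_affine_genLocus_finite_of_isAmple A hA ⊤ Z
    (fun _ _ => trivial)
  haveI : IsAffine (↑(CohB1.genLocus _ σ₀) : Scheme.{u}) := h03
  obtain ⟨U₁, hU₁, hZU₁, -, -, tE, htE⟩ := exists_affine_trivial_finite E hE
    (CohB1.genLocus _ σ₀) ⊤ Z (fun _ _ => trivial) h01
  haveI : IsAffine (↑U₁ : Scheme.{u}) := hU₁
  obtain ⟨U₂, -, hZU₂, -, hU₂₁, tA, htA⟩ := exists_affine_trivial_finite A hA.1 U₁ ⊤ Z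
    (fun _ _ => trivial) hZU₁
  obtain ⟨a, σ, h1, h2, -⟩ := exists_affine_genLocus_finite_of_isAmple A hA U₂ Z hZU₂
  let d := a + 1
  let M := CohB1.tensorPow A d
  have hM : PicF.IsInvertible M := isInvertible_tensorPow A hA.1 _
  let G := CohB1.genLocus M σ
  let eE : Γ(E, G) := res E (h2.trans hU₂₁) tE
  let eA : Γ(A, G) := res A h2 tA
  have heE : ∀ (y : X) (hy : y ∈ G), IsGen E eE y hy :=
    fun y hy => (isGen_res E (homOfLE (h2.trans hU₂₁)) tE y hy).2 (htE y _)
  have heA : ∀ (y : X) (hy : y ∈ G), IsGen A eA y hy :=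
    fun y hy => (isGen_res A (homOfLE h2) tA y hy).2 (htA y _)
  have key : ∀ r : ℕ, ∃ m₀ : ℕ, ∀ m, m₀ ≤ m →
      ∃ s : Coh.structureModule X ⟶ CohB1.tensorMod E (CohB1.tensorPow A (r + d * m)),
        ∀ z ∈ Z, z ∈ CohB1.genLocus _ s := by
    intro r
    let Er := CohB1.tensorMod E (CohB1.tensorPow A r)
    have hEr : PicF.IsInvertible Er := isInvertible_tensorMod _ _ hE (isInvertible_tensorPow A hA.1 r)
    haveI : Er.IsQuasicoherent := isQuasicoherent_of_isInvertible Er hEr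
    let er : Γ(Er, G) := tmul E (CohB1.tensorPow A r) eE (lpow A eA r)
    have her : ∀ (y : X) (hy : y ∈ G), IsGen Er er y hy := fun y hy =>
      isGen_tmul E (CohB1.tensorPow A r) eE _ y hy (heE y hy) (isGen_lpow A eA y hy (heA y hy) r)
    obtain ⟨m₀, hm₀⟩ := exists_twist_eq_res_ge M hM σ Er er
    refine ⟨m₀, fun m hm => ?_⟩
    obtain ⟨v, hv⟩ := hm₀ m hm
    have hN : PicF.IsInvertible (CohB1.tensorMod Er (CohB1.tensorPow M m)) :=
      isInvertible_tensorMod _ _ hEr (isInvertible_tensorPow M hM _)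
    refine ⟨LocFree.homOfSec _ v ≫ (twistIso E A r d m).hom, fun z hz => ?_⟩
    rw [genLocus_comp_iso, mem_genLocus_iff_isGen _ _ hN, sec_homOfSec,
      ← isGen_res _ (homOfLE (le_top : G ≤ ⊤)) v z (h1 z hz)]
    change IsGen _ (res _ (le_top : G ≤ ⊤) v) z (h1 z hz)
    rw [hv]
    exact isGen_tmul Er (CohB1.tensorPow M m) er _ z (h1 z hz) (her z (h1 z hz))
      (isGen_pow_of_mem_genLocus M σ m z (h1 z hz))
  choose m₀ hm₀ using key
  refine ⟨d * ((Finset.range d).sup m₀ + 1), fun N hN => ?_⟩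
  obtain ⟨r, m, hr, rfl⟩ : ∃ r m, r < d ∧ N = r + d * m :=
    ⟨N % d, N / d, Nat.mod_lt _ (Nat.succ_pos a), (Nat.mod_add_div N d).symm⟩
  refine hm₀ r m ?_
  have h1' : d * ((Finset.range d).sup m₀ + 1) < d * (m + 1) := by
    calc d * ((Finset.range d).sup m₀ + 1) ≤ r + d * m := hN
      _ < d + d * m := by omega
      _ = d * (m + 1) := by ring
  have h2' := Nat.lt_of_mul_lt_mul_left h1'
  exact (Finset.le_sup (Finset.mem_range.2 hr)).trans (by omega)

end Groth.Agent.Helper13.SemiLocal
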