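import Mathlib
import Groth.Agent.Lib.Helper13.SemiLocal7

set_option autoImplicit false
universe u
open CategoryTheory CategoryTheory.Limits AlgebraicGeometry Opposite TopologicalSpace TensorProduct
open Groth.Agent.Helper13.QCoh Groth.Agent.Helper13.FinType Groth.Agent.Helper13.Tensor
open Groth.Agent.Helper13.Inv Groth.Agent.Helper13.GenLoc Groth.Agent.Helper13.Qcqs
open Groth.Agent.Helper13.Twist Groth.Agent.Helper13.GlobGen Groth.Agent.Helper13.Ample
open Groth.Agent.Helper13.SemiLocal

namespace Groth.Agent.Helper13.IntInv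

variable {X : Scheme.{u}}

lemma genericPoint_mem [IsIntegral X] (U : X.Opens) (y : X) (hy : y ∈ U) : genericPoint X ∈ U :=
  ((genericPoint_spec X).mem_open_set_iff U.isOpen).mpr ⟨y, trivial, hy⟩

/-- on an integral scheme, a section of an invertible module with a vanishing germ is zero. -/
theorem eq_zero_of_germ_eq_zero [IsIntegral X] (L : X.Modules) (hL : PicF.IsInvertible L)
    {U : X.Opens} (t : Γ(L, U)) (y : X) (hy : y ∈ U) (h : L.presheaf.germ U y hy t = 0) :
    t = 0 := by
  -- the germ at the generic point vanishes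
  have hη : L.presheaf.germ U (genericPoint X) (genericPoint_mem U y hy) t = 0 := by
    have h0 : L.presheaf.germ U y hy t = L.presheaf.germ U y hy 0 := by rw [h, map_zero]
    obtain ⟨W, hyW, i₁, i₂, hc⟩ := TopCat.Presheaf.germ_eq L.presheaf y hy hy t 0 h0
    have hW := genericPoint_mem W y hyW
    rw [← TopCat.Presheaf.germ_res_apply L.presheaf i₁ (genericPoint X) hW t, hc, map_zero, map_zero]
  apply TopCat.Presheaf.section_ext ⟨L.presheaf, L.isSheaf⟩ U t 0
  intro z hz
  obtain ⟨V, hzV, e, he⟩ := (isInvertible_iff_exists_isGen L).1 hL z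
  obtain ⟨W, hzW, hWV, hWU, a, ha⟩ := exists_eq_smul_of_isGen L e z hzV (he z hzV) hz t
  have hηW := genericPoint_mem W z hzW
  have h1 : L.presheaf.germ W (genericPoint X) hηW (L.presheaf.map (homOfLE hWU).op t) = 0 := by
    rw [TopCat.Presheaf.germ_res_apply]; exact hη
  rw [ha, Tensor.germ_smul] at h1
  have hgen : IsGen L (L.presheaf.map (homOfLE hWV).op e) (genericPoint X) hηW :=
    (isGen_res L (homOfLE hWV) e _ hηW).2 (he _ (hWV hηW))
  have h2 : X.presheaf.germ W (genericPoint X) hηW a = 0 := by
    apply hgen.1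
    change _ • _ = (0 : X.presheaf.stalk (genericPoint X)) • _
    rw [h1, zero_smul]
  have ha0 : a = 0 := by
    apply germ_injective_of_isIntegral X (genericPoint X) hηW
    rw [h2, map_zero]
  rw [map_zero, ← TopCat.Presheaf.germ_res_apply L.presheaf (homOfLE hWU) z hzW t, ha, ha0,
    zero_smul, map_zero]

lemma sec_zero (L : X.Modules) : sec L (0 : Coh.structureModule X ⟶ L) = 0 := rfl

lemma sec_ne_zero (L : X.Modules) (s : Coh.structureModule X ⟶ L) (hs : s ≠ 0) : sec L s ≠ 0 := by
  intro h
  apply hs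
  rw [← homOfSec_sec L s, h, ← sec_zero L, homOfSec_sec]

/-- on an integral scheme, a nonzero section of an invertible module generates it at the generic
point. -/
theorem genericPoint_mem_genLocus [IsIntegral X] (L : X.Modules) (hL : PicF.IsInvertible L)
    (s : Coh.structureModule X ⟶ L) (hs : s ≠ 0) : genericPoint X ∈ CohB1.genLocus L s := by
  rw [mem_genLocus_iff_isGen L s hL, isGen_iff_germ_notMem L hL]
  intro hmem
  unfold mStalk at hmem
  have hbot : IsLocalRing.maximalIdeal (X.presheaf.stalk (genericPoint X)) = ⊥ :=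
    IsLocalRing.maximalIdeal_eq_bot (R := X.functionField)
  rw [hbot, Submodule.bot_smul, Submodule.mem_bot] at hmem
  exact sec_ne_zero L s hs (eq_zero_of_germ_eq_zero L hL _ _ trivial hmem)

/-- if `X_s = ⊤` then `L ≅ O`. -/
theorem nonempty_iso_of_genLocus_eq_top (L : X.Modules) (hL : PicF.IsInvertible L)
    (s : Coh.structureModule X ⟶ L) (h : CohB1.genLocus L s = ⊤) :
    Nonempty (L ≅ Coh.structureModule X) := by
  have hgen : ∀ y : X, IsGen L (sec L s) y trivial := by
    intro y
    rw [← mem_genLocus_iff_isGen L s hL, h]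
    trivial
  haveI := isIso_homOfSec L (sec L s) hgen
  exact ⟨(asIso (LocFree.homOfSec L (sec L s))).symm⟩

/-- for a global function `σ : O ⟶ O` which is nonzero, when `Γ(X, ⊤)` is a field, `X_σ = ⊤`. -/
theorem genLocus_structureModule_eq_top (hfield : IsField (Γ(X, ⊤) : Type u))
    (σ : Coh.structureModule X ⟶ Coh.structureModule X) (hσ : σ ≠ 0) :
    CohB1.genLocus (Coh.structureModule X) σ = ⊤ := by
  rw [genLocus_structureModule]
  have hne : LocFree.ofO ⊤ (sec (Coh.structureModule X) σ) ≠ 0 := sec_ne_zero _ σ hσ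
  obtain ⟨b, hb⟩ := hfield.mul_inv_cancel hne
  have hu : IsUnit (LocFree.ofO ⊤ (sec (Coh.structureModule X) σ)) :=
    IsUnit.of_mul_eq_one b hb
  exact (X.basicOpen_of_isUnit hu)


/-- on an integral scheme, if `s ≠ 0` is a section of an invertible module and `s ≫ t = 0` with
`t` valued in an invertible module, then `t = 0`. -/
theorem eq_zero_of_comp_eq_zero [IsIntegral X] (L N : X.Modules) (hL : PicF.IsInvertible L)
    (hN : PicF.IsInvertible N) (s : Coh.structureModule X ⟶ L) (hs : s ≠ 0) (t : L ⟶ N)
    (h : s ≫ t = 0) : t = 0 := by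
  apply Scheme.Modules.hom_ext
  intro W
  ext m
  change t.app W m = 0
  by_cases hW : Nonempty W
  · obtain ⟨⟨z, hz⟩⟩ := hW
    have hη := genericPoint_mem W z hz
    apply eq_zero_of_germ_eq_zero N hN _ (genericPoint X) hη
    have hgen := isGen_of_mem_genLocus L s (genericPoint_mem_genLocus L hL s hs)
    obtain ⟨c, hc⟩ := hgen.2 (L.presheaf.germ W (genericPoint X) hη m)
    have hc : c • L.presheaf.germ ⊤ (genericPoint X) trivial (sec L s) =
        L.presheaf.germ W (genericPoint X) hη m := hc
    rw [← stalkMap_germ t (genericPoint X) W hη m, ← hc, stalkMap_smul, stalkMap_germ]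
    have h0 : t.app ⊤ (sec L s) = sec N (s ≫ t) := rfl
    rw [h0, h, sec_zero, map_zero, smul_zero]
  · have hbot : W ≤ ⊥ := by
      intro z hz
      exact absurd ⟨⟨z, hz⟩⟩ hW
    exact (subsingleton_of_le_bot N hbot).elim _ _

/-- `s ≫ t` bijective at `y` forces `s` to generate `L` at `y`. -/
theorem mem_genLocus_of_mem_genLocus_comp (L : X.Modules) (hL : PicF.IsInvertible L)
    (s : Coh.structureModule X ⟶ L) (t : L ⟶ Coh.structureModule X) (y : X)
    (hy : y ∈ CohB1.genLocus (Coh.structureModule X) (s ≫ t)) : y ∈ CohB1.genLocus L s := by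
  rw [mem_genLocus_iff_isGen L s hL, isGen_iff_germ_notMem L hL]
  intro hmem
  rw [mem_genLocus_iff_isGen _ _ isInvertible_structureModule,
    isGen_iff_germ_notMem _ isInvertible_structureModule] at hy
  apply hy
  have e1 : (Coh.structureModule X).presheaf.germ ⊤ y trivial (sec _ (s ≫ t)) =
      stalkLinearMap t y (L.presheaf.germ ⊤ y trivial (sec L s)) :=
    (stalkMap_germ t y ⊤ trivial (sec L s)).symm
  rw [e1]
  have hle : Submodule.map (stalkLinearMap t y) (mStalk L y) ≤ mStalk (Coh.structureModule X) y := by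
    unfold mStalk
    rw [Submodule.map_smul'']
    exact Submodule.smul_mono le_rfl le_top
  exact hle ⟨_, hmem, rfl⟩

end Groth.Agent.Helper13.IntInv
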