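import Mathlib
import Groth.Agent.Lib.Helper13.IntInv

set_option autoImplicit false
universe u
open CategoryTheory CategoryTheory.Limits AlgebraicGeometry Opposite TopologicalSpace TensorProduct
open Groth.Agent.Helper13.QCoh Groth.Agent.Helper13.FinType Groth.Agent.Helper13.Tensor
open Groth.Agent.Helper13.Inv Groth.Agent.Helper13.GenLoc Groth.Agent.Helper13.Qcqs
open Groth.Agent.Helper13.Twist Groth.Agent.Helper13.GlobGen Groth.Agent.Helper13.Ample
open Groth.Agent.Helper13.SemiLocal Groth.Agent.Helper13.IntInv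

namespace Groth.Agent.Helper13.CurveDeg

variable {X : Scheme.{u}} [IsIntegral X] (N L : X.Modules) (hN : PicF.IsInvertible N)
  (hL : PicF.IsInvertible L) (φ : N ⟶ L)

include hL in
/-- a morphism of invertible modules killing a local generator is zero -/
theorem eq_zero_of_app_gen {U : X.Opens} (x : X) (hxU : x ∈ U) (n : Γ(N, U))
    (hn : ∀ (y : X) (hy : y ∈ U), IsGen N n y hy) (h0 : φ.app U n = 0) : φ = 0 := by
  apply Scheme.Modules.hom_ext
  intro W
  ext m
  change φ.app W m = 0
  by_cases hW : Nonempty W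
  · obtain ⟨⟨z, hz⟩⟩ := hW
    have hη := genericPoint_mem W z hz
    have hηU := genericPoint_mem U x hxU
    apply eq_zero_of_germ_eq_zero L hL _ (genericPoint X) hη
    obtain ⟨c, hc⟩ := (hn _ hηU).2 (N.presheaf.germ W (genericPoint X) hη m)
    have hc : c • N.presheaf.germ U (genericPoint X) hηU n =
        N.presheaf.germ W (genericPoint X) hη m := hc
    rw [← stalkMap_germ φ (genericPoint X) W hη m, ← hc, stalkMap_smul, stalkMap_germ, h0,
      map_zero, smul_zero]
  · have hbot : W ≤ ⊥ := by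
      intro z hz
      exact absurd ⟨⟨z, hz⟩⟩ hW
    exact (subsingleton_of_le_bot L hbot).elim _ _

include hN hL in
/-- description of the stalk map of a nonzero morphism of invertible modules on an integral
scheme: multiplication by a nonzero element with respect to local generators. -/
theorem exists_stalk_data (hφ : φ ≠ 0) (x : X) :
    ∃ (n₀ : N.presheaf.stalk x) (l₀ : L.presheaf.stalk x) (c : X.presheaf.stalk x),
      Function.Bijective (fun r : X.presheaf.stalk x => r • n₀) ∧
      Function.Bijective (fun r : X.presheaf.stalk x => r • l₀) ∧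
      c ≠ 0 ∧ stalkMap φ x n₀ = c • l₀ := by
  obtain ⟨U, hxU, n, hn⟩ := (isInvertible_iff_exists_isGen N).1 hN x
  obtain ⟨V, hxV, l, hl⟩ := (isInvertible_iff_exists_isGen L).1 hL x
  obtain ⟨c, hc⟩ := (hl x hxV).2 (stalkMap φ x (N.presheaf.germ U x hxU n))
  refine ⟨N.presheaf.germ U x hxU n, L.presheaf.germ V x hxV l, c, hn x hxU, hl x hxV, ?_,
    hc.symm⟩
  rintro rfl
  apply hφ
  apply eq_zero_of_app_gen N L hL φ x hxU n hn
  apply eq_zero_of_germ_eq_zero L hL _ x hxU
  rw [← stalkMap_germ]
  have hc' : (0 : X.presheaf.stalk x) • L.presheaf.germ V x hxV l =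
      stalkMap φ x (N.presheaf.germ U x hxU n) := hc
  rw [← hc', zero_smul]

include hN hL in
theorem stalkMap_injective (hφ : φ ≠ 0) (x : X) : Function.Injective (stalkMap φ x) := by
  obtain ⟨n₀, l₀, c, hn₀, hl₀, hc, hφn⟩ := exists_stalk_data N L hN hL φ hφ x
  rw [injective_iff_map_eq_zero]
  intro m hm
  obtain ⟨r, rfl⟩ := hn₀.2 m
  have h1 : stalkMap φ x (r • n₀) = (r * c) • l₀ := by
    rw [stalkMap_smul, hφn, mul_smul]
  have h2 : (r * c) • l₀ = (0 : X.presheaf.stalk x) • l₀ := by
    rw [← h1, zero_smul]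
    exact hm
  have h3 : r * c = 0 := hl₀.1 h2
  have h4 : r = 0 := by
    rcases mul_eq_zero.mp h3 with h | h
    · exact h
    · exact absurd h hc
  show r • n₀ = 0
  rw [h4, zero_smul]

include hN hL in
theorem mono_of_ne_zero (hφ : φ ≠ 0) : Mono φ :=
  (mono_iff_stalk_injective φ).2 (stalkMap_injective N L hN hL φ hφ)

include hN hL in
theorem stalkMap_genericPoint_surjective (hφ : φ ≠ 0) :
    Function.Surjective (stalkMap φ (genericPoint X)) := by
  obtain ⟨n₀, l₀, c, hn₀, hl₀, hc, hφn⟩ := exists_stalk_data N L hN hL φ hφ (genericPoint X)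
  intro l
  obtain ⟨r, rfl⟩ := hl₀.2 l
  have hu : IsUnit c := by
    have hfield : IsField (X.presheaf.stalk (genericPoint X)) :=
      Field.toIsField (X.functionField)
    obtain ⟨d, hd⟩ := hfield.mul_inv_cancel hc
    exact IsUnit.of_mul_eq_one d hd
  obtain ⟨d, hd⟩ := hu.exists_right_inv
  refine ⟨(r * d) • n₀, ?_⟩
  rw [stalkMap_smul, hφn, ← mul_smul]
  show (r * d * c) • l₀ = r • l₀
  have : r * d * c = r := by
    rw [mul_assoc, mul_comm d c, hd, mul_one]
  rw [this]

include hN hL in
theorem genericPoint_notMem_support_cokernel (hφ : φ ≠ 0) :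
    genericPoint X ∉ CohB1.support (cokernel φ) := by
  intro hmem
  apply hmem
  refine ⟨fun a b => ?_⟩
  have key : ∀ m : (cokernel φ).presheaf.stalk (genericPoint X), m = 0 := by
    intro m
    obtain ⟨l, rfl⟩ := stalkMap_surjective_of_epi (cokernel.π φ) (genericPoint X) m
    obtain ⟨a, rfl⟩ := stalkMap_genericPoint_surjective N L hN hL φ hφ l
    obtain ⟨U, hU, a₀, rfl⟩ := TopCat.Presheaf.exists_germ_eq N.presheaf a
    rw [stalkMap_germ, stalkMap_germ]
    have h1 : (cokernel.π φ).app U (φ.app U a₀) = (φ ≫ cokernel.π φ).app U a₀ := rfl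
    rw [h1, cokernel.condition]
    exact map_zero _
  rw [key a, key b]

end Groth.Agent.Helper13.CurveDeg
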