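import Mathlib
import Groth.Prelude.Def_Coh
import Groth.Prelude.Def_CohB1
import Groth.Agent.S0013
import Groth.Agent.Lib.Helper25.CechCard

universe u
open CategoryTheory CategoryTheory.Limits AlgebraicGeometry Opposite TopologicalSpace

namespace Groth.Agent.Helper13.EulerAdd

theorem isAffineOpen_inf_of_isSeparated {X Y : Scheme.{u}} (f : X ⟶ Y) [IsSeparated f]
    [IsAffine Y] {U V : X.Opens} (hU : IsAffineOpen U) (hV : IsAffineOpen V) :
    IsAffineOpen (U ⊓ V) :=
  isAffineHom_diagonal_iff.mp (inferInstance : IsAffineHom (pullback.diagonal f)) ⊤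
    (isAffineOpen_top Y) U (by simp) V (by simp) hU hV

theorem isAffineOpen_biInf {X Y : Scheme.{u}} (f : X ⟶ Y) [IsSeparated f] [IsAffine Y]
    {ι : Type*} (U : ι → X.Opens) (hU : ∀ i, IsAffineOpen (U i)) (s : Finset ι)
    (hs : s.Nonempty) : IsAffineOpen (⨅ i ∈ s, U i) := by
  classical
  induction hs using Finset.Nonempty.cons_induction with
  | singleton i =>
    have h1 : (⨅ i' ∈ ({i} : Finset ι), U i') = U i := by
      simp only [Finset.mem_singleton, iInf_iInf_eq_left]
    rw [h1]
    exact hU i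
  | cons i s hi hs ih =>
    rw [Finset.cons_eq_insert, Finset.iInf_insert]
    exact isAffineOpen_inf_of_isSeparated f (hU i) ih

/-- cohomology of quasi-coherent modules vanishes uniformly in large degrees on a quasi-compact
scheme separated over an affine base. -/
theorem exists_bound {X Y : Scheme.{u}} (f : X ⟶ Y) [IsSeparated f] [IsAffine Y]
    [CompactSpace X] :
    ∃ N : ℕ, ∀ (M : X.Modules) [Coh.IsQCoh M] (p : ℕ), N ≤ p → Subsingleton (Coh.HH X M p) := by
  obtain ⟨t, ht⟩ := isCompact_univ.elim_finite_subcover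
    (fun U : X.affineOpens => (U.1 : Set X)) (fun U => U.1.isOpen) (by
      intro x _
      obtain ⟨_, ⟨V, hV, rfl⟩, hxV, -⟩ :=
        X.isBasis_affineOpens.exists_subset_of_mem_open (Set.mem_univ x) isOpen_univ
      exact Set.mem_iUnion.mpr ⟨⟨V, hV⟩, hxV⟩)
  let ι : Type u := {U : X.affineOpens // U ∈ t}
  let U : ι → X.Opens := fun i => i.1.1
  have hcov : ⨆ i, U i = ⊤ := by
    rw [eq_top_iff]
    intro x _
    have hx := ht (Set.mem_univ x)
    simp only [Set.mem_iUnion] at hx
    obtain ⟨V, hVt, hxV⟩ := hx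
    exact Opens.mem_iSup.mpr ⟨⟨V, hVt⟩, hxV⟩
  refine ⟨Nat.card ι, fun M _ p hp => ?_⟩
  obtain ⟨e⟩ := Groth.Agent.S0013.result X U hcov
    (fun s hs => isAffineOpen_biInf f U (fun i => i.1.2) s hs) M p
  have hz : IsZero (CohB1.cechH U M p) :=
    Groth.Agent.Helper25.CechCard.isZero_cechH_of_card U p hp
  have : Subsingleton ↑(CohB1.cechH U M p) := AddCommGrpCat.subsingleton_of_isZero hz
  exact e.symm.injective.subsingleton

end Groth.Agent.Helper13.EulerAdd
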