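import Mathlib
import Groth.Prelude.Def_DeltaF
import Groth.Agent.Lib.Helper24.CechH

universe w v u v' u' v'' u''
set_option linter.unusedSectionVars false
open CategoryTheory CategoryTheory.Limits Opposite

namespace Groth.Agent.Helper13.DeltaPsh

open Groth.Agent.Helper24.CechH

section Eval
variable {D : Type u'} [Category.{v'} D] {V : Type u} [Category.{v} V] [Abelian V]

/-- exactness in a functor category can be checked objectwise -/
lemma exact_of_evaluation (S : ShortComplex (D ⥤ V))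
    (h : ∀ d, (S.map ((evaluation D V).obj d)).Exact) : S.Exact := by
  rw [ShortComplex.exact_iff_isZero_homology]
  apply Functor.isZero
  intro d
  have h1 := h d
  rw [ShortComplex.exact_iff_isZero_homology] at h1
  exact h1.of_iso (S.mapHomologyIso ((evaluation D V).obj d)).symm

end Eval

section Postcomp
variable {A : Type u} [Category.{v} A] [Abelian A] {B : Type u'} [Category.{v'} B] [Abelian B]
  {B' : Type u''} [Category.{v''} B'] [Abelian B']
  (T : DeltaF.CohDeltaFunctor A B ℕ) (G : B ⥤ B') [G.Additive] [PreservesFiniteLimits G]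
  [PreservesFiniteColimits G]

/-- push a δ-functor forward along an exact functor -/
noncomputable def postcomp : DeltaF.CohDeltaFunctor A B' ℕ where
  F n := T.F n ⋙ G
  additive n := inferInstance
  δ S hS n₀ n₁ h := G.map (T.δ S hS n₀ n₁ h)
  δ_natural {S S'} hS hS' φ n₀ n₁ h := by
    simp only [Functor.comp_map]
    rw [← G.map_comp, ← G.map_comp, T.δ_natural hS hS' φ n₀ n₁ h]
  exact₂ S hS n := (T.exact₂ S hS n).map G
  comp_δ S hS n₀ n₁ h := by
    simp only [Functor.comp_map]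
    rw [← G.map_comp, T.comp_δ, G.map_zero]
  exact₃ S hS n₀ n₁ h := (T.exact₃ S hS n₀ n₁ h).map G
  δ_comp S hS n₀ n₁ h := by
    simp only [Functor.comp_map]
    rw [← G.map_comp, T.δ_comp, G.map_zero]
  exact₁ S hS n₀ n₁ h := (T.exact₁ S hS n₀ n₁ h).map G

end Postcomp

section ExtPsh
open Abelian
variable {A : Type u} [Category.{v} A] [Abelian A] [HasExt.{w} A] {D : Type u'} [Category.{v'} D]
  (E : D ⥤ A)

/-- the presheaf-valued δ-functor `M ↦ (d ↦ Ext^n(E d, M))` -/
noncomputable def extPsh : DeltaF.CohDeltaFunctor A (Dᵒᵖ ⥤ AddCommGrpCat.{w}) ℕ where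
  F n := (E.op ⋙ extFunctor n).flip
  additive n := ⟨by
    intro M N φ ψ
    ext d x
    exact congrArg (fun m => m.hom x) ((extFunctorObj (E.obj d.unop) n).map_add (f := φ) (g := ψ))⟩
  δ S hS n₀ n₁ h :=
    { app := fun d => (extDelta (E.obj d.unop)).δ S hS n₀ n₁ h
      naturality := fun d d' g => by
        ext x
        subst h
        exact Ext.comp_assoc (a := n₀ + 1) (Ext.mk₀ (E.map g.unop)) x hS.extClass (zero_add n₀) rfl
          (by omega) }
  δ_natural {S S'} hS hS' φ n₀ n₁ h := by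
    ext d : 2
    exact (extDelta (E.obj d.unop)).δ_natural hS hS' φ n₀ n₁ h
  exact₂ S hS n := exact_of_evaluation _ fun d => (extDelta (E.obj d.unop)).exact₂ S hS n
  comp_δ S hS n₀ n₁ h := by
    ext d : 2
    exact (extDelta (E.obj d.unop)).comp_δ S hS n₀ n₁ h
  exact₃ S hS n₀ n₁ h := exact_of_evaluation _ fun d => (extDelta (E.obj d.unop)).exact₃ S hS n₀ n₁ h
  δ_comp S hS n₀ n₁ h := by
    ext d : 2
    exact (extDelta (E.obj d.unop)).δ_comp S hS n₀ n₁ h
  exact₁ S hS n₀ n₁ h := exact_of_evaluation _ fun d => (extDelta (E.obj d.unop)).exact₁ S hS n₀ n₁ h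

end ExtPsh

section Generic
variable {A : Type u} [Category.{v} A] [Abelian A] {B : Type u'} [Category.{v'} B] [Abelian B]

open DeltaF DeltaF.CohDeltaFunctor

lemma iso_of_universal (T T' : CohDeltaFunctor A B ℕ) (hT : T.IsUniversal) (hT' : T'.IsUniversal)
    (e0 : T.F 0 ≅ T'.F 0) (n : ℕ) : Nonempty (T.F n ≅ T'.F n) := by
  obtain ⟨τ, hτ, -⟩ := hT T' e0.hom
  obtain ⟨σ, hσ, -⟩ := hT' T e0.inv
  have h1 : τ ≫ σ = 𝟙 T := by
    obtain ⟨ρ, -, hρ⟩ := hT T (𝟙 _)
    rw [hρ (τ ≫ σ) (by show (τ ≫ σ).app 0 = _; rw [comp_app, hτ, hσ, Iso.hom_inv_id]),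
      hρ (𝟙 T) (by show (𝟙 T : T ⟶ T).app 0 = _; rw [id_app])]
  have h2 : σ ≫ τ = 𝟙 T' := by
    obtain ⟨ρ, -, hρ⟩ := hT' T' (𝟙 _)
    rw [hρ (σ ≫ τ) (by show (σ ≫ τ).app 0 = _; rw [comp_app, hτ, hσ, Iso.inv_hom_id]),
      hρ (𝟙 T') (by show (𝟙 T' : T' ⟶ T').app 0 = _; rw [id_app])]
  exact ⟨⟨τ.app n, σ.app n, by rw [← comp_app, h1, id_app], by rw [← comp_app, h2, id_app]⟩⟩

/-- a δ-functor vanishing on injectives in positive degrees is effaceable -/
lemma effaceable_of_injective [EnoughInjectives A] (T : CohDeltaFunctor A B ℕ)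
    (h : ∀ (n : ℕ) (I : A), Injective I → IsZero ((T.F (n + 1)).obj I)) : T.IsEffaceable := by
  intro n X
  exact ⟨Injective.under X, Injective.ι X, inferInstance, (h n _ inferInstance).eq_of_tgt _ _⟩

end Generic

end Groth.Agent.Helper13.DeltaPsh
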