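import Mathlib
import Groth.Prelude.Def_CohTop
import Groth.Prelude.Def_RDerDelta
import Groth.Agent.Lib.Helper13.DeltaPsh
import Groth.Agent.Lib.Helper24.Flasque

universe u
set_option linter.unusedSectionVars false
open CategoryTheory CategoryTheory.Limits Opposite TopologicalSpace

namespace Groth.Agent.Helper13.LerayZero

open Groth.Agent.Helper24.CechH Groth.Agent.Helper24.CechInj Groth.Agent.Helper24.Flasque
  Groth.Agent.Helper24

section Generic
variable {A : Type*} [Category A] [Abelian A] (T : DeltaF.CohDeltaFunctor A AddCommGrpCat.{u} ℕ)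

lemma δ_bijective (S : ShortComplex A) (hS : S.ShortExact) (n : ℕ)
    (h0 : Subsingleton ((T.F n).obj S.X₂)) (h1 : Subsingleton ((T.F (n + 1)).obj S.X₂)) :
    Function.Bijective (T.δ S hS n (n + 1) rfl).hom := by
  constructor
  · rw [injective_iff_map_eq_zero]
    intro x hx
    obtain ⟨y, rfl⟩ := (ShortComplex.ab_exact_iff _).1 (T.exact₃ S hS n (n + 1) rfl) x hx
    rw [Subsingleton.elim y 0, map_zero]
  · intro z
    exact (ShortComplex.ab_exact_iff _).1 (T.exact₁ S hS n (n + 1) rfl) z (Subsingleton.elim _ _)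

lemma δ_surjective (S : ShortComplex A) (hS : S.ShortExact) (n : ℕ)
    (h1 : Subsingleton ((T.F (n + 1)).obj S.X₂)) :
    Function.Surjective (T.δ S hS n (n + 1) rfl).hom := by
  intro z
  exact (ShortComplex.ab_exact_iff _).1 (T.exact₁ S hS n (n + 1) rfl) z (Subsingleton.elim _ _)

lemma δ_ker (S : ShortComplex A) (hS : S.ShortExact) (n : ℕ) (x : (T.F n).obj S.X₃) :
    (T.δ S hS n (n + 1) rfl).hom x = 0 ↔ x ∈ ((T.F n).map S.g).hom.range := by
  constructor
  · intro hx
    obtain ⟨y, hy⟩ := (ShortComplex.ab_exact_iff _).1 (T.exact₃ S hS n (n + 1) rfl) x hx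
    exact ⟨y, hy⟩
  · rintro ⟨y, rfl⟩
    exact congrArg (fun m => m.hom y) (T.comp_δ S hS n (n + 1) rfl)

end Generic

lemma equiv_of_cokernels {B C D B' C' D' : Type u} [AddCommGroup B] [AddCommGroup C] [AddCommGroup D]
    [AddCommGroup B'] [AddCommGroup C'] [AddCommGroup D']
    (b : B →+ C) (c : C →+ D) (b' : B' →+ C') (c' : C' →+ D')
    (hc : Function.Surjective c) (hc' : Function.Surjective c')
    (hex : ∀ x, c x = 0 ↔ x ∈ b.range) (hex' : ∀ x, c' x = 0 ↔ x ∈ b'.range)
    (α : B ≃+ B') (β : C ≃+ C') (comm : ∀ x, β (b x) = b' (α x)) : Nonempty (D ≃+ D') := by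
  have hk : c.ker = b.range := by ext x; exact hex x
  have hk' : c'.ker = b'.range := by ext x; exact hex' x
  have hmap : AddSubgroup.map (β : C →+ C') c.ker = c'.ker := by
    rw [hk, hk']
    ext y
    constructor
    · rintro ⟨_, ⟨x, rfl⟩, rfl⟩
      exact ⟨α x, (comm x).symm⟩
    · rintro ⟨x', rfl⟩
      refine ⟨b (α.symm x'), ⟨_, rfl⟩, ?_⟩
      show β (b (α.symm x')) = _
      rw [comm, AddEquiv.apply_symm_apply]
  exact ⟨(QuotientAddGroup.quotientKerEquivOfSurjective c hc).symm.trans
    ((QuotientAddGroup.congr c.ker c'.ker β hmap).trans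
      (QuotientAddGroup.quotientKerEquivOfSurjective c' hc'))⟩

section Top
variable {X Y : TopCat.{u}} (f : X ⟶ Y)

/-- the constant sheaf `ℤ` -/
noncomputable abbrev constZ (X : TopCat.{u}) : CohTop.Ab X :=
  (constantSheaf (Opens.grothendieckTopology X) AddCommGrpCat.{u}).obj (AddCommGrpCat.of (ULift ℤ))

/-- `F ↦ H^n(X, F)` as a δ-functor -/
noncomputable abbrev TH (X : TopCat.{u}) : DeltaF.CohDeltaFunctor (CohTop.Ab X) AddCommGrpCat.{u} ℕ :=
  extDelta (constZ X)

/-- degree zero comparison `H^0(X, G) ≃ H^0(Y, f_* G)` -/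
noncomputable def e0 (G : CohTop.Ab X) : CohTop.H G 0 ≃+ CohTop.H ((CohTop.push f).obj G) 0 :=
  (Sheaf.H.equiv₀ G (T := (⊤ : Opens X)) isTerminalTop).trans
    (Sheaf.H.equiv₀ ((CohTop.push f).obj G) (T := (⊤ : Opens Y)) isTerminalTop).symm

lemma e0_naturality {G G' : CohTop.Ab X} (φ : G ⟶ G') (x : CohTop.H G 0) :
    e0 f G' (Sheaf.H.map φ 0 x) = Sheaf.H.map ((CohTop.push f).map φ) 0 (e0 f G x) := by
  have h1 := Sheaf.H.equiv₀_naturality (T := (⊤ : Opens X)) isTerminalTop φ x
  have h2 := Sheaf.H.equiv₀_symm_naturality (T := (⊤ : Opens Y)) isTerminalTop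
    ((CohTop.push f).map φ) (Sheaf.H.equiv₀ G (T := (⊤ : Opens X)) isTerminalTop x)
  exact (h2.trans (congrArg
    (Sheaf.H.equiv₀ ((CohTop.push f).obj G') (T := (⊤ : Opens Y)) isTerminalTop).symm h1)).symm

variable (F : CohTop.Ab X)

/-- the hypothesis passes to the cokernel of an injective embedding -/
lemma isZero_Rpush_coker (h : ∀ q : ℕ, IsZero ((CohTop.Rpush f (q + 1)).obj F)) (q : ℕ) :
    IsZero ((CohTop.Rpush f (q + 1)).obj (cokernel (Injective.ι F))) := by
  let Δ := Horseshoe.derivedLES (CohTop.push f)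
  have ex3 := Δ.exact₃ _ (sesS_shortExact (Injective.ι F)) (q + 1) (q + 2) rfl
  have hI : IsZero (((CohTop.push f).rightDerived (q + 1)).obj (Injective.under F)) :=
    @Functor.isZero_rightDerived_obj_injective_succ _ _ _ _ _ _ _ (CohTop.push f) _ q
      (Injective.under F) (Injective.injective_under F)
  exact ex3.isZero_X₂ (hI.eq_of_src _ _) ((h (q + 1)).eq_of_tgt _ _)

/-- the pushed-forward sequence is short exact when `R¹ f_* F = 0` -/
lemma push_shortExact (h : IsZero ((CohTop.Rpush f 1).obj F)) :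
    ((sesS (Injective.ι F)).map (CohTop.push f)).ShortExact := by
  let Δ := Horseshoe.derivedLES (CohTop.push f)
  have hS := sesS_shortExact (Injective.ι F)
  have ex3 := Δ.exact₃ _ hS 0 1 rfl
  have hepi0 : Epi (((CohTop.push f).rightDerived 0).map (cokernel.π (Injective.ι F))) :=
    ex3.epi_f (h.eq_of_tgt _ _)
  have e := (CohTop.push f).rightDerivedZeroIsoSelf
  have hepi : Epi ((CohTop.push f).map (cokernel.π (Injective.ι F))) := by
    have : (CohTop.push f).map (cokernel.π (Injective.ι F)) =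
        e.inv.app _ ≫ ((CohTop.push f).rightDerived 0).map (cokernel.π (Injective.ι F)) ≫
          e.hom.app _ := by
      rw [e.hom.naturality, Iso.inv_hom_id_app_assoc]
    rw [this]
    infer_instance
  have hm : Mono ((CohTop.push f).map (Injective.ι F)) := inferInstance
  exact
    { exact := hS.exact.map_of_mono_of_preservesKernel _ hS.mono_f inferInstance
      mono_f := hm
      epi_g := hepi }

theorem main : ∀ (p : ℕ) (F : CohTop.Ab X), (∀ q : ℕ, IsZero ((CohTop.Rpush f (q + 1)).obj F)) →
    Nonempty (CohTop.H F p ≃+ CohTop.H ((CohTop.push f).obj F) p)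
  | 0, F, _ => ⟨e0 f F⟩
  | 1, F, h => by
    haveI hinj : Injective (Injective.under F) := Injective.injective_under F
    have hS := sesS_shortExact (Injective.ι F)
    have hS' := push_shortExact f F (h 0)
    have hI1 : Subsingleton (((TH X).F 1).obj (sesS (Injective.ι F)).X₂) :=
      Abelian.Ext.subsingleton_of_injective (constZ X) (Injective.under F) 0
    haveI hfl : TopCat.Sheaf.IsFlasque (Injective.under F) :=
      @isFlasque_of_injective _ _ (Injective.injective_under F)
    have hfl' : TopCat.Sheaf.IsFlasque ((CohTop.push f).obj (Injective.under F)) :=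
      @TopCat.Sheaf.IsFlasque.pushforward_isFlasque X AddCommGrpCat.{u} _ Y (Injective.under F) hfl f
    have hI1' : Subsingleton (((TH Y).F 1).obj ((sesS (Injective.ι F)).map (CohTop.push f)).X₂) :=
      H_succ_subsingleton 0 _ hfl'
    exact equiv_of_cokernels (((TH X).F 0).map (sesS (Injective.ι F)).g).hom
      ((TH X).δ _ hS 0 1 rfl).hom
      (((TH Y).F 0).map ((sesS (Injective.ι F)).map (CohTop.push f)).g).hom
      ((TH Y).δ _ hS' 0 1 rfl).hom
      (δ_surjective (TH X) _ hS 0 hI1) (δ_surjective (TH Y) _ hS' 0 hI1')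
      (δ_ker (TH X) _ hS 0) (δ_ker (TH Y) _ hS' 0)
      (e0 f (Injective.under F)) (e0 f (cokernel (Injective.ι F)))
      (fun x => e0_naturality f (cokernel.π (Injective.ι F)) x)
  | p + 2, F, h => by
    obtain ⟨e⟩ := main (p + 1) (cokernel (Injective.ι F)) (isZero_Rpush_coker f F h)
    have hS := sesS_shortExact (Injective.ι F)
    have hS' := push_shortExact f F (h 0)
    haveI hinj : Injective (Injective.under F) := Injective.injective_under F
    haveI hfl : TopCat.Sheaf.IsFlasque (Injective.under F) :=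
      @isFlasque_of_injective _ _ (Injective.injective_under F)
    have hfl' : TopCat.Sheaf.IsFlasque ((CohTop.push f).obj (Injective.under F)) :=
      @TopCat.Sheaf.IsFlasque.pushforward_isFlasque X AddCommGrpCat.{u} _ Y (Injective.under F) hfl f
    have hbX := δ_bijective (TH X) _ hS (p + 1)
      (Abelian.Ext.subsingleton_of_injective (constZ X) (Injective.under F) p)
      (Abelian.Ext.subsingleton_of_injective (constZ X) (Injective.under F) (p + 1))
    have hbY := δ_bijective (TH Y) _ hS' (p + 1)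
      (H_succ_subsingleton p _ hfl') (H_succ_subsingleton (p + 1) _ hfl')
    exact ⟨(AddEquiv.ofBijective _ hbX).symm.trans (e.trans (AddEquiv.ofBijective _ hbY))⟩

end Top

end Groth.Agent.Helper13.LerayZero
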