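import Mathlib
import Groth.Prelude.Def_CohSite
import Groth.Prelude.Def_CohTop
import Groth.Prelude.Def_CechEdge
import Groth.Prelude.Def_RDerDelta
import Groth.Agent.Lib.Helper13.DeltaPsh
import Groth.Agent.Lib.Helper24.KillClass
import Groth.Agent.S16463
import Groth.Agent.S16465
import Groth.Agent.S6773

universe u
set_option linter.unusedSectionVars false
open CategoryTheory CategoryTheory.Limits Opposite

namespace Groth.Agent.Helper13.RpushShf

open Groth.Agent.Helper24.CechH Groth.Agent.Helper24.CechEdgeLib Groth.Agent.Helper24.KillClass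
  Groth.Agent.Helper13.DeltaPsh

section Site
variable {C D : Type u} [SmallCategory C] [SmallCategory D]
  (J : GrothendieckTopology C) (K : GrothendieckTopology D) (u : D ⥤ C)

/-- `U ↦ ℤ_U` as a functor -/
noncomputable abbrev Yfree : C ⥤ Sheaf J AddCommGrpCat.{u} :=
  yoneda ⋙ (Functor.whiskeringRight _ _ _).obj AddCommGrpCat.free.{u} ⋙ presheafToSheaf J _

example (U : C) : (Yfree J).obj U = CohCx.freeSheaf J U := rfl
example {U V : C} (f : V ⟶ U) : (Yfree J).map f = CohCx.freeSheafMap J f := rfl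

/-- the presheaf-valued δ-functor `F ↦ (V ↦ H^n(u V, F))` -/
noncomputable abbrev Tpsh : DeltaF.CohDeltaFunctor (Sheaf J AddCommGrpCat.{u})
    (Dᵒᵖ ⥤ AddCommGrpCat.{u}) ℕ := extPsh (u ⋙ Yfree J)

/-- degree zero: sections -/
noncomputable def β : sheafToPresheaf J AddCommGrpCat.{u} ⋙ (Functor.whiskeringLeft _ _ _).obj u.op ≅
    (Tpsh J u).F 0 :=
  NatIso.ofComponents
    (fun F => NatIso.ofComponents
      (fun V => (CechEdge.sectH0 J (u.obj V.unop) F).toAddCommGrpIso)
      (fun {V W} g => by
        ext s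
        exact (res_sectH0 J F (u.map g.unop) s).symm))
    (fun {F G} ψ => by
      ext V s
      exact (sectH0_naturality J ψ (u.obj V.unop) s).symm)

variable [u.IsContinuous K J]

/-- the sheaf-valued δ-functor `F ↦ (V ↦ H^n(u V, F))^#` -/
noncomputable abbrev Tshf : DeltaF.CohDeltaFunctor (Sheaf J AddCommGrpCat.{u})
    (Sheaf K AddCommGrpCat.{u}) ℕ := postcomp (Tpsh J u) (presheafToSheaf K AddCommGrpCat.{u})

lemma Tshf_effaceable : (Tshf J K u).IsEffaceable := by
  apply effaceable_of_injective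
  intro n I hI
  show IsZero ((presheafToSheaf K AddCommGrpCat.{u}).obj (((Tpsh J u).F (n + 1)).obj I))
  refine Functor.map_isZero (presheafToSheaf K AddCommGrpCat.{u}) ?_
  apply Functor.isZero
  intro V
  have : Subsingleton (Abelian.Ext ((u ⋙ Yfree J).obj V.unop) I (n + 1)) :=
    Abelian.Ext.subsingleton_of_injective _ _ n
  exact AddCommGrpCat.isZero_of_subsingleton
    (AddCommGrpCat.of (Abelian.Ext ((u ⋙ Yfree J).obj V.unop) I (n + 1)))

lemma Tshf_universal : (Tshf J K u).IsUniversal :=
  Groth.Agent.S6773.result _ (Tshf_effaceable J K u)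

/-- degree zero of the sheafified δ-functor is the pushforward -/
noncomputable def e0 : CohSite.push J K u ≅ (Tshf J K u).F 0 :=
  (Functor.rightUnitor _).symm ≪≫
    Functor.isoWhiskerLeft (CohSite.push J K u) (sheafificationNatIso K AddCommGrpCat.{u}) ≪≫
    (Functor.associator _ _ _).symm ≪≫
    Functor.isoWhiskerRight (β J u) (presheafToSheaf K AddCommGrpCat.{u})

theorem main (F : Sheaf J AddCommGrpCat.{u}) (i : ℕ) :
    Nonempty ((CohSite.Rpush J K u i).obj F ≅
      (presheafToSheaf K AddCommGrpCat.{u}).obj (u.op ⋙ F.cohomologyPresheaf i)) := by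
  obtain ⟨Δ⟩ := Groth.Agent.S16463.result (CohSite.push J K u)
  have hU := Groth.Agent.S16465.result (CohSite.push J K u) Δ
  obtain ⟨e⟩ := iso_of_universal Δ.toCohDeltaFunctor (Tshf J K u) hU (Tshf_universal J K u)
    ((CohSite.push J K u).rightDerivedZeroIsoSelf ≪≫ e0 J K u) i
  exact ⟨e.app F⟩

end Site

end Groth.Agent.Helper13.RpushShf
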