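import Mathlib

universe u
set_option linter.unusedSectionVars false
open CategoryTheory CategoryTheory.Limits Opposite

namespace Groth.Agent.Helper13.ShfZero

variable {C : Type u} [SmallCategory C] (J : GrothendieckTopology C)

/-- a presheaf all of whose sections are locally zero has zero sheafification -/
lemma isZero_presheafToSheaf (P : Cᵒᵖ ⥤ AddCommGrpCat.{u})
    (h : ∀ (U : C) (s : P.obj (op U)), ∃ S ∈ J U, ∀ {V : C} (f : V ⟶ U), S.arrows f →
      (P.map f.op).hom s = 0) :
    IsZero ((presheafToSheaf J AddCommGrpCat.{u}).obj P) := by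
  rw [IsZero.iff_id_eq_zero]
  apply ((sheafificationAdjunction J AddCommGrpCat.{u}).homEquiv P _).injective
  -- every morphism from `P` to a sheaf vanishes
  have key : ∀ (G : Sheaf J AddCommGrpCat.{u}) (ψ : P ⟶ G.obj), ψ = 0 := by
    intro G ψ
    ext U s
    obtain ⟨U⟩ := U
    obtain ⟨S, hS, hs⟩ := h U s
    refine (Sheaf.isSeparated G) U S hS _ _ ?_
    intro V f hf
    have h1 := congrArg (fun m => m.hom s) (ψ.naturality f.op)
    simp only [AddCommGrpCat.hom_comp, AddMonoidHom.coe_comp, Function.comp_apply] at h1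
    rw [hs f hf, map_zero] at h1
    rw [← h1]
    simp
  rw [key _ ((sheafificationAdjunction J AddCommGrpCat.{u}).homEquiv P _ (𝟙 _)),
    key _ ((sheafificationAdjunction J AddCommGrpCat.{u}).homEquiv P _ 0)]

open TopologicalSpace in
/-- a presheaf vanishing on a basis of opens has zero sheafification -/
lemma isZero_presheafToSheaf_of_basis {Y : TopCat.{u}} (P : (Opens Y)ᵒᵖ ⥤ AddCommGrpCat.{u})
    (B : Set (Opens Y)) (hB : Opens.IsBasis B) (h : ∀ W ∈ B, Subsingleton (P.obj (op W))) :
    IsZero ((presheafToSheaf (Opens.grothendieckTopology Y) AddCommGrpCat.{u}).obj P) := by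
  apply isZero_presheafToSheaf
  intro U s
  refine ⟨⟨fun V f => (P.map f.op).hom s = 0, ?_⟩, ?_, fun f hf => hf⟩
  · intro V W f hf g
    show (P.map (g ≫ f).op).hom s = 0
    rw [op_comp, P.map_comp]
    show (P.map g.op).hom ((P.map f.op).hom s) = 0
    rw [hf, map_zero]
  · intro x hx
    obtain ⟨W, hWB, hxW, hWU⟩ := Opens.isBasis_iff_nbhd.1 hB hx
    refine ⟨W, homOfLE hWU, ?_, hxW⟩
    have := h W hWB
    exact Subsingleton.elim _ _

end Groth.Agent.Helper13.ShfZero
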