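import Mathlib
import Groth.Prelude.Def_Coh
import Groth.Prelude.Def_CohB1
import Groth.Agent.Lib.Helper13.QCohExt
import Groth.Agent.Lib.Helper13.Qcqs
import Groth.Agent.Lib.Helper13.QCohStalk
import Groth.Agent.Lib.Helper13.LerayZero
import Groth.Agent.S0007
import Groth.Agent.S0028

universe u
set_option linter.unusedSectionVars false
set_option autoImplicit false
open CategoryTheory CategoryTheory.Limits Opposite TopologicalSpace AlgebraicGeometry

namespace Groth.Agent.Helper13.AcycEmbed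

open Groth.Agent.Helper13.QCohLocal Groth.Agent.Helper13.ToAbExact Groth.Agent.Helper13.Qcqs

variable {X : Scheme.{u}}

/-- `M` maps to an acyclic quasi-coherent module, injectively over `W` -/
def Good (M : X.Modules) (W : X.Opens) : Prop :=
  ∃ (M' : X.Modules) (i : M ⟶ M'), M'.IsQuasicoherent ∧
    (∀ p : ℕ, Subsingleton (Coh.HH X M' (p + 1))) ∧
    ∀ (V : X.Opens) (s : Γ(M, V)), i.app V s = 0 →
      res M (inf_le_left : V ⊓ W ≤ V) s = 0

lemma subsingleton_HH_of_isZero (Z : X.Modules) (hZ : IsZero Z) (p : ℕ) :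
    Subsingleton (Coh.HH X Z p) := by
  have hZ' : IsZero (Coh.toAb Z) := Functor.map_isZero (toAbF X) hZ
  refine subsingleton_of_forall_eq 0 fun x => ?_
  have h1 : x = x.comp (Abelian.Ext.mk₀ (𝟙 (Coh.toAb Z))) (add_zero p) := by
    rw [Abelian.Ext.comp_mk₀_id]
  rw [h1, hZ'.eq_of_src (𝟙 _) 0, Abelian.Ext.mk₀_zero, Abelian.Ext.comp_zero]

lemma good_bot (M : X.Modules) [hM : M.IsQuasicoherent] : Good M ⊥ := by
  have hZ : IsZero (kernel (𝟙 M)) := by
    rw [IsZero.iff_id_eq_zero, ← cancel_mono (kernel.ι (𝟙 M))]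
    have := kernel.condition (𝟙 M)
    rw [Category.comp_id] at this
    rw [Category.id_comp, this, zero_comp]
  refine ⟨kernel (𝟙 M), 0, isQuasicoherent_kernel (𝟙 M), fun p => subsingleton_HH_of_isZero _ hZ _,
    fun V s _ => ?_⟩
  haveI := subsingleton_of_le_bot M (inf_le_right : V ⊓ ⊥ ≤ ⊥)
  exact Subsingleton.elim _ _

open Abelian in
/-- the middle term of a short exact sequence with acyclic ends is acyclic -/
theorem HH_subsingleton_of_shortExact (S : ShortComplex X.Modules) (hS : S.ShortExact) (p : ℕ)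
    (h1 : Subsingleton (Coh.HH X S.X₁ p)) (h3 : Subsingleton (Coh.HH X S.X₃ p)) :
    Subsingleton (Coh.HH X S.X₂ p) := by
  have hS' := toAb_shortExact S hS
  refine subsingleton_of_forall_eq 0 fun x₂ => ?_
  obtain ⟨x₁, hx₁⟩ := Ext.covariant_sequence_exact₂ _ hS' x₂
    (Subsingleton.elim (α := Coh.HH X S.X₃ p) _ _)
  have h0 : x₁ = 0 := Subsingleton.elim (α := Coh.HH X S.X₁ p) x₁ 0
  rw [← hx₁, h0, Ext.zero_comp]
  rfl

lemma good_sup (M : X.Modules) (W₁ W₂ : X.Opens) (h₁ : Good M W₁) (h₂ : Good M W₂) :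
    Good M (W₁ ⊔ W₂) := by
  obtain ⟨M₁, i₁, q₁, a₁, k₁⟩ := h₁
  obtain ⟨M₂, i₂, q₂, a₂, k₂⟩ := h₂
  let S : ShortComplex X.Modules :=
    ShortComplex.mk (biprod.inl : M₁ ⟶ M₁ ⊞ M₂) (biprod.snd : M₁ ⊞ M₂ ⟶ M₂) (by simp)
  have hS : S.ShortExact := (ShortComplex.Splitting.ofHasBinaryBiproduct M₁ M₂).shortExact
  refine ⟨M₁ ⊞ M₂, biprod.lift i₁ i₂, QCohExt.main S hS q₁ q₂,
    fun p => HH_subsingleton_of_shortExact S hS (p + 1) (a₁ p) (a₂ p), fun V s hs => ?_⟩
  have e₁ : i₁.app V s = 0 := by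
    have : (biprod.lift i₁ i₂ ≫ biprod.fst).app V s = 0 := by
      rw [Scheme.Modules.Hom.comp_app, ConcreteCategory.comp_apply, hs, map_zero]
    rwa [biprod.lift_fst] at this
  have e₂ : i₂.app V s = 0 := by
    have : (biprod.lift i₁ i₂ ≫ biprod.snd).app V s = 0 := by
      rw [Scheme.Modules.Hom.comp_app, ConcreteCategory.comp_apply, hs, map_zero]
    rwa [biprod.lift_snd] at this
  have r₁ := k₁ V s e₁
  have r₂ := k₂ V s e₂
  refine eq_of_res_eq₂ M (S := V ⊓ W₁) (V := V ⊓ W₂) (W := V ⊓ (W₁ ⊔ W₂))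
    (inf_le_inf_left V le_sup_left) (inf_le_inf_left V le_sup_right)
    (by rw [inf_sup_left]) _ _ ?_ ?_
  · rw [res_res, map_zero]; exact r₁
  · rw [res_res, map_zero]; exact r₂

lemma isAffineHom_ι
    (hd : ∀ V W : X.Opens, IsAffineOpen V → IsAffineOpen W → IsAffineOpen (V ⊓ W))
    (U : X.Opens) (hU : IsAffineOpen U) : IsAffineHom U.ι := by
  refine ⟨fun V hV => ?_⟩
  rw [← U.ι.isAffineOpen_iff_of_isOpenImmersion, U.ι.image_preimage_eq_opensRange_inf,
    Scheme.Opens.opensRange_ι]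
  exact hd U V hU hV

lemma good_affine
    (hd : ∀ V W : X.Opens, IsAffineOpen V → IsAffineOpen W → IsAffineOpen (V ⊓ W))
    (M : X.Modules) [hM : M.IsQuasicoherent] (U : X.Opens) (hU : IsAffineOpen U) : Good M U := by
  haveI := isAffineHom_ι hd U hU
  haveI hG : (M.restrict U.ι).IsQuasicoherent := inferInstance
  refine ⟨(Scheme.Modules.pushforward U.ι).obj (M.restrict U.ι),
    (Scheme.Modules.restrictAdjunction U.ι).unit.app M,
    QCohPush.isQuasicoherent_pushforward U.ι (M.restrict U.ι), fun p => ?_, fun V s hs => ?_⟩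
  · obtain ⟨e⟩ := LerayZero.main U.ι.base (p + 1) (Coh.toAb (M.restrict U.ι))
      (fun q => Groth.Agent.S0028.result U.ι (M.restrict U.ι) (q + 1) (Nat.succ_pos q))
    haveI : IsAffine ↑U := hU
    haveI := Groth.Agent.S0007.result ↑U (M.restrict U.ι) (p + 1) (Nat.succ_pos p)
    exact e.symm.injective.subsingleton
  · rw [Scheme.Modules.restrictAdjunction_unit_app_app] at hs
    have hle : V ⊓ U ≤ U.ι ''ᵁ (U.ι ⁻¹ᵁ V) := by
      rw [U.ι.image_preimage_eq_opensRange_inf, Scheme.Opens.opensRange_ι, inf_comm]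
    have hs' : res M (U.ι.image_preimage_le V) s = 0 := hs
    have h2 : res M hle (res M (U.ι.image_preimage_le V) s) = 0 := by
      rw [hs', map_zero]
    rw [← h2]
    exact (res_res M (U.ι.image_preimage_le V) hle s).symm

theorem main (X : Scheme.{u}) [CompactSpace X]
    (hd : ∀ V W : X.Opens, IsAffineOpen V → IsAffineOpen W → IsAffineOpen (V ⊓ W))
    (M : X.Modules) [hM : M.IsQuasicoherent] :
    ∃ (M' : X.Modules) (i : M ⟶ M'), Mono i ∧ M'.IsQuasicoherent ∧
      ∀ p : ℕ, 0 < p → Subsingleton (Coh.HH X M' p) := by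
  have key : ∀ s : Set X.affineOpens, s.Finite → Good M (⨆ i ∈ s, (i : X.Opens)) := by
    intro s hs
    refine hs.induction_on _ ?_ ?_
    · simp only [Set.mem_empty_iff_false, iSup_false, iSup_bot]
      exact good_bot M
    · intro a s _ _ ih
      rw [iSup_insert]
      exact good_sup M _ _ (good_affine hd M _ a.2) ih
  obtain ⟨s, hs, e⟩ := (isCompact_iff_finite_and_eq_biUnion_affineOpens (X := X) (U := ⊤)).1
    (by simpa using isCompact_univ)
  obtain ⟨M', i, q, a, k⟩ := key s hs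
  rw [← e] at k
  refine ⟨M', i, ?_, q, fun p hp => ?_⟩
  · rw [Groth.Agent.Helper13.QCoh.mono_iff_app_injective]
    intro V
    rw [injective_iff_map_eq_zero]
    intro t ht
    have h1 := k V t ht
    have h2 := congrArg (res M (le_inf le_rfl le_top : V ≤ V ⊓ ⊤)) h1
    rw [res_res, map_zero, res_self] at h2
    exact h2
  · obtain ⟨p', rfl⟩ : ∃ p', p = p' + 1 := ⟨p - 1, by omega⟩
    exact a p'

end Groth.Agent.Helper13.AcycEmbed
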