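import Mathlib
import Groth.Agent.Lib.Helper13.GlobGen3
import Groth.Agent.Lib.Helper13.LocGen2
import Groth.Agent.Lib.Helper13.FinType

/-!
A finite type module generated by global sections on a quasi-compact scheme is generated by finitely many
global sections (helper13).
-/

set_option autoImplicit false
set_option linter.unusedSectionVars false
universe u
open CategoryTheory CategoryTheory.Limits AlgebraicGeometry Opposite TopologicalSpace
open Groth.Agent.Helper13.QCoh Groth.Agent.Helper13.FinType Groth.Agent.Helper13.GlobGen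

namespace Groth.Agent.Helper13.FinGlobGen

variable {X : Scheme.{u}}

/-- the germs at `y` of a finite set of global sections span the stalk -/
def SpanAt (F : X.Modules) (T : Finset Γ(F, ⊤)) (y : X) : Prop :=
  Submodule.span (X.presheaf.stalk y)
    (Set.range fun t : T => F.presheaf.germ ⊤ y trivial (t : Γ(F, ⊤))) = ⊤

lemma SpanAt.mono {F : X.Modules} {T T' : Finset Γ(F, ⊤)} (h : T ⊆ T') {y : X} (hT : SpanAt F T y) :
    SpanAt F T' y := by
  unfold SpanAt at hT ⊢
  rw [eq_top_iff, ← hT]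
  apply Submodule.span_mono
  rintro _ ⟨t, rfl⟩
  exact ⟨⟨t.1, h t.2⟩, rfl⟩

theorem exists_nhd_spanAt (F : X.Modules) [SheafOfModules.IsFiniteType (R := X.ringCatSheaf) F]
    (hgg : ∀ y, GGAt F y) (x : X) :
    ∃ (T : Finset Γ(F, ⊤)) (W : Set X), W ∈ nhds x ∧ ∀ y ∈ W, SpanAt F T y := by
  classical
  obtain ⟨U, hxU, I, hI, s, hs⟩ := exists_genOn_of_isFiniteType F x
  -- the stalk at `x` is finitely generated
  have hfg : (⊤ : Submodule (X.presheaf.stalk x) (F.presheaf.stalk x)).FG := by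
    rw [← hs x hxU]
    exact Submodule.fg_span (Set.finite_range _)
  have hcomp := (Submodule.fg_iff_compact _).1 hfg
  let g : Γ(F, ⊤) → F.presheaf.stalk x := fun t => F.presheaf.germ ⊤ x trivial t
  obtain ⟨T, hT⟩ := CompleteLattice.IsCompactElement.exists_finset_of_le_iSup _ hcomp
    (fun t : Γ(F, ⊤) => Submodule.span (X.presheaf.stalk x) {g t}) (by
      rw [← Submodule.span_range_eq_iSup]
      exact (hgg x).ge)
  have hTx : SpanAt F T x := by
    unfold SpanAt
    rw [eq_top_iff]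
    refine hT.trans ?_
    refine iSup₂_le fun t ht => ?_
    rw [Submodule.span_le, Set.singleton_subset_iff]
    exact Submodule.subset_span ⟨⟨t, ht⟩, rfl⟩
  -- each local generator is a combination of the sections in `T` near `x`
  have key : ∀ i : I, ∃ (W : X.Opens) (hWU : W ≤ U), x ∈ W ∧
      F.presheaf.map (homOfLE hWU).op (s i) ∈ Submodule.span Γ(X, W)
        (Set.range (resFam F (fun t : T => (t : Γ(F, ⊤))) (le_top : W ≤ ⊤))) := by
    intro i
    have hm : F.presheaf.germ U x hxU (s i) ∈ Submodule.span (X.presheaf.stalk x)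
        (Set.range fun t : T => F.presheaf.germ ⊤ x trivial (t : Γ(F, ⊤))) := by
      unfold SpanAt at hTx
      rw [hTx]; trivial
    obtain ⟨W, hW, hxW, t', ht', hgerm⟩ :=
      exists_section_of_mem_span (fun t : T => (t : Γ(F, ⊤))) x trivial _ hm
    obtain ⟨W', hxW', i₁, i₂, heq⟩ := TopCat.Presheaf.germ_eq F.presheaf x hxW hxU t' (s i) hgerm
    refine ⟨W', i₂.le, hxW', ?_⟩
    have h1 := res_mem_span (fun t : T => (t : Γ(F, ⊤))) hW i₁.le t' ht'
    have h2 : F.presheaf.map (homOfLE i₂.le).op (s i) = F.presheaf.map (homOfLE i₁.le).op t' := heq.symm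
    rw [h2]
    exact h1
  choose W hWU hxW hmem using key
  refine ⟨T, (U : Set X) ∩ ⋂ i, (W i : Set X), ?_, ?_⟩
  · refine Filter.inter_mem (U.isOpen.mem_nhds hxU) ?_
    rw [Filter.iInter_mem]
    exact fun i => (W i).isOpen.mem_nhds (hxW i)
  · rintro y ⟨hyU, hyW⟩
    rw [Set.mem_iInter] at hyW
    unfold SpanAt
    rw [eq_top_iff, ← hs y hyU, Submodule.span_le]
    rintro _ ⟨i, rfl⟩
    have h1 := germ_mem_span (fun t : T => (t : Γ(F, ⊤))) (le_top : W i ≤ ⊤) _ (hmem i) y (hyW i)
    rw [TopCat.Presheaf.germ_res_apply] at h1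
    exact h1

theorem exists_finset_spanAt [CompactSpace X] (F : X.Modules)
    [SheafOfModules.IsFiniteType (R := X.ringCatSheaf) F] (hgg : ∀ y, GGAt F y) :
    ∃ T : Finset Γ(F, ⊤), ∀ y, SpanAt F T y := by
  classical
  have key : ∃ T : Finset Γ(F, ⊤), ∀ y ∈ (Set.univ : Set X), SpanAt F T y := by
    refine isCompact_univ.induction_on (p := fun S => ∃ T : Finset Γ(F, ⊤), ∀ y ∈ S, SpanAt F T y)
      ?_ ?_ ?_ ?_
    · exact ⟨∅, fun y hy => hy.elim⟩
    · rintro S S' hSS' ⟨T, hT⟩
      exact ⟨T, fun y hy => hT y (hSS' hy)⟩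
    · rintro S S' ⟨T, hT⟩ ⟨T', hT'⟩
      refine ⟨T ∪ T', fun y hy => ?_⟩
      rcases hy with hy | hy
      · exact (hT y hy).mono Finset.subset_union_left
      · exact (hT' y hy).mono Finset.subset_union_right
    · intro x _
      obtain ⟨T, W, hW, hT⟩ := exists_nhd_spanAt F hgg x
      exact ⟨W, mem_nhdsWithin_of_mem_nhds hW, T, hT⟩
  obtain ⟨T, hT⟩ := key
  exact ⟨T, fun y => hT y trivial⟩

/-- finitely many global sections generate -/
theorem exists_fin_genOn [CompactSpace X] (F : X.Modules)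
    [SheafOfModules.IsFiniteType (R := X.ringCatSheaf) F] (hgg : ∀ y, GGAt F y) :
    ∃ (n : ℕ) (t : Fin n → Γ(F, ⊤)), GenOn F ⊤ t := by
  obtain ⟨T, hT⟩ := exists_finset_spanAt F hgg
  refine ⟨T.card, fun i => (T.equivFin.symm i : Γ(F, ⊤)), ?_⟩
  intro y hy
  rw [eq_top_iff, ← hT y]
  apply Submodule.span_mono
  rintro _ ⟨t, rfl⟩
  exact ⟨T.equivFin t, by simp⟩

end Groth.Agent.Helper13.FinGlobGen
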