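import Mathlib
import Groth.Prelude.Def_RefHull
import Groth.Agent.Lib.Lead.HomSh1
import Groth.Agent.Lib.Helper13.TensorUnit
import Groth.Agent.Lib.Helper13.InvTensor
import Groth.Agent.Lib.Helper13.InvGen
import Groth.Agent.Lib.Helper13.GenLocus

/-!
# The inverse of an invertible module

For an `O_X`-module `L` we consider its dual `L^∨ = 𝓗om(L, O_X)` (the frozen concrete sheaf Hom
`RefHull.homSh`), and the evaluation map `L ⊗ L^∨ ⟶ O_X`.  For invertible `L` the evaluation map is
an isomorphism; in particular `L^∨` is invertible and is an inverse of `L` for the tensor product.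
-/

set_option autoImplicit false
set_option maxHeartbeats 400000
universe u
open CategoryTheory CategoryTheory.Limits AlgebraicGeometry Opposite TopologicalSpace TensorProduct
open RefHull Groth.Agent.Lead.HomSh
open Groth.Agent.Helper13.QCoh Groth.Agent.Helper13.FinType Groth.Agent.Helper13.Tensor
open Groth.Agent.Helper13.Inv Groth.Agent.Helper13.WeakAss

namespace Groth.Agent.Helper13.InvDual

variable {X : Scheme.{u}} (L : X.Modules)

/-- the dual module `𝓗om(L, O_X)`. -/
noncomputable abbrev dual : X.Modules := homSh L (Coh.structureModule X)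

/-- the evaluation pairing on sections. -/
noncomputable def evFamily : BilinFamily L (dual L) (Coh.structureModule X) where
  β U := LinearMap.mk₂ Γ(X, U) (fun (m : Γ(L, U)) (g : Γ(dual L, U)) => evalSec g m)
    (fun m m' g => evalSec_add_right g m m') (fun c m g => evalSec_smul_right g c m)
    (fun m g g' => evalSec_add_left g g' m) (fun c m g => evalSec_smul_left g c m)
  res i m g := evalSec_res i g m

/-- the evaluation map `L ⊗ L^∨ ⟶ O_X`. -/
noncomputable def evHom : CohB1.tensorMod L (dual L) ⟶ Coh.structureModule X := (evFamily L).hom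

lemma evHom_app_tmul {U : X.Opens} (m : Γ(L, U)) (g : Γ(dual L, U)) :
    (evHom L).app U (tmul L (dual L) m g) = evalSec g m :=
  (evFamily L).hom_app_tmul m g

/-- the evaluation map on stalks. -/
noncomputable def evStalk (x : X) :
    (L.presheaf.stalk x ⊗[X.presheaf.stalk x] (dual L).presheaf.stalk x) →ₗ[X.presheaf.stalk x]
      (Coh.structureModule X).presheaf.stalk x :=
  (stalkLinearMap (evHom L) x).comp (stalkTensorEquiv L (dual L) x).toLinearMap

lemma evStalk_germ (x : X) {W : X.Opens} (hx : x ∈ W) (m : Γ(L, W)) (g : Γ(dual L, W)) :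
    evStalk L x (L.presheaf.germ W x hx m ⊗ₜ (dual L).presheaf.germ W x hx g) =
      g.1 ⟨x, hx⟩ (L.presheaf.germ W x hx m) := by
  change stalkMap (evHom L) x (stalkTensorEquiv L (dual L) x _) = _
  rw [stalkMap_stalkTensorEquiv_germ, evHom_app_tmul, germ_evalSec]


section Gen

variable {L} {U : X.Opens} (e : Γ(L, U)) (he : ∀ (y : X) (hy : y ∈ U), IsGen L e y hy)

include he in
lemma bijective_toSpanSingleton (y : U) :
    Function.Bijective (LinearMap.toSpanSingleton (X.presheaf.stalk y.1) (L.presheaf.stalk y.1)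
      (L.presheaf.germ U y.1 y.2 e)) := by
  have h : ⇑(LinearMap.toSpanSingleton (X.presheaf.stalk y.1) (L.presheaf.stalk y.1)
      (L.presheaf.germ U y.1 y.2 e)) = fun r => r • L.presheaf.germ U y.1 y.2 e := by
    funext r
    exact LinearMap.toSpanSingleton_apply _ _ _ _
  rw [h]
  exact he y.1 y.2

/-- the coordinate of an element of the stalk with respect to the generator `e`. -/
noncomputable def coord (y : U) :
    L.presheaf.stalk y.1 ≃ₗ[X.presheaf.stalk y.1] X.presheaf.stalk y.1 :=
  (LinearEquiv.ofBijective _ (bijective_toSpanSingleton e he y)).symm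

lemma coord_smul_germ (y : U) (r : X.presheaf.stalk y.1) :
    coord e he y (r • L.presheaf.germ U y.1 y.2 e) = r := by
  unfold coord
  rw [LinearEquiv.symm_apply_eq]
  exact (LinearMap.toSpanSingleton_apply _ _ _ _).symm

lemma coord_germ (y : U) : coord e he y (L.presheaf.germ U y.1 y.2 e) = 1 := by
  have := coord_smul_germ e he y 1
  rwa [one_smul] at this

/-- the stalk maps of the dual generator. -/
noncomputable def dualGenAt (y : U) : StalkHom L (Coh.structureModule X) y.1 :=
  (unitStalkEquiv y.1).symm.toLinearMap.comp (coord e he y).toLinearMap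

lemma dualGenAt_smul_germ (y : U) (r : X.presheaf.stalk y.1) :
    dualGenAt e he y (r • L.presheaf.germ U y.1 y.2 e) = (unitStalkEquiv y.1).symm r := by
  change (unitStalkEquiv y.1).symm (coord e he y _) = _
  rw [coord_smul_germ]

lemma isLocSect_dualGenAt : IsLocSect L (Coh.structureModule X) (dualGenAt e he) := by
  intro V i m x
  obtain ⟨W, hxW, hWU, hWV, a, ha⟩ := GenLoc.exists_eq_smul_of_isGen L e x.1 (i.le x.2)
    (he _ _) x.2 m
  refine ⟨W, hxW, homOfLE hWV, LocFree.toO W a, fun y => ?_⟩
  have h1 : L.presheaf.germ V y.1 (hWV y.2) m =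
      X.presheaf.germ W y.1 y.2 a • L.presheaf.germ U y.1 (hWU y.2) e := by
    rw [← TopCat.Presheaf.germ_res_apply L.presheaf (homOfLE hWV) y.1 y.2 m, ha, Tensor.germ_smul,
      TopCat.Presheaf.germ_res_apply]
  rw [h1]
  have h2 := dualGenAt_smul_germ e he ⟨y.1, hWU y.2⟩ (X.presheaf.germ W y.1 y.2 a)
  refine h2.trans ?_
  rw [LinearEquiv.symm_apply_eq, unitStalkEquiv_germ]

/-- the dual generator of `L^∨`, a section over `U`. -/
noncomputable def dualGen : Γ(dual L, U) := ⟨dualGenAt e he, isLocSect_dualGenAt e he⟩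

lemma dualGen_apply (y : U) : (dualGen e he).1 y = dualGenAt e he y := rfl

lemma evStalk_gen (x : U) :
    evStalk L x.1 (L.presheaf.germ U x.1 x.2 e ⊗ₜ (dual L).presheaf.germ U x.1 x.2 (dualGen e he)) =
      (unitStalkEquiv x.1).symm 1 := by
  rw [evStalk_germ, dualGen_apply]
  have := dualGenAt_smul_germ e he x 1
  rwa [one_smul] at this

include he in
lemma evStalk_surjective (x : U) : Function.Surjective (evStalk L x.1) := by
  intro c
  refine ⟨unitStalkEquiv x.1 c • (L.presheaf.germ U x.1 x.2 e ⊗ₜ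
    (dual L).presheaf.germ U x.1 x.2 (dualGen e he)), ?_⟩
  rw [map_smul, evStalk_gen, ← map_smul, smul_eq_mul, mul_one, LinearEquiv.symm_apply_apply]

include he in
lemma exists_eq_germ_tmul (x : U)
    (z : L.presheaf.stalk x.1 ⊗[X.presheaf.stalk x.1] (dual L).presheaf.stalk x.1) :
    ∃ ν : (dual L).presheaf.stalk x.1, z = L.presheaf.germ U x.1 x.2 e ⊗ₜ ν := by
  induction z using TensorProduct.induction_on with
  | zero => exact ⟨0, (TensorProduct.tmul_zero _ _).symm⟩
  | tmul a ν =>
    obtain ⟨r, hr⟩ := (he x.1 x.2).2 a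
    refine ⟨r • ν, ?_⟩
    rw [← hr]
    exact TensorProduct.smul_tmul _ _ _
  | add a b ha hb =>
    obtain ⟨ν, rfl⟩ := ha
    obtain ⟨ν', rfl⟩ := hb
    exact ⟨ν + ν', (TensorProduct.tmul_add _ _ _).symm⟩

include he in
lemma evStalk_injective (x : U) : Function.Injective (evStalk L x.1) := by
  rw [injective_iff_map_eq_zero]
  intro z hz
  obtain ⟨ν, rfl⟩ := exists_eq_germ_tmul e he x z
  obtain ⟨W₁, hxW₁, g₁, rfl⟩ := TopCat.Presheaf.exists_germ_eq (dual L).presheaf ν
  -- restrict to `W = W₁ ⊓ U`
  set W : X.Opens := W₁ ⊓ U with hW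
  have hxW : x.1 ∈ W := ⟨hxW₁, x.2⟩
  set g : Γ(dual L, W) := (dual L).presheaf.map (homOfLE (inf_le_left : W ≤ W₁)).op g₁ with hg
  set e' : Γ(L, W) := L.presheaf.map (homOfLE (inf_le_right : W ≤ U)).op e with he'
  have hge : (dual L).presheaf.germ W x.1 hxW g = (dual L).presheaf.germ W₁ x.1 hxW₁ g₁ :=
    TopCat.Presheaf.germ_res_apply (dual L).presheaf (homOfLE inf_le_left) x.1 hxW g₁
  have hee : L.presheaf.germ W x.1 hxW e' = L.presheaf.germ U x.1 x.2 e :=
    TopCat.Presheaf.germ_res_apply L.presheaf (homOfLE inf_le_right) x.1 hxW e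
  rw [← hge, ← hee, evStalk_germ, ← germ_evalSec] at hz
  have hz' : (Coh.structureModule X).presheaf.germ W x.1 hxW (evalSec g e') =
      (Coh.structureModule X).presheaf.germ W x.1 hxW 0 := by
    rw [hz, map_zero]
  obtain ⟨W', hxW', i₁, i₂, hW'⟩ := TopCat.Presheaf.germ_eq (Coh.structureModule X).presheaf x.1
    hxW hxW _ _ hz'
  rw [map_zero, evalSec_res] at hW'
  have hzero : (dual L).presheaf.map i₁.op g = 0 := by
    refine eq_zero_of_evalSec_eq_zero _ (fun _ : Unit => L.presheaf.map i₁.op e') ?_
      (fun _ => hW')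
    intro y
    rw [eq_top_iff]
    intro v _
    have hyU : y.1 ∈ U := (inf_le_right : W ≤ U) (i₁.le y.2)
    obtain ⟨r, hr⟩ := (he y.1 hyU).2 v
    have h1 : L.presheaf.germ W' y.1 y.2 (L.presheaf.map i₁.op e') = L.presheaf.germ U y.1 hyU e := by
      rw [TopCat.Presheaf.germ_res_apply, he', TopCat.Presheaf.germ_res_apply]
    rw [← hr, ← h1]
    exact Submodule.smul_mem _ _ (Submodule.subset_span ⟨(), rfl⟩)
  have hν : (dual L).presheaf.germ W x.1 hxW g = 0 := by
    rw [← TopCat.Presheaf.germ_res_apply (dual L).presheaf i₁ x.1 hxW' g, hzero, map_zero]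
  rw [← hge, hν, TensorProduct.tmul_zero]

include he in
lemma evStalk_bijective (x : U) : Function.Bijective (evStalk L x.1) :=
  ⟨evStalk_injective e he x, evStalk_surjective e he x⟩

end Gen

section Main

variable (hL : PicF.IsInvertible L)

include hL in
theorem isIso_evHom : IsIso (evHom L) := by
  apply isIso_of_stalkTensor
  intro x
  obtain ⟨U, hxU, e, he⟩ := (isInvertible_iff_exists_isGen (L := L)).1 hL x
  exact evStalk_bijective e he ⟨x, hxU⟩

/-- **the inverse of an invertible module**: `L ⊗ L^∨ ≅ O_X`. -/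
noncomputable def evIso : CohB1.tensorMod L (dual L) ≅ Coh.structureModule X :=
  haveI := isIso_evHom L hL
  asIso (evHom L)

/-- `L^∨ ⊗ L ≅ O_X`. -/
noncomputable def evIso' : CohB1.tensorMod (dual L) L ≅ Coh.structureModule X :=
  Tensor.braid (dual L) L ≪≫ evIso L hL

include hL in
/-- the dual of an invertible module is invertible. -/
theorem isInvertible_dual : PicF.IsInvertible (dual L) :=
  isInvertible_of_tensor_iso (dual L) L (evIso' L hL)

include hL in
/-- every invertible module has an inverse. -/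
theorem exists_inverse : ∃ N : X.Modules, PicF.IsInvertible N ∧
    Nonempty (CohB1.tensorMod L N ≅ Coh.structureModule X) ∧
    Nonempty (CohB1.tensorMod N L ≅ Coh.structureModule X) :=
  ⟨dual L, isInvertible_dual L hL, ⟨evIso L hL⟩, ⟨evIso' L hL⟩⟩

end Main

end Groth.Agent.Helper13.InvDual
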