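import Mathlib
import Groth.Agent.Lib.Helper13.LocFree2

set_option autoImplicit false
universe u
open CategoryTheory CategoryTheory.Limits AlgebraicGeometry Opposite TopologicalSpace
open Groth.Agent.Helper13.QCoh Groth.Agent.Helper13.FinType Groth.Agent.Helper13.QCohLocal
open Groth.Agent.Helper13.QCohLoc Groth.Agent.Helper13.LocTransfer

namespace Groth.Agent.Helper13.LocFree

variable {X : Scheme.{u}} (M : X.Modules) [M.IsQuasicoherent]

/-- flatness of the sections over an affine open can be checked on a cover by basic opens. -/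
lemma flat_of_span_eq_top {U : X.Opens} (hU : IsAffineOpen U) (s : Set Γ(X, U))
    (hs : Ideal.span s = ⊤)
    (h : ∀ f : s, Module.Flat Γ(X, X.basicOpen f.1) Γ(M, X.basicOpen f.1)) :
    Module.Flat Γ(X, U) Γ(M, U) := by
  letI : ∀ f : s, Module Γ(X, U) Γ(M, X.basicOpen f.1) := fun f => modBasicOpen M f.1
  haveI : ∀ f : s, IsScalarTower Γ(X, U) Γ(X, X.basicOpen f.1) Γ(M, X.basicOpen f.1) :=
    fun f => isScalarTower_basicOpen M f.1
  haveI : ∀ f : s, IsLocalizedModule (Submonoid.powers f.1) (resBasicOpen M f.1) :=
    fun f => isLocalizedModule_basicOpen M hU f.1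
  haveI : ∀ f : s, IsLocalization (Submonoid.powers f.1) Γ(X, X.basicOpen f.1) :=
    fun f => hU.isLocalization_basicOpen f.1
  have H : ∀ f : s, Module.Flat Γ(X, U) Γ(M, X.basicOpen f.1) := by
    intro f
    haveI := h f
    haveI : Module.Flat Γ(X, U) Γ(X, X.basicOpen f.1) :=
      IsLocalization.flat Γ(X, X.basicOpen f.1) (Submonoid.powers f.1)
    exact Module.Flat.trans Γ(X, U) Γ(X, X.basicOpen f.1) Γ(M, X.basicOpen f.1)
  exact Module.flat_of_isLocalized_span (R := Γ(X, U)) (S := Γ(X, U)) Γ(M, U) s hs
    (fun f => Γ(M, X.basicOpen f.1)) (fun f => resBasicOpen M f.1) H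

/-- sections of a finite locally free quasi-coherent module over affine opens are finite
projective. -/
theorem projective_sections_of_isFinLocFree (h : FlatMod.IsFinLocFree M) {U : X.Opens}
    (hU : IsAffineOpen U) :
    Module.Finite Γ(X, U) Γ(M, U) ∧ Module.Projective Γ(X, U) Γ(M, U) := by
  haveI := isFinitePresentation_of_isFinLocFree M h
  haveI := finitePresentation_sections_of_isFinitePresentation M hU
  have hflat : Module.Flat Γ(X, U) Γ(M, U) := by
    let s : Set Γ(X, U) := {r | ∃ n : ℕ,
      Nonempty (Module.Basis (Fin n) Γ(X, X.basicOpen r) Γ(M, X.basicOpen r))}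
    have hs : Ideal.span s = ⊤ := by
      rw [← hU.self_le_iSup_basicOpen_iff]
      intro x hx
      haveI := free_stalk_of_isFinLocFree M h x
      obtain ⟨r, hxr, n, hb⟩ := exists_basicOpen_basis M hU ⟨x, hx⟩
      exact Opens.mem_iSup.2 ⟨⟨r, n, hb⟩, hxr⟩
    apply flat_of_span_eq_top M hU s hs
    rintro ⟨r, n, ⟨b⟩⟩
    haveI : Module.Free Γ(X, X.basicOpen r) Γ(M, X.basicOpen r) := Module.Free.of_basis b
    exact Module.Flat.of_free
  exact ⟨inferInstance, Module.Flat.projective_of_finitePresentation⟩

/-- finite projective sections over an affine open give free stalks. -/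
lemma free_stalk_of_projective_sections {U : X.Opens} (hU : IsAffineOpen U) (x : U)
    [Module.Finite Γ(X, U) Γ(M, U)] [Module.Projective Γ(X, U) Γ(M, U)] :
    Module.Free (X.presheaf.stalk (x : X)) (M.presheaf.stalk (x : X)) := by
  haveI := finite_stalk_of_finite_sections M hU x
  letI := modStalk M x
  haveI := isScalarTower_stalk M x
  haveI := isLocalizedModule_germ M hU x
  haveI : IsLocalization (hU.primeIdealOf x).asIdeal.primeCompl (X.presheaf.stalk (x : X)) :=
    hU.isLocalization_stalk x
  haveI : Module.Projective (X.presheaf.stalk (x : X)) (M.presheaf.stalk (x : X)) :=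
    Module.projective_of_isLocalizedModule (Rₛ := X.presheaf.stalk (x : X))
      (hU.primeIdealOf x).asIdeal.primeCompl (germLin M x)
  exact Module.free_of_flat_of_isLocalRing

/-- a quasi-coherent module whose sections over the members of an affine open cover are finite
projective is finite locally free. -/
theorem isFinLocFree_of_projective_sections
    (h : ∀ x : X, ∃ U : X.Opens, IsAffineOpen U ∧ x ∈ U ∧
      Module.Finite Γ(X, U) Γ(M, U) ∧ Module.Projective Γ(X, U) Γ(M, U)) :
    FlatMod.IsFinLocFree M := by
  haveI : SheafOfModules.IsFinitePresentation (R := X.ringCatSheaf) M := by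
    apply isFinitePresentation_of_finitePresentation_sections M
    intro x
    obtain ⟨U, hU, hxU, hfin, hproj⟩ := h x
    exact ⟨U, hU, hxU, Module.finitePresentation_of_projective _ _⟩
  apply isFinLocFree_of_isFinitePresentation_of_free_stalks M
  intro x
  obtain ⟨U, hU, hxU, hfin, hproj⟩ := h x
  exact free_stalk_of_projective_sections M hU ⟨x, hxU⟩

/-- finite locally free iff sections over all affine opens are finite projective. -/
theorem isFinLocFree_iff_projective_sections :
    FlatMod.IsFinLocFree M ↔ ∀ U : X.Opens, IsAffineOpen U →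
      Module.Finite Γ(X, U) Γ(M, U) ∧ Module.Projective Γ(X, U) Γ(M, U) := by
  constructor
  · intro h U hU
    exact projective_sections_of_isFinLocFree M h hU
  · intro h
    apply isFinLocFree_of_projective_sections M
    intro x
    obtain ⟨_, ⟨V, hV, rfl⟩, hxV, -⟩ :=
      X.isBasis_affineOpens.exists_subset_of_mem_open (Set.mem_univ x) isOpen_univ
    exact ⟨V, hV, hxV, h V hV⟩

end Groth.Agent.Helper13.LocFree
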