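import Mathlib
import Groth.Agent.Lib.Helper13.LocFree3

set_option autoImplicit false
universe u
open CategoryTheory CategoryTheory.Limits AlgebraicGeometry Opposite TopologicalSpace
open Groth.Agent.Helper13.QCoh Groth.Agent.Helper13.FinType Groth.Agent.Helper13.QCohLocal
open Groth.Agent.Helper13.QCohLoc Groth.Agent.Helper13.LocTransfer

namespace Groth.Agent.Helper13.LocFree

variable {X : Scheme.{u}}

/-- `free (ULift (Fin n)) ≅ O^n`. -/
noncomputable def freeULiftIsoFreeMod (n : ℕ) :
    SheafOfModules.free (R := X.ringCatSheaf) (ULift.{u} (Fin n)) ≅ FlatMod.freeMod X n :=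
  Sigma.whiskerEquiv (f := fun _ : ULift.{u} (Fin n) => SheafOfModules.unit X.ringCatSheaf)
    (g := fun _ : Fin n => Coh.structureModule X)
    Equiv.ulift (fun _ => Iso.refl _)

instance isQuasicoherent_freeMod (n : ℕ) : (FlatMod.freeMod X n).IsQuasicoherent :=
  Groth.Agent.Helper13.QCohLocal.isQuasicoherent_of_iso (freeULiftIsoFreeMod (X := X) n)

/-- a retract of a quasi-coherent module is quasi-coherent. -/
theorem isQuasicoherent_of_retract {M F : X.Modules} [F.IsQuasicoherent] (i : M ⟶ F) (p : F ⟶ M)
    (h : i ≫ p = 𝟙 M) : M.IsQuasicoherent := by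
  let q : F ⟶ F := 𝟙 F - p ≫ i
  haveI : (kernel q).IsQuasicoherent := Groth.Agent.Helper13.QCohLocal.isQuasicoherent_kernel q
  have hi : i ≫ q = 0 := by
    simp only [q, Preadditive.comp_sub, Category.comp_id]
    rw [← Category.assoc, h, Category.id_comp, sub_self]
  have hk : (kernel.ι q : kernel q ⟶ F) ≫ p ≫ i = kernel.ι q := by
    have := kernel.condition q
    simp only [q, Preadditive.comp_sub, Category.comp_id] at this
    exact (sub_eq_zero.1 this).symm
  let e : kernel q ≅ M :=
    { hom := (kernel.ι q : kernel q ⟶ F) ≫ p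
      inv := kernel.lift q i hi
      hom_inv_id := by
        apply (cancel_mono (kernel.ι q)).1
        rw [Category.assoc, Category.assoc, kernel.lift_ι, Category.id_comp]
        exact hk
      inv_hom_id := by
        rw [← Category.assoc, kernel.lift_ι, h] }
  exact Groth.Agent.Helper13.QCohLocal.isQuasicoherent_of_iso e

/-- a retract of `O^n` is finite locally free. -/
theorem isFinLocFree_of_retract_freeMod {M : X.Modules} {n : ℕ} (i : M ⟶ FlatMod.freeMod X n)
    (p : FlatMod.freeMod X n ⟶ M) (h : i ≫ p = 𝟙 M) : FlatMod.IsFinLocFree M := by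
  haveI : M.IsQuasicoherent := isQuasicoherent_of_retract i p h
  rw [isFinLocFree_iff_projective_sections]
  intro U hU
  let iU : Γ(M, U) →ₗ[Γ(X, U)] (Fin n → Γ(X, U)) :=
    (secLinearEquiv n U).symm.toLinearMap ∘ₗ appLinearMap i U
  let pU : (Fin n → Γ(X, U)) →ₗ[Γ(X, U)] Γ(M, U) :=
    appLinearMap p U ∘ₗ (secLinearEquiv n U).toLinearMap
  have hpi : pU ∘ₗ iU = LinearMap.id := by
    ext a
    change p.app U ((secLinearEquiv n U) ((secLinearEquiv n U).symm (i.app U a))) = a
    rw [LinearEquiv.apply_symm_apply]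
    change (i ≫ p).app U a = a
    rw [h]
    rfl
  have hsurj : Function.Surjective pU := fun a => ⟨iU a, LinearMap.congr_fun hpi a⟩
  exact ⟨Module.Finite.of_surjective pU hsurj,
    Module.Projective.of_split iU pU hpi⟩

end Groth.Agent.Helper13.LocFree
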