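import Mathlib
import Groth.Agent.Lib.Helper13.Retract

set_option autoImplicit false
universe u
open CategoryTheory CategoryTheory.Limits AlgebraicGeometry Opposite TopologicalSpace
open Groth.Agent.Helper13.QCoh Groth.Agent.Helper13.FinType Groth.Agent.Helper13.QCohLocal
open Groth.Agent.Helper13.QCohLoc Groth.Agent.Helper13.LocTransfer

namespace Groth.Agent.Helper13.LocFree

variable {X : Scheme.{u}}

/-- finite local freeness is invariant under isomorphisms. -/
theorem isFinLocFree_of_iso {M N : X.Modules} (e : M ≅ N) (h : FlatMod.IsFinLocFree M) :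
    FlatMod.IsFinLocFree N := by
  intro x
  obtain ⟨U, n, hxU, ⟨i⟩⟩ := h x
  exact ⟨U, n, hxU, ⟨((Scheme.Modules.restrictFunctor U.ι).mapIso e).symm ≪≫ i⟩⟩

theorem isFinLocFreeOfRank_of_iso {M N : X.Modules} (e : M ≅ N) {n : ℕ}
    (h : FlatMod.IsFinLocFreeOfRank n M) : FlatMod.IsFinLocFreeOfRank n N := by
  intro x
  obtain ⟨U, hxU, ⟨i⟩⟩ := h x
  exact ⟨U, hxU, ⟨((Scheme.Modules.restrictFunctor U.ι).mapIso e).symm ≪≫ i⟩⟩

/-- `O^n` is finite locally free of rank `n`. -/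
theorem isFinLocFreeOfRank_freeMod (n : ℕ) : FlatMod.IsFinLocFreeOfRank n (FlatMod.freeMod X n) := by
  rw [isFinLocFreeOfRank_iff_of_isQuasicoherent]
  intro x
  obtain ⟨_, ⟨V, hV, rfl⟩, hxV, -⟩ :=
    X.isBasis_affineOpens.exists_subset_of_mem_open (Set.mem_univ x) isOpen_univ
  exact ⟨V, hV, hxV, ⟨basisFreeMod n V⟩⟩

theorem isFinLocFree_freeMod (n : ℕ) : FlatMod.IsFinLocFree (FlatMod.freeMod X n) := by
  intro x
  obtain ⟨U, hxU, h⟩ := isFinLocFreeOfRank_freeMod (X := X) n x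
  exact ⟨U, n, hxU, h⟩

/-- if a restriction of a quasi-coherent module to an open is finite locally free, its stalks at
points of the open are free. -/
theorem free_stalk_of_isFinLocFree_restrict (M : X.Modules) [M.IsQuasicoherent] (U : X.Opens)
    (h : FlatMod.IsFinLocFree (M.restrict U.ι)) (x : X) (hx : x ∈ U) :
    Module.Free (X.presheaf.stalk x) (M.presheaf.stalk x) := by
  rw [isFinLocFree_iff_of_isQuasicoherent] at h
  obtain ⟨W, n, hW, hxW, ⟨b⟩⟩ := h ⟨x, hx⟩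
  have hW' : IsAffineOpen (U.ι ''ᵁ W) := hW.image_of_isOpenImmersion U.ι
  have hxW' : x ∈ U.ι ''ᵁ W := ⟨⟨x, hx⟩, hxW, rfl⟩
  haveI : Module.Free Γ(X, U.ι ''ᵁ W) Γ(M, U.ι ''ᵁ W) :=
    Module.Free.of_basis (basisOfRestrict U.ι M W b)
  exact free_stalk_of_free_sections M hW' ⟨x, hxW'⟩

end Groth.Agent.Helper13.LocFree
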