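import Mathlib
import Groth.Agent.Lib.Helper13.StalkBasis2
import Groth.Agent.Lib.Helper13.LocFree2

set_option autoImplicit false
universe u
open CategoryTheory CategoryTheory.Limits AlgebraicGeometry Opposite TopologicalSpace
open Groth.Agent.Helper13.QCoh Groth.Agent.Helper13.FinType Groth.Agent.Helper13.LocFree
open Groth.Agent.Helper13.QCohLocal Groth.Agent.Helper13.QCohLoc Groth.Agent.Helper13.LocTransfer

namespace Groth.Agent.Helper13.StalkBasis

variable {X : Scheme.{u}} {n : ℕ}

lemma comb_eq_linearCombination (M : X.Modules) {U : X.Opens} (s : Fin n → Γ(M, U)) (y : X)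
    (hy : y ∈ U) :
    comb M s y hy = ⇑(Fintype.linearCombination (X.presheaf.stalk y)
      (fun i => M.presheaf.germ U y hy (s i))) := by
  funext c
  rw [Fintype.linearCombination_apply]
  rfl

lemma comb_surjective_of_span (M : X.Modules) {U : X.Opens} (s : Fin n → Γ(M, U)) (y : X)
    (hy : y ∈ U) (hspan : Submodule.span (X.presheaf.stalk y)
      (Set.range fun i => M.presheaf.germ U y hy (s i)) = ⊤) :
    Function.Surjective (comb M s y hy) := by
  intro m
  have hm : m ∈ Submodule.span (X.presheaf.stalk y)
      (Set.range fun i => M.presheaf.germ U y hy (s i)) := by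
    rw [hspan]; trivial
  obtain ⟨c, hc⟩ := (Submodule.mem_span_range_iff_exists_fun _).1 hm
  exact ⟨c, hc⟩

/-- `n` generators of a free module of rank `n` form a basis. -/
theorem isBasisAt_of_span_of_free (M : X.Modules) {U : X.Opens} (s : Fin n → Γ(M, U)) (y : X)
    (hy : y ∈ U) [Module.Free (X.presheaf.stalk y) (M.presheaf.stalk y)]
    [Module.Finite (X.presheaf.stalk y) (M.presheaf.stalk y)]
    (hrank : Module.finrank (X.presheaf.stalk y) (M.presheaf.stalk y) = n)
    (hspan : Submodule.span (X.presheaf.stalk y)
      (Set.range fun i => M.presheaf.germ U y hy (s i)) = ⊤) :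
    IsBasisAt M s y hy := by
  have hsurj := comb_surjective_of_span M s y hy hspan
  refine ⟨?_, hsurj⟩
  rw [comb_eq_linearCombination] at hsurj ⊢
  let b := Module.finBasisOfFinrankEq (X.presheaf.stalk y) (M.presheaf.stalk y) hrank
  exact OrzechProperty.injective_of_surjective_of_injective b.equivFun.symm.toLinearMap _
    b.equivFun.symm.injective hsurj

/-- the fibre rank of a finite free stalk is its rank. -/
lemma finrank_fibre_eq (M : X.Modules) (y : X)
    [Module.Free (X.presheaf.stalk y) (M.presheaf.stalk y)] :
    Module.finrank (IsLocalRing.ResidueField (X.presheaf.stalk y))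
      (TensorProduct (X.presheaf.stalk y) (IsLocalRing.ResidueField (X.presheaf.stalk y))
        (M.presheaf.stalk y)) = Module.finrank (X.presheaf.stalk y) (M.presheaf.stalk y) :=
  Module.finrank_baseChange

/-- the rank of the stalk of a quasi-coherent module with a basis of sections over an affine
open. -/
lemma finrank_stalk_of_basis (M : X.Modules) [M.IsQuasicoherent] {U : X.Opens}
    (hU : IsAffineOpen U) (x : U) (b : Module.Basis (Fin n) Γ(X, U) Γ(M, U)) :
    Module.finrank (X.presheaf.stalk (x : X)) (M.presheaf.stalk (x : X)) = n := by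
  letI := modStalk M x
  haveI := isScalarTower_stalk M x
  haveI := isLocalizedModule_germ M hU x
  haveI : IsLocalization (hU.primeIdealOf x).asIdeal.primeCompl (X.presheaf.stalk (x : X)) :=
    hU.isLocalization_stalk x
  let b' := b.ofIsLocalizedModule (X.presheaf.stalk (x : X))
    (hU.primeIdealOf x).asIdeal.primeCompl (germLin M x)
  rw [Module.finrank_eq_card_basis b', Fintype.card_fin]

end Groth.Agent.Helper13.StalkBasis
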