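import Mathlib
import Groth.Agent.Lib.Helper13.StalkBasis3

set_option autoImplicit false
universe u
open CategoryTheory CategoryTheory.Limits AlgebraicGeometry Opposite TopologicalSpace
open Groth.Agent.Helper13.QCoh Groth.Agent.Helper13.FinType Groth.Agent.Helper13.LocFree
open TensorProduct

namespace Groth.Agent.Helper13.StalkBasis

section Ring

variable {R : Type*} [CommRing R] [IsLocalRing R] {N : Type*} [AddCommGroup N] [Module R N]
  [Module.Finite R N]

local notation "κ" => IsLocalRing.ResidueField R

/-- lift a basis of the fibre to generators of the module (Nakayama). -/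
theorem exists_span_eq_top_of_finrank {r : ℕ}
    (hr : Module.finrank κ (κ ⊗[R] N) = r) :
    ∃ f : Fin r → N, Submodule.span R (Set.range f) = ⊤ := by
  let b := Module.finBasisOfFinrankEq κ (κ ⊗[R] N) hr
  have hsurj : Function.Surjective (TensorProduct.mk R κ N 1) :=
    TensorProduct.mk_surjective R N κ Ideal.Quotient.mk_surjective
  choose f hf using fun i => hsurj (b i)
  exact ⟨f, IsLocalRing.span_eq_top_of_tmul_eq_basis f b hf⟩

/-- a relation between `r` generators of a module with fibre of dimension `r` has coefficients in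
the maximal ideal. -/
theorem mem_maximalIdeal_of_relation {r : ℕ}
    (hr : Module.finrank κ (κ ⊗[R] N) = r) (v : Fin r → N)
    (hv : Submodule.span R (Set.range v) = ⊤) (c : Fin r → R) (hc : ∑ i, c i • v i = 0) (i : Fin r) :
    c i ∈ IsLocalRing.maximalIdeal R := by
  have hspan : ⊤ ≤ Submodule.span κ (Set.range fun i => (1 : κ) ⊗ₜ[R] v i) := by
    have h1 : (Submodule.span R (Set.range v)).map (TensorProduct.mk R κ N 1) = ⊤ :=
      IsLocalRing.map_tensorProduct_mk_eq_top.2 hv
    rw [Submodule.map_span, ← Set.range_comp] at h1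
    rw [top_le_iff, ← Submodule.restrictScalars_eq_top_iff R κ, Submodule.restrictScalars_span R κ
      Ideal.Quotient.mk_surjective]
    exact h1
  have hli : LinearIndependent κ (fun i => (1 : κ) ⊗ₜ[R] v i) :=
    linearIndependent_of_top_le_span_of_card_eq_finrank hspan (by rw [Fintype.card_fin, hr])
  have h0 : ∑ i, (IsLocalRing.residue R (c i)) • ((1 : κ) ⊗ₜ[R] v i) = 0 := by
    have := congrArg (TensorProduct.mk R κ N 1) hc
    rw [map_sum, map_zero] at this
    rw [← this]
    refine Finset.sum_congr rfl (fun i _ => ?_)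
    rw [TensorProduct.mk_apply, TensorProduct.tmul_smul, TensorProduct.smul_tmul']
    congr 1
  have := Fintype.linearIndependent_iff.1 hli _ h0 i
  exact (IsLocalRing.residue_eq_zero_iff _).1 this

end Ring

end Groth.Agent.Helper13.StalkBasis

namespace Groth.Agent.Helper13.StalkBasis

variable {X : Scheme.{u}} {n : ℕ}

lemma comb_injective_of_ker (M : X.Modules) {U : X.Opens} (s : Fin n → Γ(M, U)) (y : X)
    (hy : y ∈ U) (hker : ∀ c : Fin n → X.presheaf.stalk y, comb M s y hy c = 0 → c = 0) :
    Function.Injective (comb M s y hy) := by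
  intro c d hcd
  have : comb M s y hy (c - d) = 0 := by
    have h := comb_add M s y hy (c - d) d
    rw [sub_add_cancel, hcd] at h
    exact (add_eq_right.1 h.symm)
  exact sub_eq_zero.1 (hker _ this)

/-- on a reduced scheme, `r` sections generating a module of finite type whose fibres all have
dimension `r` form a basis of every stalk. -/
theorem isBasisAt_of_isReduced [IsReduced X] (M : X.Modules) [M.IsQuasicoherent]
    [SheafOfModules.IsFiniteType (R := X.ringCatSheaf) M]
    {U : X.Opens} (s : Fin n → Γ(M, U)) (hgen : GenOn M U s)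
    (hrank : ∀ z ∈ U, Module.finrank (IsLocalRing.ResidueField (X.presheaf.stalk z))
      (TensorProduct (X.presheaf.stalk z) (IsLocalRing.ResidueField (X.presheaf.stalk z))
        (M.presheaf.stalk z)) = n)
    (y : X) (hy : y ∈ U) : IsBasisAt M s y hy := by
  refine ⟨comb_injective_of_ker M s y hy ?_, comb_surjective_of_span M s y hy (hgen y hy)⟩
  intro c hc
  obtain ⟨W, hyW, γ, hγ⟩ := exists_common_germ_ring y c
  let W' : X.Opens := W ⊓ U
  have hyW' : y ∈ W' := ⟨hyW, hy⟩
  let σ : Γ(M, W') := ∑ i, X.presheaf.map (homOfLE (inf_le_left : W' ≤ W)).op (γ i) •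
    resFam M s (inf_le_right : W' ≤ U) i
  have hgerm : M.presheaf.germ W' y hyW' σ = M.presheaf.germ W' y hyW' 0 := by
    rw [map_zero, ← hc, map_sum]
    unfold comb
    refine Finset.sum_congr rfl (fun i _ => ?_)
    rw [germ_smul, TopCat.Presheaf.germ_res_apply, TopCat.Presheaf.germ_res_apply, hγ]
  obtain ⟨W'', hyW'', i₁, i₂, heq⟩ := TopCat.Presheaf.germ_eq M.presheaf y hyW' hyW' _ _ hgerm
  have hle : W'' ≤ W := i₁.le.trans inf_le_left
  have hzero : ∀ i, X.presheaf.map (homOfLE hle).op (γ i) = 0 := by
    intro i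
    rw [← basicOpen_eq_bot_iff, eq_bot_iff]
    intro z hz
    exfalso
    have hzW'' : z ∈ W'' := X.basicOpen_le _ hz
    have hzU : z ∈ U := (inf_le_right : W' ≤ U) (i₁.le hzW'')
    haveI := finite_stalk_of_isFiniteType M z
    have h0 : M.presheaf.germ W'' z hzW'' (M.presheaf.map i₁.op σ) = 0 := by
      rw [heq, map_zero, map_zero]
    rw [TopCat.Presheaf.germ_res_apply, map_sum] at h0
    have h1 : ∑ j, X.presheaf.germ W'' z hzW'' (X.presheaf.map (homOfLE hle).op (γ j)) •
        M.presheaf.germ U z hzU (s j) = 0 := by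
      rw [← h0]
      refine Finset.sum_congr rfl (fun j _ => ?_)
      rw [germ_smul, TopCat.Presheaf.germ_res_apply, TopCat.Presheaf.germ_res_apply,
        TopCat.Presheaf.germ_res_apply]
    have h2 := mem_maximalIdeal_of_relation (hrank z hzU) _ (hgen z hzU) _ h1 i
    rw [Scheme.mem_basicOpen _ _ _ hzW''] at hz
    exact (IsLocalRing.mem_maximalIdeal _).1 h2 hz
  funext i
  rw [← hγ i, ← TopCat.Presheaf.germ_res_apply X.presheaf (homOfLE hle) y hyW'' (γ i), hzero i,
    map_zero]
  rfl

end Groth.Agent.Helper13.StalkBasis
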