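import Mathlib
import Groth.Agent.Lib.Helper13.StalkBasis4
import Groth.Agent.Lib.Helper13.GenLocus
import Groth.Agent.Lib.Helper13.EpiStalk

set_option autoImplicit false
universe u
open CategoryTheory CategoryTheory.Limits AlgebraicGeometry Opposite TopologicalSpace
open Groth.Agent.Helper13.QCoh Groth.Agent.Helper13.FinType Groth.Agent.Helper13.LocFree
open Groth.Agent.Helper13.Inv

namespace Groth.Agent.Helper13.StalkBasis

variable {X : Scheme.{u}} {n : ℕ}

lemma comb_surjective_iff_span (M : X.Modules) {U : X.Opens} (s : Fin n → Γ(M, U)) (y : X)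
    (hy : y ∈ U) :
    Function.Surjective (comb M s y hy) ↔ Submodule.span (X.presheaf.stalk y)
      (Set.range fun i => M.presheaf.germ U y hy (s i)) = ⊤ := by
  refine ⟨fun h => ?_, comb_surjective_of_span M s y hy⟩
  rw [eq_top_iff]
  intro m _
  obtain ⟨c, rfl⟩ := h m
  exact Submodule.sum_mem _ (fun i _ => Submodule.smul_mem _ _ (Submodule.subset_span ⟨i, rfl⟩))

/-- every morphism out of `O^n` is given by `n` global sections. -/
lemma eq_descSec (M : X.Modules) (π : FlatMod.freeMod X n ⟶ M) :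
    π = descSec M (fun i => Groth.Agent.Helper13.GenLoc.sec M (ι n i ≫ π)) := by
  apply LocFree.hom_ext
  intro i
  rw [ι_descSec, Groth.Agent.Helper13.GenLoc.homOfSec_sec]

/-- `O^n ⟶ M` is an epimorphism iff the sections generate every stalk. -/
theorem epi_descSec_iff (M : X.Modules) (s : Fin n → Γ(M, ⊤)) :
    Epi (descSec M s) ↔ ∀ y, Function.Surjective (comb M s y trivial) := by
  rw [epi_iff_stalkMap_surjective]
  constructor
  · intro h y m
    obtain ⟨a, rfl⟩ := h y m
    obtain ⟨V, hyV, t, rfl⟩ := TopCat.Presheaf.exists_germ_eq (FlatMod.freeMod X n).presheaf a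
    obtain ⟨c, rfl⟩ := (secEquiv n V).surjective t
    exact ⟨_, (stalkMap_descSec_germ M s y hyV c).symm⟩
  · intro h y m
    obtain ⟨c, rfl⟩ := h y m
    obtain ⟨V, hyV, γ, hγ⟩ := exists_common_germ_ring y c
    refine ⟨(FlatMod.freeMod X n).presheaf.germ V y hyV (secOfCoord n V γ), ?_⟩
    rw [stalkMap_descSec_germ]
    congr 1
    funext i
    exact hγ i

section Transfer

variable {Y : Scheme.{u}} (f : X ⟶ Y) [IsOpenImmersion f] (M : Y.Modules)

lemma comb_surjective_restrict_iff {U : X.Opens} (s : Fin n → Γ(M, f ''ᵁ U)) (x : X) (hx : x ∈ U) :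
    Function.Surjective (comb (M.restrict f) (fun i => toRes f M (s i)) x hx) ↔
      Function.Surjective (comb M s (f x) ⟨x, hx, rfl⟩) := by
  have hσ : Function.Bijective (f.stalkMap x) :=
    (ConcreteCategory.isIso_iff_bijective _).1 inferInstance
  let e : Y.presheaf.stalk (f x) ≃ X.presheaf.stalk x := Equiv.ofBijective _ hσ
  let E : (Fin n → Y.presheaf.stalk (f x)) ≃ (Fin n → X.presheaf.stalk x) :=
    Equiv.piCongrRight (fun _ => e)
  have key : comb M s (f x) ⟨x, hx, rfl⟩ =
      (τ f M x) ∘ (comb (M.restrict f) (fun i => toRes f M (s i)) x hx) ∘ E := by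
    funext c
    exact (comb_restrict f M s x hx c).symm
  rw [key]
  constructor
  · intro h
    exact (τ f M x).surjective.comp (h.comp E.surjective)
  · intro h m
    obtain ⟨c, hc⟩ := h (τ f M x m)
    exact ⟨E c, (τ f M x).injective hc⟩

end Transfer

/-- sections over `U` generating all stalks over `U` give an epimorphism `O_U^n ⟶ M|_U`. -/
theorem exists_epi_of_genOn (M : X.Modules) {U : X.Opens} (s : Fin n → Γ(M, U))
    (h : GenOn M U s) : ∃ π : FlatMod.freeMod (↑U) n ⟶ M.restrict U.ι, Epi π := by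
  let s₀ : Fin n → Γ(M, U.ι ''ᵁ ⊤) := fun i => M.presheaf.map (eqToHom (ι_image_top U)).op (s i)
  refine ⟨descSec (M.restrict U.ι) (fun i => toRes U.ι M (s₀ i)), ?_⟩
  rw [epi_descSec_iff]
  intro y
  rw [comb_surjective_restrict_iff U.ι M (U := ⊤) s₀ y trivial, comb_res]
  exact comb_surjective_of_span M s _ _ (h _ _)

/-- an epimorphism `O_U^n ⟶ M|_U` gives `n` generators of every stalk over `U`. -/
theorem exists_span_of_epi (M : X.Modules) {U : X.Opens}
    (π : FlatMod.freeMod (↑U) n ⟶ M.restrict U.ι) [Epi π] (y : X) (hy : y ∈ U) :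
    ∃ g : Fin n → M.presheaf.stalk y, Submodule.span (X.presheaf.stalk y) (Set.range g) = ⊤ := by
  have h1 := eq_descSec (M.restrict U.ι) π
  have h2 : Epi (descSec (M.restrict U.ι)
      (fun i => Groth.Agent.Helper13.GenLoc.sec (M.restrict U.ι) (ι n i ≫ π))) := by
    rw [← h1]; infer_instance
  rw [epi_descSec_iff] at h2
  let t : Fin n → Γ(M, U.ι ''ᵁ ⊤) :=
    fun i => Groth.Agent.Helper13.GenLoc.sec (M.restrict U.ι) (ι n i ≫ π)
  have h3 := (comb_surjective_restrict_iff U.ι M (U := ⊤) t ⟨y, hy⟩ trivial).1 (h2 ⟨y, hy⟩)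
  exact ⟨_, (comb_surjective_iff_span M t _ _).1 h3⟩

end Groth.Agent.Helper13.StalkBasis
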