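import Mathlib
import Groth.Agent.Lib.Helper13.FinTypeEpi

set_option autoImplicit false
universe u
open CategoryTheory CategoryTheory.Limits AlgebraicGeometry Opposite TopologicalSpace Groth.Agent.Helper13.QCoh

namespace Groth.Agent.Helper13.FinType

variable {X Y : Scheme.{u}}

/-- finite type is invariant under isomorphism -/
theorem isFiniteType_of_iso {M N : X.Modules} (e : M ≅ N)
    [SheafOfModules.IsFiniteType (R := X.ringCatSheaf) M] :
    SheafOfModules.IsFiniteType (R := X.ringCatSheaf) N :=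
  isFiniteType_of_epi e.hom

/-- the restriction of a module of finite type to an open subscheme is of finite type -/
theorem isFiniteType_restrict (j : Y ⟶ X) [IsOpenImmersion j] (M : X.Modules)
    [SheafOfModules.IsFiniteType (R := X.ringCatSheaf) M] :
    SheafOfModules.IsFiniteType (R := Y.ringCatSheaf) (M.restrict j) := by
  apply isFiniteType_of_genOn
  intro y
  obtain ⟨U, hxU, I, hI, s, hs⟩ := exists_genOn_of_isFiniteType M (j.base y)
  have hle : j ''ᵁ (j ⁻¹ᵁ U) ≤ U := j.image_preimage_le U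
  let s' : I → Γ(M.restrict j, j ⁻¹ᵁ U) := resFam M s hle
  have h1 : LocGenOn M (j ''ᵁ (j ⁻¹ᵁ U)) (fun i => (id (s' i) : Γ(M, j ''ᵁ (j ⁻¹ᵁ U)))) :=
    LocGenOn.mono (LocGenOn.of_genOn hs) hle
  exact ⟨j ⁻¹ᵁ U, hxU, I, hI, s', GenOn.of_locGenOn (LocGenOn.restrict j M _ s' h1)⟩

end Groth.Agent.Helper13.FinType
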