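import Mathlib
import Groth.Agent.Lib.Helper13.QCohKer
import Groth.Agent.Lib.Helper13.FinType
import Groth.Agent.Lib.Helper13.FinTypeRestrict

set_option autoImplicit false
universe u
open CategoryTheory CategoryTheory.Limits AlgebraicGeometry Opposite TopologicalSpace Groth.Agent.Helper13.QCoh
open Groth.Agent.Helper13.FinType Groth.Agent.Helper13.QCohLocal

namespace Groth.Agent.Helper13.Ext

variable {X : Scheme.{u}}

/-- quasi-coherence is local. -/
theorem isQuasicoherent_of_forall_exists_restrict (M : X.Modules)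
    (h : ∀ x : X, ∃ U : X.Opens, x ∈ U ∧ (M.restrict U.ι).IsQuasicoherent) : M.IsQuasicoherent := by
  choose U hxU hU using h
  have key : ∀ x, ∃ (κ : Type u) (W : κ → (U x).toScheme.Opens)
      (_ : ∀ i, ((M.restrict (U x).ι).restrict (W i).ι).Presentation),
      IsOpenCover W ∧ (∀ i, IsAffineOpen (W i)) := fun x =>
    haveI := hU x
    (M.restrict (U x).ι).exists_isOpenCover_presentation
  choose κ W P hW _ using key
  refine isQuasicoherent_of_presentations M (ι := Σ x, κ x)
    (fun j => ((W j.1 j.2).ι ≫ (U j.1).ι).opensRange) ?_ (fun j => ⟨?_⟩)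
  · rw [IsOpenCover, eq_top_iff]
    intro x _
    have hx' : (⟨x, hxU x⟩ : (U x).toScheme) ∈ ⨆ i, W x i := by
      rw [(hW x).iSup_eq_top]; trivial
    obtain ⟨i, hi⟩ := Opens.mem_iSup.1 hx'
    refine Opens.mem_iSup.2 ⟨⟨x, i⟩, ?_⟩
    exact ⟨⟨⟨x, hxU x⟩, hi⟩, rfl⟩
  · refine presentationOpensRange _ M ?_
    exact SheafOfModules.Presentation.ofIsIso.{u, u, u}
      ((Scheme.Modules.restrictFunctorComp _ _).app M).inv (P j.1 j.2)


/-- from generators over `U` to an epimorphism from a free module over `U`. -/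
theorem exists_epi_free_of_genOn (M : X.Modules) (U : X.Opens) {I : Type u} (s : I → Γ(M, U))
    (hs : GenOn M U s) :
    ∃ (P : (U : Scheme.{u}).Modules) (_ : P.IsQuasicoherent) (π : P ⟶ M.restrict U.ι), Epi π := by
  have hle : U.ι ''ᵁ ⊤ ≤ U := by
    rw [Scheme.Opens.ι_image_top]
  let s' : I → Γ(M.restrict U.ι, ⊤) := resFam M s hle
  have h1 : LocGenOn M (U.ι ''ᵁ ⊤) (fun i => (id (s' i) : Γ(M, U.ι ''ᵁ ⊤))) :=
    LocGenOn.mono (LocGenOn.of_genOn hs) hle
  have h2 := GenOn.of_locGenOn (LocGenOn.restrict U.ι M ⊤ s' h1)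
  let S : I → SheafOfModules.sections (M.restrict U.ι) := fun i => sectionsOfTop _ (s' i)
  have h3 : GenOn (M.restrict U.ι) ⊤ (fun i => secOn _ (S i) ⊤) := by
    have : (fun i => secOn (M.restrict U.ι) (S i) ⊤) = s' := by
      funext i
      exact secOn_sectionsOfTop _ _
    rw [this]
    exact h2
  exact ⟨SheafOfModules.free (R := (U : Scheme.{u}).ringCatSheaf) I, inferInstance, _,
    (epi_iff_genOn_top _ S).2 h3⟩

/-- **(L1)** a finite type submodule of a quasi-coherent module is quasi-coherent. -/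
theorem isQuasicoherent_of_mono_of_isFiniteType {F A : X.Modules} (ι : F ⟶ A) [Mono ι]
    [A.IsQuasicoherent] [SheafOfModules.IsFiniteType (R := X.ringCatSheaf) F] :
    F.IsQuasicoherent := by
  apply isQuasicoherent_of_forall_exists_restrict
  intro x
  obtain ⟨U, hxU, I, hI, s, hs⟩ := exists_genOn_of_isFiniteType F x
  refine ⟨U, hxU, ?_⟩
  obtain ⟨P, hP, π, hπ⟩ := exists_epi_free_of_genOn F U s hs
  let ι' : F.restrict U.ι ⟶ A.restrict U.ι := (Scheme.Modules.restrictFunctor U.ι).map ι
  haveI : Mono ι' := inferInstanceAs (Mono ((Scheme.Modules.restrictFunctor U.ι).map ι))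
  let f := π ≫ ι'
  haveI : (A.restrict U.ι).IsQuasicoherent :=
    inferInstanceAs ((Scheme.Modules.restrictFunctor U.ι).obj A).IsQuasicoherent
  haveI : (cokernel f).IsQuasicoherent := isQuasicoherent_cokernel f
  haveI : (Abelian.image f).IsQuasicoherent := isQuasicoherent_kernel (cokernel.π f)
  haveI : StrongEpi π := strongEpi_of_epi π
  have e1 : F.restrict U.ι ≅ Limits.image f := Limits.image.isoStrongEpiMono π ι' rfl
  have e : F.restrict U.ι ≅ Abelian.image f := e1 ≪≫ (Abelian.imageIsoImage f).symm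
  exact isQuasicoherent_of_iso (M := Abelian.image f) e.symm

end Groth.Agent.Helper13.Ext
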