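import Mathlib
import Groth.Agent.Lib.Helper13.ExtPU
import Groth.Agent.Lib.Helper13.Qcqs
import Groth.Agent.Lib.Helper13.LocGen

set_option autoImplicit false
universe u
open CategoryTheory CategoryTheory.Limits AlgebraicGeometry Opposite TopologicalSpace Groth.Agent.Helper13.QCoh
open Groth.Agent.Helper13.FinType Groth.Agent.Helper13.Qcqs Groth.Agent.Helper13.QCohPush

namespace Groth.Agent.Helper13.Ext

variable {X : Scheme.{u}} (G : X.Modules)

/-- a family of submodules of the stalks of `G`. -/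
abbrev StalkFam := ∀ y : X, Submodule (X.presheaf.stalk y) (G.presheaf.stalk y)

/-- the span of the germs at `y` of a family of sections. -/
noncomputable def germSpanAt {W : X.Opens} {ι : Type*} (t : ι → Γ(G, W)) (y : X) (hy : y ∈ W) :
    Submodule (X.presheaf.stalk y) (G.presheaf.stalk y) :=
  Submodule.span _ (Set.range fun k => G.presheaf.germ W y hy (t k))

lemma germSpanAt_resFam {W W' : X.Opens} (h : W' ≤ W) {ι : Type*} (t : ι → Γ(G, W)) (y : X)
    (hy : y ∈ W') : germSpanAt G (resFam G t h) y hy = germSpanAt G t y (h hy) := by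
  unfold germSpanAt
  congr 2
  funext k
  exact TopCat.Presheaf.germ_res_apply G.presheaf (homOfLE h) y hy (t k)

lemma germ_mem_germSpanAt_of_mem_span {W : X.Opens} {ι : Type*} (t : ι → Γ(G, W)) (s : Γ(G, W))
    (hs : s ∈ Submodule.span Γ(X, W) (Set.range t)) (y : X) (hy : y ∈ W) :
    G.presheaf.germ W y hy s ∈ germSpanAt G t y hy := by
  have h1 : resFam G t (le_refl W) = t := by
    funext k
    exact map_id_apply' G _ (t k)
  have := germ_mem_span (N := G) t (le_refl W) s (by rw [h1]; exact hs) y hy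
  exact this

/-- `Sg` is, locally on `T`, generated by finitely many sections. -/
def FTOn (Sg : StalkFam G) (T : X.Opens) : Prop :=
  ∀ x ∈ T, ∃ (W : X.Opens) (_ : x ∈ W) (ι : Type u) (_ : Finite ι) (t : ι → Γ(G, W)),
    ∀ (y : X) (hy : y ∈ W), Sg y = germSpanAt G t y hy

variable {G}

lemma FTOn.mono {Sg : StalkFam G} {T T' : X.Opens} (h : FTOn G Sg T) (hT : T' ≤ T) : FTOn G Sg T' :=
  fun x hx => h x (hT hx)

variable (G) [G.IsQuasicoherent]

/-- **(KC1)** on an affine open `U`: if the germs of `n` on `D(f)` lie in the span of the germs of a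
finite family `p`, then `f^N n` lies in the span of `p`. -/
theorem exists_pow_smul_mem_span {U : X.Opens} (hU : IsAffineOpen U) (f : Γ(X, U)) (n : Γ(G, U))
    {ι : Type*} (p : ι → Γ(G, U))
    (h : ∀ (y : X) (hy : y ∈ X.basicOpen f),
      G.presheaf.germ U y (X.basicOpen_le f hy) n ∈ germSpanAt G p y (X.basicOpen_le f hy)) :
    ∃ N : ℕ, f ^ N • n ∈ Submodule.span Γ(X, U) (Set.range p) := by
  have hD : IsAffineOpen (X.basicOpen f) := hU.basicOpen f
  have hle : X.basicOpen f ≤ U := X.basicOpen_le f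
  -- `n|_D` lies in the span of `p|_D`
  have h1 : res G hle n ∈ Submodule.span Γ(X, X.basicOpen f) (Set.range (resFam G p hle)) := by
    apply mem_span_of_forall_germ_mem G hD
    intro y hy
    have e1 : G.presheaf.germ (X.basicOpen f) y hy (res G hle n) = G.presheaf.germ U y (hle hy) n :=
      TopCat.Presheaf.germ_res_apply G.presheaf (homOfLE hle) y hy n
    rw [e1]
    have := h y hy
    rw [← germSpanAt_resFam G hle p y hy] at this
    exact this
  -- clearing denominators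
  have key : ∀ z ∈ Submodule.span Γ(X, X.basicOpen f) (Set.range (resFam G p hle)),
      ∃ (k : ℕ) (w : Γ(G, U)), w ∈ Submodule.span Γ(X, U) (Set.range p) ∧
        res G hle w = resO hle f ^ k • z := by
    intro z hz
    induction hz using Submodule.span_induction with
    | mem x hx =>
      obtain ⟨l, rfl⟩ := hx
      exact ⟨0, p l, Submodule.subset_span ⟨l, rfl⟩, by rw [pow_zero, one_smul]; rfl⟩
    | zero => exact ⟨0, 0, Submodule.zero_mem _, by rw [map_zero, smul_zero]⟩
    | add a b _ _ ha hb =>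
      obtain ⟨k₁, w₁, hw₁, h₁⟩ := ha
      obtain ⟨k₂, w₂, hw₂, h₂⟩ := hb
      refine ⟨k₁ + k₂, f ^ k₂ • w₁ + f ^ k₁ • w₂,
        Submodule.add_mem _ (Submodule.smul_mem _ _ hw₁) (Submodule.smul_mem _ _ hw₂), ?_⟩
      rw [map_add, res_pow_smul, res_pow_smul, h₁, h₂, smul_add, ← mul_smul, ← mul_smul,
        ← pow_add, ← pow_add, add_comm k₂ k₁]
    | smul b a _ ha =>
      obtain ⟨k, w, hw, h₁⟩ := ha
      haveI := hU.isLocalization_basicOpen f
      letI : Algebra Γ(X, U) Γ(X, X.basicOpen f) := (X.presheaf.map (homOfLE hle).op).hom.toAlgebra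
      obtain ⟨⟨a', ⟨_, m, rfl⟩⟩, hab⟩ :=
        IsLocalization.surj (M := Submonoid.powers f) (S := Γ(X, X.basicOpen f)) b
      have hab' : b * resO hle f ^ m = resO hle a' := by
        have := hab
        simp only [RingHom.algebraMap_toAlgebra, map_pow] at this
        exact this
      refine ⟨k + m, a' • w, Submodule.smul_mem _ _ hw, ?_⟩
      rw [res_smul, h₁, ← hab', smul_smul, smul_smul]
      congr 1
      rw [pow_add]
      ring
  obtain ⟨k, w, hw, hkw⟩ := key _ h1
  -- `f^k n - w` vanishes on `D(f)`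
  have h0 : res G hle (f ^ k • n - w) = 0 := by
    rw [map_sub, res_pow_smul, hkw, sub_self]
  obtain ⟨k', hk'⟩ := exists_pow_smul_eq_zero' G hU f (X.basicOpen f) rfl hle (f ^ k • n - w) h0
  refine ⟨k' + k, ?_⟩
  rw [smul_sub, sub_eq_zero, ← mul_smul, ← pow_add] at hk'
  rw [hk']
  exact Submodule.smul_mem _ _ hw

/-- **(KC)** multiplying by a high power of `f` brings a section, whose germs on `D(f)` lie in `Sg`,
into `Sg` over the whole quasi-compact open `S'`. -/
theorem exists_pow_smul_germ_mem {V : X.Opens} (hV : IsAffineOpen V) (S' : X.Opens) (hS'V : S' ≤ V)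
    (hS' : IsCompact (S' : Set X)) (Sg : StalkFam G) (hSg : FTOn G Sg S') (f : Γ(X, V))
    (n₁ : Γ(G, V))
    (h : ∀ (y : X) (hy : y ∈ X.basicOpen f), G.presheaf.germ V y (X.basicOpen_le f hy) n₁ ∈ Sg y) :
    ∃ N : ℕ, ∀ N', N ≤ N' → ∀ (y : X) (hy : y ∈ S'),
      G.presheaf.germ V y (hS'V hy) (f ^ N' • n₁) ∈ Sg y := by
  classical
  have loc : ∀ x' : S', ∃ (U : X.Opens), x'.1 ∈ U ∧ U ≤ S' ∧ ∃ N : ℕ, ∀ N', N ≤ N' →
      ∀ (y : X) (hy : y ∈ U), ∀ hyV : y ∈ V, G.presheaf.germ V y hyV (f ^ N' • n₁) ∈ Sg y := by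
    rintro ⟨x', hx'⟩
    obtain ⟨W, hxW, ι, hι, p, hp⟩ := hSg x' hx'
    obtain ⟨g, hgle, hxg⟩ := hV.exists_basicOpen_le (V := W ⊓ S') ⟨x', hxW, hx'⟩ (hS'V hx')
    have hUa : IsAffineOpen (X.basicOpen g) := hV.basicOpen g
    have hUV : X.basicOpen g ≤ V := X.basicOpen_le g
    have hUW : X.basicOpen g ≤ W := hgle.trans inf_le_left
    refine ⟨X.basicOpen g, hxg, hgle.trans inf_le_right, ?_⟩
    obtain ⟨N, hN⟩ := exists_pow_smul_mem_span G hUa (resO hUV f) (res G hUV n₁) (resFam G p hUW) (by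
      intro y hy
      have hyU : y ∈ X.basicOpen g := X.basicOpen_le _ hy
      have hyf : y ∈ X.basicOpen f := by
        have : y ∈ X.basicOpen (X.presheaf.map (homOfLE hUV).op f) := hy
        rw [Scheme.basicOpen_res] at this
        exact this.2
      have e1 : G.presheaf.germ (X.basicOpen g) y hyU (res G hUV n₁) = G.presheaf.germ V y (hUV hyU) n₁ :=
        TopCat.Presheaf.germ_res_apply G.presheaf (homOfLE hUV) y hyU n₁
      rw [e1, germSpanAt_resFam, ← hp y (hUW hyU)]
      exact h y hyf)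
    refine ⟨N, fun N' hN' y hy hyV => ?_⟩
    have h1 : resO hUV f ^ N' • res G hUV n₁ ∈
        Submodule.span Γ(X, X.basicOpen g) (Set.range (resFam G p hUW)) := by
      obtain ⟨d, rfl⟩ : ∃ d, N' = N + d := ⟨N' - N, by omega⟩
      rw [pow_add, mul_comm, mul_smul]
      exact Submodule.smul_mem _ _ hN
    have h2 := germ_mem_germSpanAt_of_mem_span G _ _ h1 y hy
    rw [germSpanAt_resFam, ← hp y (hUW hy), ← res_pow_smul] at h2
    have e2 : G.presheaf.germ (X.basicOpen g) y hy (res G hUV (f ^ N' • n₁)) =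
        G.presheaf.germ V y hyV (f ^ N' • n₁) :=
      TopCat.Presheaf.germ_res_apply G.presheaf (homOfLE hUV) y hy _
    rw [e2] at h2
    exact h2
  choose U hxU hUS N hN using loc
  obtain ⟨E, hE⟩ := hS'.elim_finite_subcover (fun x' : S' => ((U x' : X.Opens) : Set X))
    (fun x' => (U x').2) (fun x hx => Set.mem_iUnion.2 ⟨⟨x, hx⟩, hxU ⟨x, hx⟩⟩)
  refine ⟨E.sup N, fun N' hN' y hy => ?_⟩
  obtain ⟨x', hx'E, hyx'⟩ : ∃ x' ∈ E, y ∈ U x' := by
    have := hE hy
    simpa using this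
  exact hN x' N' ((Finset.le_sup hx'E).trans hN') y hyx' (hS'V hy)

/-- **(AL)** on an affine open `V`, a family `Sg` which is locally finitely generated on the
quasi-compact open `S' ⊆ V` is generated on `S'` by finitely many sections over `V`. -/
theorem exists_sections_germSpanAt_eq {V : X.Opens} (hV : IsAffineOpen V) (S' : X.Opens)
    (hS'V : S' ≤ V) (hS' : IsCompact (S' : Set X)) (Sg : StalkFam G) (hSg : FTOn G Sg S') :
    ∃ (ι : Type u) (_ : Finite ι) (n : ι → Γ(G, V)),
      ∀ (y : X) (hy : y ∈ S'), Sg y = germSpanAt G n y (hS'V hy) := by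
  classical
  have loc : ∀ x : S', ∃ (f : Γ(X, V)) (ι : Type u) (_ : Finite ι) (m : ι → Γ(G, V)),
      x.1 ∈ X.basicOpen f ∧ X.basicOpen f ≤ S' ∧
      (∀ k (y : X) (hy : y ∈ S'), G.presheaf.germ V y (hS'V hy) (m k) ∈ Sg y) ∧
      (∀ (y : X) (hy : y ∈ X.basicOpen f), Sg y ≤ germSpanAt G m y (X.basicOpen_le f hy)) := by
    rintro ⟨x, hx⟩
    obtain ⟨W, hxW, ι, hι, t, ht⟩ := hSg x hx
    obtain ⟨f, hfle, hxf⟩ := hV.exists_basicOpen_le (V := W ⊓ S') ⟨x, hxW, hx⟩ (hS'V hx)
    have hfW : X.basicOpen f ≤ W := hfle.trans inf_le_left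
    have hfV : X.basicOpen f ≤ V := X.basicOpen_le f
    have step : ∀ k : ι, ∃ (m : Γ(G, V)) (M : ℕ),
        (∀ (y : X) (hy : y ∈ S'), G.presheaf.germ V y (hS'V hy) m ∈ Sg y) ∧
        (∀ (y : X) (hy : y ∈ X.basicOpen f), G.presheaf.germ V y (hfV hy) m =
          (X.presheaf.germ V y (hfV hy) f) ^ M • G.presheaf.germ W y (hfW hy) (t k)) := by
      intro k
      obtain ⟨N₁, n₁, hn₁⟩ := exists_pow_smul_eq_res' G hV f (X.basicOpen f) rfl hfV
        (res G hfW (t k))
      have hgerm : ∀ (y : X) (hy : y ∈ X.basicOpen f), G.presheaf.germ V y (hfV hy) n₁ =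
          (X.presheaf.germ V y (hfV hy) f) ^ N₁ • G.presheaf.germ W y (hfW hy) (t k) := by
        intro y hy
        have e1 : G.presheaf.germ V y (hfV hy) n₁ =
            G.presheaf.germ (X.basicOpen f) y hy (G.presheaf.map (homOfLE hfV).op n₁) :=
          (TopCat.Presheaf.germ_res_apply G.presheaf (homOfLE hfV) y hy n₁).symm
        rw [e1, hn₁, germ_smul, map_pow]
        congr 1
        · congr 1
          exact TopCat.Presheaf.germ_res_apply X.presheaf (homOfLE hfV) y hy f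
        · exact TopCat.Presheaf.germ_res_apply G.presheaf (homOfLE hfW) y hy (t k)
      obtain ⟨N₂, hN₂⟩ := exists_pow_smul_germ_mem G hV S' hS'V hS' Sg hSg f n₁ (by
        intro y hy
        rw [hgerm y hy, ht y (hfW hy)]
        exact Submodule.smul_mem _ _ (Submodule.subset_span ⟨k, rfl⟩))
      refine ⟨f ^ N₂ • n₁, N₂ + N₁, hN₂ N₂ le_rfl, fun y hy => ?_⟩
      rw [germ_smul, hgerm y hy, map_pow, ← mul_smul, ← pow_add]
    choose m M hm1 hm2 using step
    refine ⟨f, ι, hι, m, hxf, hfle.trans inf_le_right, hm1, fun y hy => ?_⟩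
    rw [ht y (hfW hy)]
    apply Submodule.span_le.2
    rintro _ ⟨k, rfl⟩
    have hunit : IsUnit ((X.presheaf.germ V y (hfV hy) f) ^ M k) :=
      IsUnit.pow _ ((X.mem_basicOpen f y (hfV hy)).1 hy)
    obtain ⟨c, hc⟩ := hunit
    have : G.presheaf.germ W y (hfW hy) (t k) =
        ((c⁻¹ : (X.presheaf.stalk y)ˣ) : X.presheaf.stalk y) • G.presheaf.germ V y (hfV hy) (m k) := by
      rw [hm2 k y hy, ← hc, ← mul_smul, Units.inv_mul, one_smul]
    change G.presheaf.germ W y (hfW hy) (t k) ∈ germSpanAt G m y (hfV hy)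
    rw [this]
    exact Submodule.smul_mem _ _ (Submodule.subset_span ⟨k, rfl⟩)
  choose f ι hι m hxf hfS hm1 hm2 using loc
  obtain ⟨E, hE⟩ := hS'.elim_finite_subcover (fun x : S' => ((X.basicOpen (f x) : X.Opens) : Set X))
    (fun x => (X.basicOpen (f x)).2) (fun x hx => Set.mem_iUnion.2 ⟨⟨x, hx⟩, hxf ⟨x, hx⟩⟩)
  haveI : ∀ x : E, Finite (ι x.1) := fun x => hι x.1
  refine ⟨Σ x : E, ι x.1, inferInstance, fun j => m j.1.1 j.2, fun y hy => ?_⟩
  apply le_antisymm
  · obtain ⟨x, hxE, hyx⟩ : ∃ x ∈ E, y ∈ X.basicOpen (f x) := by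
      have := hE hy
      simpa using this
    refine (hm2 x y hyx).trans ?_
    apply Submodule.span_mono
    rintro _ ⟨k, rfl⟩
    exact ⟨⟨⟨x, hxE⟩, k⟩, rfl⟩
  · apply Submodule.span_le.2
    rintro _ ⟨j, rfl⟩
    exact hm1 j.1.1 j.2 y hy

end Groth.Agent.Helper13.Ext
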