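import Mathlib
import Groth.Agent.Lib.Helper13.ExtStalk
import Groth.Agent.Lib.Helper13.EpiStalk
import Groth.Agent.Lib.Helper13.PbInv

set_option autoImplicit false
universe u
open CategoryTheory CategoryTheory.Limits AlgebraicGeometry Opposite TopologicalSpace Groth.Agent.Helper13.QCoh
open Groth.Agent.Helper13.FinType Groth.Agent.Helper13.PbInv

namespace Groth.Agent.Helper13.Ext

variable {X : Scheme.{u}}

lemma stalkMap_injective_of_mono {F N : X.Modules} (φ : F ⟶ N) [hM : Mono φ] (y : X) :
    Function.Injective (stalkMap φ y) := by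
  apply TopCat.Presheaf.stalkFunctor_map_injective_of_app_injective
  intro U
  exact (mono_iff_app_injective φ).1 hM U

/-- **lifting through a mono**, checked on stalks. -/
theorem exists_lift_of_stalk_range_le {A P Q : X.Modules} (i₁ : P ⟶ A) (i₂ : Q ⟶ A) [Mono i₂]
    (h : ∀ (y : X) (m : P.presheaf.stalk y), ∃ n : Q.presheaf.stalk y,
      stalkMap i₂ y n = stalkMap i₁ y m) :
    ∃ φ : P ⟶ Q, φ ≫ i₂ = i₁ := by
  have h0 : i₁ ≫ cokernel.π i₂ = 0 := by
    apply hom_ext_stalk
    intro y m
    obtain ⟨n, hn⟩ := h y m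
    rw [stalkMap_comp, ← hn, ← stalkMap_comp, cokernel.condition, stalkMap_zero, stalkMap_zero]
  exact ⟨Abelian.monoLift i₂ i₁ h0, Abelian.monoLift_comp i₂ i₁ h0⟩

/-- two monos with the same stalkwise images are isomorphic. -/
theorem exists_iso_of_stalk_range_eq {A P Q : X.Modules} (i₁ : P ⟶ A) (i₂ : Q ⟶ A) [Mono i₁]
    [Mono i₂]
    (h₁ : ∀ (y : X) (m : P.presheaf.stalk y), ∃ n : Q.presheaf.stalk y,
      stalkMap i₂ y n = stalkMap i₁ y m)
    (h₂ : ∀ (y : X) (n : Q.presheaf.stalk y), ∃ m : P.presheaf.stalk y,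
      stalkMap i₁ y m = stalkMap i₂ y n) :
    ∃ e : P ≅ Q, e.hom ≫ i₂ = i₁ := by
  obtain ⟨φ, hφ⟩ := exists_lift_of_stalk_range_le i₁ i₂ h₁
  obtain ⟨ψ, hψ⟩ := exists_lift_of_stalk_range_le i₂ i₁ h₂
  refine ⟨⟨φ, ψ, ?_, ?_⟩, hφ⟩
  · rw [← cancel_mono i₁, Category.assoc, hψ, hφ, Category.id_comp]
  · rw [← cancel_mono i₂, Category.assoc, hφ, hψ, Category.id_comp]

variable (G : X.Modules) (Sg : StalkFam G)

/-- sections of `G` all of whose germs lie in `Sg`. -/
noncomputable def famSub : PresheafOfModules.Submodule G.val where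
  obj V :=
    { carrier := {t | ∀ (y : X) (hy : y ∈ V.unop), G.presheaf.germ V.unop y hy t ∈ Sg y}
      add_mem' := by
        intro a b ha hb y hy
        have := Submodule.add_mem _ (ha y hy) (hb y hy)
        rw [← map_add] at this
        exact this
      zero_mem' := by
        intro y hy
        have : G.presheaf.germ V.unop y hy 0 = 0 := map_zero _
        exact Eq.mpr (congrArg (fun z => z ∈ Sg y) this) (Submodule.zero_mem _)
      smul_mem' := by
        intro r a ha y hy
        have := germ_smul (F := G) V.unop y hy r a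
        exact Eq.mpr (congrArg (fun z => z ∈ Sg y) this) (Submodule.smul_mem _ _ (ha y hy)) }
  map := by
    intro V W f t ht y hy
    have hyV : y ∈ V.unop := f.unop.le hy
    have := TopCat.Presheaf.germ_res_apply G.presheaf f.unop y hy t
    exact Eq.mpr (congrArg (fun z => z ∈ Sg y) this) (ht y hyV)

lemma isLocalSub_famSub : IsLocalSub G (famSub G Sg) := by
  intro V t h y hy
  obtain ⟨W, hW, hyW, hm⟩ := h y hy
  have := hm y hyW
  rwa [TopCat.Presheaf.germ_res_apply] at this

/-- the submodule of `G` of sections with germs in `Sg`. -/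
noncomputable def famSheaf : X.Modules := subsheaf G (famSub G Sg) (isLocalSub_famSub G Sg)

/-- the inclusion. -/
noncomputable def famι : famSheaf G Sg ⟶ G := subsheafι G (famSub G Sg) (isLocalSub_famSub G Sg)

instance : Mono (famι G Sg) :=
  inferInstanceAs (Mono (subsheafι G (famSub G Sg) (isLocalSub_famSub G Sg)))

lemma famι_app_germ_mem (V : X.Opens) (s : Γ(famSheaf G Sg, V)) (y : X) (hy : y ∈ V) :
    G.presheaf.germ V y hy ((famι G Sg).app V s) ∈ Sg y :=
  subsheafι_app_mem G (famSub G Sg) (isLocalSub_famSub G Sg) V s y hy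

lemma exists_famι_app_eq (V : X.Opens) (t : Γ(G, V))
    (ht : ∀ (y : X) (hy : y ∈ V), G.presheaf.germ V y hy t ∈ Sg y) :
    ∃ s : Γ(famSheaf G Sg, V), (famι G Sg).app V s = t :=
  exists_of_mem G (famSub G Sg) (isLocalSub_famSub G Sg) V t ht

/-- the stalkwise image of `famι` is contained in `Sg`. -/
lemma stalkMap_famι_mem (y : X) (m : (famSheaf G Sg).presheaf.stalk y) :
    stalkMap (famι G Sg) y m ∈ Sg y := by
  obtain ⟨V, hyV, s, rfl⟩ := TopCat.Presheaf.exists_germ_eq (famSheaf G Sg).presheaf m
  rw [stalkMap_germ]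
  exact famι_app_germ_mem G Sg V s y hyV

variable {G Sg}

/-- where `Sg` is locally generated by sections, it is the stalkwise image of `famι`. -/
lemma exists_stalkMap_famι_eq (T : X.Opens) (hSg : FTOn G Sg T) (y : X) (hy : y ∈ T)
    (z : G.presheaf.stalk y) (hz : z ∈ Sg y) :
    ∃ m : (famSheaf G Sg).presheaf.stalk y, stalkMap (famι G Sg) y m = z := by
  obtain ⟨W, hyW, ι, hι, t, ht⟩ := hSg y hy
  have hmem : ∀ k, ∀ (y' : X) (hy' : y' ∈ W), G.presheaf.germ W y' hy' (t k) ∈ Sg y' := by
    intro k y' hy'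
    rw [ht y' hy']
    exact Submodule.subset_span ⟨k, rfl⟩
  choose s hs using fun k => exists_famι_app_eq G Sg W (t k) (hmem k)
  rw [ht y hyW] at hz
  induction hz using Submodule.span_induction with
  | mem x hx =>
    obtain ⟨k, rfl⟩ := hx
    refine ⟨(famSheaf G Sg).presheaf.germ W y hyW (s k), ?_⟩
    rw [stalkMap_germ, hs k]
  | zero => exact ⟨0, map_zero _⟩
  | add a b _ _ ha hb =>
    obtain ⟨ma, rfl⟩ := ha
    obtain ⟨mb, rfl⟩ := hb
    exact ⟨ma + mb, map_add _ _ _⟩
  | smul r a _ ha =>
    obtain ⟨ma, rfl⟩ := ha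
    exact ⟨r • ma, stalkMap_smul _ _ _ _⟩

/-- the submodule attached to a locally finitely generated family is of finite type. -/
theorem isFiniteType_famSheaf (hSg : FTOn G Sg ⊤) :
    SheafOfModules.IsFiniteType (R := X.ringCatSheaf) (famSheaf G Sg) := by
  apply isFiniteType_of_genOn
  intro x
  obtain ⟨W, hxW, ι, hι, t, ht⟩ := hSg x trivial
  have hmem : ∀ k, ∀ (y' : X) (hy' : y' ∈ W), G.presheaf.germ W y' hy' (t k) ∈ Sg y' := by
    intro k y' hy'
    rw [ht y' hy']
    exact Submodule.subset_span ⟨k, rfl⟩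
  choose s hs using fun k => exists_famι_app_eq G Sg W (t k) (hmem k)
  refine ⟨W, hxW, ι, hι, s, fun y hy => ?_⟩
  rw [eq_top_iff]
  intro m _
  have h1 : stalkMap (famι G Sg) y m ∈ Sg y := stalkMap_famι_mem G Sg y m
  rw [ht y hy] at h1
  -- pull back the span along the injective linear stalk map
  have key : ∀ z ∈ germSpanAt G t y hy, ∀ m' : (famSheaf G Sg).presheaf.stalk y,
      stalkMap (famι G Sg) y m' = z →
      m' ∈ Submodule.span (X.presheaf.stalk y)
        (Set.range fun k => (famSheaf G Sg).presheaf.germ W y hy (s k)) := by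
    intro z hz
    induction hz using Submodule.span_induction with
    | mem x hx =>
      obtain ⟨k, rfl⟩ := hx
      intro m' hm'
      have : m' = (famSheaf G Sg).presheaf.germ W y hy (s k) := by
        apply stalkMap_injective_of_mono (famι G Sg) y
        rw [hm', stalkMap_germ, hs k]
      rw [this]
      exact Submodule.subset_span ⟨k, rfl⟩
    | zero =>
      intro m' hm'
      have : m' = 0 := by
        apply stalkMap_injective_of_mono (famι G Sg) y
        rw [hm']
        exact (map_zero _).symm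
      rw [this]
      exact Submodule.zero_mem _
    | add a b ha' hb' ha hb =>
      intro m' hm'
      obtain ⟨ma, hma⟩ := exists_stalkMap_famι_eq ⊤ hSg y trivial a (by rw [ht y hy]; exact ha')
      obtain ⟨mb, hmb⟩ := exists_stalkMap_famι_eq ⊤ hSg y trivial b (by rw [ht y hy]; exact hb')
      have : m' = ma + mb := by
        apply stalkMap_injective_of_mono (famι G Sg) y
        rw [hm', map_add, hma, hmb]
      rw [this]
      exact Submodule.add_mem _ (ha ma hma) (hb mb hmb)
    | smul r a ha' ha =>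
      intro m' hm'
      obtain ⟨ma, hma⟩ := exists_stalkMap_famι_eq ⊤ hSg y trivial a (by rw [ht y hy]; exact ha')
      have : m' = r • ma := by
        apply stalkMap_injective_of_mono (famι G Sg) y
        rw [hm', stalkMap_smul, hma]
      rw [this]
      exact Submodule.smul_mem _ _ (ha ma hma)
  exact key _ h1 m rfl

end Groth.Agent.Helper13.Ext
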