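import Mathlib
import Groth.Agent.Lib.Helper13.ExtSheaf
import Groth.Agent.Lib.Helper13.InvGen
import Groth.Agent.Lib.Helper13.ExtQCoh

set_option autoImplicit false
universe u
open CategoryTheory CategoryTheory.Limits AlgebraicGeometry Opposite TopologicalSpace Groth.Agent.Helper13.QCoh
open Groth.Agent.Helper13.FinType Groth.Agent.Helper13.PbInv Groth.Agent.Helper13.Inv

namespace Groth.Agent.Helper13.Ext

variable {X : Scheme.{u}} (U : X.Opens) (F : X.Modules) {G' : (U : Scheme.{u}).Modules}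
  (i : G' ⟶ F.restrict U.ι)

/-- the stalkwise image of `i`, as a family of submodules of the stalks of `F`. -/
noncomputable def imFam : StalkFam F := fun y =>
  Submodule.span _ {z | ∃ (W' : (U : Scheme.{u}).Opens) (hy : y ∈ U.ι ''ᵁ W') (p : Γ(G', W')),
    z = F.presheaf.germ (U.ι ''ᵁ W') y hy (i.app W' p)}

lemma τ_stalkMap_mem_imFam (y' : (U : Scheme.{u})) (m : G'.presheaf.stalk y') :
    τ U.ι F y' (stalkMap i y' m) ∈ imFam U F i (U.ι y') := by
  obtain ⟨W', hy', p, rfl⟩ := TopCat.Presheaf.exists_germ_eq G'.presheaf m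
  rw [stalkMap_germ, τ_germ]
  exact Submodule.subset_span ⟨W', ⟨y', hy', rfl⟩, p, rfl⟩

lemma exists_τ_stalkMap_eq (y' : (U : Scheme.{u})) (z : F.presheaf.stalk (U.ι y'))
    (hz : z ∈ imFam U F i (U.ι y')) :
    ∃ m : G'.presheaf.stalk y', τ U.ι F y' (stalkMap i y' m) = z := by
  unfold imFam at hz
  induction hz using Submodule.span_induction with
  | mem x hx =>
    obtain ⟨W', hy, p, rfl⟩ := hx
    have hy' : y' ∈ W' := by
      obtain ⟨y'', hy'', h⟩ := hy
      have : y'' = y' := U.ι.isOpenEmbedding.injective h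
      rwa [← this]
    refine ⟨G'.presheaf.germ W' y' hy' p, ?_⟩
    rw [stalkMap_germ, τ_germ]
  | zero => exact ⟨0, by rw [map_zero, map_zero]⟩
  | add a b _ _ ha hb =>
    obtain ⟨ma, rfl⟩ := ha
    obtain ⟨mb, rfl⟩ := hb
    exact ⟨ma + mb, by rw [map_add, map_add]⟩
  | smul r a _ ha =>
    obtain ⟨ma, rfl⟩ := ha
    exact ⟨U.ι.stalkMap y' r • ma, by rw [stalkMap_smul, τ_smul]⟩


lemma stalkMap_ι_surjective (y' : (U : Scheme.{u})) : Function.Surjective (U.ι.stalkMap y') :=
  ((ConcreteCategory.isIso_iff_bijective (U.ι.stalkMap y')).1 inferInstance).2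

/-- the image family of a finite type module is locally finitely generated on `U`. -/
theorem ftOn_imFam [hG' : SheafOfModules.IsFiniteType (R := (U : Scheme.{u}).ringCatSheaf) G'] :
    FTOn F (imFam U F i) U := by
  intro x hx
  obtain ⟨W', hxW', I, hI, s, hs⟩ := exists_genOn_of_isFiniteType G' (⟨x, hx⟩ : (U : Scheme.{u}))
  refine ⟨U.ι ''ᵁ W', ⟨⟨x, hx⟩, hxW', rfl⟩, I, hI, fun k => i.app W' (s k), ?_⟩
  rintro _ ⟨y', hy', rfl⟩
  apply le_antisymm
  · intro z hz
    obtain ⟨m, rfl⟩ := exists_τ_stalkMap_eq U F i y' z hz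
    clear hz
    have hm : m ∈ Submodule.span ((U : Scheme.{u}).presheaf.stalk y')
        (Set.range fun k => G'.presheaf.germ W' y' hy' (s k)) := by
      rw [hs y' hy']; trivial
    induction hm using Submodule.span_induction with
    | mem x hx =>
      obtain ⟨k, rfl⟩ := hx
      rw [stalkMap_germ, τ_germ]
      exact Submodule.subset_span ⟨k, rfl⟩
    | zero =>
      rw [map_zero, map_zero]
      exact Submodule.zero_mem _
    | add a b _ _ ha hb =>
      rw [map_add, map_add]
      exact Submodule.add_mem _ ha hb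
    | smul r a _ ha =>
      obtain ⟨r₀, rfl⟩ := stalkMap_ι_surjective U y' r
      rw [stalkMap_smul, τ_smul]
      exact Submodule.smul_mem _ _ ha
  · apply Submodule.span_le.2
    rintro _ ⟨k, rfl⟩
    exact Submodule.subset_span ⟨W', ⟨y', hy', rfl⟩, s k, rfl⟩


/-- naturality of the stalk comparison `τ`. -/
lemma τ_stalkMap {Y : Scheme.{u}} (f : Y ⟶ X) [IsOpenImmersion f] {M N : X.Modules} (φ : M ⟶ N)
    (x : Y) (m : (M.restrict f).presheaf.stalk x) :
    τ f N x (stalkMap ((Scheme.Modules.restrictFunctor f).map φ) x m) =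
      stalkMap φ (f x) (τ f M x m) := by
  obtain ⟨W, hxW, q, rfl⟩ := TopCat.Presheaf.exists_germ_eq (M.restrict f).presheaf m
  rw [stalkMap_germ, τ_germ, τ_germ, stalkMap_germ]
  rfl

/-- **assembly**: a locally finitely generated family of submodules of the stalks of `F` which
restricts on `U` to the image of `i` gives an extension of `G'`. -/
theorem exists_extension_of_stalkFam [F.IsQuasicoherent] [Mono i]
    (Sg : StalkFam F) (hagree : ∀ y ∈ U, Sg y = imFam U F i y) (hft : FTOn F Sg ⊤) :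
    ∃ (G'' : X.Modules) (i' : G'' ⟶ F) (e : G''.restrict U.ι ≅ G'), Mono i' ∧
      G''.IsQuasicoherent ∧ SheafOfModules.IsFiniteType (R := X.ringCatSheaf) G'' ∧
      e.hom ≫ i = (Scheme.Modules.restrictFunctor U.ι).map i' := by
  haveI hft' : SheafOfModules.IsFiniteType (R := X.ringCatSheaf) (famSheaf F Sg) :=
    isFiniteType_famSheaf hft
  have hqc : (famSheaf F Sg).IsQuasicoherent :=
    isQuasicoherent_of_mono_of_isFiniteType (famι F Sg)
  let i'' : (famSheaf F Sg).restrict U.ι ⟶ F.restrict U.ι :=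
    (Scheme.Modules.restrictFunctor U.ι).map (famι F Sg)
  haveI : Mono i'' := inferInstanceAs (Mono ((Scheme.Modules.restrictFunctor U.ι).map (famι F Sg)))
  obtain ⟨e, he⟩ := exists_iso_of_stalk_range_eq i'' i (by
    intro y' m
    have h1 : τ U.ι F y' (stalkMap i'' y' m) ∈ Sg (U.ι y') := by
      rw [τ_stalkMap]
      exact stalkMap_famι_mem F Sg _ _
    rw [hagree _ (show U.ι y' ∈ U from y'.2)] at h1
    obtain ⟨n, hn⟩ := exists_τ_stalkMap_eq U F i y' _ h1
    exact ⟨n, (τ U.ι F y').injective hn⟩) (by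
    intro y' n
    have h1 : τ U.ι F y' (stalkMap i y' n) ∈ Sg (U.ι y') := by
      rw [hagree _ (show U.ι y' ∈ U from y'.2)]
      exact τ_stalkMap_mem_imFam U F i y' n
    obtain ⟨m₀, hm₀⟩ := exists_stalkMap_famι_eq ⊤ hft (U.ι y') trivial _ h1
    refine ⟨(τ U.ι (famSheaf F Sg) y').symm m₀, (τ U.ι F y').injective ?_⟩
    rw [τ_stalkMap, AddEquiv.apply_symm_apply]
    exact hm₀)
  exact ⟨famSheaf F Sg, famι F Sg, e, inferInstance, hqc, hft', he⟩

end Groth.Agent.Helper13.Ext
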