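import Mathlib
import Groth.Agent.Lib.Helper13.ExtStalk

set_option autoImplicit false
universe v u
open CategoryTheory CategoryTheory.Limits AlgebraicGeometry Opposite TopologicalSpace Groth.Agent.Helper13.QCoh
open Groth.Agent.Helper13.FinType Groth.Agent.Helper13.Qcqs Groth.Agent.Helper13.QCohPush

namespace Groth.Agent.Helper13.Ext

variable {X : Scheme.{u}} (G : X.Modules) [G.IsQuasicoherent]

/-- **gluing step**: extend a locally finitely generated family from `T` to `T ⊔ V`, `V` affine with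
`T ⊓ V` quasi-compact. -/
theorem exists_extend_step (Sg : StalkFam G) (T V : X.Opens) (hV : IsAffineOpen V)
    (hTV : IsCompact ((T ⊓ V : X.Opens) : Set X)) (hSg : FTOn G Sg T) :
    ∃ Sg' : StalkFam G, (∀ y ∈ T, Sg' y = Sg y) ∧ FTOn G Sg' (T ⊔ V) := by
  classical
  obtain ⟨ι, hι, n, hn⟩ := exists_sections_germSpanAt_eq G hV (T ⊓ V) inf_le_right hTV Sg
    (hSg.mono inf_le_left)
  let Sg' : StalkFam G := fun y => if y ∈ T then Sg y else
    if h : y ∈ V then germSpanAt G n y h else ⊥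
  have hT : ∀ y ∈ T, Sg' y = Sg y := fun y hy => if_pos hy
  refine ⟨Sg', hT, fun x hx => ?_⟩
  by_cases hxT : x ∈ T
  · obtain ⟨W, hxW, ι', hι', t, ht⟩ := hSg x hxT
    refine ⟨W ⊓ T, ⟨hxW, hxT⟩, ι', hι', resFam G t inf_le_left, fun y hy => ?_⟩
    rw [germSpanAt_resFam, hT y hy.2]
    exact ht y hy.1
  · have hxV : x ∈ V := by
      rcases hx with hx | hx
      · exact absurd hx hxT
      · exact hx
    refine ⟨V, hxV, ι, hι, n, fun y hy => ?_⟩
    by_cases hyT : y ∈ T
    · rw [hT y hyT]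
      exact hn y ⟨hyT, hy⟩
    · change (if y ∈ T then Sg y else if h : y ∈ V then germSpanAt G n y h else ⊥) = _
      rw [if_neg hyT, dif_pos hy]

section Zorn

variable {L : Type v} (V : L → X.Opens)
  (U : X.Opens) (Sg₀ : StalkFam G)

/-- the open `U ∪ ⋃_{m ∈ I} V_m`. -/
def TI (I : Set L) : X.Opens := U ⊔ ⨆ m : I, V m.1

lemma le_TI (I : Set L) : U ≤ TI V U I := le_sup_left

lemma V_le_TI (I : Set L) (m : L) (hm : m ∈ I) : V m ≤ TI V U I :=
  (le_iSup (fun m : I => V m.1) ⟨m, hm⟩).trans le_sup_right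

lemma mem_TI_iff (I : Set L) (x : X) : x ∈ TI V U I ↔ x ∈ U ∨ ∃ m ∈ I, x ∈ V m := by
  unfold TI
  constructor
  · rintro (h | h)
    · exact Or.inl h
    · obtain ⟨m, hm⟩ := Opens.mem_iSup.1 h
      exact Or.inr ⟨m.1, m.2, hm⟩
  · rintro (h | ⟨m, hm, hx⟩)
    · exact Or.inl h
    · exact Or.inr (Opens.mem_iSup.2 ⟨⟨m, hm⟩, hx⟩)

lemma TI_mono {I J : Set L} (h : I ⊆ J) : TI V U I ≤ TI V U J := by
  intro x hx
  rw [mem_TI_iff] at hx ⊢
  rcases hx with hx | ⟨m, hm, hx⟩
  · exact Or.inl hx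
  · exact Or.inr ⟨m, h hm, hx⟩

variable [LinearOrder L]

/-- partial extensions. -/
structure Elt where
  I : Set L
  Sg : StalkFam G
  lower : ∀ m ∈ I, ∀ m', m' ≤ m → m' ∈ I
  agree : ∀ y ∈ U, Sg y = Sg₀ y
  ft : FTOn G Sg (TI V U I)

variable {G V U Sg₀}

/-- the extension order. -/
def Elt.r (a b : Elt G V U Sg₀) : Prop := a.I ⊆ b.I ∧ ∀ y ∈ TI V U a.I, a.Sg y = b.Sg y

lemma Elt.r_trans {a b c : Elt G V U Sg₀} (hab : a.r b) (hbc : b.r c) : a.r c :=
  ⟨hab.1.trans hbc.1, fun y hy => (hab.2 y hy).trans (hbc.2 y (TI_mono V U hab.1 hy))⟩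

lemma Elt.agree_of_chain {c : Set (Elt G V U Sg₀)} (hc : IsChain Elt.r c) {a b : Elt G V U Sg₀}
    (ha : a ∈ c) (hb : b ∈ c) (y : X) (hya : y ∈ TI V U a.I) (hyb : y ∈ TI V U b.I) :
    a.Sg y = b.Sg y := by
  by_cases hab : a = b
  · rw [hab]
  · rcases hc ha hb hab with h | h
    · exact h.2 y hya
    · exact (h.2 y hyb).symm

variable (h₀ : FTOn G Sg₀ U)
include h₀

theorem Elt.exists_ub (c : Set (Elt G V U Sg₀)) (hc : IsChain Elt.r c) :
    ∃ ub : Elt G V U Sg₀, ∀ a ∈ c, a.r ub := by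
  classical
  let Sg' : StalkFam G := fun y =>
    if h : ∃ a ∈ c, y ∈ TI V U a.I then (Classical.choose h).Sg y else Sg₀ y
  have hU' : ∀ y ∈ U, Sg' y = Sg₀ y := by
    intro y hy
    by_cases h : ∃ a ∈ c, y ∈ TI V U a.I
    · change (if h : ∃ a ∈ c, y ∈ TI V U a.I then (Classical.choose h).Sg y else Sg₀ y) = _
      rw [dif_pos h]
      exact (Classical.choose h).agree y hy
    · change (if h : ∃ a ∈ c, y ∈ TI V U a.I then (Classical.choose h).Sg y else Sg₀ y) = _
      rw [dif_neg h]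
  have hc' : ∀ a ∈ c, ∀ y ∈ TI V U a.I, Sg' y = a.Sg y := by
    intro a ha y hy
    have h : ∃ a ∈ c, y ∈ TI V U a.I := ⟨a, ha, hy⟩
    change (if h : ∃ a ∈ c, y ∈ TI V U a.I then (Classical.choose h).Sg y else Sg₀ y) = _
    rw [dif_pos h]
    exact Elt.agree_of_chain hc (Classical.choose_spec h).1 ha y (Classical.choose_spec h).2 hy
  refine ⟨⟨⋃ a ∈ c, a.I, Sg', ?_, hU', ?_⟩, fun a ha => ⟨?_, fun y hy => (hc' a ha y hy).symm⟩⟩
  · intro m hm m' hm'
    simp only [Set.mem_iUnion] at hm ⊢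
    obtain ⟨a, ha, hma⟩ := hm
    exact ⟨a, ha, a.lower m hma m' hm'⟩
  · intro x hx
    rw [mem_TI_iff] at hx
    rcases hx with hx | ⟨m, hm, hx⟩
    · obtain ⟨W, hxW, ι, hι, t, ht⟩ := h₀ x hx
      refine ⟨W ⊓ U, ⟨hxW, hx⟩, ι, hι, resFam G t inf_le_left, fun y hy => ?_⟩
      rw [germSpanAt_resFam, hU' y hy.2]
      exact ht y hy.1
    · simp only [Set.mem_iUnion] at hm
      obtain ⟨a, ha, hma⟩ := hm
      have hxa : x ∈ TI V U a.I := V_le_TI V U a.I m hma hx
      obtain ⟨W, hxW, ι, hι, t, ht⟩ := a.ft x hxa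
      refine ⟨W ⊓ TI V U a.I, ⟨hxW, hxa⟩, ι, hι, resFam G t inf_le_left, fun y hy => ?_⟩
      rw [germSpanAt_resFam, hc' a ha y hy.2]
      exact ht y hy.1
  · intro m hm
    simp only [Set.mem_iUnion]
    exact ⟨a, ha, hm⟩


/-- **transfinite extension**, stalk version. -/
theorem exists_extension_stalkFam [WellFoundedLT L] (hV : ∀ l, IsAffineOpen (V l))
    (hcov : ⨆ l, V l = ⊤)
    (hW : ∀ l, IsCompact ((V l : Set X) ∩ ⋃ m ∈ Set.Iio l, (V m : Set X)))
    (hUV : ∀ l, IsCompact ((U ⊓ V l : X.Opens) : Set X)) :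
    ∃ Sg : StalkFam G, (∀ y ∈ U, Sg y = Sg₀ y) ∧ FTOn G Sg ⊤ := by
  classical
  obtain ⟨M, hM⟩ := exists_maximal_of_chains_bounded
    (r := Elt.r (G := G) (V := V) (U := U) (Sg₀ := Sg₀)) (Elt.exists_ub h₀) Elt.r_trans
  have hI : M.I = Set.univ := by
    by_contra hne
    have hne' : (M.I)ᶜ.Nonempty := Set.nonempty_compl.2 hne
    let l := WellFounded.min wellFounded_lt (M.I)ᶜ hne'
    have hl : l ∉ M.I := WellFounded.min_mem wellFounded_lt _ hne'
    have hlt : ∀ m, m < l → m ∈ M.I := by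
      intro m hm
      by_contra h
      exact WellFounded.not_lt_min wellFounded_lt (M.I)ᶜ (x := m) h hm
    have hIio : M.I = Set.Iio l := by
      ext m
      constructor
      · intro hm
        by_contra h
        exact hl (M.lower m hm l (not_lt.1 h))
      · exact hlt m
    have hcomp : IsCompact ((TI V U M.I ⊓ V l : X.Opens) : Set X) := by
      have : ((TI V U M.I ⊓ V l : X.Opens) : Set X) = ((U ⊓ V l : X.Opens) : Set X) ∪
          ((V l : Set X) ∩ ⋃ m ∈ Set.Iio l, (V m : Set X)) := by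
        ext x
        constructor
        · rintro ⟨hx1, hx2⟩
          rcases (mem_TI_iff V U M.I x).1 hx1 with h | ⟨m, hm, hxm⟩
          · exact Or.inl ⟨h, hx2⟩
          · refine Or.inr ⟨hx2, ?_⟩
            simp only [Set.mem_iUnion]
            exact ⟨m, by rw [← hIio]; exact hm, hxm⟩
        · rintro (⟨h1, h2⟩ | ⟨h1, h2⟩)
          · exact ⟨le_TI V U M.I h1, h2⟩
          · simp only [Set.mem_iUnion] at h2
            obtain ⟨m, hm, hxm⟩ := h2
            exact ⟨V_le_TI V U M.I m (by rw [hIio]; exact hm) hxm, h1⟩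
      rw [this]
      exact (hUV l).union (hW l)
    obtain ⟨Sg', hSg'1, hSg'2⟩ := exists_extend_step G M.Sg (TI V U M.I) (V l) (hV l) hcomp M.ft
    let M' : Elt G V U Sg₀ :=
      { I := insert l M.I
        Sg := Sg'
        lower := by
          intro m hm m' hm'
          rcases hm with rfl | hm
          · rcases hm'.lt_or_eq with h | h
            · exact Set.mem_insert_of_mem _ (hlt m' h)
            · rw [h]; exact Set.mem_insert _ _
          · exact Set.mem_insert_of_mem _ (M.lower m hm m' hm')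
        agree := fun y hy => (hSg'1 y (le_TI V U M.I hy)).trans (M.agree y hy)
        ft := by
          refine hSg'2.mono ?_
          intro x hx
          rcases (mem_TI_iff V U _ x).1 hx with h | ⟨m, hm, hxm⟩
          · exact Or.inl (le_TI V U M.I h)
          · rcases hm with rfl | hm
            · exact Or.inr hxm
            · exact Or.inl (V_le_TI V U M.I m hm hxm) }
    have hr : M.r M' := ⟨Set.subset_insert _ _, fun y hy => (hSg'1 y hy).symm⟩
    exact hl ((hM M' hr).1 (Set.mem_insert _ _))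
  refine ⟨M.Sg, M.agree, M.ft.mono ?_⟩
  intro x _
  have hx : x ∈ ⨆ l, V l := by rw [hcov]; trivial
  obtain ⟨l, hl⟩ := Opens.mem_iSup.1 hx
  exact V_le_TI V U _ l (by rw [hI]; trivial) hl

end Zorn

end Groth.Agent.Helper13.Ext
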