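import Mathlib
import Groth.Agent.Lib.Helper13.ExtIface
import Groth.Agent.Lib.Helper13.ExtZorn

set_option autoImplicit false
universe v u
open CategoryTheory CategoryTheory.Limits AlgebraicGeometry Opposite TopologicalSpace Groth.Agent.Helper13.QCoh
open Groth.Agent.Helper13.FinType

namespace Groth.Agent.Helper13.Ext

variable {X : Scheme.{u}}

/-- **extension of finite type quasi-coherent submodules** along a well-ordered affine cover. -/
theorem exists_extension_of_wellOrdered_cover {L : Type v} [LinearOrder L] [WellFoundedLT L]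
    (V : L → X.Opens) (hV : ∀ l, IsAffineOpen (V l)) (hcov : ⨆ l, V l = ⊤)
    (hW : ∀ l, IsCompact ((V l : Set X) ∩ ⋃ m ∈ Set.Iio l, (V m : Set X)))
    (U : X.Opens) (hUV : ∀ l, IsCompact ((U ⊓ V l : X.Opens) : Set X))
    (F : X.Modules) [F.IsQuasicoherent]
    {G' : (U : Scheme.{u}).Modules} (i : G' ⟶ F.restrict U.ι) [Mono i]
    [SheafOfModules.IsFiniteType (R := (U : Scheme.{u}).ringCatSheaf) G'] :
    ∃ (G'' : X.Modules) (i' : G'' ⟶ F) (e : G''.restrict U.ι ≅ G'), Mono i' ∧
      G''.IsQuasicoherent ∧ SheafOfModules.IsFiniteType (R := X.ringCatSheaf) G'' ∧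
      e.hom ≫ i = (Scheme.Modules.restrictFunctor U.ι).map i' := by
  obtain ⟨Sg, hagree, hft⟩ := exists_extension_stalkFam (G := F) (V := V) (U := U)
    (Sg₀ := imFam U F i) (ftOn_imFam U F i) hV hcov hW hUV
  exact exists_extension_of_stalkFam U F i Sg hagree hft

/-- for a quasi-compact open immersion, intersections with affine opens are quasi-compact. -/
lemma isCompact_inf_of_quasiCompact (U : X.Opens) [QuasiCompact U.ι] (V : X.Opens)
    (hV : IsAffineOpen V) : IsCompact ((U ⊓ V : X.Opens) : Set X) := by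
  have h1 : IsCompact (U.ι ⁻¹' (V : Set X)) :=
    QuasiCompact.isCompact_preimage (f := U.ι) V V.2 hV.isCompact
  have h2 := h1.image U.ι.continuous
  rw [Set.image_preimage_eq_inter_range, Scheme.Opens.range_ι] at h2
  rw [Opens.coe_inf, Set.inter_comm]
  exact h2

end Groth.Agent.Helper13.Ext
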