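import Mathlib
import Groth.Agent.Lib.Helper13.ExtMain

set_option autoImplicit false
universe v u
open CategoryTheory CategoryTheory.Limits AlgebraicGeometry Opposite TopologicalSpace Groth.Agent.Helper13.QCoh
open Groth.Agent.Helper13.FinType

namespace Groth.Agent.Helper13.Ext

variable {X : Scheme.{u}}

/-- a well-ordered affine open cover along which finite type submodules can be extended. -/
def GoodCover {L : Type v} [LinearOrder L] (V : L → X.Opens) : Prop :=
  (∀ l, IsAffineOpen (V l)) ∧ (⨆ l, V l = ⊤) ∧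
    ∀ l, IsCompact ((V l : Set X) ∩ ⋃ m ∈ Set.Iio l, (V m : Set X))

/-- a finite type quasi-coherent submodule through a given section. -/
theorem exists_subsheaf_through_section {L : Type v} [LinearOrder L] [WellFoundedLT L]
    (V : L → X.Opens) (hV : GoodCover V) (F : X.Modules) [F.IsQuasicoherent] (U : X.Opens)
    (hUV : ∀ l, IsCompact ((U ⊓ V l : X.Opens) : Set X)) (s : Γ(F, U)) :
    ∃ (G : X.Modules) (i : G ⟶ F), Mono i ∧ G.IsQuasicoherent ∧
      SheafOfModules.IsFiniteType (R := X.ringCatSheaf) G ∧ ∃ g : Γ(G, U), i.app U g = s := by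
  classical
  let Sg₀ : StalkFam F := fun y => if hy : y ∈ U then
    Submodule.span _ {F.presheaf.germ U y hy s} else ⊥
  have h₀ : FTOn F Sg₀ U := by
    intro x hx
    refine ⟨U, hx, PUnit, inferInstance, fun _ => s, fun y hy => ?_⟩
    change (if hy : y ∈ U then Submodule.span _ {F.presheaf.germ U y hy s} else ⊥) = _
    rw [dif_pos hy]
    unfold germSpanAt
    congr 1
    ext z
    simp
  obtain ⟨Sg, hagree, hft⟩ := exists_extension_stalkFam (G := F) (V := V) (U := U)
    (Sg₀ := Sg₀) h₀ hV.1 hV.2.1 hV.2.2 hUV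
  haveI hft' : SheafOfModules.IsFiniteType (R := X.ringCatSheaf) (famSheaf F Sg) :=
    isFiniteType_famSheaf hft
  have hqc : (famSheaf F Sg).IsQuasicoherent :=
    isQuasicoherent_of_mono_of_isFiniteType (famι F Sg)
  refine ⟨famSheaf F Sg, famι F Sg, inferInstance, hqc, hft', ?_⟩
  apply exists_famι_app_eq
  intro y hy
  rw [hagree y hy]
  change _ ∈ (if hy : y ∈ U then Submodule.span _ {F.presheaf.germ U y hy s} else ⊥)
  rw [dif_pos hy]
  exact Submodule.subset_span rfl

/-- finite affine covers of quasi-compact quasi-separated schemes are good. -/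
theorem exists_goodCover_of_qcqs [CompactSpace X] [QuasiSeparatedSpace X] :
    ∃ (n : ℕ) (V : Fin n → X.Opens), GoodCover V ∧
      ∀ (U : X.Opens), IsCompact (U : Set X) → ∀ l, IsCompact ((U ⊓ V l : X.Opens) : Set X) := by
  obtain ⟨s, hs, hcov⟩ := (isCompact_and_isOpen_iff_finite_and_eq_biUnion_affineOpens
    (X := X) (U := Set.univ)).1 ⟨isCompact_univ, isOpen_univ⟩
  haveI : Finite s := hs.to_subtype
  obtain ⟨n, ⟨e⟩⟩ := Finite.exists_equiv_fin s
  refine ⟨n, fun l => (e.symm l).1.1, ⟨fun l => (e.symm l).1.2, ?_, fun l => ?_⟩, fun U hU l => ?_⟩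
  · rw [eq_top_iff]
    intro x _
    have hx : x ∈ (Set.univ : Set X) := trivial
    rw [hcov] at hx
    simp only [Set.mem_iUnion] at hx
    obtain ⟨i, hi, hxi⟩ := hx
    refine Opens.mem_iSup.2 ⟨e ⟨i, hi⟩, ?_⟩
    change x ∈ (e.symm (e ⟨i, hi⟩)).1.1
    rw [Equiv.symm_apply_apply]
    exact hxi
  · rw [Set.inter_iUnion₂]
    refine Set.Finite.isCompact_biUnion (X := X) (Set.toFinite (Set.Iio l)) (fun m _ => ?_)
    exact QuasiSeparatedSpace.inter_isCompact (α := X) _ _ (e.symm l).1.1.2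
      (e.symm l).1.2.isCompact (e.symm m).1.1.2 (e.symm m).1.2.isCompact
  · rw [Opens.coe_inf]
    exact QuasiSeparatedSpace.inter_isCompact (α := X) (U : Set X) _ U.2 hU (e.symm l).1.1.2
      (e.symm l).1.2.isCompact

/-- on a locally Noetherian space the affine opens all of whose subsets are quasi-compact form a
good cover. -/
theorem exists_goodCover_of_locallyNoetherianSpace
    (hX : ∀ x : X, ∃ U : X.Opens, x ∈ U ∧ TopologicalSpace.NoetherianSpace (U : Set X)) :
    ∃ (L : Type u) (_ : LinearOrder L) (_ : WellFoundedLT L) (V : L → X.Opens), GoodCover V ∧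
      ∀ (U : X.Opens) l, IsCompact ((U ⊓ V l : X.Opens) : Set X) := by
  let L := {W : X.affineOpens // ∀ t : Set X, t ⊆ (W.1 : Set X) → IsCompact t}
  obtain ⟨hlo, hwf⟩ := exists_wellFoundedLT L
  refine ⟨L, hlo, hwf, fun l => l.1.1, ⟨fun l => l.1.2, ?_, fun l => ?_⟩, fun U l => ?_⟩
  · rw [eq_top_iff]
    intro x _
    obtain ⟨U, hxU, hU⟩ := hX x
    obtain ⟨_, ⟨W, hW, rfl⟩, hxW, hWU⟩ := X.isBasis_affineOpens.exists_subset_of_mem_open hxU U.2
    have hU' := (noetherianSpace_set_iff (U : Set X)).1 hU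
    exact Opens.mem_iSup.2 ⟨⟨⟨W, hW⟩, fun t ht => hU' t (ht.trans hWU)⟩, hxW⟩
  · exact l.2 _ Set.inter_subset_left
  · exact l.2 _ (by rw [Opens.coe_inf]; exact Set.inter_subset_right)

end Groth.Agent.Helper13.Ext
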