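import Mathlib
import Groth.Agent.Lib.Helper13.QCohPush
import Groth.Agent.Lib.Helper13.FinAffine2
import Groth.Agent.Lib.Helper13.FinPresAffine

set_option autoImplicit false
universe u
open CategoryTheory CategoryTheory.Limits AlgebraicGeometry Opposite TopologicalSpace
open Groth.Agent.Helper13.QCoh Groth.Agent.Helper13.FinType Groth.Agent.Helper13.LocFree

namespace Groth.Agent.Helper13.PushFinite

/-- a module over a module-finite `A`-algebra `B` which is finitely presented over `A` is
finitely presented over `B`. -/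
theorem finitePresentation_of_restrictScalars (A B N : Type*) [CommRing A] [CommRing B] [Algebra A B]
    [Module.Finite A B] [AddCommGroup N] [Module A N] [Module B N] [IsScalarTower A B N]
    [Module.FinitePresentation A N] : Module.FinitePresentation B N := by
  obtain ⟨n, s, hs⟩ := Module.Finite.exists_fin (R := A) (M := N)
  let π : (Fin n → B) →ₗ[B] N := Fintype.linearCombination B s
  have hsurj : Function.Surjective π := by
    rw [← LinearMap.range_eq_top, Fintype.range_linearCombination, eq_top_iff]
    have := Submodule.span_le_restrictScalars A B (Set.range s)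
    rw [hs] at this
    intro x _
    exact this trivial
  have hker : (LinearMap.ker π).FG := by
    apply Submodule.FG.of_restrictScalars A
    rw [← LinearMap.ker_restrictScalars]
    exact Module.FinitePresentation.fg_ker (π.restrictScalars A) hsurj
  exact Module.finitePresentation_of_free_of_surjective π hsurj hker

variable {X Y : Scheme.{u}} (f : X ⟶ Y) (F : X.Modules)

/-- the algebra structure on functions over a preimage. -/
@[reducible] noncomputable def algApp (V : Y.Opens) : Algebra Γ(Y, V) Γ(X, f ⁻¹ᵁ V) :=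
  (f.app V).hom.toAlgebra

/-- the `Γ(Y, V)`-module structure on `Γ(F, f⁻¹ V)` coming from the pushforward. -/
@[reducible] noncomputable def modPush (V : Y.Opens) : Module Γ(Y, V) Γ(F, f ⁻¹ᵁ V) :=
  inferInstanceAs (Module Γ(Y, V) Γ((Scheme.Modules.pushforward f).obj F, V))

lemma isScalarTower_push (V : Y.Opens) :
    @IsScalarTower Γ(Y, V) Γ(X, f ⁻¹ᵁ V) Γ(F, f ⁻¹ᵁ V) (algApp f V).toSMul inferInstance
      (modPush f F V).toSMul := by
  letI := algApp f V
  letI := modPush f F V
  refine ⟨fun a b t => ?_⟩
  change (f.app V a * b) • t = (f.app V a) • (b • t)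
  rw [mul_smul]

/-- finiteness of sections of the pushforward along a finite morphism. -/
theorem finite_sections_pushforward_iff [IsFinite f] {V : Y.Opens} (hV : IsAffineOpen V) :
    Module.Finite Γ(Y, V) Γ((Scheme.Modules.pushforward f).obj F, V) ↔
      Module.Finite Γ(X, f ⁻¹ᵁ V) Γ(F, f ⁻¹ᵁ V) := by
  letI := algApp f V
  letI := modPush f F V
  haveI := isScalarTower_push f F V
  haveI : Module.Finite Γ(Y, V) Γ(X, f ⁻¹ᵁ V) := f.finite_app V hV
  constructor
  · intro h
    haveI : Module.Finite Γ(Y, V) Γ(F, f ⁻¹ᵁ V) := h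
    exact Module.Finite.of_restrictScalars_finite Γ(Y, V) Γ(X, f ⁻¹ᵁ V) Γ(F, f ⁻¹ᵁ V)
  · intro h
    have : Module.Finite Γ(Y, V) Γ(F, f ⁻¹ᵁ V) :=
      Module.Finite.trans Γ(X, f ⁻¹ᵁ V) Γ(F, f ⁻¹ᵁ V)
    exact this

theorem finitePresentation_sections_pushforward_iff [IsFinite f] [LocallyOfFinitePresentation f]
    {V : Y.Opens} (hV : IsAffineOpen V) :
    Module.FinitePresentation Γ(Y, V) Γ((Scheme.Modules.pushforward f).obj F, V) ↔
      Module.FinitePresentation Γ(X, f ⁻¹ᵁ V) Γ(F, f ⁻¹ᵁ V) := by
  letI := algApp f V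
  letI := modPush f F V
  haveI := isScalarTower_push f F V
  haveI : Module.Finite Γ(Y, V) Γ(X, f ⁻¹ᵁ V) := f.finite_app V hV
  haveI : Algebra.FinitePresentation Γ(Y, V) Γ(X, f ⁻¹ᵁ V) := by
    have := f.finitePresentation_appLE hV (hV.preimage f) le_rfl
    rwa [← Scheme.Hom.app_eq_appLE] at this
  haveI : Module.FinitePresentation Γ(Y, V) Γ(X, f ⁻¹ᵁ V) :=
    Module.FinitePresentation.of_finite_of_finitePresentation _ _
  constructor
  · intro h
    haveI : Module.FinitePresentation Γ(Y, V) Γ(F, f ⁻¹ᵁ V) := h
    exact finitePresentation_of_restrictScalars Γ(Y, V) Γ(X, f ⁻¹ᵁ V) Γ(F, f ⁻¹ᵁ V)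
  · intro h
    have : Module.FinitePresentation Γ(Y, V) Γ(F, f ⁻¹ᵁ V) :=
      Module.FinitePresentation.trans Γ(Y, V) Γ(F, f ⁻¹ᵁ V) Γ(X, f ⁻¹ᵁ V)
    exact this

variable [F.IsQuasicoherent]

theorem isFiniteType_pushforward_iff [IsFinite f] :
    SheafOfModules.IsFiniteType (R := X.ringCatSheaf) F ↔
      SheafOfModules.IsFiniteType (R := Y.ringCatSheaf) ((Scheme.Modules.pushforward f).obj F) := by
  haveI := Groth.Agent.Helper13.QCohPush.isQuasicoherent_pushforward f F
  constructor
  · intro h
    apply isFiniteType_of_finite_sections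
    intro y
    obtain ⟨_, ⟨V, hV, rfl⟩, hyV, -⟩ :=
      Y.isBasis_affineOpens.exists_subset_of_mem_open (Set.mem_univ y) isOpen_univ
    have hV' : IsAffineOpen V := hV
    refine ⟨V, hyV, hV', ?_⟩
    rw [finite_sections_pushforward_iff f F hV']
    exact finite_sections_of_isFiniteType F (hV'.preimage f)
  · intro h
    apply isFiniteType_of_finite_sections
    intro x
    obtain ⟨_, ⟨V, hV, rfl⟩, hyV, -⟩ :=
      Y.isBasis_affineOpens.exists_subset_of_mem_open (Set.mem_univ (f x)) isOpen_univ
    have hV' : IsAffineOpen V := hV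
    refine ⟨f ⁻¹ᵁ V, hyV, hV'.preimage f, ?_⟩
    rw [← finite_sections_pushforward_iff f F hV']
    exact finite_sections_of_isFiniteType _ hV'

theorem isFinitePresentation_pushforward_iff [IsFinite f] [LocallyOfFinitePresentation f] :
    SheafOfModules.IsFinitePresentation (R := X.ringCatSheaf) F ↔
      SheafOfModules.IsFinitePresentation (R := Y.ringCatSheaf)
        ((Scheme.Modules.pushforward f).obj F) := by
  haveI := Groth.Agent.Helper13.QCohPush.isQuasicoherent_pushforward f F
  constructor
  · intro h
    apply isFinitePresentation_of_finitePresentation_sections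
    intro y
    obtain ⟨_, ⟨V, hV, rfl⟩, hyV, -⟩ :=
      Y.isBasis_affineOpens.exists_subset_of_mem_open (Set.mem_univ y) isOpen_univ
    have hV' : IsAffineOpen V := hV
    refine ⟨V, hV', hyV, ?_⟩
    rw [finitePresentation_sections_pushforward_iff f F hV']
    exact finitePresentation_sections_of_isFinitePresentation F (hV'.preimage f)
  · intro h
    apply isFinitePresentation_of_finitePresentation_sections
    intro x
    obtain ⟨_, ⟨V, hV, rfl⟩, hyV, -⟩ :=
      Y.isBasis_affineOpens.exists_subset_of_mem_open (Set.mem_univ (f x)) isOpen_univ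
    have hV' : IsAffineOpen V := hV
    refine ⟨f ⁻¹ᵁ V, hV'.preimage f, hyV, ?_⟩
    rw [← finitePresentation_sections_pushforward_iff f F hV']
    exact finitePresentation_sections_of_isFinitePresentation _ hV'

end Groth.Agent.Helper13.PushFinite
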