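import Mathlib
import Groth.Agent.Lib.Helper13.EpiStalk
import Groth.Agent.Lib.Helper13.PushFinite

set_option autoImplicit false
universe u
open CategoryTheory CategoryTheory.Limits AlgebraicGeometry Opposite TopologicalSpace
open Groth.Agent.Helper13.QCoh Groth.Agent.Helper13.FinType

namespace Groth.Agent.Helper13.PbGen

variable {X Y : Scheme.{u}} (u : Y ⟶ X) (A : X.Modules)

/-- the unit of the pullback–pushforward adjunction. -/
noncomputable abbrev ηA : A ⟶ (Scheme.Modules.pushforward u).obj ((Scheme.Modules.pullback u).obj A) :=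
  (Scheme.Modules.pullbackPushforwardAdjunction u).unit.app A

/-- the pullback of a section. -/
noncomputable def ηsec (U : X.Opens) (a : Γ(A, U)) : Γ((Scheme.Modules.pullback u).obj A, u ⁻¹ᵁ U) :=
  (ηA u A).app U a

lemma ηsec_add (U : X.Opens) (a b : Γ(A, U)) : ηsec u A U (a + b) = ηsec u A U a + ηsec u A U b :=
  map_add _ _ _

lemma ηsec_zero (U : X.Opens) : ηsec u A U 0 = 0 := map_zero _

lemma ηsec_smul (U : X.Opens) (r : Γ(X, U)) (a : Γ(A, U)) :
    ηsec u A U (r • a) = (u.app U r) • ηsec u A U a := by
  unfold ηsec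
  rw [Scheme.Modules.Hom.app_smul]
  rfl

lemma ηsec_res {U V : X.Opens} (i : V ⟶ U) (a : Γ(A, U)) :
    ηsec u A V (A.presheaf.map i.op a) =
      ((Scheme.Modules.pullback u).obj A).presheaf.map ((Opens.map u.base).map i).op (ηsec u A U a) := by
  have := (ηA u A).mapPresheaf.naturality i.op
  exact congr($this a)

/-- the adjunction formula on sections. -/
lemma homEquiv_app {N : Y.Modules} (φ : (Scheme.Modules.pullback u).obj A ⟶ N) (U : X.Opens)
    (a : Γ(A, U)) :
    ((Scheme.Modules.pullbackPushforwardAdjunction u).homEquiv A N φ).app U a =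
      φ.app (u ⁻¹ᵁ U) (ηsec u A U a) := by
  rw [Adjunction.homEquiv_unit]
  rfl


/-- the germs at `z` of pulled-back sections. -/
def genSet (z : Y) : Set (((Scheme.Modules.pullback u).obj A).presheaf.stalk z) :=
  {m | ∃ (U : X.Opens) (hz : u z ∈ U) (a : Γ(A, U)),
    m = ((Scheme.Modules.pullback u).obj A).presheaf.germ (u ⁻¹ᵁ U) z hz (ηsec u A U a)}

/-- the submodule of the stalk generated by germs of pulled-back sections. -/
noncomputable def genSpan (z : Y) :
    Submodule (Y.presheaf.stalk z) (((Scheme.Modules.pullback u).obj A).presheaf.stalk z) :=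
  Submodule.span _ (genSet u A z)

/-- sections of `u^* A` whose germs are all generated by pulled-back sections. -/
noncomputable def genSub : PresheafOfModules.Submodule ((Scheme.Modules.pullback u).obj A).val where
  obj V :=
    { carrier := {t | ∀ (y : Y) (hy : y ∈ V.unop),
        ((Scheme.Modules.pullback u).obj A).presheaf.germ V.unop y hy t ∈ genSpan u A y}
      add_mem' := by
        intro a b ha hb y hy
        have := Submodule.add_mem _ (ha y hy) (hb y hy)
        rw [← map_add] at this
        exact this
      zero_mem' := by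
        intro y hy
        have : ((Scheme.Modules.pullback u).obj A).presheaf.germ V.unop y hy 0 = 0 := map_zero _
        exact Eq.mpr (congrArg (fun z => z ∈ genSpan u A y) this) (Submodule.zero_mem _)
      smul_mem' := by
        intro r a ha y hy
        have := germ_smul (F := (Scheme.Modules.pullback u).obj A) V.unop y hy r a
        exact Eq.mpr (congrArg (fun z => z ∈ genSpan u A y) this)
          (Submodule.smul_mem _ _ (ha y hy)) }
  map := by
    intro V W f t ht y hy
    have hyV : y ∈ V.unop := f.unop.le hy
    have := TopCat.Presheaf.germ_res_apply ((Scheme.Modules.pullback u).obj A).presheaf f.unop y hy t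
    exact Eq.mpr (congrArg (fun z => z ∈ genSpan u A y) this) (ht y hyV)

lemma isLocalSub_genSub : IsLocalSub _ (genSub u A) := by
  intro V t h y hy
  obtain ⟨W, hW, hyW, hm⟩ := h y hy
  have := hm y hyW
  rwa [TopCat.Presheaf.germ_res_apply] at this

lemma ηsec_mem_genSub (U : X.Opens) (a : Γ(A, U)) :
    ηsec u A U a ∈ (genSub u A).obj (op (u ⁻¹ᵁ U)) := by
  intro y hy
  exact Submodule.subset_span ⟨U, hy, a, rfl⟩

/-- **generation**: the stalk of `u^* A` at `z` is generated by germs of pulled-back sections. -/
theorem genSpan_eq_top (z : Y) : genSpan u A z = ⊤ := by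
  let N := (Scheme.Modules.pullback u).obj A
  let ι := subsheafι N (genSub u A) (isLocalSub_genSub u A)
  let π := cokernel.π ι
  have hπ : π = 0 := by
    apply ((Scheme.Modules.pullbackPushforwardAdjunction u).homEquiv A _).injective
    apply Scheme.Modules.hom_ext
    intro U
    ext a
    rw [homEquiv_app]
    obtain ⟨s, hs⟩ := exists_of_mem N (genSub u A) (isLocalSub_genSub u A) _ _
      (ηsec_mem_genSub u A U a)
    rw [← hs]
    have h0 : ι ≫ π = 0 := cokernel.condition ι
    have h1 := congrArg (fun φ => φ.app (u ⁻¹ᵁ U) s) h0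
    have h2 : ((Scheme.Modules.pullbackPushforwardAdjunction u).homEquiv A (cokernel ι)
        (0 : N ⟶ cokernel ι)).app U a = 0 := by
      rw [homEquiv_app]
      rfl
    rw [h2]
    exact h1
  haveI hEι : Epi ι := Abelian.epi_of_cokernel_π_eq_zero ι hπ
  have hIso : IsIso ι := isIso_of_mono_of_epi ι
  rw [eq_top_iff]
  intro m _
  obtain ⟨V, hyV, t, rfl⟩ := TopCat.Presheaf.exists_germ_eq N.presheaf m
  have h1 : IsIso (ι.app V) := inferInstance
  have hsurj : Function.Surjective (ι.app V) :=
    ((ConcreteCategory.isIso_iff_bijective (ι.app V)).1 h1).2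
  obtain ⟨t', rfl⟩ := hsurj t
  exact subsheafι_app_mem N (genSub u A) (isLocalSub_genSub u A) V t' z hyV

end Groth.Agent.Helper13.PbGen
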