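import Mathlib
import Groth.Agent.Lib.Helper13.PbGen
import Groth.Agent.Lib.Helper13.GlobGen4

set_option autoImplicit false
universe u
open CategoryTheory CategoryTheory.Limits AlgebraicGeometry Opposite TopologicalSpace
open Groth.Agent.Helper13.QCoh Groth.Agent.Helper13.FinType Groth.Agent.Helper13.PbGen
open Groth.Agent.Helper13.Qcqs Groth.Agent.Helper13.GlobGen

namespace Groth.Agent.Helper13.CounitGen

variable {X S : Scheme.{u}} (f : X ⟶ S) (F : X.Modules)

/-- the counit of the pullback–pushforward adjunction. -/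
noncomputable abbrev ε : (Scheme.Modules.pullback f).obj ((Scheme.Modules.pushforward f).obj F) ⟶ F :=
  (Scheme.Modules.pullbackPushforwardAdjunction f).counit.app F

/-- the counit sends a pulled-back section of `f_* F` to the section itself. -/
lemma ε_app_ηsec (U : S.Opens) (a : Γ(F, f ⁻¹ᵁ U)) :
    (ε f F).app (f ⁻¹ᵁ U) (ηsec f ((Scheme.Modules.pushforward f).obj F) U a) = a := by
  have h := homEquiv_app f ((Scheme.Modules.pushforward f).obj F) (ε f F) U a
  rw [← h]
  have h2 : (Scheme.Modules.pullbackPushforwardAdjunction f).homEquiv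
      ((Scheme.Modules.pushforward f).obj F) F (ε f F) = 𝟙 _ := by
    have := Adjunction.homEquiv_symm_id (Scheme.Modules.pullbackPushforwardAdjunction f) F
    change (Scheme.Modules.pullbackPushforwardAdjunction f).homEquiv _ F
      ((Scheme.Modules.pullbackPushforwardAdjunction f).counit.app F) = _
    rw [← this, Equiv.apply_symm_apply]
  rw [h2]
  rfl

/-- the germs at `x` of sections of `F` over preimages of opens of the base. -/
def relSet (x : X) : Set (F.presheaf.stalk x) :=
  {m | ∃ (U : S.Opens) (hx : f x ∈ U) (a : Γ(F, f ⁻¹ᵁ U)), m = F.presheaf.germ (f ⁻¹ᵁ U) x hx a}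

/-- the submodule of the stalk generated by relative sections. -/
noncomputable def relSpan (x : X) : Submodule (X.presheaf.stalk x) (F.presheaf.stalk x) :=
  Submodule.span _ (relSet f F x)

theorem stalkMap_ε_surjective_iff (x : X) :
    Function.Surjective (stalkMap (ε f F) x) ↔ relSpan f F x = ⊤ := by
  constructor
  · intro h
    rw [eq_top_iff]
    intro m _
    obtain ⟨m', rfl⟩ := h m
    have hm' : m' ∈ genSpan f ((Scheme.Modules.pushforward f).obj F) x := by
      rw [genSpan_eq_top]; trivial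
    refine Submodule.span_induction (p := fun z _ => stalkMap (ε f F) x z ∈ relSpan f F x)
      ?_ ?_ ?_ ?_ hm'
    · rintro _ ⟨U, hx, a, rfl⟩
      rw [stalkMap_germ, ε_app_ηsec]
      exact Submodule.subset_span ⟨U, hx, a, rfl⟩
    · rw [map_zero]; exact Submodule.zero_mem _
    · intro a b _ _ ha hb
      rw [map_add]; exact Submodule.add_mem _ ha hb
    · intro r a _ ha
      rw [stalkMap_smul]; exact Submodule.smul_mem _ _ ha
  · intro h m
    have hm : m ∈ relSpan f F x := by rw [h]; trivial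
    have hle : relSpan f F x ≤ LinearMap.range (stalkLinearMap (ε f F) x) := by
      apply Submodule.span_le.2
      rintro _ ⟨U, hx, a, rfl⟩
      refine ⟨((Scheme.Modules.pullback f).obj ((Scheme.Modules.pushforward f).obj F)).presheaf.germ
        (f ⁻¹ᵁ U) x hx (ηsec f ((Scheme.Modules.pushforward f).obj F) U a), ?_⟩
      rw [stalkLinearMap_apply, stalkMap_germ, ε_app_ηsec]
    obtain ⟨m', hm'⟩ := hle hm
    exact ⟨m', hm'⟩

theorem epi_ε_iff : Epi (ε f F) ↔ ∀ x : X, relSpan f F x = ⊤ := by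
  rw [epi_iff_stalkMap_surjective]
  exact forall_congr' fun x => stalkMap_ε_surjective_iff f F x

/-- the span of the germs at `x` of the sections over a fixed open. -/
noncomputable def secSpan (W : X.Opens) (x : X) (hx : x ∈ W) :
    Submodule (X.presheaf.stalk x) (F.presheaf.stalk x) :=
  Submodule.span _ (Set.range fun t : Γ(F, W) => F.presheaf.germ W x hx t)

lemma secSpan_le_relSpan (V : S.Opens) (x : X) (hx : f x ∈ V) :
    secSpan F (f ⁻¹ᵁ V) x hx ≤ relSpan f F x := by
  apply Submodule.span_le.2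
  rintro _ ⟨t, rfl⟩
  exact Submodule.subset_span ⟨V, hx, t, rfl⟩

theorem relSpan_le_secSpan [F.IsQuasicoherent] (V : S.Opens) (hV : IsAffineOpen V)
    (hc : IsCompact ((f ⁻¹ᵁ V : X.Opens) : Set X))
    (hq : IsQuasiSeparated ((f ⁻¹ᵁ V : X.Opens) : Set X)) (x : X) (hx : f x ∈ V) :
    relSpan f F x ≤ secSpan F (f ⁻¹ᵁ V) x hx := by
  apply Submodule.span_le.2
  rintro _ ⟨U, hxU, a, rfl⟩
  obtain ⟨g, hgle, hxg⟩ := hV.exists_basicOpen_le (V := U ⊓ V) ⟨f x, ⟨hxU, hx⟩⟩ hx
  let g' : Γ(X, f ⁻¹ᵁ V) := f.app V g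
  have hW : X.basicOpen g' = f ⁻¹ᵁ (S.basicOpen g) := (Scheme.preimage_basicOpen f g).symm
  have hWV : X.basicOpen g' ≤ f ⁻¹ᵁ V := X.basicOpen_le g'
  have hWU : X.basicOpen g' ≤ f ⁻¹ᵁ U := by
    rw [hW]
    intro z hz
    exact (hgle hz).1
  have hxW : x ∈ X.basicOpen g' := by rw [hW]; exact hxg
  obtain ⟨n, t, ht⟩ := exists_pow_smul_eq_res_of_qcqs F hc hq g' (X.basicOpen g') rfl hWV
    (res F hWU a)
  have h1 : F.presheaf.germ (f ⁻¹ᵁ V) x hx t =
      (X.presheaf.germ (X.basicOpen g') x hxW (resO hWV g' ^ n)) •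
        F.presheaf.germ (f ⁻¹ᵁ U) x hxU a := by
    have e1 : F.presheaf.germ (f ⁻¹ᵁ V) x hx t = F.presheaf.germ (X.basicOpen g') x hxW (res F hWV t) :=
      (TopCat.Presheaf.germ_res_apply F.presheaf (homOfLE hWV) x hxW t).symm
    have e2 : F.presheaf.germ (f ⁻¹ᵁ U) x hxU a = F.presheaf.germ (X.basicOpen g') x hxW (res F hWU a) :=
      (TopCat.Presheaf.germ_res_apply F.presheaf (homOfLE hWU) x hxW a).symm
    rw [e1, e2, ht, Tensor.germ_smul]
  have hunit : IsUnit (X.presheaf.germ (X.basicOpen g') x hxW (resO hWV g' ^ n)) := by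
    rw [map_pow]
    refine IsUnit.pow _ ?_
    have : X.presheaf.germ (X.basicOpen g') x hxW (resO hWV g') =
        X.presheaf.germ (f ⁻¹ᵁ V) x hx g' :=
      TopCat.Presheaf.germ_res_apply X.presheaf (homOfLE hWV) x hxW g'
    rw [this]
    exact (X.mem_basicOpen g' x hx).1 hxW
  obtain ⟨c, hc'⟩ := hunit
  have h2 : F.presheaf.germ (f ⁻¹ᵁ U) x hxU a =
      ((c⁻¹ : (X.presheaf.stalk x)ˣ) : X.presheaf.stalk x) • F.presheaf.germ (f ⁻¹ᵁ V) x hx t := by
    rw [h1, ← hc', ← mul_smul, Units.inv_mul, one_smul]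
  rw [h2]
  exact Submodule.smul_mem _ _ (Submodule.subset_span ⟨t, rfl⟩)

theorem relSpan_eq_secSpan [F.IsQuasicoherent] (V : S.Opens) (hV : IsAffineOpen V)
    (hc : IsCompact ((f ⁻¹ᵁ V : X.Opens) : Set X))
    (hq : IsQuasiSeparated ((f ⁻¹ᵁ V : X.Opens) : Set X)) (x : X) (hx : f x ∈ V) :
    relSpan f F x = secSpan F (f ⁻¹ᵁ V) x hx :=
  le_antisymm (relSpan_le_secSpan f F V hV hc hq x hx) (secSpan_le_relSpan f F V x hx)

/-- transport of spans along a semilinear additive equivalence. -/
lemma span_eq_top_iff_of_semilinear {R R' M M' : Type*} [CommRing R] [CommRing R']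
    [AddCommGroup M] [Module R M] [AddCommGroup M'] [Module R' M'] (σ : R →+* R')
    (hσ : Function.Surjective σ) (τ : M' ≃+ M) (hτ : ∀ r m, τ (σ r • m) = r • τ m) (T : Set M') :
    Submodule.span R' T = ⊤ ↔ Submodule.span R (τ '' T) = ⊤ := by
  constructor
  · intro h
    rw [eq_top_iff]
    intro m _
    have hm : τ.symm m ∈ Submodule.span R' T := by rw [h]; trivial
    have key : ∀ z ∈ Submodule.span R' T, τ z ∈ Submodule.span R (τ '' T) := by
      intro z hz
      refine Submodule.span_induction (p := fun z _ => τ z ∈ Submodule.span R (τ '' T))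
        ?_ ?_ ?_ ?_ hz
      · intro z hz
        exact Submodule.subset_span ⟨z, hz, rfl⟩
      · rw [map_zero]; exact Submodule.zero_mem _
      · intro a b _ _ ha hb
        rw [map_add]; exact Submodule.add_mem _ ha hb
      · intro r' a _ ha
        obtain ⟨r, rfl⟩ := hσ r'
        rw [hτ]; exact Submodule.smul_mem _ _ ha
    have := key _ hm
    rwa [AddEquiv.apply_symm_apply] at this
  · intro h
    rw [eq_top_iff]
    intro m' _
    have hm : τ m' ∈ Submodule.span R (τ '' T) := by rw [h]; trivial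
    have key : ∀ z ∈ Submodule.span R (τ '' T), τ.symm z ∈ Submodule.span R' T := by
      intro z hz
      refine Submodule.span_induction (p := fun z _ => τ.symm z ∈ Submodule.span R' T)
        ?_ ?_ ?_ ?_ hz
      · rintro _ ⟨z, hz, rfl⟩
        rw [AddEquiv.symm_apply_apply]
        exact Submodule.subset_span hz
      · rw [map_zero]; exact Submodule.zero_mem _
      · intro a b _ _ ha hb
        rw [map_add]; exact Submodule.add_mem _ ha hb
      · intro r a _ ha
        have : τ.symm (r • a) = σ r • τ.symm a := by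
          apply τ.injective
          rw [hτ, AddEquiv.apply_symm_apply, AddEquiv.apply_symm_apply]
        rw [this]; exact Submodule.smul_mem _ _ ha
    have := key _ hm
    rwa [AddEquiv.symm_apply_apply] at this

open Groth.Agent.Helper13.Inv in
theorem ggAt_restrict_iff (W : X.Opens) (y : W) :
    GGAt (F.restrict W.ι) y ↔ secSpan F W (W.ι y) y.2 = ⊤ := by
  unfold GGAt secSpan
  have hbij : Function.Bijective (W.ι.stalkMap y) :=
    (ConcreteCategory.isIso_iff_bijective (W.ι.stalkMap y)).1 inferInstance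
  rw [span_eq_top_iff_of_semilinear (W.ι.stalkMap y).hom hbij.2 (τ W.ι F y)
    (fun r m => τ_smul W.ι F y r m)]
  have hset : (τ W.ι F y) '' (Set.range fun t : Γ(F.restrict W.ι, ⊤) =>
      (F.restrict W.ι).presheaf.germ ⊤ y trivial t) =
      Set.range fun t : Γ(F, W) => F.presheaf.germ W (W.ι y) y.2 t := by
    have hW : W.ι ''ᵁ ⊤ = W := Scheme.Opens.ι_image_top W
    ext m
    constructor
    · rintro ⟨_, ⟨t, rfl⟩, rfl⟩
      rw [τ_germ]
      refine ⟨F.presheaf.map (eqToHom hW.symm).op t, ?_⟩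
      exact TopCat.Presheaf.germ_res_apply F.presheaf (eqToHom hW.symm) (W.ι y) y.2 t
    · rintro ⟨t, rfl⟩
      refine ⟨_, ⟨F.presheaf.map (eqToHom hW).op t, rfl⟩, ?_⟩
      rw [τ_germ]
      exact TopCat.Presheaf.germ_res_apply F.presheaf (eqToHom hW) (W.ι y) ⟨y, trivial, rfl⟩ t
  rw [hset]

/-- counit epi ⇒ `F` restricted to the preimage of an affine open with qcqs preimage is globally
generated. -/
theorem isGloballyGenerated_restrict_of_epi [F.IsQuasicoherent] (h : Epi (ε f F))
    (V : S.Opens) (hV : IsAffineOpen V)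
    (hc : IsCompact ((f ⁻¹ᵁ V : X.Opens) : Set X))
    (hq : IsQuasiSeparated ((f ⁻¹ᵁ V : X.Opens) : Set X)) :
    Curv2.IsGloballyGenerated (F.restrict (f ⁻¹ᵁ V).ι) := by
  rw [isGloballyGenerated_iff]
  intro y
  rw [ggAt_restrict_iff]
  have h1 := relSpan_eq_secSpan f F V hV hc hq ((f ⁻¹ᵁ V).ι y) y.2
  exact h1.symm.trans ((epi_ε_iff f F).1 h _)

/-- if every point has a neighbourhood `f⁻¹V` on which `F` is globally generated, the counit is
an epimorphism. -/
theorem epi_of_isGloballyGenerated_restrict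
    (h : ∀ x : X, ∃ V : S.Opens, f x ∈ V ∧ Curv2.IsGloballyGenerated (F.restrict (f ⁻¹ᵁ V).ι)) :
    Epi (ε f F) := by
  rw [epi_ε_iff]
  intro x
  obtain ⟨V, hxV, hgg⟩ := h x
  rw [isGloballyGenerated_iff] at hgg
  have := hgg ⟨x, hxV⟩
  rw [ggAt_restrict_iff] at this
  rw [eq_top_iff]
  exact (le_of_eq this.symm).trans (secSpan_le_relSpan f F V x hxV)

end Groth.Agent.Helper13.CounitGen
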