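import Mathlib
import Groth.Agent.Lib.Helper13.SubSheaf2

set_option autoImplicit false
universe u
open CategoryTheory CategoryTheory.Limits AlgebraicGeometry Opposite TopologicalSpace
open Groth.Agent.Helper13.QCoh Groth.Agent.Helper13.FinType

namespace Groth.Agent.Helper13.KerSec

variable {X : Scheme.{u}} {M N : X.Modules} (φ : M ⟶ N)

/-- the family of kernels of `φ` on sections. -/
noncomputable def kerSub : PresheafOfModules.Submodule M.val where
  obj V := LinearMap.ker (φ.val.app V).hom
  map := by
    intro V W f t ht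
    change φ.app W.unop (M.presheaf.map f t) = 0
    have := φ.mapPresheaf.naturality f
    have h2 := congr($this t)
    change φ.app W.unop (M.presheaf.map f t) = N.presheaf.map f (φ.app V.unop t) at h2
    have ht' : φ.app V.unop t = 0 := ht
    exact h2.trans ((congrArg (N.presheaf.map f) ht').trans (map_zero _))

lemma isLocalSub_kerSub : IsLocalSub M (kerSub φ) := by
  intro V t h
  change φ.app V t = 0
  apply TopCat.Sheaf.eq_of_locally_eq' ⟨N.presheaf, N.isSheaf⟩
    (fun y : V => (h y.1 y.2).choose) V (fun y => homOfLE (h y.1 y.2).choose_spec.choose)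
  · intro y hy
    exact Opens.mem_iSup.2 ⟨⟨y, hy⟩, (h y hy).choose_spec.choose_spec.1⟩
  · intro y
    have h1 := (h y.1 y.2).choose_spec.choose_spec.2
    change φ.app _ (M.presheaf.map _ t) = 0 at h1
    have := φ.mapPresheaf.naturality (homOfLE (h y.1 y.2).choose_spec.choose).op
    have h2 := congr($this t)
    rw [map_zero]
    exact h2.symm.trans h1

/-- sections killed by `φ` lift to the kernel. -/
theorem exists_kernel_section (V : X.Opens) (a : Γ(M, V)) (ha : φ.app V a = 0) :
    ∃ k : Γ(kernel φ, V), (kernel.ι φ).app V k = a := by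
  have hzero : subsheafι M (kerSub φ) (isLocalSub_kerSub φ) ≫ φ = 0 := by
    apply Scheme.Modules.hom_ext
    intro U
    ext s
    exact subsheafι_app_mem M (kerSub φ) (isLocalSub_kerSub φ) U s
  obtain ⟨s, hs⟩ := exists_of_mem M (kerSub φ) (isLocalSub_kerSub φ) V a ha
  refine ⟨(kernel.lift φ _ hzero).app V s, ?_⟩
  rw [← hs]
  have := kernel.lift_ι φ _ hzero
  exact congrArg (fun ψ => ψ.app V s) this

theorem kernel_ι_app_comp (V : X.Opens) (k : Γ(kernel φ, V)) :
    φ.app V ((kernel.ι φ).app V k) = 0 := by
  have := kernel.condition φ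
  exact congrArg (fun ψ => ψ.app V k) this

end Groth.Agent.Helper13.KerSec
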