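import Mathlib
import Groth.Agent.Lib.Helper13.KerSec
import Groth.Agent.Lib.Helper13.CounitGen
import Groth.Agent.Lib.Helper13.QCohKer

set_option autoImplicit false
universe u
open CategoryTheory CategoryTheory.Limits AlgebraicGeometry Opposite TopologicalSpace
open Groth.Agent.Helper13.QCoh Groth.Agent.Helper13.FinType Groth.Agent.Helper13.KerSec
open Groth.Agent.Helper13.CounitGen Groth.Agent.Helper13.WeakAss

namespace Groth.Agent.Helper13.VanishIdeal

variable {X Zs : Scheme.{u}} (i : Zs ⟶ X)

/-- the comorphism `O_X ⟶ i_* O_Z` as a map of modules. -/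
noncomputable def sharp :
    Coh.structureModule X ⟶ (Scheme.Modules.pushforward i).obj (Coh.structureModule Zs) :=
  SheafOfModules.unitToPushforwardObjUnit i.toRingCatSheafHom

lemma sharp_app (V : X.Opens) (a : Γ(Coh.structureModule X, V)) :
    (sharp i).app V a = i.app V a := rfl

/-- the ideal module of `i`. -/
noncomputable def idealMod : X.Modules := kernel (sharp i)

/-- the inclusion of the ideal module. -/
noncomputable def idealι : idealMod i ⟶ Coh.structureModule X := kernel.ι (sharp i)

theorem isQuasicoherent_idealMod [QuasiCompact i] [QuasiSeparated i] :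
    (idealMod i).IsQuasicoherent := by
  haveI : (Coh.structureModule Zs).IsQuasicoherent := Groth.Agent.Helper13.QCoh.isQuasicoherent_unit Zs
  haveI : (Coh.structureModule X).IsQuasicoherent := Groth.Agent.Helper13.QCoh.isQuasicoherent_unit X
  haveI : ((Scheme.Modules.pushforward i).obj (Coh.structureModule Zs)).IsQuasicoherent :=
    Groth.Agent.Helper13.Qcqs.isQuasicoherent_pushforward_of_qcqs i _
  exact Groth.Agent.Helper13.QCohLocal.isQuasicoherent_kernel (sharp i)

lemma app_idealι (U : X.Opens) (k : Γ(idealMod i, U)) :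
    i.app U ((idealι i).app U k) = 0 :=
  kernel_ι_app_comp (sharp i) U k

lemma basicOpen_idealι_disjoint (U : X.Opens) (k : Γ(idealMod i, U)) (z : X)
    (hz : z ∈ X.basicOpen (show Γ(X, U) from (idealι i).app U k)) : z ∉ Set.range i := by
  rintro ⟨z', rfl⟩
  have h1 : z' ∈ i ⁻¹ᵁ (X.basicOpen (show Γ(X, U) from (idealι i).app U k)) := hz
  rw [Scheme.preimage_basicOpen, app_idealι, Scheme.basicOpen_zero] at h1
  exact h1

/-- away from the (closed) image of `i` the unit section lies in the ideal. -/
lemma exists_one_section (hcl : IsClosed (Set.range i)) (x : X) (hx : x ∉ Set.range i) :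
    ∃ (V : X.Opens) (hxV : x ∈ V) (k : Γ(idealMod i, V)),
      (idealι i).app V k = (1 : Γ(X, V)) := by
  let V : X.Opens := ⟨(Set.range i)ᶜ, hcl.isOpen_compl⟩
  have hV : i ⁻¹ᵁ V = ⊥ := by
    ext z
    simp only [Opens.coe_bot, Set.mem_empty_iff_false, iff_false]
    intro hz
    exact hz ⟨z, rfl⟩
  have h0 : (sharp i).app V (1 : Γ(X, V)) = 0 := by
    rw [sharp_app]
    haveI : Subsingleton Γ(Zs, i ⁻¹ᵁ V) := by
      rw [hV]
      infer_instance
    exact Subsingleton.elim (α := Γ(Zs, i ⁻¹ᵁ V)) _ _
  obtain ⟨k, hk⟩ := exists_kernel_section (sharp i) V (1 : Γ(X, V)) h0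
  exact ⟨V, hx, k, hk⟩

/-- if the ideal module of a closed `i` is generated at `x ∉ range i` by its sections over `U`,
some function on `U` vanishing on `range i` is invertible at `x`. -/
theorem exists_basicOpen_of_secSpan (hcl : IsClosed (Set.range i)) (U : X.Opens) (x : X)
    (hxU : x ∈ U) (hx : x ∉ Set.range i) (h : secSpan (idealMod i) U x hxU = ⊤) :
    ∃ s : Γ(X, U), x ∈ X.basicOpen s ∧ ∀ z ∈ X.basicOpen s, z ∉ Set.range i := by
  by_contra hcon
  push Not at hcon
  have hnot : ∀ k : Γ(idealMod i, U), x ∉ X.basicOpen (show Γ(X, U) from (idealι i).app U k) := by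
    intro k hk
    obtain ⟨z, hz, hz'⟩ := hcon _ hk
    exact basicOpen_idealι_disjoint i U k z hz hz'
  obtain ⟨V, hxV, k, hk⟩ := exists_one_section i hcl x hx
  have hmem : (idealMod i).presheaf.germ V x hxV k ∈ secSpan (idealMod i) U x hxU := by
    rw [h]; trivial
  have key : ∀ z ∈ secSpan (idealMod i) U x hxU,
      unitStalkEquiv x (stalkMap (idealι i) x z) ∈ IsLocalRing.maximalIdeal (X.presheaf.stalk x) := by
    intro z hz
    refine Submodule.span_induction (p := fun z _ => unitStalkEquiv x (stalkMap (idealι i) x z) ∈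
      IsLocalRing.maximalIdeal (X.presheaf.stalk x)) ?_ ?_ ?_ ?_ hz
    · rintro _ ⟨k', rfl⟩
      rw [stalkMap_germ, unitStalkEquiv_germ]
      rw [IsLocalRing.mem_maximalIdeal, mem_nonunits_iff]
      intro hu
      exact hnot k' ((X.mem_basicOpen _ x hxU).2 hu)
    · rw [map_zero, map_zero]; exact Submodule.zero_mem _
    · intro a b _ _ ha hb
      rw [map_add, map_add]; exact Submodule.add_mem _ ha hb
    · intro r a _ ha
      rw [stalkMap_smul, map_smul]; exact Submodule.smul_mem _ _ ha
  have h1 := key _ hmem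
  rw [stalkMap_germ, unitStalkEquiv_germ, hk, map_one] at h1
  exact (IsLocalRing.maximalIdeal.isMaximal _).ne_top ((Ideal.eq_top_iff_one _).2 h1)

end Groth.Agent.Helper13.VanishIdeal
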