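import Mathlib
import Groth.Agent.Lib.Helper13.VanishIdeal
import Groth.Agent.Lib.Helper13.ExtMain2

set_option autoImplicit false
universe u
open CategoryTheory CategoryTheory.Limits AlgebraicGeometry Opposite TopologicalSpace
open Groth.Agent.Helper13.QCoh Groth.Agent.Helper13.FinType Groth.Agent.Helper13.KerSec
open Groth.Agent.Helper13.CounitGen Groth.Agent.Helper13.WeakAss

namespace Groth.Agent.Helper13.VanishIdeal

variable {X Zs : Scheme.{u}} (i : Zs ⟶ X)

instance : Mono (idealι i) := inferInstanceAs (Mono (kernel.ι (sharp i)))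

/-- if a module `J` mapping to the ideal of `i`, through which the unit section factors near `x`,
is generated at `x` by its sections over `U`, some function on `U` vanishing on `range i` is
invertible at `x`. -/
theorem exists_basicOpen_of_secSpan' {J : X.Modules} (φ : J ⟶ idealMod i) (U : X.Opens) (x : X)
    (hxU : x ∈ U)
    (h1 : ∃ (V : X.Opens) (_ : x ∈ V) (k : Γ(J, V)),
      (idealι i).app V (φ.app V k) = (1 : Γ(X, V)))
    (h : secSpan J U x hxU = ⊤) :
    ∃ s : Γ(X, U), x ∈ X.basicOpen s ∧ ∀ z ∈ X.basicOpen s, z ∉ Set.range i := by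
  by_contra hcon
  push Not at hcon
  have hnot : ∀ k : Γ(J, U),
      x ∉ X.basicOpen (show Γ(X, U) from (idealι i).app U (φ.app U k)) := by
    intro k hk
    obtain ⟨z, hz, hz'⟩ := hcon _ hk
    exact basicOpen_idealι_disjoint i U (φ.app U k) z hz hz'
  obtain ⟨V, hxV, k, hk⟩ := h1
  have hmem : J.presheaf.germ V x hxV k ∈ secSpan J U x hxU := by
    rw [h]; trivial
  have key : ∀ z ∈ secSpan J U x hxU,
      unitStalkEquiv x (stalkMap (idealι i) x (stalkMap φ x z)) ∈
        IsLocalRing.maximalIdeal (X.presheaf.stalk x) := by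
    intro z hz
    refine Submodule.span_induction (p := fun z _ =>
      unitStalkEquiv x (stalkMap (idealι i) x (stalkMap φ x z)) ∈
      IsLocalRing.maximalIdeal (X.presheaf.stalk x)) ?_ ?_ ?_ ?_ hz
    · rintro _ ⟨k', rfl⟩
      rw [stalkMap_germ, stalkMap_germ, unitStalkEquiv_germ]
      rw [IsLocalRing.mem_maximalIdeal, mem_nonunits_iff]
      intro hu
      exact hnot k' ((X.mem_basicOpen _ x hxU).2 hu)
    · rw [map_zero, map_zero, map_zero]; exact Submodule.zero_mem _
    · intro a b _ _ ha hb
      rw [map_add, map_add, map_add]; exact Submodule.add_mem _ ha hb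
    · intro r a _ ha
      rw [stalkMap_smul, stalkMap_smul, map_smul]; exact Submodule.smul_mem _ _ ha
  have h1 := key _ hmem
  rw [stalkMap_germ, stalkMap_germ, unitStalkEquiv_germ, hk, map_one] at h1
  exact (IsLocalRing.maximalIdeal.isMaximal _).ne_top ((Ideal.eq_top_iff_one _).2 h1)

/-- a finite type quasi-coherent ideal contained in the ideal of the closed `i` and containing the
unit section near a given point off `range i`. -/
theorem exists_finiteType_ideal [CompactSpace X] [QuasiSeparatedSpace X] [QuasiCompact i]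
    [QuasiSeparated i] (hcl : IsClosed (Set.range i)) (x : X) (hx : x ∉ Set.range i) :
    ∃ (J : X.Modules) (φ : J ⟶ idealMod i), Mono φ ∧ J.IsQuasicoherent ∧
      SheafOfModules.IsFiniteType (R := X.ringCatSheaf) J ∧
      ∃ (V : X.Opens) (hxV : x ∈ V) (k : Γ(J, V)),
        (idealι i).app V (φ.app V k) = (1 : Γ(X, V)) := by
  haveI := isQuasicoherent_idealMod i
  obtain ⟨V₀, hxV₀, k₀, hk₀⟩ := exists_one_section i hcl x hx
  obtain ⟨W, hW, hxW, hWV⟩ := exists_isAffineOpen_mem_and_subset (x := x) (U := V₀) hxV₀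
  obtain ⟨n, V, hV, hUV⟩ := Groth.Agent.Helper13.Ext.exists_goodCover_of_qcqs (X := X)
  obtain ⟨J, φ, h1, h2, h3, g, hg⟩ := Groth.Agent.Helper13.Ext.exists_subsheaf_through_section V hV
    (idealMod i) W (hUV W hW.isCompact) ((idealMod i).presheaf.map (homOfLE hWV).op k₀)
  refine ⟨J, φ, h1, h2, h3, W, hxW, g, ?_⟩
  rw [hg]
  have hnat := (idealι i).mapPresheaf.naturality (homOfLE hWV).op
  have h2 := congr($hnat k₀)
  have : (idealι i).app W ((idealMod i).presheaf.map (homOfLE hWV).op k₀) =
      (Coh.structureModule X).presheaf.map (homOfLE hWV).op ((idealι i).app V₀ k₀) := h2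
  rw [this, hk₀]
  exact map_one (X.presheaf.map (homOfLE hWV).op).hom

end Groth.Agent.Helper13.VanishIdeal
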