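import Mathlib
import Groth.Agent.Lib.Helper13.VanishIdealFT
import Groth.Agent.Lib.Helper13.GenLocusTensor
import Groth.Agent.Lib.Helper13.TensorUnit

set_option autoImplicit false
universe u
open CategoryTheory CategoryTheory.Limits AlgebraicGeometry Opposite TopologicalSpace
open Groth.Agent.Helper13.QCoh Groth.Agent.Helper13.FinType Groth.Agent.Helper13.KerSec
open Groth.Agent.Helper13.CounitGen Groth.Agent.Helper13.WeakAss Groth.Agent.Helper13.Inv
open Groth.Agent.Helper13.Tensor

namespace Groth.Agent.Helper13.VanishIdeal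

variable {X Zs : Scheme.{u}} (i : Zs ⟶ X)

/-- multiplication `J ⊗ N ⟶ N` for a module `J` mapping to the ideal of `i`. -/
noncomputable def mulHom {J : X.Modules} (φ : J ⟶ idealMod i) (N : X.Modules) :
    CohB1.tensorMod J N ⟶ N :=
  Tensor.map (φ ≫ idealι i) (𝟙 N) ≫ lidHom N

lemma mulHom_app_tmul {J : X.Modules} (φ : J ⟶ idealMod i) (N : X.Modules) {W : X.Opens}
    (a : Γ(J, W)) (b : Γ(N, W)) :
    (mulHom i φ N).app W (tmul J N a b) =
      (show Γ(X, W) from (idealι i).app W (φ.app W a)) • b := by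
  unfold mulHom
  change (lidHom N).app W ((Tensor.map (φ ≫ idealι i) (𝟙 N)).app W (tmul J N a b)) = _
  rw [map_app_tmul, lidHom_app_tmul]
  rfl

lemma isGen_smul_germ_iff {N : X.Modules} {W : X.Opens} (e : Γ(N, W)) (y : X) (hy : y ∈ W)
    (he : IsGen N e y hy) {U : X.Opens} (hyU : y ∈ U) (s : Γ(N, U)) (c : X.presheaf.stalk y)
    (hc : N.presheaf.germ U y hyU s = c • N.presheaf.germ W y hy e) :
    IsGen N s y hyU ↔ IsUnit c := by
  rw [IsUnit.isUnit_iff_mulRight_bijective]
  unfold IsGen at he ⊢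
  have key : (fun r : X.presheaf.stalk y => r • N.presheaf.germ U y hyU s) =
      (fun r : X.presheaf.stalk y => r • N.presheaf.germ W y hy e) ∘
        (fun r : X.presheaf.stalk y => r * c) := by
    funext r
    rw [Function.comp_apply, hc, mul_smul]
  rw [key]
  exact Function.Bijective.of_comp_iff' he _


/-- on `range i` the image of `mulHom` lies in `𝔪 N`. -/
lemma stalkMap_mulHom_mem {J N : X.Modules} (φ : J ⟶ idealMod i) {W : X.Opens} (e : Γ(N, W))
    (z : X) (hz : z ∈ W) (he : IsGen N e z hz) (hzi : z ∈ Set.range i)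
    (m : (CohB1.tensorMod J N).presheaf.stalk z) :
    ∃ c ∈ IsLocalRing.maximalIdeal (X.presheaf.stalk z),
      stalkMap (mulHom i φ N) z m = c • N.presheaf.germ W z hz e := by
  refine stalk_tensorMod_induction J N z (p := fun m =>
    ∃ c ∈ IsLocalRing.maximalIdeal (X.presheaf.stalk z),
      stalkMap (mulHom i φ N) z m = c • N.presheaf.germ W z hz e) ?_ ?_ ?_ m
  · exact ⟨0, Submodule.zero_mem _, by rw [map_zero, zero_smul]⟩
  · intro W' hW' a b
    obtain ⟨r, hr⟩ := he.2 (N.presheaf.germ W' z hW' b)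
    have hr' : r • N.presheaf.germ W z hz e = N.presheaf.germ W' z hW' b := hr
    set g : Γ(X, W') := (idealι i).app W' (φ.app W' a) with hg
    have hgm : X.presheaf.germ W' z hW' g ∈ IsLocalRing.maximalIdeal (X.presheaf.stalk z) := by
      rw [IsLocalRing.mem_maximalIdeal, mem_nonunits_iff]
      intro hu
      exact basicOpen_idealι_disjoint i W' (φ.app W' a) z ((X.mem_basicOpen _ z hW').2 hu) hzi
    refine ⟨X.presheaf.germ W' z hW' g * r, Ideal.mul_mem_right _ _ hgm, ?_⟩
    rw [stalkMap_germ, mulHom_app_tmul, Tensor.germ_smul, ← hr', mul_smul]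
  · rintro a b ⟨ca, hca, ha⟩ ⟨cb, hcb, hb⟩
    exact ⟨ca + cb, Submodule.add_mem _ hca hcb, by rw [map_add, ha, hb, add_smul]⟩

/-- **ideal twist**: if `J ⊗ N` is generated at `x` by its sections over `U`, where `J` maps to the
ideal of `i` and contains the unit section near `x`, and `N` is invertible, then some section of `N`
over `U` generates `N` at `x` and nowhere on `range i`. -/
theorem exists_section_twist {J N : X.Modules} (φ : J ⟶ idealMod i) (hN : PicF.IsInvertible N)
    (U : X.Opens) (x : X) (hxU : x ∈ U)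
    (h1 : ∃ (V : X.Opens) (_ : x ∈ V) (k : Γ(J, V)),
      (idealι i).app V (φ.app V k) = (1 : Γ(X, V)))
    (h : secSpan (CohB1.tensorMod J N) U x hxU = ⊤) :
    ∃ s : Γ(N, U), IsGen N s x hxU ∧
      ∀ (z : X) (hz : z ∈ U), z ∈ Set.range i → ¬ IsGen N s z hz := by
  have claim2 : ∀ (t : Γ(CohB1.tensorMod J N, U)) (z : X) (hz : z ∈ U), z ∈ Set.range i →
      ¬ IsGen N ((mulHom i φ N).app U t) z hz := by
    intro t z hz hzi hgen
    obtain ⟨W, hzW, e, he⟩ := (isInvertible_iff_exists_isGen N).1 hN z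
    obtain ⟨c, hc, hce⟩ := stalkMap_mulHom_mem i φ e z hzW (he z hzW) hzi
      ((CohB1.tensorMod J N).presheaf.germ U z hz t)
    rw [stalkMap_germ] at hce
    have hu := (isGen_smul_germ_iff e z hzW (he z hzW) hz _ c hce).1 hgen
    rw [IsLocalRing.mem_maximalIdeal, mem_nonunits_iff] at hc
    exact hc hu
  by_contra hcon
  push Not at hcon
  have hnot : ∀ t : Γ(CohB1.tensorMod J N, U), ¬ IsGen N ((mulHom i φ N).app U t) x hxU := by
    intro t hgen
    obtain ⟨z, hz, hzi, hz'⟩ := hcon _ hgen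
    exact claim2 t z hz hzi hz'
  obtain ⟨W, hxW, e, he⟩ := (isInvertible_iff_exists_isGen N).1 hN x
  have key : ∀ m ∈ secSpan (CohB1.tensorMod J N) U x hxU,
      ∃ c ∈ IsLocalRing.maximalIdeal (X.presheaf.stalk x),
        stalkMap (mulHom i φ N) x m = c • N.presheaf.germ W x hxW e := by
    intro m hm
    refine Submodule.span_induction (p := fun m _ =>
      ∃ c ∈ IsLocalRing.maximalIdeal (X.presheaf.stalk x),
        stalkMap (mulHom i φ N) x m = c • N.presheaf.germ W x hxW e) ?_ ?_ ?_ ?_ hm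
    · rintro _ ⟨t, rfl⟩
      obtain ⟨c, hc⟩ := (he x hxW).2 (N.presheaf.germ U x hxU ((mulHom i φ N).app U t))
      have hc' : N.presheaf.germ U x hxU ((mulHom i φ N).app U t) =
          c • N.presheaf.germ W x hxW e := hc.symm
      refine ⟨c, ?_, by rw [stalkMap_germ, hc']⟩
      rw [IsLocalRing.mem_maximalIdeal, mem_nonunits_iff]
      intro hu
      exact hnot t ((isGen_smul_germ_iff e x hxW (he x hxW) hxU _ c hc').2 hu)
    · exact ⟨0, Submodule.zero_mem _, by rw [map_zero, zero_smul]⟩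
    · rintro a b _ _ ⟨ca, hca, ha⟩ ⟨cb, hcb, hb⟩
      exact ⟨ca + cb, Submodule.add_mem _ hca hcb, by rw [map_add, ha, hb, add_smul]⟩
    · rintro r a _ ⟨ca, hca, ha⟩
      exact ⟨r * ca, Ideal.mul_mem_left _ _ hca, by rw [stalkMap_smul, ha, mul_smul]⟩
  obtain ⟨V, hxV, k, hk⟩ := h1
  let W' : X.Opens := V ⊓ W
  have hxW' : x ∈ W' := ⟨hxV, hxW⟩
  let k' : Γ(J, W') := J.presheaf.map (homOfLE (inf_le_left : W' ≤ V)).op k
  let e' : Γ(N, W') := N.presheaf.map (homOfLE (inf_le_right : W' ≤ W)).op e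
  have hk' : (show Γ(X, W') from (idealι i).app W' (φ.app W' k')) = 1 := by
    have hnat := (φ ≫ idealι i).mapPresheaf.naturality (homOfLE (inf_le_left : W' ≤ V)).op
    have h2 := congr($hnat k)
    have h3 : (idealι i).app W' (φ.app W' k') =
        (Coh.structureModule X).presheaf.map (homOfLE (inf_le_left : W' ≤ V)).op
          ((idealι i).app V (φ.app V k)) := h2
    rw [h3, hk]
    exact map_one (X.presheaf.map (homOfLE (inf_le_left : W' ≤ V)).op).hom
  obtain ⟨c, hc, hce⟩ := key ((CohB1.tensorMod J N).presheaf.germ W' x hxW' (tmul J N k' e'))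
    (by rw [h]; trivial)
  rw [stalkMap_germ, mulHom_app_tmul, hk', one_smul] at hce
  have he' : N.presheaf.germ W' x hxW' e' = N.presheaf.germ W x hxW e :=
    TopCat.Presheaf.germ_res_apply N.presheaf (homOfLE inf_le_right) x hxW' e
  rw [he'] at hce
  have h4 : (1 : X.presheaf.stalk x) • N.presheaf.germ W x hxW e =
      c • N.presheaf.germ W x hxW e := by rw [one_smul]; exact hce
  have h5 : (1 : X.presheaf.stalk x) = c := (he x hxW).1 h4
  rw [← h5] at hc
  exact (IsLocalRing.maximalIdeal.isMaximal _).ne_top ((Ideal.eq_top_iff_one _).2 hc)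

end Groth.Agent.Helper13.VanishIdeal
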