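import Mathlib
import Groth.Agent.Lib.Helper13.IdealTwist
import Groth.Agent.Lib.Helper13.AmpleLocal

set_option autoImplicit false
universe u
open CategoryTheory CategoryTheory.Limits AlgebraicGeometry Opposite TopologicalSpace
open Groth.Agent.Helper13.QCoh Groth.Agent.Helper13.FinType
open Groth.Agent.Helper13.CounitGen Groth.Agent.Helper13.Inv
open Groth.Agent.Helper13.Tensor Groth.Agent.Helper13.GenLoc Groth.Agent.Helper13.Ample

namespace Groth.Agent.Helper13.VanishIdeal

variable {X : Scheme.{u}}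

/-- **ampleness from sections over an open**: if every point `x` of the quasi-compact open `U` has a
section of a positive power of `L` over `U` generating at `x` and whose generating locus is contained
in an affine open inside `U`, then `L` restricted to `U` is ample. -/
theorem isAmple_restrict_of_sections (L : X.Modules) (hL : PicF.IsInvertible L) (U : X.Opens)
    (hU : IsCompact (U : Set X))
    (h : ∀ (x : X) (hx : x ∈ U), ∃ (n : ℕ) (s : Γ(CohB1.tensorPow L (n + 1), U)) (W : X.Opens),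
      IsAffineOpen W ∧ W ≤ U ∧ IsGen (CohB1.tensorPow L (n + 1)) s x hx ∧
      ∀ (z : X) (hz : z ∈ U), IsGen (CohB1.tensorPow L (n + 1)) s z hz → z ∈ W) :
    CohB1.IsAmple (L.restrict U.ι) := by
  haveI : CompactSpace (U : Scheme.{u}) := isCompact_iff_compactSpace.1 hU
  refine ⟨isInvertible_restrict U.ι L hL, inferInstance, fun x' => ?_⟩
  obtain ⟨n, s, W, hW, hWU, hgen, hsub⟩ := h x'.1 x'.2
  let M : X.Modules := CohB1.tensorPow L (n + 1)
  have hM : PicF.IsInvertible M := isInvertible_tensorPow L hL (n + 1)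
  have htop : U.ι ''ᵁ ⊤ = U := Scheme.Opens.ι_image_top U
  let τ : Γ(M.restrict U.ι, ⊤) := M.presheaf.map (eqToHom htop).op s
  let s'' : Coh.structureModule (U : Scheme.{u}) ⟶ M.restrict U.ι := LocFree.homOfSec _ τ
  have hmem : ∀ z' : (U : Scheme.{u}), z' ∈ CohB1.genLocus (M.restrict U.ι) s'' ↔
      IsGen M s (U.ι z') z'.2 := by
    intro z'
    rw [mem_genLocus_restrict_iff U.ι M hM s'' z', sec_homOfSec]
    exact isGen_res M (eqToHom htop) s (U.ι z') ⟨z', trivial, rfl⟩
  have hW' : IsAffineOpen (U.ι ⁻¹ᵁ W) := by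
    rw [← Scheme.Hom.isAffineOpen_iff_of_isOpenImmersion U.ι,
      Scheme.Hom.image_preimage_eq_opensRange_inf, Scheme.Opens.opensRange_ι, inf_eq_right.2 hWU]
    exact hW
  have hle : CohB1.genLocus (M.restrict U.ι) s'' ≤ U.ι ⁻¹ᵁ W := by
    intro z' hz'
    exact hsub (U.ι z') z'.2 ((hmem z').1 hz')
  refine ⟨n, s'' ≫ (powRestrict U.ι L (n + 1)).hom, ?_, ?_⟩
  · rw [genLocus_comp_iso]
    exact (hmem x').2 hgen
  · rw [genLocus_comp_iso]
    exact isAffineOpen_genLocus_of_le _ (isInvertible_restrict U.ι M hM) s'' hW' hle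


/-- **relative ampleness from finite type ideals**. -/
theorem isRelAmple_of_finiteType_ideals {X Y : Scheme.{u}} [CompactSpace X]
    [QuasiSeparatedSpace X] (f : X ⟶ Y) [QuasiCompact f] [QuasiSeparated f] (L : X.Modules)
    (hL : PicF.IsInvertible L)
    (h : ∀ (J : X.Modules) (i : J ⟶ Coh.structureModule X), Mono i → J.IsQuasicoherent →
      SheafOfModules.IsFiniteType (R := X.ringCatSheaf) J → ∃ n : ℕ, 0 < n ∧
        Epi (ε f (CohB1.tensorMod J (CohB1.tensorPow L n)))) :
    RelAmple.IsRelAmple f L := by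
  refine ⟨inferInstance, fun V => ?_⟩
  have hc : IsCompact ((f ⁻¹ᵁ V.1 : X.Opens) : Set X) :=
    QuasiCompact.isCompact_preimage (f := f) V.1 V.1.2 V.2.isCompact
  have hq : IsQuasiSeparated ((f ⁻¹ᵁ V.1 : X.Opens) : Set X) :=
    Scheme.Hom.isQuasiSeparated_preimage f V.2.isQuasiSeparated
  apply isAmple_restrict_of_sections L hL (f ⁻¹ᵁ V.1) hc
  intro x hx
  obtain ⟨W, hW, hxW, hWU⟩ := exists_isAffineOpen_mem_and_subset (x := x) (U := f ⁻¹ᵁ V.1) hx
  let Zc : Closeds X := ⟨(W : Set X)ᶜ, W.2.isClosed_compl⟩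
  let i := (Scheme.IdealSheafData.vanishingIdeal Zc).subschemeι
  have hrange : Set.range i = (W : Set X)ᶜ := by
    rw [Scheme.IdealSheafData.range_subschemeι, Scheme.IdealSheafData.coe_support_vanishingIdeal]
    rfl
  have hcl : IsClosed (Set.range i) := by rw [hrange]; exact W.2.isClosed_compl
  obtain ⟨J, φ, h1, h2, h3, h4⟩ := exists_finiteType_ideal i hcl x
    (by rw [hrange]; exact fun h => h hxW)
  haveI := h1
  haveI := h2
  obtain ⟨n, hn, hepi⟩ := h J (φ ≫ idealι i) inferInstance h2 h3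
  obtain ⟨m, rfl⟩ : ∃ m, n = m + 1 := ⟨n - 1, by omega⟩
  have hN : PicF.IsInvertible (CohB1.tensorPow L (m + 1)) := isInvertible_tensorPow L hL (m + 1)
  haveI : (CohB1.tensorPow L (m + 1)).IsQuasicoherent := isQuasicoherent_of_isInvertible _ hN
  haveI : (CohB1.tensorMod J (CohB1.tensorPow L (m + 1))).IsQuasicoherent := inferInstance
  have hspan := (epi_ε_iff f (CohB1.tensorMod J (CohB1.tensorPow L (m + 1)))).1 hepi x
  rw [relSpan_eq_secSpan f (CohB1.tensorMod J (CohB1.tensorPow L (m + 1))) V.1 V.2 hc hq x hx]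
    at hspan
  obtain ⟨s, hs1, hs2⟩ := exists_section_twist i φ hN (f ⁻¹ᵁ V.1) x hx h4 hspan
  refine ⟨m, s, W, hW, hWU, hs1, fun z hz hgen => ?_⟩
  by_contra hzW
  exact hs2 z hz (by rw [hrange]; exact hzW) hgen

end Groth.Agent.Helper13.VanishIdeal
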