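import Mathlib
import Groth.Agent.Lib.Helper13.VanishIdealFT
import Groth.Agent.Lib.Helper13.EpiStalk

set_option autoImplicit false
universe u
open CategoryTheory CategoryTheory.Limits AlgebraicGeometry Opposite TopologicalSpace
open Groth.Agent.Helper13.QCoh Groth.Agent.Helper13.FinType Groth.Agent.Helper13.VanishIdeal

namespace Groth.Agent.Helper13.SerreCrit

variable {X Zs S : Scheme.{u}}

/-- for a closed immersion `j`, the comorphism `O_X ⟶ j_* O_S` is an epimorphism of modules -/
theorem epi_sharp (j : S ⟶ X) [IsClosedImmersion j] : Epi (sharp j) := by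
  apply epi_of_stalkMap_surjective
  intro y m
  obtain ⟨V, hyV, s, rfl⟩ := TopCat.Presheaf.exists_germ_eq _ m
  obtain ⟨_, ⟨U, hU, rfl⟩, hyU, hUV⟩ := X.isBasis_affineOpens.exists_subset_of_mem_open hyV V.isOpen
  have hUV' : U ≤ V := hUV
  obtain ⟨a, ha⟩ := j.app_surjective U hU
    (((Scheme.Modules.pushforward j).obj (Coh.structureModule S)).presheaf.map (homOfLE hUV').op s)
  refine ⟨(Coh.structureModule X).presheaf.germ U y hyU a, ?_⟩
  rw [stalkMap_germ, sharp_app, ha, TopCat.Presheaf.germ_res_apply]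

lemma stalkMap_comp' {M N P : X.Modules} (φ : M ⟶ N) (ψ : N ⟶ P) (y : X) (m : M.presheaf.stalk y) :
    stalkMap (φ ≫ ψ) y m = stalkMap ψ y (stalkMap φ y m) := by
  obtain ⟨V, hyV, t, rfl⟩ := TopCat.Presheaf.exists_germ_eq M.presheaf m
  rw [stalkMap_germ, stalkMap_germ, stalkMap_germ]
  rfl

/-- away from the closed image of `i` the ideal module is the whole structure sheaf -/
theorem stalkMap_idealι_surjective (i : Zs ⟶ X) (hcl : IsClosed (Set.range i)) (y : X)
    (hy : y ∉ Set.range i) : Function.Surjective (stalkMap (idealι i) y) := by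
  intro m
  obtain ⟨U, hyU, a, rfl⟩ := TopCat.Presheaf.exists_germ_eq _ m
  obtain ⟨V, hyV, k, hk⟩ := exists_one_section i hcl y hy
  have hyW : y ∈ U ⊓ V := ⟨hyU, hyV⟩
  let a' : Γ(X, U ⊓ V) := X.presheaf.map (homOfLE (inf_le_left : U ⊓ V ≤ U)).op a
  let k' : Γ(idealMod i, U ⊓ V) := (idealMod i).presheaf.map (homOfLE (inf_le_right : U ⊓ V ≤ V)).op k
  refine ⟨(idealMod i).presheaf.germ (U ⊓ V) y hyW (a' • k'), ?_⟩
  rw [stalkMap_germ, Scheme.Modules.Hom.app_smul]
  have h1 : (idealι i).app (U ⊓ V) k' = (1 : Γ(X, U ⊓ V)) := by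
    have hnat := (idealι i).mapPresheaf.naturality (homOfLE (inf_le_right : U ⊓ V ≤ V)).op
    have h2 := congr($hnat k)
    have h3 : (idealι i).app (U ⊓ V) k' =
        (Coh.structureModule X).presheaf.map (homOfLE (inf_le_right : U ⊓ V ≤ V)).op
          ((idealι i).app V k) := h2
    rw [h3, hk]
    exact map_one (X.presheaf.map (homOfLE (inf_le_right : U ⊓ V ≤ V)).op).hom
  rw [h1]
  have h4 : a' • (1 : Γ(X, U ⊓ V)) = a' := mul_one a'
  have h5 : (Coh.structureModule X).presheaf.germ (U ⊓ V) y hyW (a' • (1 : Γ(X, U ⊓ V))) =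
      (Coh.structureModule X).presheaf.germ (U ⊓ V) y hyW a' := congrArg _ h4
  refine h5.trans ?_
  exact TopCat.Presheaf.germ_res_apply (Coh.structureModule X).presheaf
    (homOfLE (inf_le_left : U ⊓ V ≤ U)) y hyW a

/-- the evaluation map from the ideal of a closed subscheme to a disjoint closed subscheme is epi -/
theorem epi_ev (i : Zs ⟶ X) (hcl : IsClosed (Set.range i)) (j : S ⟶ X) [IsClosedImmersion j]
    (hdisj : Disjoint (Set.range i) (Set.range j)) : Epi (idealι i ≫ sharp j) := by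
  haveI := epi_sharp j
  apply epi_of_stalkMap_surjective
  intro y m
  by_cases hy : y ∈ Set.range i
  · have hyj : y ∉ Set.range j := fun h => (Set.disjoint_left.1 hdisj hy h)
    refine ⟨0, ?_⟩
    rw [map_zero]
    obtain ⟨V, hyV, s, rfl⟩ := TopCat.Presheaf.exists_germ_eq _ m
    let V' : X.Opens := V ⊓ ⟨(Set.range j)ᶜ, j.isClosedEmbedding.isClosed_range.isOpen_compl⟩
    have hyV' : y ∈ V' := ⟨hyV, hyj⟩
    have hV' : j ⁻¹ᵁ V' = ⊥ := by
      ext z
      simp only [Opens.coe_bot, Set.mem_empty_iff_false, iff_false]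
      intro hz
      exact hz.2 ⟨z, rfl⟩
    haveI : Subsingleton Γ(S, j ⁻¹ᵁ V') := by
      rw [hV']
      infer_instance
    have h0 : ((Scheme.Modules.pushforward j).obj (Coh.structureModule S)).presheaf.map
        (homOfLE (inf_le_left : V' ≤ V)).op s = 0 :=
      Subsingleton.elim (α := Γ(S, j ⁻¹ᵁ V')) _ _
    rw [← TopCat.Presheaf.germ_res_apply _ (homOfLE (inf_le_left : V' ≤ V)) y hyV' s, h0, map_zero]
  · obtain ⟨m', rfl⟩ := stalkMap_surjective_of_epi (sharp j) y m
    obtain ⟨m'', rfl⟩ := stalkMap_idealι_surjective i hcl y hy m'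
    exact ⟨m'', stalkMap_comp' _ _ y m''⟩

/-- the closed point `x` as a closed immersion -/
theorem isClosedImmersion_fromSpecResidueField (x : X) (hx : IsClosed ({x} : Set X)) :
    IsClosedImmersion (X.fromSpecResidueField x) :=
  IsClosedImmersion.of_isPreimmersion _ (by rw [Scheme.range_fromSpecResidueField]; exact hx)

/-- a global function in the ideal of `i` with value `1` at `x` gives an affine neighbourhood -/
theorem exists_basicOpen_affine (x : X) (U : X.Opens) (hU : IsAffineOpen U)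
    (i : Zs ⟶ X) (hi : Set.range i = (U : Set X)ᶜ)
    (hsurj : Function.Surjective ((idealι i ≫ sharp (X.fromSpecResidueField x)).app ⊤)) :
    ∃ f : Γ(X, ⊤), x ∈ X.basicOpen f ∧ IsAffineOpen (X.basicOpen f) := by
  obtain ⟨k, hk⟩ := hsurj (1 : Γ(Spec (X.residueField x), X.fromSpecResidueField x ⁻¹ᵁ ⊤))
  let f : Γ(X, ⊤) := (idealι i).app ⊤ k
  have hf : (X.fromSpecResidueField x).app ⊤ f = 1 := hk
  have hle : X.basicOpen f ≤ U := by
    intro z hz
    have := basicOpen_idealι_disjoint i ⊤ k z hz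
    rw [hi] at this
    exact not_not.1 this
  refine ⟨f, ?_, ?_⟩
  · have h1 : X.fromSpecResidueField x ⁻¹ᵁ X.basicOpen f = ⊤ := by
      rw [Scheme.preimage_basicOpen, hf]
      exact Scheme.basicOpen_of_isUnit _ isUnit_one
    have h2 : (default : Spec (X.residueField x)) ∈ X.fromSpecResidueField x ⁻¹ᵁ X.basicOpen f := by
      rw [h1]; trivial
    have h3 : X.fromSpecResidueField x default = x := Scheme.fromSpecResidueField_apply x default
    rw [← h3]
    exact h2
  · have h1 : X.basicOpen (X.presheaf.map (homOfLE (le_top : U ≤ ⊤)).op f) = X.basicOpen f := by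
      rw [Scheme.basicOpen_res]
      exact inf_eq_right.2 hle
    rw [← h1]
    exact hU.basicOpen _

/-- **Serre's criterion, geometric core**: a quasi-compact scheme such that (A) for every closed
subset `Z` and closed point `x ∉ Z` global sections of the ideal of `Z` surject onto `κ(x)`, and
(B) global functions whose basic opens cover `X` generate the unit ideal, is affine. -/
theorem isAffine_of_surjective [CompactSpace X]
    (hA : ∀ (Z : Closeds X) (x : X), IsClosed ({x} : Set X) → x ∉ Z →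
      Function.Surjective ((idealι (Scheme.IdealSheafData.vanishingIdeal Z).subschemeι ≫
        sharp (X.fromSpecResidueField x)).app ⊤))
    (hB : ∀ (n : ℕ) (f : Fin n → Γ(X, ⊤)), (⨆ k, X.basicOpen (f k) = ⊤) →
      (∀ k, IsAffineOpen (X.basicOpen (f k))) → Ideal.span (Set.range f) = ⊤) :
    IsAffine X := by
  -- Step 1: every closed point has an affine basic open neighbourhood
  have h1 : ∀ x : X, IsClosed ({x} : Set X) →
      ∃ f : Γ(X, ⊤), x ∈ X.basicOpen f ∧ IsAffineOpen (X.basicOpen f) := by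
    intro x hx
    obtain ⟨_, ⟨U, hU, rfl⟩, hxU, -⟩ := X.isBasis_affineOpens.exists_subset_of_mem_open
      (Set.mem_univ x) isOpen_univ
    let Z : Closeds X := ⟨(U : Set X)ᶜ, U.isOpen.isClosed_compl⟩
    have hxZ : x ∉ Z := fun h => h hxU
    refine exists_basicOpen_affine x U hU (Scheme.IdealSheafData.vanishingIdeal Z).subschemeι ?_
      (hA Z x hx hxZ)
    rw [Scheme.IdealSheafData.range_subschemeι, Scheme.IdealSheafData.coe_support_vanishingIdeal]
    rfl
  -- Step 2: these cover X
  let W : X.Opens := ⨆ f : {f : Γ(X, ⊤) // IsAffineOpen (X.basicOpen f)}, X.basicOpen f.1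
  have hW : W = ⊤ := by
    by_contra hne
    have hne' : ((W : Set X)ᶜ).Nonempty := by
      rw [Set.nonempty_compl]
      intro h
      exact hne (Opens.ext h)
    obtain ⟨x, hxW, hx⟩ := IsClosed.exists_closed_singleton W.isOpen.isClosed_compl hne'
    obtain ⟨f, hxf, hf⟩ := h1 x hx
    exact hxW (Opens.mem_iSup.2 ⟨⟨f, hf⟩, hxf⟩)
  -- Step 3: finite subcover
  obtain ⟨t, ht⟩ := isCompact_univ.elim_finite_subcover
    (fun f : {f : Γ(X, ⊤) // IsAffineOpen (X.basicOpen f)} => (X.basicOpen f.1 : Set X))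
    (fun f => (X.basicOpen f.1).isOpen) (by
      intro x _
      have : x ∈ W := hW ▸ trivial
      obtain ⟨f, hf⟩ := Opens.mem_iSup.1 this
      exact Set.mem_iUnion.2 ⟨f, hf⟩)
  obtain ⟨n, ⟨e⟩⟩ := Finite.exists_equiv_fin {f // f ∈ t}
  let F : Fin n → Γ(X, ⊤) := fun k => (e.symm k).1.1
  have hcov : ⨆ k, X.basicOpen (F k) = ⊤ := by
    apply top_unique
    intro x _
    obtain ⟨f, hf⟩ := Set.mem_iUnion.1 (ht (Set.mem_univ x))
    obtain ⟨hft, hxf⟩ := Set.mem_iUnion.1 hf
    refine Opens.mem_iSup.2 ⟨e ⟨f, hft⟩, ?_⟩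
    show x ∈ X.basicOpen (e.symm (e ⟨f, hft⟩)).1.1
    rw [Equiv.symm_apply_apply]
    exact hxf
  have hspan := hB n F hcov (fun k => (e.symm k).1.2)
  exact isAffine_of_isAffineOpen_basicOpen (Set.range F) hspan
    (by rintro _ ⟨k, rfl⟩; exact (e.symm k).1.2)

end Groth.Agent.Helper13.SerreCrit
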