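import Mathlib
import Groth.Agent.Lib.Helper13.SerreCrit1
import Groth.Agent.Lib.Helper13.FreeMod
import Groth.Agent.Lib.Helper13.Retract

set_option autoImplicit false
universe u
open CategoryTheory CategoryTheory.Limits AlgebraicGeometry Opposite TopologicalSpace
open Groth.Agent.Helper13.QCoh Groth.Agent.Helper13.FinType Groth.Agent.Helper13.VanishIdeal
open Groth.Agent.Helper13.LocFree

namespace Groth.Agent.Helper13.SerreCrit

variable {X : Scheme.{u}}

/-- functions whose basic opens cover `X` define an epimorphism `O^n ⟶ O` -/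
theorem epi_descSec_of_cover {n : ℕ} (f : Fin n → Γ(X, ⊤))
    (hcov : ⨆ k, X.basicOpen (f k) = ⊤) :
    Epi (descSec (Coh.structureModule X) (fun k => toO ⊤ (f k))) := by
  apply epi_of_stalkMap_surjective
  intro y m
  obtain ⟨V, hyV, a, rfl⟩ := TopCat.Presheaf.exists_germ_eq _ m
  have hy : y ∈ ⨆ k, X.basicOpen (f k) := by rw [hcov]; trivial
  obtain ⟨k, hk⟩ := Opens.mem_iSup.1 hy
  have hyV' : y ∈ V ⊓ X.basicOpen (f k) := ⟨hyV, hk⟩
  have hunit : IsUnit (X.presheaf.map (homOfLE (le_top : V ⊓ X.basicOpen (f k) ≤ ⊤)).op (f k)) := by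
    have h1 := X.toRingedSpace.isUnit_res_basicOpen (f k)
    have h2 := h1.map (X.presheaf.map (homOfLE (inf_le_right : V ⊓ X.basicOpen (f k) ≤ X.basicOpen (f k))).op).hom
    have h3 : (X.presheaf.map (homOfLE (inf_le_right : V ⊓ X.basicOpen (f k) ≤ X.basicOpen (f k))).op).hom
        ((X.presheaf.map (homOfLE (X.basicOpen_le (f k))).op) (f k)) =
        X.presheaf.map (homOfLE (le_top : V ⊓ X.basicOpen (f k) ≤ ⊤)).op (f k) := by
      rw [← ConcreteCategory.comp_apply, ← X.presheaf.map_comp]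
      rfl
    rw [← h3]
    exact h2
  obtain ⟨u, hu⟩ := hunit.exists_left_inv
  let a' : Γ(X, V ⊓ X.basicOpen (f k)) := X.presheaf.map (homOfLE (inf_le_left : V ⊓ X.basicOpen (f k) ≤ V)).op a
  refine ⟨stalkMap (ι n k) y ((Coh.structureModule X).presheaf.germ _ y hyV' (toO _ (a' * u))), ?_⟩
  rw [← stalkMap_comp', ι_descSec, stalkMap_germ, homOfSec_app]
  have h4 : (a' * u) • (Coh.structureModule X).presheaf.map
      (homOfLE (le_top : V ⊓ X.basicOpen (f k) ≤ ⊤)).op (toO ⊤ (f k)) = toO _ a' := by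
    show (a' * u) * X.presheaf.map (homOfLE (le_top : V ⊓ X.basicOpen (f k) ≤ ⊤)).op (f k) = a'
    rw [mul_assoc, hu, mul_one]
  rw [h4]
  exact TopCat.Presheaf.germ_res_apply (Coh.structureModule X).presheaf
    (homOfLE (inf_le_left : V ⊓ X.basicOpen (f k) ≤ V)) y hyV' a

/-- if `O^n ⟶ O` given by `f` is surjective on global sections then the `f k` span the unit ideal -/
theorem span_eq_top_of_surjective {n : ℕ} (f : Fin n → Γ(X, ⊤))
    (hsurj : Function.Surjective
      ((descSec (Coh.structureModule X) (fun k => toO ⊤ (f k))).app ⊤)) :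
    Ideal.span (Set.range f) = ⊤ := by
  obtain ⟨t, ht⟩ := hsurj (toO ⊤ 1)
  obtain ⟨c, rfl⟩ := (secEquiv n ⊤).surjective t
  have h1 := descSec_app_secOfCoord (Coh.structureModule X) (fun k => toO ⊤ (f k)) ⊤ c
  rw [Ideal.eq_top_iff_one]
  have h2 : (1 : Γ(X, ⊤)) = ∑ i, c i * f i := by
    have h3 : (secEquiv n ⊤) c = secOfCoord n ⊤ c := rfl
    rw [h3, h1] at ht
    refine ht.symm.trans ?_
    refine Finset.sum_congr rfl fun i _ => ?_
    have h4 : (Coh.structureModule X).presheaf.map (homOfLE (le_top : (⊤ : X.Opens) ≤ ⊤)).op (toO ⊤ (f i)) = f i := by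
      have : (homOfLE (le_top : (⊤ : X.Opens) ≤ ⊤)) = 𝟙 _ := rfl
      rw [this, op_id, (Coh.structureModule X).presheaf.map_id]
      rfl
    rw [h4]
    rfl
  rw [h2]
  exact Ideal.sum_mem _ fun i _ => Ideal.mul_mem_left _ _ (Ideal.subset_span ⟨i, rfl⟩)

end Groth.Agent.Helper13.SerreCrit
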