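import Mathlib
import Groth.Agent.Lib.Helper13.SerreCrit2

set_option autoImplicit false
universe u
open CategoryTheory CategoryTheory.Limits AlgebraicGeometry Opposite TopologicalSpace
open Groth.Agent.Helper13.QCoh Groth.Agent.Helper13.FinType Groth.Agent.Helper13.VanishIdeal
open Groth.Agent.Helper13.LocFree

namespace Groth.Agent.Helper13.SerreCrit

variable {X : Scheme.{u}}

/-- the finite product of copies of `O_X` is the free module -/
noncomputable def prodIsoFreeMod (n : ℕ) :
    (∏ᶜ (fun _ : Fin n => Coh.structureModule X)) ≅ FlatMod.freeMod X n where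
  hom := ∑ k : Fin n, Pi.π (fun _ : Fin n => Coh.structureModule X) k ≫ ι n k
  inv := Pi.lift (fun k => π n k)
  hom_inv_id := by
    apply Pi.hom_ext
    intro l
    rw [Category.assoc, Pi.lift_π, Preadditive.sum_comp, Category.id_comp]
    rw [Finset.sum_eq_single l]
    · rw [Category.assoc, ι_π_self, Category.comp_id]
    · intro k _ hkl
      rw [Category.assoc, ι_π_ne n hkl, comp_zero]
    · intro h
      exact absurd (Finset.mem_univ l) h
  inv_hom_id := by
    rw [Preadditive.comp_sum]
    have : ∀ k : Fin n, Pi.lift (fun k => π (X := X) n k) ≫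
        Pi.π (fun _ : Fin n => Coh.structureModule X) k ≫ ι n k = π n k ≫ ι n k := by
      intro k
      rw [← Category.assoc, Pi.lift_π]
    rw [Finset.sum_congr rfl (fun k _ => this k)]
    exact total n

instance isQuasicoherent_prod (n : ℕ) :
    (∏ᶜ (fun _ : Fin n => Coh.structureModule X)).IsQuasicoherent :=
  Groth.Agent.Helper13.QCohLocal.isQuasicoherent_of_iso (prodIsoFreeMod (X := X) n).symm

/-- the short complex `0 → ker φ → M → N → 0` of an epimorphism -/
noncomputable def kerSC {M N : X.Modules} (φ : M ⟶ N) : ShortComplex X.Modules :=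
  ShortComplex.mk (kernel.ι φ) φ (kernel.condition φ)

theorem kerSC_shortExact {M N : X.Modules} (φ : M ⟶ N) [Epi φ] : (kerSC φ).ShortExact :=
  ShortComplex.ShortExact.mk' (ShortComplex.exact_of_f_is_kernel _ (kernelIsKernel φ))
    (inferInstanceAs (Mono (kernel.ι φ))) (inferInstanceAs (Epi φ))

end Groth.Agent.Helper13.SerreCrit
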