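import Mathlib
import Groth.Agent.Lib.Helper13.SerreCrit3
import Groth.Agent.Lib.Helper13.ToAbExact

set_option autoImplicit false
universe u
open CategoryTheory CategoryTheory.Limits AlgebraicGeometry Opposite TopologicalSpace
open Groth.Agent.Helper13.QCoh Groth.Agent.Helper13.FinType Groth.Agent.Helper13.VanishIdeal
open Groth.Agent.Helper13.LocFree Groth.Agent.Helper13.ToAbExact

namespace Groth.Agent.Helper13.SerreCrit

variable {X : Scheme.{u}}

/-- dropping the `0`-th coordinate -/
noncomputable def dropZero (n : ℕ) : FlatMod.freeMod X (n+1) ⟶ FlatMod.freeMod X n :=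
  ∑ j : Fin n, π (n+1) j.succ ≫ ι n j

lemma dropZero_π (n : ℕ) (l : Fin n) : dropZero (X := X) n ≫ π n l = π (n+1) l.succ := by
  unfold dropZero
  rw [Preadditive.sum_comp, Finset.sum_eq_single l]
  · rw [Category.assoc, ι_π_self, Category.comp_id]
  · intro j _ hjl
    rw [Category.assoc, ι_π_ne n hjl, comp_zero]
  · intro h
    exact absurd (Finset.mem_univ l) h

/-- the `0`-th projection and `dropZero` are jointly monic -/
lemma eq_zero_of_π_zero_of_dropZero {n : ℕ} {T : X.Modules} (w : T ⟶ FlatMod.freeMod X (n+1))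
    (h0 : w ≫ π (n+1) 0 = 0) (h1 : w ≫ dropZero n = 0) : w = 0 := by
  have h2 : w = w ≫ 𝟙 _ := (Category.comp_id w).symm
  rw [h2, ← total (n+1), Preadditive.comp_sum]
  refine Finset.sum_eq_zero fun i _ => ?_
  refine Fin.cases ?_ (fun j => ?_) i
  · rw [← Category.assoc, h0, zero_comp]
  · rw [← Category.assoc, ← dropZero_π, ← Category.assoc, h1, zero_comp, zero_comp]

lemma isZero_freeMod_zero : IsZero (FlatMod.freeMod X 0) := by
  rw [IsZero.iff_id_eq_zero, ← total 0]
  exact Finset.sum_empty

lemma isZero_of_mono {F G : X.Modules} (i : F ⟶ G) [Mono i] (hG : IsZero G) : IsZero F := by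
  rw [IsZero.iff_id_eq_zero, ← cancel_mono i]
  exact hG.eq_of_tgt _ _

theorem H1_subsingleton_of_mono_freeMod
    (h : ∀ (I : X.Modules) (i : I ⟶ Coh.structureModule X), Mono i →
      Coh.IsQCoh I → Subsingleton (Coh.HH X I 1)) :
    ∀ (n : ℕ) (F : X.Modules) (ιF : F ⟶ FlatMod.freeMod X n), Mono ιF → F.IsQuasicoherent →
      Subsingleton (Coh.HH X F 1) := by
  haveI : (Coh.structureModule X).IsQuasicoherent := isQuasicoherent_unit _
  intro n
  induction n with
  | zero =>
    intro F ιF _ _
    have hF : IsZero F := isZero_of_mono ιF isZero_freeMod_zero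
    exact Sheaf.subsingleton_H_of_isZero ((toAbF X).map_isZero hF) 1
  | succ n ih =>
    intro F ιF hmono hqc
    let g : F ⟶ Coh.structureModule X := ιF ≫ π (n+1) 0
    haveI : (cokernel g).IsQuasicoherent := Groth.Agent.Helper13.QCohLocal.isQuasicoherent_cokernel g
    haveI hqi : (Abelian.image g).IsQuasicoherent :=
      Groth.Agent.Helper13.QCohLocal.isQuasicoherent_kernel (cokernel.π g)
    have h3 : Subsingleton (Coh.HH X (Abelian.image g) 1) :=
      h (Abelian.image g) (Abelian.image.ι g) inferInstance hqi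
    let e := Abelian.factorThruImage g
    haveI hqk : (kernel e).IsQuasicoherent := Groth.Agent.Helper13.QCohLocal.isQuasicoherent_kernel e
    have hk : Mono (kernel.ι e ≫ ιF ≫ dropZero n) := by
      apply Preadditive.mono_of_cancel_zero
      intro T t ht
      have hw : (t ≫ kernel.ι e ≫ ιF) = 0 := by
        apply eq_zero_of_π_zero_of_dropZero
        · have : (t ≫ kernel.ι e ≫ ιF) ≫ π (n+1) 0 = t ≫ (kernel.ι e ≫ e) ≫ Abelian.image.ι g := by
            simp only [Category.assoc, e, Abelian.image.fac]
            rfl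
          rw [this, kernel.condition, zero_comp, comp_zero]
        · simpa only [Category.assoc] using ht
      rw [← Category.assoc] at hw
      have h5 : t ≫ kernel.ι e = 0 := by
        rw [← cancel_mono ιF, hw, zero_comp]
      rw [← cancel_mono (kernel.ι e), h5, zero_comp]
    have h1 : Subsingleton (Coh.HH X (kernel e) 1) := ih (kernel e) _ hk hqk
    exact H1_subsingleton_of_shortExact (kerSC e) (kerSC_shortExact e) h1 h3

end Groth.Agent.Helper13.SerreCrit
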