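import Mathlib
import Groth.Agent.Lib.Helper13.IdealAmple
import Groth.Agent.Lib.Helper13.SerreCrit4
import Groth.Agent.Lib.Helper18.BasisCrit

/-!
# Tensoring a short exact sequence of modules with an invertible module
-/

set_option autoImplicit false
set_option maxHeartbeats 400000
universe u
open CategoryTheory CategoryTheory.Limits AlgebraicGeometry Opposite TopologicalSpace TensorProduct
open Groth.Agent.Helper13.QCoh Groth.Agent.Helper13.FinType Groth.Agent.Helper13.Inv
open Groth.Agent.Helper13.Tensor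

namespace Groth.Agent.Helper13.TwistSES

variable {X : Scheme.{u}}

lemma tmul_zero_left (M N : X.Modules) {U : X.Opens} (n : Γ(N, U)) :
    tmul M N (0 : Γ(M, U)) n = 0 :=
  LinearMap.map_zero₂ (tmulBilin M N U) n

lemma tmul_zero_right (M N : X.Modules) {U : X.Opens} (m : Γ(M, U)) :
    tmul M N m (0 : Γ(N, U)) = 0 :=
  map_zero (tmulBilin M N U m)

lemma map_zero_left {M M' N N' : X.Modules} (g : N ⟶ N') :
    Tensor.map (0 : M ⟶ M') g = 0 := by
  apply Tensor.hom_ext
  intro U m n
  rw [map_app_tmul]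
  have h0 : (0 : M ⟶ M').app U m = 0 := rfl
  rw [h0, tmul_zero_left]
  rfl

lemma stalkMap_id {M : X.Modules} (x : X) (m : M.presheaf.stalk x) :
    stalkMap (𝟙 M) x m = m := by
  obtain ⟨U, hxU, m₀, rfl⟩ := TopCat.Presheaf.exists_germ_eq M.presheaf m
  rw [stalkMap_germ]
  rfl

lemma stalkLinearMap_id {M : X.Modules} (x : X) :
    stalkLinearMap (𝟙 M) x = LinearMap.id := by
  ext m
  exact stalkMap_id x m

/-- the stalk of `f ⊗ 𝟙` is `f_x ⊗ 𝟙`. -/
lemma stalkMap_map_id {M M' : X.Modules} (f : M ⟶ M') (N : X.Modules) (x : X)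
    (z : M.presheaf.stalk x ⊗[X.presheaf.stalk x] N.presheaf.stalk x) :
    stalkMap (Tensor.map f (𝟙 N)) x (stalkTensorEquiv M N x z) =
      stalkTensorEquiv M' N x ((stalkLinearMap f x).rTensor (N.presheaf.stalk x) z) := by
  rw [stalkMap_map, stalkLinearMap_id]
  rfl

/-- the stalks of an invertible module are flat. -/
theorem flat_stalk_of_isInvertible (N : X.Modules) (hN : PicF.IsInvertible N) (x : X) :
    Module.Flat (X.presheaf.stalk x) (N.presheaf.stalk x) := by
  obtain ⟨U, hxU, e, he⟩ := (isInvertible_iff_exists_isGen N).1 hN x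
  let ε : X.presheaf.stalk x ≃ₗ[X.presheaf.stalk x] N.presheaf.stalk x :=
    LinearEquiv.ofBijective
      (LinearMap.toSpanSingleton (X.presheaf.stalk x) (N.presheaf.stalk x)
        (N.presheaf.germ U x hxU e)) (he x hxU)
  exact Module.Flat.of_linearEquiv ε.symm

/-- the short complex `S ⊗ N`. -/
noncomputable def tensorSC (S : ShortComplex X.Modules) (N : X.Modules) :
    ShortComplex X.Modules :=
  ShortComplex.mk (Tensor.map S.f (𝟙 N)) (Tensor.map S.g (𝟙 N)) (by
    have := Tensor.map_comp S.f S.g (𝟙 N) (𝟙 N)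
    rw [Category.comp_id, S.zero, map_zero_left] at this
    exact this.symm)

/-- tensoring with an invertible module is exact. -/
theorem tensorSC_shortExact (S : ShortComplex X.Modules) (hS : S.ShortExact) (N : X.Modules)
    (hN : PicF.IsInvertible N) : (tensorSC S N).ShortExact := by
  haveI := hS.mono_f
  haveI := hS.epi_g
  have hinj : ∀ x : X, Function.Injective (stalkLinearMap S.f x) := fun x =>
    (mono_iff_stalk_injective S.f).1 inferInstance x
  have hsurj : ∀ x : X, Function.Surjective (stalkLinearMap S.g x) := fun x =>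
    Groth.Agent.Helper13.FinType.stalkMap_surjective_of_epi S.g x
  have hex : ∀ x : X, Function.Exact (stalkLinearMap S.f x) (stalkLinearMap S.g x) := by
    intro x m
    constructor
    · intro hm
      obtain ⟨m₁, hm₁⟩ := stalk_exact_of_exact_of_mono S hS.exact x m hm
      exact ⟨m₁, hm₁⟩
    · rintro ⟨m₁, rfl⟩
      change stalkMap S.g x (stalkMap S.f x m₁) = 0
      rw [← Groth.Agent.Helper18.BasisCrit.stalkMap_comp, S.zero]
      exact Groth.Agent.Helper18.BasisCrit.stalkMap_zero x m₁
  refine ShortComplex.ShortExact.mk' ?_ ?_ ?_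
  · -- exactness
    apply Groth.Agent.Helper18.BasisCrit.exact_of_stalk
    intro x m hm
    obtain ⟨z, rfl⟩ := (stalkTensorEquiv S.X₂ N x).surjective m
    change stalkMap (Tensor.map S.g (𝟙 N)) x _ = 0 at hm
    rw [stalkMap_map_id] at hm
    have hz : (stalkLinearMap S.g x).rTensor (N.presheaf.stalk x) z = 0 := by
      apply (stalkTensorEquiv S.X₃ N x).injective
      rw [hm, map_zero]
    obtain ⟨z₁, hz₁⟩ := (rTensor_exact (N.presheaf.stalk x) (hex x) (hsurj x) z).1 hz
    refine ⟨stalkTensorEquiv S.X₁ N x z₁, ?_⟩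
    change stalkMap (Tensor.map S.f (𝟙 N)) x _ = _
    rw [stalkMap_map_id, hz₁]
  · -- mono
    rw [mono_iff_stalk_injective]
    intro x a b hab
    haveI := flat_stalk_of_isInvertible N hN x
    obtain ⟨z, rfl⟩ := (stalkTensorEquiv S.X₁ N x).surjective a
    obtain ⟨z', rfl⟩ := (stalkTensorEquiv S.X₁ N x).surjective b
    change stalkMap (Tensor.map S.f (𝟙 N)) x _ = stalkMap (Tensor.map S.f (𝟙 N)) x _ at hab
    rw [stalkMap_map_id, stalkMap_map_id] at hab
    have := Module.Flat.rTensor_preserves_injective_linearMap (M := N.presheaf.stalk x)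
      (stalkLinearMap S.f x) (hinj x) ((stalkTensorEquiv S.X₂ N x).injective hab)
    rw [this]
  · -- epi
    apply Groth.Agent.Helper13.FinType.epi_of_stalkMap_surjective
    intro x m
    obtain ⟨z, rfl⟩ := (stalkTensorEquiv S.X₃ N x).surjective m
    obtain ⟨z₂, rfl⟩ := LinearMap.rTensor_surjective (N.presheaf.stalk x) (hsurj x) z
    refine ⟨stalkTensorEquiv S.X₂ N x z₂, ?_⟩
    change stalkMap (Tensor.map S.g (𝟙 N)) x _ = _
    rw [stalkMap_map_id]

end Groth.Agent.Helper13.TwistSES
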