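import Mathlib
import Groth.Prelude.Def_FlatMod2
import Groth.Agent.Lib.Helper13.InvDual
import Groth.Agent.Lib.Helper13.TwistSES
import Groth.Agent.Lib.Helper13.TensorRestrict
import Groth.Agent.Lib.Helper13.PbUnit
import Groth.Agent.Lib.Helper13.StalkBasis5
import Groth.Agent.Lib.Helper13.LocGen
import Groth.Agent.Lib.Helper13.LocFree4

/-!
# Twisting finite locally free modules by invertible modules; untwisting

* `epi_map_id`: `- ⊗ N` preserves epimorphisms;
* `isFinLocFree_tensor_invertible`: `E ⊗ N` is finite locally free for `E` finite locally free and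
  `N` invertible;
* `untwist`: `(F ⊗ L) ⊗ L^∨ ≅ F` for invertible `L`;
* `exists_epi_of_isGloballyGenerated_twist`: if `F ⊗ L` is generated by finitely many global
  sections, then `F` is a quotient of a finite locally free module.
-/

set_option autoImplicit false
set_option maxHeartbeats 400000
universe u
open CategoryTheory CategoryTheory.Limits AlgebraicGeometry Opposite TopologicalSpace TensorProduct
open Groth.Agent.Helper13.QCoh Groth.Agent.Helper13.FinType Groth.Agent.Helper13.Tensor
open Groth.Agent.Helper13.Inv Groth.Agent.Helper13.LocFree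

namespace Groth.Agent.Helper13.InvTwist

variable {X : Scheme.{u}}

/-- tensoring on the right preserves epimorphisms. -/
theorem epi_map_id {A B : X.Modules} (π : A ⟶ B) [Epi π] (N : X.Modules) :
    Epi (Tensor.map π (𝟙 N)) := by
  apply Groth.Agent.Helper13.FinType.epi_of_stalkMap_surjective
  intro x m
  have hsurj : Function.Surjective (stalkLinearMap π x) :=
    Groth.Agent.Helper13.FinType.stalkMap_surjective_of_epi π x
  obtain ⟨z, rfl⟩ := (stalkTensorEquiv B N x).surjective m
  obtain ⟨z₂, rfl⟩ := LinearMap.rTensor_surjective (N.presheaf.stalk x) hsurj z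
  refine ⟨stalkTensorEquiv A N x z₂, ?_⟩
  rw [Groth.Agent.Helper13.TwistSES.stalkMap_map_id]

section Restrict

/-- the pullback of a free module is free -/
noncomputable def pullbackFreeModIso {Y : Scheme.{u}} (f : X ⟶ Y) (n : ℕ) :
    (Scheme.Modules.pullback f).obj (FlatMod.freeMod Y n) ≅ FlatMod.freeMod X n :=
  PreservesCoproduct.iso (Scheme.Modules.pullback f) (fun _ : Fin n => Coh.structureModule Y) ≪≫
    Sigma.mapIso (fun _ => Groth.Agent.Helper13.PbUnit.pullbackUnitIso f)

/-- the restriction of a free module is free -/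
noncomputable def restrictFreeModIso {U : Scheme.{u}} (j : U ⟶ X) [IsOpenImmersion j] (n : ℕ) :
    (Scheme.Modules.restrictFunctor j).obj (FlatMod.freeMod X n) ≅ FlatMod.freeMod U n :=
  (Scheme.Modules.restrictFunctorIsoPullback j).app _ ≪≫ pullbackFreeModIso j n

/-- restriction in two steps -/
noncomputable def restrictLEIso {W W' : X.Opens} (h : W ≤ W') :
    Scheme.Modules.restrictFunctor W.ι ≅
      Scheme.Modules.restrictFunctor W'.ι ⋙ Scheme.Modules.restrictFunctor (X.homOfLE h) :=
  Scheme.Modules.restrictFunctorCongr (X.homOfLE_ι h).symm ≪≫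
    Scheme.Modules.restrictFunctorComp (X.homOfLE h) W'.ι

/-- being free on an open passes to smaller opens -/
lemma free_of_le (M : X.Modules) {W W' : X.Opens} (h : W ≤ W') (n : ℕ)
    (e : M.restrict W'.ι ≅ FlatMod.freeMod (W' : Scheme.{u}) n) :
    Nonempty (M.restrict W.ι ≅ FlatMod.freeMod (W : Scheme.{u}) n) :=
  ⟨(restrictLEIso h).app M ≪≫ (Scheme.Modules.restrictFunctor (X.homOfLE h)).mapIso e ≪≫
    restrictFreeModIso (X.homOfLE h) n⟩

/-- being trivial on an open passes to smaller opens -/
lemma unit_of_le (M : X.Modules) {W W' : X.Opens} (h : W ≤ W')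
    (e : M.restrict W'.ι ≅ Coh.structureModule (W' : Scheme.{u})) :
    Nonempty (M.restrict W.ι ≅ Coh.structureModule (W : Scheme.{u})) :=
  ⟨(restrictLEIso h).app M ≪≫ (Scheme.Modules.restrictFunctor (X.homOfLE h)).mapIso e ≪≫
    Scheme.Modules.restrictUnitIso (X.homOfLE h)⟩

end Restrict

/-- the tensor product of a finite locally free module with an invertible module is finite locally
free. -/
theorem isFinLocFree_tensor_invertible (E N : X.Modules) (hE : FlatMod.IsFinLocFree E)
    (hN : PicF.IsInvertible N) : FlatMod.IsFinLocFree (CohB1.tensorMod E N) := by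
  intro x
  obtain ⟨U₁, n, hx₁, ⟨e₁⟩⟩ := hE x
  obtain ⟨U₂, hx₂, ⟨e₂⟩⟩ := hN x
  obtain ⟨e₁'⟩ := free_of_le E (inf_le_left : U₁ ⊓ U₂ ≤ U₁) n e₁
  obtain ⟨e₂'⟩ := unit_of_le N (inf_le_right : U₁ ⊓ U₂ ≤ U₂) e₂
  refine ⟨U₁ ⊓ U₂, n, ⟨hx₁, hx₂⟩, ⟨?_⟩⟩
  exact Tensor.restrictIso (U₁ ⊓ U₂).ι E N ≪≫ Tensor.mapIso e₁' e₂' ≪≫ Tensor.rid _

/-- untwisting: `(F ⊗ L) ⊗ L^∨ ≅ F`. -/
noncomputable def untwist (F L : X.Modules) (hL : PicF.IsInvertible L) :
    CohB1.tensorMod (CohB1.tensorMod F L) (InvDual.dual L) ≅ F :=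
  Tensor.assoc F L (InvDual.dual L) ≪≫ Tensor.mapIso (Iso.refl F) (InvDual.evIso L hL) ≪≫
    Tensor.rid F

/-- sections generating all stalks define an epimorphism from a free module. -/
theorem epi_descSec_of_genOn (G : X.Modules) {m : ℕ} (s : Fin m → Γ(G, ⊤))
    (hs : Groth.Agent.Helper13.FinType.GenOn G ⊤ s) : Epi (descSec G s) := by
  rw [Groth.Agent.Helper13.StalkBasis.epi_descSec_iff]
  intro y v
  have hv : v ∈ Submodule.span (X.presheaf.stalk y)
      (Set.range fun i => G.presheaf.germ ⊤ y trivial (s i)) := by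
    rw [hs y trivial]; trivial
  obtain ⟨c, hc⟩ := (Submodule.mem_span_range_iff_exists_fun _).1 hv
  exact ⟨c, hc⟩

/-- if a twist of `F` by an invertible module is generated by finitely many global sections, then
`F` is a quotient of a finite locally free module. -/
theorem exists_epi_of_genOn_twist (F L : X.Modules) (hL : PicF.IsInvertible L) {m : ℕ}
    (s : Fin m → Γ(CohB1.tensorMod F L, ⊤))
    (hs : Groth.Agent.Helper13.FinType.GenOn (CohB1.tensorMod F L) ⊤ s) :
    ∃ (E : X.Modules) (π : E ⟶ F), FlatMod.IsFinLocFree E ∧ Epi π := by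
  haveI := epi_descSec_of_genOn _ s hs
  haveI := epi_map_id (descSec (CohB1.tensorMod F L) s) (InvDual.dual L)
  exact ⟨CohB1.tensorMod (FlatMod.freeMod X m) (InvDual.dual L),
    Tensor.map (descSec (CohB1.tensorMod F L) s) (𝟙 (InvDual.dual L)) ≫ (untwist F L hL).hom,
    isFinLocFree_tensor_invertible _ _ (isFinLocFree_freeMod m) (InvDual.isInvertible_dual L hL),
    epi_comp _ _⟩

end Groth.Agent.Helper13.InvTwist
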