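import Mathlib
import Groth.Prelude.Def_PerfAux
import Groth.Agent.Lib.Helper13.InvTwist
import Groth.Agent.Lib.Helper13.GlobGen
import Groth.Agent.Lib.Helper13.FinGlobGen
import Groth.Agent.Lib.Helper13.AmpleBasis
import Groth.Agent.Lib.Helper13.TensorQCoh
import Groth.Agent.Lib.Helper13.InvQCoh

/-!
# A scheme with an ample invertible module has the resolution property
-/

set_option autoImplicit false
set_option maxHeartbeats 400000
universe u
open CategoryTheory CategoryTheory.Limits AlgebraicGeometry Opposite TopologicalSpace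
open Groth.Agent.Helper13.QCoh Groth.Agent.Helper13.FinType Groth.Agent.Helper13.Tensor
open Groth.Agent.Helper13.Inv Groth.Agent.Helper13.GlobGen

namespace Groth.Agent.Helper13.ResAmple

variable {X : Scheme.{u}}

theorem hasResolutionProperty_of_isAmple (L : X.Modules) (hL : CohB1.IsAmple L) :
    PerfAux.HasResolutionProperty X := by
  intro F hFq hFf
  haveI : F.IsQuasicoherent := hFq
  haveI : SheafOfModules.IsFiniteType (R := X.ringCatSheaf) F := hFf
  haveI : CompactSpace X := hL.2.1
  obtain ⟨n, hn⟩ := exists_isGloballyGenerated_twist L hL F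
  have hLn : PicF.IsInvertible (CohB1.tensorPow L n) := isInvertible_tensorPow L hL.1 n
  haveI : (CohB1.tensorPow L n).IsQuasicoherent := isQuasicoherent_of_isInvertible _ hLn
  haveI : SheafOfModules.IsFiniteType (R := X.ringCatSheaf) (CohB1.tensorPow L n) :=
    isFiniteType_of_isInvertible _ hLn
  haveI : SheafOfModules.IsFiniteType (R := X.ringCatSheaf)
      (CohB1.tensorMod F (CohB1.tensorPow L n)) := isFiniteType_tensorMod _ _
  have hgg := (isGloballyGenerated_iff _).1 (hn n le_rfl)
  obtain ⟨r, t, ht⟩ := Groth.Agent.Helper13.FinGlobGen.exists_fin_genOn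
    (CohB1.tensorMod F (CohB1.tensorPow L n)) hgg
  exact Groth.Agent.Helper13.InvTwist.exists_epi_of_genOn_twist F (CohB1.tensorPow L n) hLn t ht

end Groth.Agent.Helper13.ResAmple
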