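import Mathlib
import Groth.Agent.Lib.Helper13.TwistSES

/-!
# The functor `- ⊗ N` on modules over a scheme; exactness when the stalks of `N` are flat
-/

set_option autoImplicit false
set_option maxHeartbeats 400000
universe u
open CategoryTheory CategoryTheory.Limits AlgebraicGeometry Opposite TopologicalSpace TensorProduct
open Groth.Agent.Helper13.QCoh Groth.Agent.Helper13.FinType Groth.Agent.Helper13.Inv
open Groth.Agent.Helper13.Tensor Groth.Agent.Helper13.TwistSES

namespace Groth.Agent.Helper13.TensorFunctor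

variable {X : Scheme.{u}}

/-- the functor `A ↦ A ⊗ N`. -/
noncomputable def tensorRight (N : X.Modules) : X.Modules ⥤ X.Modules where
  obj A := CohB1.tensorMod A N
  map φ := Tensor.map φ (𝟙 N)
  map_id A := Tensor.map_id
  map_comp φ ψ := by
    have := Tensor.map_comp φ ψ (𝟙 N) (𝟙 N)
    rw [Category.comp_id] at this
    exact this

@[simp] lemma tensorRight_obj (N A : X.Modules) : (tensorRight N).obj A = CohB1.tensorMod A N := rfl

@[simp] lemma tensorRight_map (N : X.Modules) {A B : X.Modules} (φ : A ⟶ B) :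
    (tensorRight N).map φ = Tensor.map φ (𝟙 N) := rfl

instance (N : X.Modules) : (tensorRight N).Additive where
  map_add {A B φ ψ} := by
    show Tensor.map (φ + ψ) (𝟙 N) = Tensor.map φ (𝟙 N) + Tensor.map ψ (𝟙 N)
    apply Tensor.hom_ext
    intro U m n
    rw [map_app_tmul, Scheme.Modules.Hom.add_app, Scheme.Modules.Hom.add_app]
    change tmul B N (φ.app U m + ψ.app U m) _ = (Tensor.map φ (𝟙 N)).app U (tmul A N m n) +
      (Tensor.map ψ (𝟙 N)).app U (tmul A N m n)
    rw [tmul_add_left, map_app_tmul, map_app_tmul]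

/-- tensoring with a module with flat stalks is exact. -/
theorem tensorSC_shortExact_of_flat (S : ShortComplex X.Modules) (hS : S.ShortExact) (N : X.Modules)
    (hN : ∀ x : X, Module.Flat (X.presheaf.stalk x) (N.presheaf.stalk x)) :
    (tensorSC S N).ShortExact := by
  haveI := hS.mono_f
  haveI := hS.epi_g
  have hinj : ∀ x : X, Function.Injective (stalkLinearMap S.f x) := fun x =>
    (mono_iff_stalk_injective S.f).1 inferInstance x
  have hsurj : ∀ x : X, Function.Surjective (stalkLinearMap S.g x) := fun x =>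
    Groth.Agent.Helper13.FinType.stalkMap_surjective_of_epi S.g x
  have hex : ∀ x : X, Function.Exact (stalkLinearMap S.f x) (stalkLinearMap S.g x) := by
    intro x m
    constructor
    · intro hm
      obtain ⟨m₁, hm₁⟩ := stalk_exact_of_exact_of_mono S hS.exact x m hm
      exact ⟨m₁, hm₁⟩
    · rintro ⟨m₁, rfl⟩
      change stalkMap S.g x (stalkMap S.f x m₁) = 0
      rw [← Groth.Agent.Helper18.BasisCrit.stalkMap_comp, S.zero]
      exact Groth.Agent.Helper18.BasisCrit.stalkMap_zero x m₁
  refine ShortComplex.ShortExact.mk' ?_ ?_ ?_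
  · -- exactness
    apply Groth.Agent.Helper18.BasisCrit.exact_of_stalk
    intro x m hm
    obtain ⟨z, rfl⟩ := (stalkTensorEquiv S.X₂ N x).surjective m
    change stalkMap (Tensor.map S.g (𝟙 N)) x _ = 0 at hm
    rw [stalkMap_map_id] at hm
    have hz : (stalkLinearMap S.g x).rTensor (N.presheaf.stalk x) z = 0 := by
      apply (stalkTensorEquiv S.X₃ N x).injective
      rw [hm, map_zero]
    obtain ⟨z₁, hz₁⟩ := (rTensor_exact (N.presheaf.stalk x) (hex x) (hsurj x) z).1 hz
    refine ⟨stalkTensorEquiv S.X₁ N x z₁, ?_⟩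
    change stalkMap (Tensor.map S.f (𝟙 N)) x _ = _
    rw [stalkMap_map_id, hz₁]
  · -- mono
    rw [mono_iff_stalk_injective]
    intro x a b hab
    haveI := hN x
    obtain ⟨z, rfl⟩ := (stalkTensorEquiv S.X₁ N x).surjective a
    obtain ⟨z', rfl⟩ := (stalkTensorEquiv S.X₁ N x).surjective b
    change stalkMap (Tensor.map S.f (𝟙 N)) x _ = stalkMap (Tensor.map S.f (𝟙 N)) x _ at hab
    rw [stalkMap_map_id, stalkMap_map_id] at hab
    have := Module.Flat.rTensor_preserves_injective_linearMap (M := N.presheaf.stalk x)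
      (stalkLinearMap S.f x) (hinj x) ((stalkTensorEquiv S.X₂ N x).injective hab)
    rw [this]
  · -- epi
    apply Groth.Agent.Helper13.FinType.epi_of_stalkMap_surjective
    intro x m
    obtain ⟨z, rfl⟩ := (stalkTensorEquiv S.X₃ N x).surjective m
    obtain ⟨z₂, rfl⟩ := LinearMap.rTensor_surjective (N.presheaf.stalk x) (hsurj x) z
    refine ⟨stalkTensorEquiv S.X₂ N x z₂, ?_⟩
    change stalkMap (Tensor.map S.g (𝟙 N)) x _ = _
    rw [stalkMap_map_id]

theorem exact_tensorRight (N : X.Modules)
    (hN : ∀ x : X, Module.Flat (X.presheaf.stalk x) (N.presheaf.stalk x)) :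
    PreservesFiniteLimits (tensorRight N) ∧ PreservesFiniteColimits (tensorRight N) := by
  refine ((tensorRight N).exact_tfae.out 0 3).1 ?_
  intro S hS
  exact tensorSC_shortExact_of_flat S hS N hN

/-- `- ⊗ N` preserves monomorphisms when the stalks of `N` are flat. -/
theorem mono_map_of_flat (N : X.Modules)
    (hN : ∀ x : X, Module.Flat (X.presheaf.stalk x) (N.presheaf.stalk x))
    {A B : X.Modules} (i : A ⟶ B) [Mono i] : Mono (Tensor.map i (𝟙 N)) := by
  haveI := (exact_tensorRight N hN).1
  exact inferInstanceAs (Mono ((tensorRight N).map i))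

end Groth.Agent.Helper13.TensorFunctor
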