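import Mathlib
import Groth.Prelude.Def_CohTop

set_option autoImplicit false
set_option linter.unusedSectionVars false
universe u
open CategoryTheory CategoryTheory.Limits TopologicalSpace Opposite

namespace Groth.Agent.Helper13.ProfiniteAcyc

variable {X : TopCat.{u}}

/-- restriction of sections of an abelian sheaf -/
noncomputable def res (F : CohTop.Ab X) {U V : Opens X} (h : V ≤ U) :
    F.obj.obj (op U) →+ F.obj.obj (op V) :=
  (F.obj.map (homOfLE h).op).hom

lemma res_res (F : CohTop.Ab X) {U V W : Opens X} (h : V ≤ U) (h' : W ≤ V) (t : F.obj.obj (op U)) :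
    res F h' (res F h t) = res F (h'.trans h) t := by
  have : F.obj.map (homOfLE h).op ≫ F.obj.map (homOfLE h').op = F.obj.map (homOfLE (h'.trans h)).op := by
    rw [← F.obj.map_comp]; rfl
  exact congr($this t)

lemma res_nat {F G : CohTop.Ab X} (f : F ⟶ G) {U V : Opens X} (h : V ≤ U) (t : F.obj.obj (op U)) :
    f.hom.app (op V) (res F h t) = res G h (f.hom.app (op U) t) := by
  have := f.hom.naturality (homOfLE h).op
  exact congr($this t)

lemma eq_of_res_eq₂ (F : CohTop.Ab X) {S V W : Opens X} (hS : S ≤ W) (hV : V ≤ W) (hcov : W ≤ S ⊔ V)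
    (a b : F.obj.obj (op W)) (h₁ : res F hS a = res F hS b) (h₂ : res F hV a = res F hV b) : a = b :=
  TopCat.Sheaf.eq_of_locally_eq₂ F (homOfLE hS) (homOfLE hV) hcov a b h₁ h₂

lemma subsingleton_of_le_bot (F : CohTop.Ab X) {W : Opens X} (hW : W ≤ ⊥) :
    Subsingleton (F.obj.obj (op W)) := by
  refine ⟨fun a b => ?_⟩
  refine TopCat.Sheaf.eq_of_locally_eq' F (fun i : PEmpty.{1} => i.elim) W
    (fun i => i.elim) ?_ a b (fun i => i.elim)
  exact hW.trans bot_le

/-- gluing two sections over disjoint opens -/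
lemma exists_glue_disjoint (F : CohTop.Ab X) {S V W : Opens X} (hS : S ≤ W) (hV : V ≤ W)
    (hcov : W ≤ S ⊔ V) (hdisj : S ⊓ V ≤ ⊥) (a : F.obj.obj (op S)) (b : F.obj.obj (op V)) :
    ∃ t : F.obj.obj (op W), res F hS t = a ∧ res F hV t = b := by
  let Uf : Bool → Opens X := fun i => if i then S else V
  let sf : ∀ i : Bool, F.obj.obj (op (Uf i)) := fun i => by
    cases i
    · exact b
    · exact a
  have hcompat : TopCat.Presheaf.IsCompatible F.obj Uf sf := by
    intro i j
    cases i <;> cases j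
    · rfl
    · haveI : Subsingleton (F.obj.obj (op (Uf false ⊓ Uf true))) :=
        subsingleton_of_le_bot F (W := V ⊓ S) (by rw [inf_comm]; exact hdisj)
      exact Subsingleton.elim _ _
    · haveI : Subsingleton (F.obj.obj (op (Uf true ⊓ Uf false))) :=
        subsingleton_of_le_bot F (W := S ⊓ V) hdisj
      exact Subsingleton.elim _ _
    · rfl
  have hle : ∀ i : Bool, Uf i ≤ W := by
    intro i
    cases i
    · exact hV
    · exact hS
  have hcov' : W ≤ iSup Uf := by
    refine hcov.trans ?_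
    rw [sup_le_iff]
    exact ⟨le_iSup Uf true, le_iSup Uf false⟩
  obtain ⟨t, ht, -⟩ := TopCat.Sheaf.existsUnique_gluing' F Uf W
    (fun i => homOfLE (hle i)) hcov' sf hcompat
  exact ⟨t, ht true, ht false⟩

lemma res_self (F : CohTop.Ab X) {U : Opens X} (t : F.obj.obj (op U)) : res F (le_refl U) t = t := by
  have : F.obj.map (homOfLE (le_refl U)).op = 𝟙 _ := F.obj.map_id _
  exact congr($this t)

variable [CompactSpace X] [T2Space X] [TotallyDisconnectedSpace X]

/-- the section `t` lifts along `f` over the open `C` -/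
def LiftOn {F G : CohTop.Ab X} (f : F ⟶ G) (t : G.obj.obj (op ⊤)) (C : Opens X) : Prop :=
  ∃ s : F.obj.obj (op C), f.hom.app (op C) s = res G le_top t

lemma liftOn_bot {F G : CohTop.Ab X} (f : F ⟶ G) (t : G.obj.obj (op ⊤)) : LiftOn f t ⊥ := by
  haveI := subsingleton_of_le_bot G (W := ⊥) le_rfl
  exact ⟨0, Subsingleton.elim _ _⟩

lemma liftOn_mono {F G : CohTop.Ab X} (f : F ⟶ G) (t : G.obj.obj (op ⊤)) {C D : Opens X} (h : D ≤ C)
    (hC : LiftOn f t C) : LiftOn f t D := by
  obtain ⟨s, hs⟩ := hC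
  refine ⟨res F h s, ?_⟩
  rw [res_nat, hs, res_res]

lemma liftOn_sup {F G : CohTop.Ab X} (f : F ⟶ G) (t : G.obj.obj (op ⊤)) {A B : Opens X}
    (hAc : IsClosed (A : Set X)) (hA : LiftOn f t A) (hB : LiftOn f t B) : LiftOn f t (A ⊔ B) := by
  obtain ⟨sA, hsA⟩ := hA
  obtain ⟨sB, hsB⟩ := hB
  let V : Opens X := ⟨(B : Set X) ∩ (A : Set X)ᶜ, B.isOpen.inter hAc.isOpen_compl⟩
  have hVB : V ≤ B := fun x hx => hx.1
  have hS : A ≤ A ⊔ B := le_sup_left
  have hV : V ≤ A ⊔ B := hVB.trans le_sup_right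
  have hcov : A ⊔ B ≤ A ⊔ V := by
    intro x hx
    rcases hx with hx | hx
    · exact Or.inl hx
    · by_cases hxA : x ∈ A
      · exact Or.inl hxA
      · exact Or.inr ⟨hx, hxA⟩
  have hdisj : A ⊓ V ≤ ⊥ := fun x hx => hx.2.2 hx.1
  obtain ⟨s, h1, h2⟩ := exists_glue_disjoint F hS hV hcov hdisj sA (res F hVB sB)
  refine ⟨s, ?_⟩
  apply eq_of_res_eq₂ G hS hV hcov
  · rw [← res_nat, h1, hsA, res_res]
  · rw [← res_nat, h2, res_nat, hsB, res_res, res_res]

/-- on a profinite space, epimorphisms of abelian sheaves are surjective on global sections -/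
theorem app_top_surjective_of_epi {F G : CohTop.Ab X} (f : F ⟶ G) [Epi f] :
    Function.Surjective (f.hom.app (op ⊤)) := by
  intro t
  have hls : TopCat.Presheaf.IsLocallySurjective f.hom :=
    (TopCat.Sheaf.isLocallySurjective_iff_epi f).2 ‹Epi f›
  rw [TopCat.Presheaf.isLocallySurjective_iff] at hls
  have key : ∃ C : Opens X, IsClosed (C : Set X) ∧ (Set.univ : Set X) ⊆ (C : Set X) ∧ LiftOn f t C := by
    refine isCompact_univ.induction_on
      (p := fun S => ∃ C : Opens X, IsClosed (C : Set X) ∧ S ⊆ (C : Set X) ∧ LiftOn f t C) ?_ ?_ ?_ ?_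
    · exact ⟨⊥, isClosed_empty, Set.empty_subset _, liftOn_bot f t⟩
    · rintro S T hST ⟨C, hC, hTC, hl⟩
      exact ⟨C, hC, hST.trans hTC, hl⟩
    · rintro S T ⟨C, hC, hSC, hl⟩ ⟨D, hD, hTD, hl'⟩
      refine ⟨C ⊔ D, hC.union hD, ?_, liftOn_sup f t hC hl hl'⟩
      exact Set.union_subset_union hSC hTD
    · intro x _
      obtain ⟨V, hV, ⟨s, hs⟩, hxV⟩ := hls ⊤ t x trivial
      obtain ⟨C, hC, hxC, hCV⟩ := compact_exists_isClopen_in_isOpen V.isOpen hxV
      refine ⟨C, mem_nhdsWithin_of_mem_nhds (hC.isOpen.mem_nhds hxC), ⟨C, hC.isOpen⟩, hC.isClosed,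
        le_rfl, ?_⟩
      exact liftOn_mono f t (C := V) hCV ⟨s, hs⟩
  obtain ⟨C, -, hC, s, hs⟩ := key
  have hCtop : C = ⊤ := top_unique (fun x _ => hC (Set.mem_univ x))
  subst hCtop
  exact ⟨s, by rw [hs, res_self]⟩

open Abelian

/-- the canonical short exact sequence embedding `F` into an injective -/
noncomputable def injSC (F : CohTop.Ab X) : ShortComplex (CohTop.Ab X) :=
  ShortComplex.mk (Injective.ι F) (cokernel.π (Injective.ι F)) (cokernel.condition _)

lemma injSC_shortExact (F : CohTop.Ab X) : (injSC F).ShortExact :=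
  ShortComplex.ShortExact.mk' (ShortComplex.exact_of_g_is_cokernel _ (cokernelIsCokernel _))
    (inferInstanceAs (Mono (Injective.ι F))) (inferInstanceAs (Epi (cokernel.π (Injective.ι F))))

theorem main : ∀ (p : ℕ) (F : CohTop.Ab X), Subsingleton (CohTop.H F (p + 1)) := by
  intro p
  induction p with
  | zero =>
    intro F
    refine subsingleton_of_forall_eq 0 fun x => ?_
    have hS := injSC_shortExact F
    haveI : Injective (injSC F).X₂ := inferInstanceAs (Injective (Injective.under F))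
    obtain ⟨x₃, hx₃⟩ := Ext.covariant_sequence_exact₁ _ hS (n₁ := 1) x
      (Ext.eq_zero_of_injective _) (n₀ := 0) rfl
    -- lift x₃ to the middle term using surjectivity on global sections
    let T : Opens X := ⊤
    have hT : IsTerminal T := isTerminalTop
    haveI : Epi (injSC F).g := hS.epi_g
    obtain ⟨s, hs⟩ := app_top_surjective_of_epi (injSC F).g (Sheaf.H.equiv₀ (injSC F).X₃ hT x₃)
    have h2 : Sheaf.H.map (injSC F).g 0 ((Sheaf.H.equiv₀ (injSC F).X₂ hT).symm s) = x₃ := by
      rw [Sheaf.H.equiv₀_symm_naturality, hs, AddEquiv.symm_apply_apply]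
    have h3 : ((Sheaf.H.equiv₀ (injSC F).X₂ hT).symm s).comp (Ext.mk₀ (injSC F).g) (add_zero 0) = x₃ :=
      h2
    rw [← hx₃, ← h3, Ext.comp_assoc_of_second_deg_zero, hS.comp_extClass, Ext.comp_zero]
    rfl
  | succ p ih =>
    intro F
    refine subsingleton_of_forall_eq 0 fun x => ?_
    have hS := injSC_shortExact F
    haveI : Injective (injSC F).X₂ := inferInstanceAs (Injective (Injective.under F))
    obtain ⟨x₃, hx₃⟩ := Ext.covariant_sequence_exact₁ _ hS (n₁ := p + 1 + 1) x
      (Ext.eq_zero_of_injective _) (n₀ := p + 1) rfl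
    have h0 : x₃ = 0 := Subsingleton.elim (α := CohTop.H (injSC F).X₃ (p + 1)) x₃ 0
    rw [← hx₃, h0, Ext.zero_comp]
    rfl

end Groth.Agent.Helper13.ProfiniteAcyc
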