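import Mathlib
import Groth.Prelude.Def_CohTop
import Groth.Agent.Lib.Helper13.ProfiniteAcyc
import Groth.Agent.Lib.Helper13.DeltaFColim

/-!
Sections over quasi-compact opens commute with filtered colimits of abelian sheaves (helper13).
-/

set_option autoImplicit false
set_option linter.unusedSectionVars false
universe u
open CategoryTheory CategoryTheory.Limits TopologicalSpace Opposite

namespace Groth.Agent.Helper13.ColimSec

open Groth.Agent.Helper13.ProfiniteAcyc

variable {X : TopCat.{u}}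

/-- gluing two sections agreeing on the intersection -/
lemma exists_glue₂ (F : CohTop.Ab X) {S V W : Opens X} (hS : S ≤ W) (hV : V ≤ W)
    (hcov : W ≤ S ⊔ V) (a : F.obj.obj (op S)) (b : F.obj.obj (op V))
    (hab : res F (inf_le_left : S ⊓ V ≤ S) a = res F (inf_le_right : S ⊓ V ≤ V) b) :
    ∃ t : F.obj.obj (op W), res F hS t = a ∧ res F hV t = b := by
  let Uf : Bool → Opens X := fun i => if i then S else V
  let sf : ∀ i : Bool, F.obj.obj (op (Uf i)) := fun i => by
    cases i
    · exact b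
    · exact a
  have hcompat : TopCat.Presheaf.IsCompatible F.obj Uf sf := by
    intro i j
    cases i <;> cases j
    · rfl
    · show res F (inf_le_left : V ⊓ S ≤ V) b = res F (inf_le_right : V ⊓ S ≤ S) a
      have h1 : V ⊓ S ≤ S ⊓ V := by rw [inf_comm]
      rw [← res_res F (inf_le_right : S ⊓ V ≤ V) h1 b, ← res_res F (inf_le_left : S ⊓ V ≤ S) h1 a, hab]
    · exact hab
    · rfl
  have hle : ∀ i : Bool, Uf i ≤ W := by
    intro i
    cases i
    · exact hV
    · exact hS
  have hcov' : W ≤ iSup Uf := by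
    refine hcov.trans ?_
    rw [sup_le_iff]
    exact ⟨le_iSup Uf true, le_iSup Uf false⟩
  obtain ⟨t, ht, -⟩ := TopCat.Sheaf.existsUnique_gluing' F Uf W
    (fun i => homOfLE (hle i)) hcov' sf hcompat
  exact ⟨t, ht true, ht false⟩

variable {J : Type u} [SmallCategory J] [IsFiltered J] (D : J ⥤ CohTop.Ab X)
  (E : Cocone (D ⋙ sheafToPresheaf (Opens.grothendieckTopology X) AddCommGrpCat.{u}))

/-- legs of the presheaf cocone on sections -/
noncomputable def leg (j : J) (V : Opens X) : (D.obj j).obj.obj (op V) →+ E.pt.obj (op V) :=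
  ((E.ι.app j).app (op V)).hom

/-- transition maps on sections -/
noncomputable def tr {j j' : J} (f : j ⟶ j') (V : Opens X) :
    (D.obj j).obj.obj (op V) →+ (D.obj j').obj.obj (op V) :=
  ((D.map f).hom.app (op V)).hom

/-- restriction in the presheaf colimit -/
noncomputable def resP {V W : Opens X} (h : W ≤ V) : E.pt.obj (op V) →+ E.pt.obj (op W) :=
  (E.pt.map (homOfLE h).op).hom

lemma leg_tr {j j' : J} (f : j ⟶ j') (V : Opens X) (s : (D.obj j).obj.obj (op V)) :
    leg D E j' V (tr D f V s) = leg D E j V s := by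
  have := E.w f
  exact congr(($this).app (op V) s)

lemma tr_res {j j' : J} (f : j ⟶ j') {V W : Opens X} (h : W ≤ V) (s : (D.obj j).obj.obj (op V)) :
    tr D f W (res (D.obj j) h s) = res (D.obj j') h (tr D f V s) :=
  res_nat (D.map f) h s

lemma tr_comp {j j' j'' : J} (f : j ⟶ j') (g : j' ⟶ j'') (V : Opens X) (s : (D.obj j).obj.obj (op V)) :
    tr D (f ≫ g) V s = tr D g V (tr D f V s) := by
  have : D.map (f ≫ g) = D.map f ≫ D.map g := D.map_comp f g
  exact congr(($this).hom.app (op V) s)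

lemma leg_res (j : J) {V W : Opens X} (h : W ≤ V) (s : (D.obj j).obj.obj (op V)) :
    leg D E j W (res (D.obj j) h s) = resP D E h (leg D E j V s) := by
  have := (E.ι.app j).naturality (homOfLE h).op
  exact congr($this s)

lemma resP_resP {U V W : Opens X} (h : V ≤ U) (h' : W ≤ V) (t : E.pt.obj (op U)) :
    resP D E h' (resP D E h t) = resP D E (h'.trans h) t := by
  have : E.pt.map (homOfLE h).op ≫ E.pt.map (homOfLE h').op = E.pt.map (homOfLE (h'.trans h)).op := by
    rw [← E.pt.map_comp]; rfl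
  exact congr($this t)

variable {E} (hE : IsColimit E)

include hE in
lemma exists_rep (V : Opens X) (p : E.pt.obj (op V)) :
    ∃ (j : J) (s : (D.obj j).obj.obj (op V)), leg D E j V s = p :=
  DeltaFColim.exists_rep ((D ⋙ sheafToPresheaf _ _) ⋙ (evaluation _ _).obj (op V))
    (isColimitOfPreserves ((evaluation _ _).obj (op V)) hE) p

include hE in
lemma eq_zero_of_leg {j : J} (V : Opens X) (s : (D.obj j).obj.obj (op V)) (h : leg D E j V s = 0) :
    ∃ (j' : J) (f : j ⟶ j'), tr D f V s = 0 :=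
  DeltaFColim.eq_zero_of_rep ((D ⋙ sheafToPresheaf _ _) ⋙ (evaluation _ _).obj (op V))
    (isColimitOfPreserves ((evaluation _ _).obj (op V)) hE) s h


include hE in
/-- a section over a compact open which vanishes locally in the colimit vanishes at a later stage -/
lemma exists_tr_eq_zero_of_locally {j : J} (U : Opens X) (hU : IsCompact (U : Set X))
    (s : (D.obj j).obj.obj (op U))
    (h : ∀ x ∈ U, ∃ (V : Opens X) (hV : V ≤ U), x ∈ V ∧ leg D E j V (res (D.obj j) hV s) = 0) :
    ∃ (j' : J) (f : j ⟶ j'), tr D f U s = 0 := by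
  let p : Set X → Prop := fun S => ∃ (W : Opens X) (hW : W ≤ U), S ⊆ (W : Set X) ∧
    ∃ (j' : J) (f : j ⟶ j'), res (D.obj j') hW (tr D f U s) = 0
  have key : p (U : Set X) := by
    refine hU.induction_on (p := p) ?_ ?_ ?_ ?_
    · refine ⟨⊥, bot_le, Set.empty_subset _, j, 𝟙 j, ?_⟩
      haveI := subsingleton_of_le_bot (D.obj j) (W := ⊥) le_rfl
      exact Subsingleton.elim _ _
    · rintro S T hST ⟨W, hW, hTW, j', f, hf⟩
      exact ⟨W, hW, hST.trans hTW, j', f, hf⟩
    · rintro S T ⟨W₁, hW₁, hS, j₁, f₁, h₁⟩ ⟨W₂, hW₂, hT, j₂, f₂, h₂⟩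
      obtain ⟨k, g₁, g₂, hg⟩ := IsFiltered.span f₁ f₂
      refine ⟨W₁ ⊔ W₂, sup_le hW₁ hW₂, Set.union_subset_union hS hT, k, f₁ ≫ g₁, ?_⟩
      apply eq_of_res_eq₂ (D.obj k) (le_sup_left : W₁ ≤ W₁ ⊔ W₂) (le_sup_right : W₂ ≤ W₁ ⊔ W₂) le_rfl
      · rw [res_res, map_zero, tr_comp, ← tr_res, h₁, map_zero]
      · rw [res_res, map_zero, hg, tr_comp, ← tr_res, h₂, map_zero]
    · intro x hx
      obtain ⟨V, hV, hxV, hs⟩ := h x hx
      obtain ⟨j', f, hf⟩ := eq_zero_of_leg D hE V _ hs
      refine ⟨(V : Set X), mem_nhdsWithin_of_mem_nhds (V.isOpen.mem_nhds hxV), V, hV, subset_rfl, j', f, ?_⟩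
      rw [← tr_res, hf]
  obtain ⟨W, hW, hUW, j', f, hf⟩ := key
  have hWU : W = U := le_antisymm hW hUW
  subst hWU
  refine ⟨j', f, ?_⟩
  rw [← hf, res_self]


variable (E) in
/-- the sheafification of the presheaf colimit -/
noncomputable abbrev L : CohTop.Ab X :=
  (presheafToSheaf (Opens.grothendieckTopology X) AddCommGrpCat.{u}).obj E.pt

variable (E) in
/-- the canonical map from the presheaf colimit to its sheafification, on sections -/
noncomputable def can (V : Opens X) : E.pt.obj (op V) →+ (L D E).obj.obj (op V) :=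
  ((toSheafify (Opens.grothendieckTopology X) E.pt).app (op V)).hom

lemma can_resP {V W : Opens X} (h : W ≤ V) (p : E.pt.obj (op V)) :
    can D E W (resP D E h p) = res (L D E) h (can D E V p) := by
  have := (toSheafify (Opens.grothendieckTopology X) E.pt).naturality (homOfLE h).op
  exact congr($this p)

include hE in
lemma can_injective (U : Opens X) (hU : IsCompact (U : Set X)) :
    Function.Injective (can D E U) := by
  rw [injective_iff_map_eq_zero]
  intro p hp
  obtain ⟨j, s, rfl⟩ := exists_rep D hE U p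
  have hmem := Presheaf.equalizerSieve_mem (Opens.grothendieckTopology X)
    (toSheafify (Opens.grothendieckTopology X) E.pt) (X := op U) (leg D E j U s) 0
    (by
      have h0 : (toSheafify (Opens.grothendieckTopology X) E.pt).app (op U) 0 = 0 := map_zero _
      rw [h0]
      exact hp)
  obtain ⟨j', f, hf⟩ := exists_tr_eq_zero_of_locally D hE U hU s (by
    intro x hx
    obtain ⟨V, g, hg, hxV⟩ := hmem x hx
    refine ⟨V, g.le, hxV, ?_⟩
    rw [leg_res]
    have h1 : E.pt.map g.op (leg D E j U s) = E.pt.map g.op 0 := hg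
    have h2 : E.pt.map g.op 0 = 0 := map_zero _
    rw [h2] at h1
    exact h1)
  rw [← leg_tr D E f, hf, map_zero]


/-- `U` is quasi-separated: intersections of compact opens inside `U` are compact -/
def QSep (U : Opens X) : Prop :=
  ∀ V W : Opens X, V ≤ U → W ≤ U → IsCompact (V : Set X) → IsCompact (W : Set X) →
    IsCompact ((V ⊓ W : Opens X) : Set X)

lemma QSep.mono {U U' : Opens X} (h : QSep U) (hU : U' ≤ U) : QSep U' :=
  fun V W hV hW => h V W (hV.trans hU) (hW.trans hU)

lemma qSep_of_quasiSeparatedSpace [QuasiSeparatedSpace X] (U : Opens X) : QSep U :=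
  fun V W _ _ hV hW => QuasiSeparatedSpace.inter_isCompact _ _ V.isOpen hV W.isOpen hW

include hE in
lemma can_surjective [PrespectralSpace X] (U : Opens X) (hU : IsCompact (U : Set X)) (hqs : QSep U) :
    Function.Surjective (can D E U) := by
  intro t
  have hmem := Presheaf.imageSieve_mem (Opens.grothendieckTopology X)
    (toSheafify (Opens.grothendieckTopology X) E.pt) (U := op U) t
  let p : Set X → Prop := fun S => ∃ (W : Opens X) (hW : W ≤ U), IsCompact (W : Set X) ∧ S ⊆ (W : Set X) ∧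
    ∃ q : E.pt.obj (op W), can D E W q = res (L D E) hW t
  have key : p (U : Set X) := by
    refine hU.induction_on (p := p) ?_ ?_ ?_ ?_
    · refine ⟨⊥, bot_le, by simp, Set.empty_subset _, 0, ?_⟩
      haveI := subsingleton_of_le_bot (L D E) (W := ⊥) le_rfl
      exact Subsingleton.elim _ _
    · rintro S T hST ⟨W, hW, hWc, hTW, q, hq⟩
      exact ⟨W, hW, hWc, hST.trans hTW, q, hq⟩
    · rintro S T ⟨W₁, hW₁, hc₁, hS, q₁, hq₁⟩ ⟨W₂, hW₂, hc₂, hT, q₂, hq₂⟩
      have hc₁₂ : IsCompact ((W₁ ⊓ W₂ : Opens X) : Set X) := hqs W₁ W₂ hW₁ hW₂ hc₁ hc₂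
      -- the two local lifts agree on the intersection
      have hagree : resP D E (inf_le_left : W₁ ⊓ W₂ ≤ W₁) q₁ = resP D E (inf_le_right : W₁ ⊓ W₂ ≤ W₂) q₂ := by
        apply can_injective D hE (W₁ ⊓ W₂) hc₁₂
        rw [can_resP, can_resP, hq₁, hq₂, res_res, res_res]
      obtain ⟨j₁, s₁, rfl⟩ := exists_rep D hE W₁ q₁
      obtain ⟨j₂, s₂, rfl⟩ := exists_rep D hE W₂ q₂
      let j := IsFiltered.max j₁ j₂
      let a₁ := tr D (IsFiltered.leftToMax j₁ j₂) W₁ s₁
      let a₂ := tr D (IsFiltered.rightToMax j₁ j₂) W₂ s₂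
      have hz : leg D E j (W₁ ⊓ W₂) (res (D.obj j) inf_le_left a₁ - res (D.obj j) inf_le_right a₂) = 0 := by
        rw [map_sub, leg_res, leg_res, leg_tr, leg_tr, hagree, sub_self]
      obtain ⟨j', f, hf⟩ := eq_zero_of_leg D hE (W₁ ⊓ W₂) _ hz
      rw [map_sub, sub_eq_zero, tr_res, tr_res] at hf
      obtain ⟨b, hb₁, hb₂⟩ := exists_glue₂ (D.obj j') (le_sup_left : W₁ ≤ W₁ ⊔ W₂)
        (le_sup_right : W₂ ≤ W₁ ⊔ W₂) le_rfl _ _ hf
      refine ⟨W₁ ⊔ W₂, sup_le hW₁ hW₂, hc₁.union hc₂, Set.union_subset_union hS hT, leg D E j' _ b, ?_⟩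
      apply eq_of_res_eq₂ (L D E) (le_sup_left : W₁ ≤ W₁ ⊔ W₂) (le_sup_right : W₂ ≤ W₁ ⊔ W₂) le_rfl
      · rw [← can_resP, ← leg_res, hb₁, leg_tr, leg_tr, hq₁, res_res]
      · rw [← can_resP, ← leg_res, hb₂, leg_tr, leg_tr, hq₂, res_res]
    · intro x hx
      obtain ⟨V, g, ⟨q, hq⟩, hxV⟩ := hmem x hx
      obtain ⟨V', ⟨hV'o, hV'c⟩, hxV', hV'V⟩ :=
        PrespectralSpace.isTopologicalBasis.exists_subset_of_mem_open hxV V.isOpen
      let V'' : Opens X := ⟨V', hV'o⟩
      have hle : V'' ≤ V := hV'V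
      refine ⟨V', mem_nhdsWithin_of_mem_nhds (hV'o.mem_nhds hxV'), V'', hle.trans g.le, hV'c, subset_rfl,
        resP D E hle q, ?_⟩
      rw [can_resP]
      have hq' : can D E V q = res (L D E) g.le t := hq
      rw [hq', res_res]
  obtain ⟨W, hW, -, hUW, q, hq⟩ := key
  have hWU : W = U := le_antisymm hW hUW
  subst hWU
  refine ⟨q, ?_⟩
  rw [hq, res_self]


include hE in
lemma isIso_toSheafify_app [PrespectralSpace X] (U : Opens X) (hU : IsCompact (U : Set X)) (hqs : QSep U) :
    IsIso ((toSheafify (Opens.grothendieckTopology X) E.pt).app (op U)) :=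
  (ConcreteCategory.isIso_iff_bijective _).2 ⟨can_injective D hE U hU, can_surjective D hE U hU hqs⟩

/-- sections over a quasi-compact quasi-separated open of a prespectral space commute with filtered colimits -/
theorem preservesColimit_sections [PrespectralSpace X] (U : Opens X) (hU : IsCompact (U : Set X))
    (hqs : QSep U) :
    PreservesColimit D (sheafToPresheaf (Opens.grothendieckTopology X) AddCommGrpCat.{u} ⋙
      (evaluation _ _).obj (op U)) := by
  let E := colimit.cocone (D ⋙ sheafToPresheaf (Opens.grothendieckTopology X) AddCommGrpCat.{u})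
  have hE : IsColimit E := colimit.isColimit _
  apply preservesColimit_of_preserves_colimit_cocone (Sheaf.isColimitSheafifyCocone E hE)
  haveI := isIso_toSheafify_app D hE U hU hqs
  have h1 : IsColimit ((((evaluation _ _).obj (op U)).mapCocone E).extend
      ((toSheafify (Opens.grothendieckTopology X) E.pt).app (op U))) :=
    IsColimit.extendIso _ (isColimitOfPreserves _ hE)
  refine IsColimit.ofIsoColimit h1 (Cocone.ext (Iso.refl _) ?_)
  intro j
  have h2 := Sheaf.sheafifyCocone_ι_app_val E j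
  refine (Category.comp_id _).trans ?_
  exact congr(($h2).app (op U)).symm

end Groth.Agent.Helper13.ColimSec
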