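import Mathlib
import Groth.Prelude.Def_CohTop
import Groth.Agent.Lib.Helper24.Flasque
import Groth.Agent.Lib.Helper13.ColimSec

/-!
Sheaves whose restriction maps between quasi-compact opens are surjective are acyclic on quasi-compact
opens of a (pre)spectral quasi-separated space (helper13).
-/

set_option autoImplicit false
set_option linter.unusedSectionVars false
universe u
open CategoryTheory CategoryTheory.Limits TopologicalSpace Opposite

namespace Groth.Agent.Helper13.QcFlasque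

open Groth.Agent.Helper13.ProfiniteAcyc Groth.Agent.Helper13.ColimSec Groth.Agent.Helper24.Flasque
  Groth.Agent.Helper24.CechH Groth.Agent.Helper24.CechInj

variable {X : TopCat.{u}}

/-- restriction maps between compact opens inside `U` are surjective -/
def QcFl (U : Opens X) (F : CohTop.Ab X) : Prop :=
  ∀ (V W : Opens X) (h : V ≤ W), W ≤ U → IsCompact (V : Set X) → IsCompact (W : Set X) →
    Function.Surjective (res F h)

lemma qcFl_of_isFlasque (U : Opens X) (F : CohTop.Ab X) [hF : TopCat.Sheaf.IsFlasque F] : QcFl U F := by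
  intro V W h _ _ _
  have : Epi (F.obj.map (homOfLE h).op) := hF.epi _
  exact (AddCommGrpCat.epi_iff_surjective _).1 this

lemma exists_preimage_of_app_eq_zero (S : ShortComplex (CohTop.Ab X)) (hS : S.ShortExact) (W : Opens X)
    (s : S.X₂.obj.obj (op W)) (h : S.g.hom.app (op W) s = 0) :
    ∃ a : S.X₁.obj.obj (op W), S.f.hom.app (op W) a = s := by
  let Φ : CohTop.Ab X ⥤ AddCommGrpCat.{u} :=
    sheafToPresheaf (Opens.grothendieckTopology X) AddCommGrpCat.{u} ⋙ (evaluation _ _).obj (op W)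
  haveI := hS.mono_f
  have h1 : (S.map Φ).Exact := hS.exact.map_of_mono_of_preservesKernel Φ inferInstance inferInstance
  rw [ShortComplex.ab_exact_iff] at h1
  exact h1 s h

theorem surj_of_qcFl [PrespectralSpace X] (U : Opens X) (hqs : QSep U) (S : ShortComplex (CohTop.Ab X))
    (hS : S.ShortExact) (h1 : QcFl U S.X₁) (W : Opens X) (hW : W ≤ U) (hWc : IsCompact (W : Set X)) :
    Function.Surjective (S.g.hom.app (op W)) := by
  intro t
  haveI : Epi S.g := hS.epi_g
  have hls : TopCat.Presheaf.IsLocallySurjective S.g.hom :=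
    (TopCat.Sheaf.isLocallySurjective_iff_epi S.g).2 ‹Epi S.g›
  rw [TopCat.Presheaf.isLocallySurjective_iff] at hls
  let p : Set X → Prop := fun T => ∃ (W' : Opens X) (hW' : W' ≤ W), IsCompact (W' : Set X) ∧
    T ⊆ (W' : Set X) ∧ ∃ s : S.X₂.obj.obj (op W'), S.g.hom.app (op W') s = res S.X₃ hW' t
  have key : p (W : Set X) := by
    refine hWc.induction_on (p := p) ?_ ?_ ?_ ?_
    · refine ⟨⊥, bot_le, by simp, Set.empty_subset _, 0, ?_⟩
      haveI := subsingleton_of_le_bot S.X₃ (W := ⊥) le_rfl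
      exact Subsingleton.elim _ _
    · rintro A B hAB ⟨W', hW', hc, hB, s, hs⟩
      exact ⟨W', hW', hc, hAB.trans hB, s, hs⟩
    · rintro A B ⟨W₁, hW₁, hc₁, hA, s₁, hs₁⟩ ⟨W₂, hW₂, hc₂, hB, s₂, hs₂⟩
      have hc₁₂ : IsCompact ((W₁ ⊓ W₂ : Opens X) : Set X) :=
        hqs W₁ W₂ (hW₁.trans hW) (hW₂.trans hW) hc₁ hc₂
      -- the difference on the intersection comes from the kernel
      have hd : S.g.hom.app (op (W₁ ⊓ W₂))
          (res S.X₂ (inf_le_left : W₁ ⊓ W₂ ≤ W₁) s₁ - res S.X₂ (inf_le_right : W₁ ⊓ W₂ ≤ W₂) s₂) = 0 := by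
        rw [map_sub, res_nat, res_nat, hs₁, hs₂, res_res, res_res, sub_self]
      obtain ⟨a, ha⟩ := exists_preimage_of_app_eq_zero S hS _ _ hd
      obtain ⟨a', ha'⟩ := h1 (W₁ ⊓ W₂) W₂ inf_le_right (hW₂.trans hW) hc₁₂ hc₂ a
      let s₂' := s₂ + S.f.hom.app (op W₂) a'
      have hagree : res S.X₂ (inf_le_left : W₁ ⊓ W₂ ≤ W₁) s₁ = res S.X₂ (inf_le_right : W₁ ⊓ W₂ ≤ W₂) s₂' := by
        show _ = res S.X₂ _ (s₂ + S.f.hom.app (op W₂) a')
        rw [map_add, ← res_nat, ha', ha]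
        abel
      obtain ⟨s, hb₁, hb₂⟩ := exists_glue₂ S.X₂ (le_sup_left : W₁ ≤ W₁ ⊔ W₂)
        (le_sup_right : W₂ ≤ W₁ ⊔ W₂) le_rfl _ _ hagree
      refine ⟨W₁ ⊔ W₂, sup_le hW₁ hW₂, hc₁.union hc₂, Set.union_subset_union hA hB, s, ?_⟩
      apply eq_of_res_eq₂ S.X₃ (le_sup_left : W₁ ≤ W₁ ⊔ W₂) (le_sup_right : W₂ ≤ W₁ ⊔ W₂) le_rfl
      · rw [← res_nat, hb₁, hs₁, res_res]
      · rw [← res_nat, hb₂, res_res]
        show S.g.hom.app (op W₂) (s₂ + S.f.hom.app (op W₂) a') = _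
        rw [map_add, hs₂]
        have hz : S.g.hom.app (op W₂) (S.f.hom.app (op W₂) a') = 0 := by
          have := S.zero
          exact congr(($this).hom.app (op W₂) a')
        rw [hz, add_zero]
    · intro x hx
      obtain ⟨V, hV, ⟨s, hs⟩, hxV⟩ := hls W t x hx
      obtain ⟨V', ⟨hV'o, hV'c⟩, hxV', hV'V⟩ :=
        PrespectralSpace.isTopologicalBasis.exists_subset_of_mem_open hxV V.isOpen
      let V'' : Opens X := ⟨V', hV'o⟩
      have hle : V'' ≤ V := hV'V
      refine ⟨V', mem_nhdsWithin_of_mem_nhds (hV'o.mem_nhds hxV'), V'', hle.trans hV, hV'c, subset_rfl,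
        res S.X₂ hle s, ?_⟩
      rw [res_nat]
      have hs' : S.g.hom.app (op V) s = res S.X₃ hV t := hs
      rw [hs', res_res]
  obtain ⟨W', hW', -, hWW', s, hs⟩ := key
  have hWU : W' = W := le_antisymm hW' hWW'
  subst hWU
  refine ⟨s, ?_⟩
  rw [hs, res_self]


lemma qcFl_coker [PrespectralSpace X] (U : Opens X) (hqs : QSep U) (F : CohTop.Ab X) (h : QcFl U F) :
    QcFl U (cokernel (Injective.ι F)) := by
  intro V W hVW hW hVc hWc q
  obtain ⟨s, hs⟩ := surj_of_qcFl U hqs (sesS (Injective.ι F)) (sesS_shortExact _) h V (hVW.trans hW) hVc q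
  have hfl : TopCat.Sheaf.IsFlasque (Injective.under F) :=
    @isFlasque_of_injective _ _ (Injective.injective_under F)
  obtain ⟨s', hs'⟩ := @qcFl_of_isFlasque _ U (Injective.under F) hfl V W hVW hW hVc hWc s
  refine ⟨(cokernel.π (Injective.ι F)).hom.app (op W) s', ?_⟩
  rw [← res_nat, hs']
  exact hs

theorem HU_succ_subsingleton_of_qcFl [PrespectralSpace X] (U : Opens X) (hqs : QSep U) :
    ∀ (n : ℕ) (F : CohTop.Ab X) (_ : QcFl U F) (W : Opens X) (_ : W ≤ U) (_ : IsCompact (W : Set X)),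
      Subsingleton (CohTop.HU F (n + 1) W)
  | 0, F, h, W, hW, hc =>
    H1_zero_of_surj _ W (surj_of_qcFl U hqs (sesS (Injective.ι F)) (sesS_shortExact _) h W hW hc)
  | n+1, F, h, W, hW, hc =>
    Hsucc_zero_of_coker _ W n (HU_succ_subsingleton_of_qcFl U hqs n (cokernel (Injective.ι F))
      (qcFl_coker U hqs F h) W hW hc)

end Groth.Agent.Helper13.QcFlasque
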