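import Mathlib
import Groth.Prelude.Def_CohTop
import Groth.Prelude.Def_CechEdge
import Groth.Agent.Lib.Helper24.Flasque
import Groth.Agent.Lib.Helper13.ColimSec
import Groth.Agent.Lib.Helper13.QcFlasque
import Groth.Agent.Lib.Helper13.ColimDelta
import Groth.Agent.S0866

/-!
Cohomology over quasi-compact quasi-separated opens of a prespectral space commutes with filtered colimits
(helper13).
-/

set_option autoImplicit false
set_option linter.unusedSectionVars false
universe u
open CategoryTheory CategoryTheory.Limits TopologicalSpace Opposite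

namespace Groth.Agent.Helper13.ColimCoh

open Groth.Agent.Helper13.ProfiniteAcyc Groth.Agent.Helper13.ColimSec Groth.Agent.Helper13.QcFlasque
  Groth.Agent.Helper24.Flasque Groth.Agent.Helper24.CechH Groth.Agent.Helper24.CechEdgeLib

variable {X : TopCat.{u}} {J : Type u} [SmallCategory J] [IsFiltered J]

/-- sections functor -/
noncomputable abbrev Γ (U : Opens X) : CohTop.Ab X ⥤ AddCommGrpCat.{u} :=
  sheafToPresheaf (Opens.grothendieckTopology X) AddCommGrpCat.{u} ⋙ (evaluation _ _).obj (op U)

/-- a filtered colimit of sheaves with surjective restrictions between quasi-compact opens has the same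
property -/
lemma qcFl_colimit [PrespectralSpace X] (U : Opens X) (hqs : QSep U) (D : J ⥤ CohTop.Ab X)
    (hD : ∀ j, QcFl U (D.obj j)) (c : Cocone D) (hc : IsColimit c) : QcFl U c.pt := by
  intro V W hVW hW hVc hWc t
  haveI := preservesColimit_sections D V hVc (hqs.mono (hVW.trans hW))
  obtain ⟨j, s, hs⟩ := DeltaFColim.exists_rep (D ⋙ Γ V) (isColimitOfPreserves (Γ V) hc) t
  obtain ⟨s', rfl⟩ := hD j V W hVW hW hVc hWc s
  refine ⟨(c.ι.app j).hom.app (op W) s', ?_⟩
  rw [← res_nat]
  exact hs


/-- the δ-functor `F ↦ H^•(U, F)` -/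
noncomputable abbrev TU (U : Opens X) : DeltaF.CohDeltaFunctor (CohTop.Ab X) AddCommGrpCat.{u} ℕ :=
  extDelta (CohCx.freeSheaf (Opens.grothendieckTopology X) U)

/-- degree zero: sections -/
noncomputable def β (U : Opens X) : Γ U ≅ (TU U).F 0 :=
  NatIso.ofComponents
    (fun F => (CechEdge.sectH0 (Opens.grothendieckTopology X) U F).toAddCommGrpIso)
    (fun {F G} ψ => by
      ext s
      exact (sectH0_naturality (Opens.grothendieckTopology X) ψ U s).symm)

/-- comparison with Mathlib's cohomology presheaf functor -/
noncomputable def γ (U : Opens X) (q : ℕ) :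
    (Sheaf.cohomologyPresheafFunctor (Opens.grothendieckTopology X) q).flip.obj (op U) ≅ (TU U).F q :=
  NatIso.ofComponents (fun G => Iso.refl _) (fun {G G'} φ => by
    simp only [Iso.refl_hom]
    rfl)

/-- the Godement functor -/
noncomputable abbrev God (X : TopCat.{u}) : CohTop.Ab X ⥤ CohTop.Ab X :=
  CohTop.pull (TopCat.adj₁.counit.app X) ⋙ CohTop.push (TopCat.adj₁.counit.app X)

/-- the unit of the Godement functor -/
noncomputable abbrev godUnit (X : TopCat.{u}) : 𝟭 (CohTop.Ab X) ⟶ God X :=
  (TopCat.Sheaf.pullbackPushforwardAdjunction AddCommGrpCat.{u} (TopCat.adj₁.counit.app X)).unit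

theorem preservesColimitsOfShape_TU [PrespectralSpace X] (U : Opens X) (hU : IsCompact (U : Set X))
    (hqs : QSep U) (q : ℕ) : PreservesColimitsOfShape J ((TU U).F q) := by
  refine ColimDelta.preservesColimitsOfShape_of_effacement (TU U) (God X) (godUnit X)
    (fun F => (Groth.Agent.S0866.result F).1) ?_ ?_ ?_ q
  · haveI : PreservesColimitsOfShape J (Γ U) := ⟨fun {D} => preservesColimit_sections D U hU hqs⟩
    exact preservesColimitsOfShape_of_natIso (β U)
  · intro q F
    have hfl : TopCat.Sheaf.IsFlasque ((God X).obj F) := (Groth.Agent.S0866.result F).2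
    have h := HU_succ_subsingleton q _ hfl U
    exact @AddCommGrpCat.isZero_of_subsingleton (((TU U).F (q + 1)).obj ((God X).obj F)) h
  · intro q D
    have hfl : ∀ j, QcFl U ((D ⋙ God X).obj j) := by
      intro j
      have hfl : TopCat.Sheaf.IsFlasque ((God X).obj (D.obj j)) := (Groth.Agent.S0866.result (D.obj j)).2
      exact @qcFl_of_isFlasque _ U _ hfl
    have h1 := qcFl_colimit U hqs (D ⋙ God X) hfl _ (colimit.isColimit _)
    have h := HU_succ_subsingleton_of_qcFl U hqs q _ h1 U le_rfl hU
    exact @AddCommGrpCat.isZero_of_subsingleton (((TU U).F (q + 1)).obj (colimit (D ⋙ God X))) h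

/-- cohomology over a quasi-compact quasi-separated open of a prespectral space commutes with filtered
colimits -/
theorem preservesColimitsOfShape_HU [PrespectralSpace X] (U : Opens X) (hU : IsCompact (U : Set X))
    (hqs : QSep U) (q : ℕ) :
    PreservesColimitsOfShape J
      ((Sheaf.cohomologyPresheafFunctor (Opens.grothendieckTopology X) q).flip.obj (op U)) := by
  haveI := preservesColimitsOfShape_TU (J := J) U hU hqs q
  exact preservesColimitsOfShape_of_natIso (γ U q).symm

end Groth.Agent.Helper13.ColimCoh
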