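import Mathlib
import Groth.Prelude.Def_CohTop
import Groth.Agent.Lib.Helper13.ColimSec

/-!
A criterion for a cocone of abelian sheaves over a filtered diagram to be a colimit cocone: it suffices
to check it on sections over a basis of quasi-compact quasi-separated opens (helper13).
-/

set_option autoImplicit false
set_option linter.unusedSectionVars false
universe u
open CategoryTheory CategoryTheory.Limits TopologicalSpace Opposite

namespace Groth.Agent.Helper13.ColimCrit

open Groth.Agent.Helper13.ProfiniteAcyc Groth.Agent.Helper13.ColimSec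

variable {X : TopCat.{u}} {J : Type u} [SmallCategory J] [IsFiltered J]

/-- sections functor -/
noncomputable abbrev Γ (U : Opens X) : CohTop.Ab X ⥤ AddCommGrpCat.{u} :=
  sheafToPresheaf (Opens.grothendieckTopology X) AddCommGrpCat.{u} ⋙ (evaluation _ _).obj (op U)

theorem isColimit_of_basis [PrespectralSpace X] (D : J ⥤ CohTop.Ab X) (c : Cocone D)
    (ℬ : Set (Opens X)) (hℬ : Opens.IsBasis ℬ)
    (hc : ∀ U ∈ ℬ, IsCompact (U : Set X) ∧ QSep U)
    (hsurj : ∀ U ∈ ℬ, ∀ t : c.pt.obj.obj (op U),
      ∃ (j : J) (s : (D.obj j).obj.obj (op U)), (c.ι.app j).hom.app (op U) s = t)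
    (hinj : ∀ U ∈ ℬ, ∀ (j : J) (s : (D.obj j).obj.obj (op U)), (c.ι.app j).hom.app (op U) s = 0 →
      ∃ (k : J) (f : j ⟶ k), (D.map f).hom.app (op U) s = 0) :
    Nonempty (IsColimit c) := by
  let L : CohTop.Ab X := colimit D
  let θ : L ⟶ c.pt := colimit.desc D c
  have hθ : ∀ j, colimit.ι D j ≫ θ = c.ι.app j := fun j => colimit.ι_desc c j
  -- representatives on basis opens
  have hrep : ∀ U ∈ ℬ, ∀ s : (colimit D).obj.obj (op U),
      ∃ (j : J) (a : (D.obj j).obj.obj (op U)), (colimit.ι D j).hom.app (op U) a = s := by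
    intro U hU s
    haveI := preservesColimit_sections D U (hc U hU).1 (hc U hU).2
    exact DeltaFColim.exists_rep (D ⋙ Γ U) (isColimitOfPreserves (Γ U) (colimit.isColimit D)) s
  have hmono : Mono θ := by
    haveI : ∀ V, Mono (((sheafToPresheaf _ _).map θ).app V) := by
      intro V
      rw [AddCommGrpCat.mono_iff_injective, injective_iff_map_eq_zero]
      intro s hs
      have hs' : θ.hom.app V s = 0 := hs
      -- `s` vanishes locally
      have hloc : ∀ x : V.unop, ∃ (U : Opens X) (hU : U ≤ V.unop), x.1 ∈ U ∧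
          res (colimit D) hU s = 0 := by
        intro x
        obtain ⟨U, hUℬ, hxU, hUV⟩ := Opens.isBasis_iff_nbhd.mp hℬ x.2
        refine ⟨U, hUV, hxU, ?_⟩
        obtain ⟨j, a, ha⟩ := hrep U hUℬ (res (colimit D) hUV s)
        have h1 : (c.ι.app j).hom.app (op U) a = 0 := by
          rw [← hθ j]
          show θ.hom.app (op U) ((colimit.ι D j).hom.app (op U) a) = 0
          rw [ha, res_nat, hs', map_zero]
        obtain ⟨k, f, hf⟩ := hinj U hUℬ j a h1
        rw [← ha, ← colimit.w D f]
        show (colimit.ι D k).hom.app (op U) ((D.map f).hom.app (op U) a) = 0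
        rw [hf, map_zero]
      choose U hU hxU hres using hloc
      apply TopCat.Sheaf.eq_of_locally_eq' L U V.unop (fun x => homOfLE (hU x))
      · intro x hx
        exact Opens.mem_iSup.2 ⟨⟨x, hx⟩, hxU ⟨x, hx⟩⟩
      · intro x
        rw [map_zero]
        exact hres x
    haveI : Mono ((sheafToPresheaf _ _).map θ) := NatTrans.mono_of_mono_app _
    exact Functor.mono_of_mono_map (sheafToPresheaf _ _) inferInstance
  have hepi : Epi θ := by
    refine (TopCat.Sheaf.isLocallySurjective_iff_epi θ).1 ?_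
    rw [TopCat.Presheaf.isLocallySurjective_iff]
    intro V t x hx
    obtain ⟨U, hUℬ, hxU, hUV⟩ := Opens.isBasis_iff_nbhd.mp hℬ hx
    obtain ⟨j, a, ha⟩ := hsurj U hUℬ (res c.pt hUV t)
    refine ⟨U, hUV, ⟨(colimit.ι D j).hom.app (op U) a, ?_⟩, hxU⟩
    rw [← hθ j] at ha
    exact ha
  haveI : IsIso θ := isIso_of_mono_of_epi θ
  haveI : IsIso ((colimit.isColimit D).desc c) := inferInstanceAs (IsIso θ)
  exact ⟨IsColimit.ofPointIso (colimit.isColimit D)⟩

end Groth.Agent.Helper13.ColimCrit
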