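import Mathlib

set_option autoImplicit false
set_option linter.unusedSectionVars false
universe v u
open CategoryTheory CategoryTheory.Limits

namespace Groth.Agent.Helper13.PreimageSub

variable {𝒜 : Type u} [Category.{v} 𝒜] [Abelian 𝒜]
variable {J M Q : 𝒜} (φ : J ⟶ M) [Mono φ] (ψ : Q ⟶ cokernel φ) [Mono ψ]

/-- the preimage of the subobject `Q` of `M/J` in `M` -/
noncomputable abbrev P : 𝒜 := pullback (cokernel.π φ) ψ

/-- inclusion of the preimage -/
noncomputable abbrev incl : P φ ψ ⟶ M := pullback.fst (cokernel.π φ) ψ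

/-- `J` sits inside the preimage -/
noncomputable def fromJ : J ⟶ P φ ψ :=
  pullback.lift φ 0 (by rw [cokernel.condition, zero_comp])

@[reassoc (attr := simp)]
lemma fromJ_incl : fromJ φ ψ ≫ incl φ ψ = φ := pullback.lift_fst _ _ _

@[reassoc (attr := simp)]
lemma fromJ_snd : fromJ φ ψ ≫ pullback.snd (cokernel.π φ) ψ = 0 := pullback.lift_snd _ _ _

instance : Mono (fromJ φ ψ) := mono_of_mono_fac (fromJ_incl φ ψ)

instance : Mono (incl φ ψ) := inferInstanceAs (Mono (pullback.fst (cokernel.π φ) ψ))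

instance : Epi (pullback.snd (cokernel.π φ) ψ) := inferInstance

lemma snd_zero_comp {T : 𝒜} (t : T ⟶ P φ ψ) (ht : t ≫ pullback.snd (cokernel.π φ) ψ = 0) :
    (t ≫ incl φ ψ) ≫ cokernel.π φ = 0 := by
  rw [Category.assoc, pullback.condition, ← Category.assoc, ht, zero_comp]

/-- lift to `J` of a map to `P` killed by the projection to `Q` -/
noncomputable def liftJ {T : 𝒜} (t : T ⟶ P φ ψ) (ht : t ≫ pullback.snd (cokernel.π φ) ψ = 0) :
    T ⟶ J :=
  (Abelian.monoIsKernelOfCokernel _ (cokernelIsCokernel φ)).lift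
    (KernelFork.ofι (t ≫ incl φ ψ) (snd_zero_comp φ ψ t ht))

lemma liftJ_φ {T : 𝒜} (t : T ⟶ P φ ψ) (ht : t ≫ pullback.snd (cokernel.π φ) ψ = 0) :
    liftJ φ ψ t ht ≫ φ = t ≫ incl φ ψ :=
  (Abelian.monoIsKernelOfCokernel _ (cokernelIsCokernel φ)).fac _ WalkingParallelPair.zero

lemma liftJ_fromJ {T : 𝒜} (t : T ⟶ P φ ψ) (ht : t ≫ pullback.snd (cokernel.π φ) ψ = 0) :
    liftJ φ ψ t ht ≫ fromJ φ ψ = t := by
  apply pullback.hom_ext
  · rw [Category.assoc, fromJ_incl, liftJ_φ]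
  · rw [Category.assoc, fromJ_snd, comp_zero, ht]

/-- `0 → J → P → Q → 0` -/
theorem shortExact :
    (ShortComplex.mk (fromJ φ ψ) (pullback.snd (cokernel.π φ) ψ) (fromJ_snd φ ψ)).ShortExact := by
  refine ShortComplex.ShortExact.mk' ?_ inferInstance inferInstance
  apply ShortComplex.exact_of_f_is_kernel
  refine KernelFork.IsLimit.ofι _ _ (fun {T} t ht => liftJ φ ψ t ht) ?_ ?_
  · intro T t ht
    exact liftJ_fromJ φ ψ t ht
  · intro T t ht m hm
    rw [← cancel_mono (fromJ φ ψ), hm]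
    exact (liftJ_fromJ φ ψ t ht).symm

lemma incl_comp : incl φ ψ ≫ cokernel.π φ ≫ cokernel.π ψ = 0 := by
  rw [← Category.assoc, pullback.condition, Category.assoc, cokernel.condition, comp_zero]

lemma exists_liftQ {T : 𝒜} (t : T ⟶ M) (ht : t ≫ cokernel.π φ ≫ cokernel.π ψ = 0) :
    ∃ v : T ⟶ Q, v ≫ ψ = t ≫ cokernel.π φ := by
  have ht' : (t ≫ cokernel.π φ) ≫ cokernel.π ψ = 0 := by rw [Category.assoc, ht]
  exact ⟨(Abelian.monoIsKernelOfCokernel _ (cokernelIsCokernel ψ)).lift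
      (KernelFork.ofι (t ≫ cokernel.π φ) ht'),
    (Abelian.monoIsKernelOfCokernel _ (cokernelIsCokernel ψ)).fac _ WalkingParallelPair.zero⟩

/-- `P` is the kernel of `M → (M/J)/Q` -/
theorem exact_incl :
    (ShortComplex.mk (incl φ ψ) (cokernel.π φ ≫ cokernel.π ψ) (incl_comp φ ψ)).Exact := by
  apply ShortComplex.exact_of_f_is_kernel
  refine KernelFork.IsLimit.ofι _ _
    (fun {T} t ht => pullback.lift t (exists_liftQ φ ψ t ht).choose
      (exists_liftQ φ ψ t ht).choose_spec.symm) ?_ ?_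
  · intro T t ht
    exact pullback.lift_fst _ _ _
  · intro T t ht m hm
    rw [← cancel_mono (incl φ ψ), hm]
    exact (pullback.lift_fst _ _ _).symm

end Groth.Agent.Helper13.PreimageSub
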