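import Mathlib
import Groth.Agent.Lib.Helper13.FinTypeExt
import Groth.Agent.Lib.Helper13.PreimageSub
import Groth.Agent.Lib.Helper13.ExtMain2
import Groth.Agent.Lib.Helper13.QCohFin

set_option autoImplicit false
set_option linter.unusedSectionVars false
universe u
open CategoryTheory CategoryTheory.Limits AlgebraicGeometry Opposite TopologicalSpace Groth.Agent.Helper13.QCoh

namespace Groth.Agent.Helper13.FTSub

open Groth.Agent.Helper13.FinType Groth.Agent.Helper13.QCohLocal

variable {X : Scheme.{u}} [CompactSpace X] [QuasiSeparatedSpace X]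

/-- enlarging a finite type quasi-coherent submodule by one more section -/
theorem exists_enlarge (M : X.Modules) [M.IsQuasicoherent] (J : X.Modules) (φ : J ⟶ M) [Mono φ]
    [J.IsQuasicoherent] [SheafOfModules.IsFiniteType (R := X.ringCatSheaf) J]
    (U : X.Opens) (hU : IsCompact (U : Set X)) (s : Γ(M, U)) :
    ∃ (J' : X.Modules) (φ' : J' ⟶ M) (a : J ⟶ J'), Mono φ' ∧ J'.IsQuasicoherent ∧
      SheafOfModules.IsFiniteType (R := X.ringCatSheaf) J' ∧ a ≫ φ' = φ ∧
      ∃ g : Γ(J', U), φ'.app U g = s := by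
  obtain ⟨n, V, hV, hUV⟩ := Groth.Agent.Helper13.Ext.exists_goodCover_of_qcqs (X := X)
  haveI : (cokernel φ).IsQuasicoherent := isQuasicoherent_cokernel φ
  obtain ⟨Q, ψ, hψ, hQq, hQf, q, hq⟩ := Groth.Agent.Helper13.Ext.exists_subsheaf_through_section V hV
    (cokernel φ) U (hUV U hU) ((cokernel.π φ).app U s)
  haveI := hψ
  haveI := hQq
  haveI := hQf
  have hqc : (PreimageSub.P (𝒜 := X.Modules) φ ψ).IsQuasicoherent :=
    Groth.Agent.Helper13.QCohFin.isQuasicoherent_pullback _ _
  have hS := PreimageSub.shortExact (𝒜 := X.Modules) φ ψ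
  have hft : SheafOfModules.IsFiniteType (R := X.ringCatSheaf) (PreimageSub.P (𝒜 := X.Modules) φ ψ) :=
    isFiniteType_of_shortExact _ hS
  refine ⟨PreimageSub.P (𝒜 := X.Modules) φ ψ, PreimageSub.incl (𝒜 := X.Modules) φ ψ, PreimageSub.fromJ (𝒜 := X.Modules) φ ψ, inferInstance, hqc, hft,
    PreimageSub.fromJ_incl (𝒜 := X.Modules) φ ψ, ?_⟩
  haveI : (cokernel ψ).IsQuasicoherent := isQuasicoherent_cokernel ψ
  have hex := PreimageSub.exact_incl (𝒜 := X.Modules) φ ψ
  refine app_exact_of_exact_of_mono _ hex U s ?_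
  show (cokernel.π φ ≫ cokernel.π ψ).app U s = 0
  rw [Scheme.Modules.Hom.comp_app, ConcreteCategory.comp_apply, ← hq]
  have h2 := cokernel.condition ψ
  have h3 := congr($(h2).app U q)
  rw [Scheme.Modules.Hom.comp_app, ConcreteCategory.comp_apply] at h3
  exact h3

/-- a finite type quasi-coherent submodule through finitely many sections over quasi-compact
opens -/
theorem exists_ft_sub_through_sections (M : X.Modules) [M.IsQuasicoherent] (κ : Type u) [Finite κ] :
    ∀ (U : κ → X.Opens) (_ : ∀ c, IsCompact (U c : Set X)) (s : ∀ c, Γ(M, U c)),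
    ∃ (J : X.Modules) (φ : J ⟶ M), Mono φ ∧ J.IsQuasicoherent ∧
      SheafOfModules.IsFiniteType (R := X.ringCatSheaf) J ∧
      ∀ c, ∃ g : Γ(J, U c), φ.app (U c) g = s c := by
  refine Finite.induction_empty_option
    (P := fun κ : Type u => ∀ (U : κ → X.Opens) (_ : ∀ c, IsCompact (U c : Set X))
      (s : ∀ c, Γ(M, U c)),
      ∃ (J : X.Modules) (φ : J ⟶ M), Mono φ ∧ J.IsQuasicoherent ∧
        SheafOfModules.IsFiniteType (R := X.ringCatSheaf) J ∧
        ∀ c, ∃ g : Γ(J, U c), φ.app (U c) g = s c) ?_ ?_ ?_ κ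
  · intro α β e ih U hU s
    obtain ⟨J, φ, h1, h2, h3, h4⟩ := ih (fun a => U (e a)) (fun a => hU (e a)) (fun a => s (e a))
    refine ⟨J, φ, h1, h2, h3, ?_⟩
    exact e.surjective.forall.2 h4
  · intro U hU s
    obtain ⟨n, V, hV, hUV⟩ := Groth.Agent.Helper13.Ext.exists_goodCover_of_qcqs (X := X)
    obtain ⟨J, φ, h1, h2, h3, -⟩ := Groth.Agent.Helper13.Ext.exists_subsheaf_through_section V hV
      M ⊥ (hUV ⊥ (by simp)) 0
    exact ⟨J, φ, h1, h2, h3, fun c => c.elim⟩
  · intro α _ ih U hU s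
    obtain ⟨J, φ, h1, h2, h3, h4⟩ := ih (fun a => U (some a)) (fun a => hU (some a))
      (fun a => s (some a))
    haveI := h1
    haveI := h2
    haveI := h3
    obtain ⟨J', φ', a, k1, k2, k3, k4, g, hg⟩ := exists_enlarge M J φ (U none) (hU none) (s none)
    refine ⟨J', φ', k1, k2, k3, ?_⟩
    intro c
    cases c with
    | none => exact ⟨g, hg⟩
    | some c =>
      obtain ⟨g', hg'⟩ := h4 c
      refine ⟨a.app (U (some c)) g', ?_⟩
      have : (a ≫ φ').app (U (some c)) g' = s (some c) := by rw [k4]; exact hg'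
      rwa [Scheme.Modules.Hom.comp_app, ConcreteCategory.comp_apply] at this

end Groth.Agent.Helper13.FTSub
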