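import Mathlib
import Groth.Agent.Lib.Helper13.SubSheaf2
import Groth.Agent.Lib.Helper13.FTSub
import Groth.Agent.Lib.Helper13.QCohFin
import Groth.Agent.Lib.Helper13.FinTypeExt
import Groth.Agent.Lib.Helper13.QCohKer
import Groth.Agent.Lib.Helper13.FinTypeEpi

/-!
The directed poset of finite type quasi-coherent subsheaves of a quasi-coherent module on a qcqs scheme
(helper13).
-/

set_option autoImplicit false
set_option linter.unusedSectionVars false
universe u
open CategoryTheory CategoryTheory.Limits AlgebraicGeometry Opposite TopologicalSpace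
open Groth.Agent.Helper13.QCoh Groth.Agent.Helper13.FinType

namespace Groth.Agent.Helper13.FTSubPoset

variable {X : Scheme.{u}} {G : X.Modules}

/-- the image sub-presheaf of a morphism -/
noncomputable def imgSub {N : X.Modules} (φ : N ⟶ G) : PresheafOfModules.Submodule G.val where
  obj V := LinearMap.range (φ.val.app V).hom
  map := by
    intro V W f t ht
    obtain ⟨s, rfl⟩ := ht
    refine ⟨N.presheaf.map f s, ?_⟩
    have := φ.mapPresheaf.naturality f
    exact congr($this s)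

lemma mem_imgSub {N : X.Modules} (φ : N ⟶ G) (V : X.Opens) (t : Γ(G, V)) :
    t ∈ (imgSub φ).obj (op V) ↔ ∃ s : Γ(N, V), φ.app V s = t := Iff.rfl

lemma isLocalSub_imgSub {N : X.Modules} (φ : N ⟶ G) [Mono φ] : IsLocalSub G (imgSub φ) := by
  intro V t h
  have hinj := (mono_iff_app_injective φ).1 ‹Mono φ›
  choose W hW hyW hmem using h
  choose s hs using hmem
  -- glue the local preimages
  let Uf : V → X.Opens := fun y => W y.1 y.2
  let sf : ∀ y : V, Γ(N, Uf y) := fun y => s y.1 y.2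
  have hcompat : TopCat.Presheaf.IsCompatible N.presheaf Uf sf := by
    intro y z
    apply hinj
    have e1 := congr($(φ.mapPresheaf.naturality (Opens.infLELeft (Uf y) (Uf z)).op) (sf y))
    have e2 := congr($(φ.mapPresheaf.naturality (Opens.infLERight (Uf y) (Uf z)).op) (sf z))
    refine e1.trans (Eq.trans ?_ e2.symm)
    have h1 : φ.app (Uf y) (sf y) = G.presheaf.map (homOfLE (hW y.1 y.2)).op t := hs y.1 y.2
    have h2 : φ.app (Uf z) (sf z) = G.presheaf.map (homOfLE (hW z.1 z.2)).op t := hs z.1 z.2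
    show G.presheaf.map _ (φ.app (Uf y) (sf y)) = G.presheaf.map _ (φ.app (Uf z) (sf z))
    rw [h1, h2]
    have c1 : G.presheaf.map (homOfLE (hW y.1 y.2)).op ≫ G.presheaf.map (Opens.infLELeft (Uf y) (Uf z)).op =
        G.presheaf.map (homOfLE (hW z.1 z.2)).op ≫ G.presheaf.map (Opens.infLERight (Uf y) (Uf z)).op := by
      rw [← G.presheaf.map_comp, ← G.presheaf.map_comp]; rfl
    exact congr($c1 t)
  have hcov : V ≤ iSup Uf := by
    intro y hy
    exact Opens.mem_iSup.2 ⟨⟨y, hy⟩, hyW y hy⟩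
  obtain ⟨g, hg, -⟩ := TopCat.Sheaf.existsUnique_gluing' ⟨N.presheaf, N.isSheaf⟩ Uf V
    (fun y => homOfLE (hW y.1 y.2)) hcov sf hcompat
  refine ⟨g, ?_⟩
  apply TopCat.Sheaf.eq_of_locally_eq' ⟨G.presheaf, G.isSheaf⟩ Uf V (fun y => homOfLE (hW y.1 y.2)) hcov
  intro y
  have e := congr($(φ.mapPresheaf.naturality (homOfLE (hW y.1 y.2)).op) g)
  refine e.symm.trans ?_
  have : N.presheaf.map (homOfLE (hW y.1 y.2)).op g = sf y := hg y
  show φ.app (Uf y) (N.presheaf.map (homOfLE (hW y.1 y.2)).op g) = _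
  rw [this]
  exact hs y.1 y.2


/-- the image subsheaf of a monomorphism is isomorphic to its source -/
lemma nonempty_iso_subsheaf_imgSub {N : X.Modules} (φ : N ⟶ G) [Mono φ] :
    Nonempty (N ≅ subsheaf G (imgSub φ) (isLocalSub_imgSub φ)) := by
  let hloc := isLocalSub_imgSub φ
  let a : N ⟶ subsheaf G (imgSub φ) hloc := subsheafLift G (imgSub φ) hloc φ (fun V m => ⟨m, rfl⟩)
  have ha : a ≫ subsheafι G (imgSub φ) hloc = φ := subsheafLift_ι G (imgSub φ) hloc φ _
  have hz : subsheafι G (imgSub φ) hloc ≫ cokernel.π φ = 0 := by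
    apply Scheme.Modules.hom_ext
    intro U
    ext s
    obtain ⟨t, ht⟩ := subsheafι_app_mem G (imgSub φ) hloc U s
    show (cokernel.π φ).app U ((subsheafι G (imgSub φ) hloc).app U s) = 0
    have ht' : φ.app U t = (subsheafι G (imgSub φ) hloc).app U s := ht
    rw [← ht']
    have := cokernel.condition φ
    exact congr(($this).app U t)
  let hk := Abelian.monoIsKernelOfCokernel _ (cokernelIsCokernel φ)
  let b : subsheaf G (imgSub φ) hloc ⟶ N := hk.lift (KernelFork.ofι _ hz)
  have hb : b ≫ φ = subsheafι G (imgSub φ) hloc := hk.fac _ WalkingParallelPair.zero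
  refine ⟨⟨a, b, ?_, ?_⟩⟩
  · rw [← cancel_mono φ, Category.assoc, hb, ha, Category.id_comp]
  · rw [← cancel_mono (subsheafι G (imgSub φ) hloc), Category.assoc, ha, hb, Category.id_comp]

variable (G) in
/-- the finite type quasi-coherent sub-presheaves of modules which are subsheaves -/
def IsFTSub (G' : PresheafOfModules.Submodule G.val) : Prop :=
  ∃ hloc : IsLocalSub G G', (subsheaf G G' hloc).IsQuasicoherent ∧
    SheafOfModules.IsFiniteType (R := X.ringCatSheaf) (subsheaf G G' hloc)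

lemma isFTSub_imgSub {N : X.Modules} (φ : N ⟶ G) [Mono φ] [N.IsQuasicoherent]
    [SheafOfModules.IsFiniteType (R := X.ringCatSheaf) N] : IsFTSub G (imgSub φ) := by
  obtain ⟨e⟩ := nonempty_iso_subsheaf_imgSub φ
  refine ⟨isLocalSub_imgSub φ, Groth.Agent.Helper13.QCohLocal.isQuasicoherent_of_iso e, ?_⟩
  exact isFiniteType_of_epi e.hom


open Groth.Agent.Helper13.QCohLocal Groth.Agent.Helper13.QCohFin in
/-- the finite type quasi-coherent subsheaves form a directed family -/
theorem exists_isFTSub_ge [G.IsQuasicoherent] (G₁ G₂ : PresheafOfModules.Submodule G.val)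
    (h₁ : IsFTSub G G₁) (h₂ : IsFTSub G G₂) :
    ∃ G₃ : PresheafOfModules.Submodule G.val, IsFTSub G G₃ ∧ G₁ ≤ G₃ ∧ G₂ ≤ G₃ := by
  obtain ⟨l₁, q₁, f₁⟩ := h₁
  obtain ⟨l₂, q₂, f₂⟩ := h₂
  let N₁ := subsheaf G G₁ l₁
  let N₂ := subsheaf G G₂ l₂
  haveI : N₁.IsQuasicoherent := q₁
  haveI : N₂.IsQuasicoherent := q₂
  haveI : SheafOfModules.IsFiniteType (R := X.ringCatSheaf) N₁ := f₁
  haveI : SheafOfModules.IsFiniteType (R := X.ringCatSheaf) N₂ := f₂
  let B : X.Modules := N₁ ⊞ N₂
  let d : B ⟶ G := biprod.desc (subsheafι G G₁ l₁) (subsheafι G G₂ l₂)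
  haveI : B.IsQuasicoherent := isQuasicoherent_biprod N₁ N₂
  haveI hft : SheafOfModules.IsFiniteType (R := X.ringCatSheaf) B :=
    isFiniteType_of_shortExact (ShortComplex.mk (biprod.inl : N₁ ⟶ N₁ ⊞ N₂) (biprod.snd : N₁ ⊞ N₂ ⟶ N₂)
      biprod.inl_snd) (ShortComplex.Splitting.ofHasBinaryBiproduct N₁ N₂).shortExact
  haveI : (cokernel d).IsQuasicoherent := isQuasicoherent_cokernel d
  let P : X.Modules := Abelian.image d
  let ψ : P ⟶ G := Abelian.image.ι d
  let e : B ⟶ P := Abelian.factorThruImage d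
  haveI : Mono ψ := inferInstanceAs (Mono (Abelian.image.ι d))
  haveI : Epi e := inferInstanceAs (Epi (Abelian.factorThruImage d))
  haveI : P.IsQuasicoherent := isQuasicoherent_kernel (cokernel.π d)
  haveI : SheafOfModules.IsFiniteType (R := X.ringCatSheaf) P := isFiniteType_of_epi e
  have hfac : e ≫ ψ = d := Abelian.image.fac d
  refine ⟨imgSub ψ, isFTSub_imgSub ψ, ?_, ?_⟩
  · rw [PresheafOfModules.Submodule.le_iff]
    intro V t ht
    obtain ⟨s, hs⟩ := exists_of_mem G G₁ l₁ V.unop t ht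
    refine ⟨((biprod.inl : N₁ ⟶ B) ≫ e).app V.unop s, ?_⟩
    have e' : ((biprod.inl : N₁ ⟶ B) ≫ e) ≫ ψ = subsheafι G G₁ l₁ := by
      rw [Category.assoc, hfac, biprod.inl_desc]
    exact (congr(($e').app V.unop s)).trans hs
  · rw [PresheafOfModules.Submodule.le_iff]
    intro V t ht
    obtain ⟨s, hs⟩ := exists_of_mem G G₂ l₂ V.unop t ht
    refine ⟨((biprod.inr : N₂ ⟶ B) ≫ e).app V.unop s, ?_⟩
    have e' : ((biprod.inr : N₂ ⟶ B) ≫ e) ≫ ψ = subsheafι G G₂ l₂ := by
      rw [Category.assoc, hfac, biprod.inr_desc]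
    exact (congr(($e').app V.unop s)).trans hs

section Qcqs
variable [CompactSpace X] [QuasiSeparatedSpace X] [G.IsQuasicoherent]

/-- every section over a compact open lies in a finite type quasi-coherent subsheaf -/
theorem exists_isFTSub_mem (U : X.Opens) (hU : IsCompact (U : Set X)) (t : Γ(G, U)) :
    ∃ G' : PresheafOfModules.Submodule G.val, IsFTSub G G' ∧ t ∈ G'.obj (op U) := by
  obtain ⟨N, φ, hφ, hq, hf, hg⟩ := Groth.Agent.Helper13.FTSub.exists_ft_sub_through_sections G PUnit.{u + 1}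
    (fun _ => U) (fun _ => hU) (fun _ => t)
  haveI := hφ
  haveI := hq
  haveI := hf
  exact ⟨imgSub φ, isFTSub_imgSub φ, hg PUnit.unit⟩

theorem exists_isFTSub : ∃ G' : PresheafOfModules.Submodule G.val, IsFTSub G G' := by
  obtain ⟨G', h, -⟩ := exists_isFTSub_mem (G := G) ⊥ (by simp) 0
  exact ⟨G', h⟩

end Qcqs

end Groth.Agent.Helper13.FTSubPoset
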