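import Mathlib
import Groth.Prelude.Def_Coh
import Groth.Agent.Lib.Helper13.FTSubPoset
import Groth.Agent.Lib.Helper13.ColimCrit
import Groth.Agent.Lib.Helper13.ColimCoh
import Groth.Agent.Lib.Helper13.HUTop

/-!
A quasi-coherent module on a qcqs scheme is the filtered colimit of its finite type quasi-coherent
subsheaves; consequence for cohomology vanishing (helper13).
-/

set_option autoImplicit false
set_option linter.unusedSectionVars false
universe u
open CategoryTheory CategoryTheory.Limits AlgebraicGeometry Opposite TopologicalSpace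
open Groth.Agent.Helper13.QCoh Groth.Agent.Helper13.FinType Groth.Agent.Helper13.FTSubPoset

namespace Groth.Agent.Helper13.FTColim

variable {X : Scheme.{u}} (G : X.Modules)

/-- the poset of finite type quasi-coherent subsheaves -/
abbrev JJ : Type u := {G' : PresheafOfModules.Submodule G.val // IsFTSub G G'}

/-- the subsheaf attached to an index -/
noncomputable def sub (j : JJ G) : X.Modules := subsheaf G j.1 j.2.choose

/-- its inclusion -/
noncomputable def subι (j : JJ G) : sub G j ⟶ G := subsheafι G j.1 j.2.choose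

instance (j : JJ G) : Mono (subι G j) := inferInstanceAs (Mono (subsheafι G j.1 j.2.choose))

lemma sub_isQuasicoherent (j : JJ G) : (sub G j).IsQuasicoherent := j.2.choose_spec.1

lemma sub_isFiniteType (j : JJ G) : SheafOfModules.IsFiniteType (R := X.ringCatSheaf) (sub G j) :=
  j.2.choose_spec.2

/-- the transition maps -/
noncomputable def incl {j k : JJ G} (h : j ≤ k) : sub G j ⟶ sub G k :=
  subsheafLift G k.1 k.2.choose (subι G j)
    (fun V m => (PresheafOfModules.Submodule.le_iff.1 h (op V)) (subsheafι_app_mem G j.1 j.2.choose V m))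

lemma incl_ι {j k : JJ G} (h : j ≤ k) : incl G h ≫ subι G k = subι G j :=
  subsheafLift_ι G k.1 k.2.choose _ _

/-- the diagram of finite type quasi-coherent subsheaves -/
noncomputable def DD : JJ G ⥤ X.Modules where
  obj j := sub G j
  map f := incl G (leOfHom f)
  map_id j := by
    rw [← cancel_mono (subι G j), incl_ι, Category.id_comp]
  map_comp f g := by
    rw [← cancel_mono (subι G _), Category.assoc, incl_ι, incl_ι, incl_ι]


/-- the diagram of underlying abelian sheaves -/
noncomputable abbrev DAb : JJ G ⥤ CohTop.Ab X.toTopCat :=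
  DD G ⋙ SheafOfModules.toSheaf X.ringCatSheaf

/-- the cocone of inclusions -/
noncomputable def cc : Cocone (DAb G) where
  pt := Coh.toAb G
  ι :=
    { app := fun j => (SheafOfModules.toSheaf X.ringCatSheaf).map (subι G j)
      naturality := by
        intro j k f
        show (SheafOfModules.toSheaf X.ringCatSheaf).map (incl G (leOfHom f)) ≫
          (SheafOfModules.toSheaf X.ringCatSheaf).map (subι G k) =
          (SheafOfModules.toSheaf X.ringCatSheaf).map (subι G j) ≫ 𝟙 _
        exact ((SheafOfModules.toSheaf X.ringCatSheaf).map_comp _ _).symm.trans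
          ((congrArg (SheafOfModules.toSheaf X.ringCatSheaf).map (incl_ι G (leOfHom f))).trans
            (Category.comp_id _).symm) }

section Qcqs

variable [CompactSpace X] [QuasiSeparatedSpace X] [G.IsQuasicoherent]

instance : Nonempty (JJ G) := by
  obtain ⟨G', h⟩ := exists_isFTSub (G := G)
  exact ⟨⟨G', h⟩⟩

instance : IsDirected (JJ G) (· ≤ ·) where
  directed a b := by
    obtain ⟨G₃, h₃, h₁, h₂⟩ := exists_isFTSub_ge a.1 b.1 a.2 b.2
    exact ⟨⟨G₃, h₃⟩, h₁, h₂⟩

theorem isColimit_cc : Nonempty (IsColimit (cc G)) := by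
  haveI : PrespectralSpace X.toTopCat := inferInstanceAs (PrespectralSpace X)
  haveI : QuasiSeparatedSpace X.toTopCat := inferInstanceAs (QuasiSeparatedSpace X)
  refine Groth.Agent.Helper13.ColimCrit.isColimit_of_basis (X := X.toTopCat) (DAb G) (cc G)
    (X.affineOpens : Set X.Opens) X.isBasis_affineOpens ?_ ?_ ?_
  · intro U hU
    exact ⟨IsAffineOpen.isCompact hU, Groth.Agent.Helper13.ColimSec.qSep_of_quasiSeparatedSpace U⟩
  · intro U hU t
    obtain ⟨G', h, ht⟩ := exists_isFTSub_mem (G := G) U (IsAffineOpen.isCompact hU) t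
    obtain ⟨s, hs⟩ := exists_of_mem G G' h.choose U t ht
    exact ⟨⟨G', h⟩, s, hs⟩
  · intro U hU j s hs
    refine ⟨j, 𝟙 j, ?_⟩
    have h0 : s = 0 := by
      apply subsheafι_app_injective G j.1 j.2.choose U
      have h1 : (subsheafι G j.1 j.2.choose).app U s = 0 := hs
      have h2 : (subsheafι G j.1 j.2.choose).app U 0 = 0 := map_zero _
      exact h1.trans h2.symm
    rw [h0, map_zero]


/-- if `H^p` vanishes on finite type quasi-coherent modules, it vanishes on all quasi-coherent modules -/
theorem HH_subsingleton_of_ft (p : ℕ)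
    (h : ∀ N : X.Modules, N.IsQuasicoherent → SheafOfModules.IsFiniteType (R := X.ringCatSheaf) N →
      Subsingleton (Coh.HH X N p)) : Subsingleton (Coh.HH X G p) := by
  haveI : PrespectralSpace X.toTopCat := inferInstanceAs (PrespectralSpace X)
  haveI : QuasiSeparatedSpace X.toTopCat := inferInstanceAs (QuasiSeparatedSpace X)
  haveI : CompactSpace X.toTopCat := inferInstanceAs (CompactSpace X)
  obtain ⟨hcol⟩ := isColimit_cc G
  let F : CohTop.Ab X.toTopCat ⥤ AddCommGrpCat.{u} :=
    (Sheaf.cohomologyPresheafFunctor (Opens.grothendieckTopology X.toTopCat) p).flip.obj (op ⊤)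
  haveI : PreservesColimitsOfShape (JJ G) F :=
    Groth.Agent.Helper13.ColimCoh.preservesColimitsOfShape_HU (X := X.toTopCat) (J := JJ G) ⊤
      (by simpa using isCompact_univ) (Groth.Agent.Helper13.ColimSec.qSep_of_quasiSeparatedSpace ⊤) p
  have hz : ∀ x : F.obj (Coh.toAb G), x = 0 := by
    intro x
    obtain ⟨j, y, hy⟩ := DeltaFColim.exists_rep (DAb G ⋙ F) (isColimitOfPreserves F hcol) x
    have hsub : Subsingleton (Coh.HH X (sub G j) p) := h _ (sub_isQuasicoherent G j) (sub_isFiniteType G j)
    have hsub' : Subsingleton (CohTop.HU (X := X.toTopCat) (Coh.toAb (sub G j)) p ⊤) :=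
      @Function.Injective.subsingleton _ _ _
        (Groth.Agent.Helper13.HUTop.HUtopEquiv (X := X.toTopCat) (Coh.toAb (sub G j)) p).injective hsub
    have hy0 : y = 0 := @Subsingleton.elim _ hsub' _ _
    rw [← hy, hy0]
    exact map_zero _
  have hsub : Subsingleton (CohTop.HU (X := X.toTopCat) (Coh.toAb G) p ⊤) :=
    ⟨fun a b => (hz a).trans (hz b).symm⟩
  exact @Function.Injective.subsingleton _ _ _
    (Groth.Agent.Helper13.HUTop.HUtopEquiv (X := X.toTopCat) (Coh.toAb G) p).symm.injective hsub

end Qcqs

end Groth.Agent.Helper13.FTColim
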