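import Mathlib
import Groth.Prelude.Def_CohTop

universe u
set_option linter.unusedSectionVars false
set_option autoImplicit false
open CategoryTheory CategoryTheory.Limits Opposite TopologicalSpace

namespace Groth.Agent.Helper13.MVLemma

variable {X : TopCat.{u}}

/-- Mayer–Vietoris vanishing -/
theorem HU_sup_subsingleton (F : CohTop.Ab X) (U V : Opens X) (n : ℕ)
    (h1 : Subsingleton (CohTop.HU F n (U ⊓ V))) (h2 : Subsingleton (CohTop.HU F (n+1) U))
    (h3 : Subsingleton (CohTop.HU F (n+1) V)) : Subsingleton (CohTop.HU F (n+1) (U ⊔ V)) := by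
  let S := Opens.mayerVietorisSquare (T := X) U V
  have hex := S.sequence_exact F n (n+1) rfl
  have h := (ShortComplex.ab_exact_iff _).1 (hex.exact 2)
  refine subsingleton_of_forall_eq 0 fun x => ?_
  have hsub : Subsingleton ↑(Sheaf.H' F (n+1) S.X₂ ⊞ Sheaf.H' F (n+1) S.X₃ : AddCommGrpCat.{u}) := by
    refine ⟨fun a b => ?_⟩
    apply (AddCommGrpCat.biprodIsoProd _ _).addCommGroupIsoToAddEquiv.injective
    haveI : Subsingleton (Sheaf.H' F (n+1) S.X₂ : AddCommGrpCat.{u}) := h2
    haveI : Subsingleton (Sheaf.H' F (n+1) S.X₃ : AddCommGrpCat.{u}) := h3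
    exact Subsingleton.elim _ _
  obtain ⟨y, hy⟩ := h x (hsub.elim _ _)
  have hy0 : y = 0 := Subsingleton.elim (α := CohTop.HU F n (U ⊓ V)) y 0
  rw [← hy, hy0]
  exact map_zero _

end Groth.Agent.Helper13.MVLemma
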