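import Mathlib
import Groth.Prelude.Def_Coh
import Groth.Prelude.Def_CohTop
import Groth.Agent.Lib.Helper13.AffineVanish
import Groth.Agent.Lib.Helper13.MVLemma
import Groth.Agent.Lib.Helper13.HUTop

universe u
set_option linter.unusedSectionVars false
set_option autoImplicit false
open CategoryTheory CategoryTheory.Limits Opposite TopologicalSpace AlgebraicGeometry

namespace Groth.Agent.Helper13.VanishBound

open Groth.Agent.Helper13.AffineVanish Groth.Agent.Helper13.MVLemma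

variable {X : Scheme.{u}} (M : X.Modules) [M.IsQuasicoherent]

/-- cohomology of a quasi-coherent module over a union of `s+1` affine opens (taken from a class
of affine opens stable under intersection) vanishes in degrees `> s` -/
theorem HU_iSup_fin_subsingleton (𝒜 : Set X.Opens) (h𝒜 : ∀ V ∈ 𝒜, IsAffineOpen V)
    (hinf : ∀ V ∈ 𝒜, ∀ W ∈ 𝒜, V ⊓ W ∈ 𝒜) :
    ∀ (s : ℕ) (U : Fin (s+1) → X.Opens), (∀ i, U i ∈ 𝒜) → ∀ n, s + 1 ≤ n →
      Subsingleton (CohTop.HU (X := X.toTopCat) (Coh.toAb M) n (⨆ i, U i)) := by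
  intro s
  induction s with
  | zero =>
    intro U hU n hn
    obtain ⟨m, rfl⟩ : ∃ m, n = m + 1 := ⟨n - 1, by omega⟩
    have : (⨆ i, U i) = U 0 := by
      refine le_antisymm (iSup_le fun i => ?_) (le_iSup U 0)
      rw [Fin.fin_one_eq_zero i]
    rw [this]
    exact HU_subsingleton_of_isAffineOpen M _ (h𝒜 _ (hU 0)) m
  | succ s ih =>
    intro U hU n hn
    obtain ⟨m, rfl⟩ : ∃ m, n = m + 1 := ⟨n - 1, by omega⟩
    have hm : s + 1 ≤ m := by omega
    have h0 : (⨆ i, U i) = U 0 ⊔ ⨆ i : Fin (s+1), U i.succ := by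
      apply le_antisymm
      · refine iSup_le fun i => ?_
        refine Fin.cases le_sup_left (fun j => ?_) i
        exact (le_iSup (fun j : Fin (s+1) => U j.succ) j).trans le_sup_right
      · exact sup_le (le_iSup U 0) (iSup_le fun j => le_iSup U j.succ)
    rw [h0]
    apply HU_sup_subsingleton (X := X.toTopCat) (Coh.toAb M)
    · have : U 0 ⊓ ⨆ i : Fin (s+1), U i.succ = ⨆ i : Fin (s+1), U 0 ⊓ U i.succ := inf_iSup_eq _ _
      rw [this]
      exact ih (fun i => U 0 ⊓ U i.succ) (fun i => hinf _ (hU 0) _ (hU _)) m hm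
    · exact HU_subsingleton_of_isAffineOpen M _ (h𝒜 _ (hU 0)) m
    · exact ih (fun i => U i.succ) (fun i => hU _) (m+1) (by omega)

theorem HU_iSup_subsingleton (𝒜 : Set X.Opens) (h𝒜 : ∀ V ∈ 𝒜, IsAffineOpen V)
    (hinf : ∀ V ∈ 𝒜, ∀ W ∈ 𝒜, V ⊓ W ∈ 𝒜) {ι : Type*} [Finite ι] [Nonempty ι]
    (U : ι → X.Opens) (hU : ∀ i, U i ∈ 𝒜) (n : ℕ) (hn : Nat.card ι ≤ n) :
    Subsingleton (CohTop.HU (X := X.toTopCat) (Coh.toAb M) n (⨆ i, U i)) := by
  have hpos : 0 < Nat.card ι := Nat.card_pos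
  obtain ⟨s, hs⟩ : ∃ s, Nat.card ι = s + 1 := ⟨Nat.card ι - 1, by omega⟩
  let e : ι ≃ Fin (s+1) := (Finite.equivFin ι).trans (finCongr hs)
  have h1 := HU_iSup_fin_subsingleton M 𝒜 h𝒜 hinf s (fun k => U (e.symm k)) (fun k => hU _) n
    (by omega)
  have h2 : (⨆ k, U (e.symm k)) = ⨆ i, U i := e.symm.iSup_comp (g := U)
  rw [h2] at h1
  exact h1

end Groth.Agent.Helper13.VanishBound
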