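import Mathlib
import Groth.Prelude.Def_Coh
import Groth.Agent.Lib.Helper13.ToAbExact
import Groth.Agent.Lib.Helper13.FinGlobGen
import Groth.Agent.Lib.Helper13.FinTypeEpi
import Groth.Agent.Lib.Helper13.FreeMod
import Groth.Agent.Lib.Helper13.QCohKer
import Groth.Agent.Lib.Helper13.QCohAss
import Groth.Agent.Lib.Helper13.FTColim
import Groth.Agent.Lib.Helper13.VanishBound
import Groth.Agent.S0016

/-!
Quasi-affine schemes with acyclic structure sheaf: all quasi-coherent modules are acyclic (helper13).
-/

set_option autoImplicit false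
set_option linter.unusedSectionVars false
universe u
open CategoryTheory CategoryTheory.Limits AlgebraicGeometry Opposite TopologicalSpace
open Groth.Agent.Helper13.QCoh Groth.Agent.Helper13.FinType Groth.Agent.Helper13.GlobGen
  Groth.Agent.Helper13.ToAbExact Groth.Agent.Helper13.QCohLocal

namespace Groth.Agent.Helper13.QAffAcyc

variable {X : Scheme.{u}}

open Abelian

theorem HH_mid (S : ShortComplex X.Modules) (hS : S.ShortExact) (p : ℕ)
    (h1 : Subsingleton (Coh.HH X S.X₁ p)) (h3 : Subsingleton (Coh.HH X S.X₃ p)) :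
    Subsingleton (Coh.HH X S.X₂ p) := by
  have hS' := toAb_shortExact S hS
  refine subsingleton_of_forall_eq 0 fun x₂ => ?_
  obtain ⟨x₁, hx₁⟩ := Ext.covariant_sequence_exact₂ _ hS' x₂
    (Subsingleton.elim (α := Coh.HH X S.X₃ p) _ _)
  have h0 : x₁ = 0 := Subsingleton.elim (α := Coh.HH X S.X₁ p) x₁ 0
  rw [← hx₁, h0, Ext.zero_comp]
  rfl

theorem HH_right (S : ShortComplex X.Modules) (hS : S.ShortExact) (p : ℕ)
    (h2 : Subsingleton (Coh.HH X S.X₂ p)) (h1 : Subsingleton (Coh.HH X S.X₁ (p + 1))) :
    Subsingleton (Coh.HH X S.X₃ p) := by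
  have hS' := toAb_shortExact S hS
  refine subsingleton_of_forall_eq 0 fun x₃ => ?_
  obtain ⟨x₂, hx₂⟩ := Ext.covariant_sequence_exact₃ _ hS' x₃ (n₁ := p + 1) rfl
    (Subsingleton.elim (α := Coh.HH X S.X₁ (p + 1)) _ _)
  have h0 : x₂ = 0 := Subsingleton.elim (α := Coh.HH X S.X₂ p) x₂ 0
  rw [← hx₂, h0, Ext.zero_comp]
  rfl

lemma HH_subsingleton_of_isZero (F : X.Modules) (hF : IsZero F) (p : ℕ) : Subsingleton (Coh.HH X F p) :=
  Sheaf.subsingleton_H_of_isZero ((toAbF X).map_isZero hF) p


open Groth.Agent.Helper13.LocFree in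
/-- if `H^p(O_X) = 0` and `H^{p+1}` vanishes on all quasi-coherent modules, then `H^p` vanishes on
quasi-coherent modules generated by finitely many global sections -/
theorem HH_subsingleton_of_genOn (p : ℕ) (hO : Subsingleton (Coh.HH X (Coh.structureModule X) p))
    (hnext : ∀ K : X.Modules, K.IsQuasicoherent → Subsingleton (Coh.HH X K (p + 1))) :
    ∀ (n : ℕ) (F : X.Modules) (_ : F.IsQuasicoherent) (t : Fin n → Γ(F, ⊤)), GenOn F ⊤ t →
      Subsingleton (Coh.HH X F p) := by
  intro n
  induction n with
  | zero =>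
    intro F _ t ht
    apply HH_subsingleton_of_isZero
    rw [isZero_iff_stalk]
    intro x
    have h := ht x trivial
    have : (Set.range fun i : Fin 0 => F.presheaf.germ ⊤ x trivial (t i)) = ∅ := Set.range_eq_empty _
    rw [this, Submodule.span_empty] at h
    exact (Submodule.subsingleton_iff (X.presheaf.stalk x)).1 (subsingleton_of_bot_eq_top h)
  | succ n ih =>
    intro F hF t ht
    haveI : F.IsQuasicoherent := hF
    haveI : (Coh.structureModule X).IsQuasicoherent := Groth.Agent.Helper13.QCoh.isQuasicoherent_unit X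
    let a : Coh.structureModule X ⟶ F := homOfSec F (t 0)
    let P : X.Modules := Abelian.image a
    let Q : X.Modules := cokernel a
    let e : Coh.structureModule X ⟶ P := Abelian.factorThruImage a
    let ψ : P ⟶ F := Abelian.image.ι a
    let π : F ⟶ Q := cokernel.π a
    haveI : Epi e := inferInstanceAs (Epi (Abelian.factorThruImage a))
    haveI : Mono ψ := inferInstanceAs (Mono (Abelian.image.ι a))
    haveI : Epi π := inferInstanceAs (Epi (cokernel.π a))
    haveI hQ : Q.IsQuasicoherent := isQuasicoherent_cokernel a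
    haveI hP : P.IsQuasicoherent := isQuasicoherent_kernel (cokernel.π a)
    let K : X.Modules := kernel e
    haveI hK : K.IsQuasicoherent := isQuasicoherent_kernel e
    -- `H^p(P) = 0`
    have hS2 : (ShortComplex.mk (kernel.ι e) e (kernel.condition e)).ShortExact :=
      ShortComplex.ShortExact.mk' (ShortComplex.exact_of_f_is_kernel _ (kernelIsKernel e))
        inferInstance inferInstance
    have hPz : Subsingleton (Coh.HH X P p) := HH_right _ hS2 p hO (hnext K hK)
    -- `H^p(Q) = 0` by induction
    have hπ0 : π.app ⊤ (t 0) = 0 := by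
      have h1 := homOfSec_app_one F (t 0) ⊤
      have h2 : F.presheaf.map (homOfLE (le_top : (⊤ : X.Opens) ≤ ⊤)).op (t 0) = t 0 := by
        have : F.presheaf.map (homOfLE (le_top : (⊤ : X.Opens) ≤ ⊤)).op = 𝟙 _ := F.presheaf.map_id _
        exact congr($this (t 0))
      rw [h2] at h1
      rw [← h1]
      have h3 : a ≫ π = 0 := cokernel.condition a
      exact congr(($h3).app ⊤ (toO ⊤ 1))
    have hgen := GenOn.map_of_epi π ht
    have hgen' : GenOn Q ⊤ (fun i : Fin n => π.app ⊤ (t i.succ)) := by
      intro y hy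
      rw [eq_top_iff, ← hgen y hy, Submodule.span_le]
      rintro _ ⟨i, rfl⟩
      refine Fin.cases ?_ (fun j => ?_) i
      · show Q.presheaf.germ ⊤ y hy (π.app ⊤ (t 0)) ∈ _
        rw [hπ0, map_zero]
        exact Submodule.zero_mem _
      · exact Submodule.subset_span ⟨j, rfl⟩
    have hQz : Subsingleton (Coh.HH X Q p) := ih Q hQ _ hgen'
    have hS1 : (ShortComplex.mk ψ π (kernel.condition (cokernel.π a))).ShortExact :=
      ShortComplex.ShortExact.mk' (ShortComplex.exact_of_f_is_kernel _ (kernelIsKernel (cokernel.π a)))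
        inferInstance inferInstance
    exact HH_mid _ hS1 p hPz hQz


/-- on a quasi-affine scheme with acyclic structure sheaf, every quasi-coherent module is acyclic -/
theorem HH_subsingleton_of_isQuasiAffine [X.IsQuasiAffine]
    (h : ∀ p : ℕ, 0 < p → Subsingleton (Coh.HH X (Coh.structureModule X) p)) (p : ℕ) (hp : 0 < p)
    (F : X.Modules) (hF : F.IsQuasicoherent) : Subsingleton (Coh.HH X F p) := by
  obtain ⟨d, hd⟩ := Groth.Agent.S0016.result X
  have key : ∀ (k p : ℕ), 0 < p → d ≤ p + k → ∀ F : X.Modules, F.IsQuasicoherent →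
      Subsingleton (Coh.HH X F p) := by
    intro k
    induction k with
    | zero =>
      intro p _ hdp F hF
      exact hd F hF p (by omega)
    | succ k ih =>
      intro p hp hdp F hF
      haveI : F.IsQuasicoherent := hF
      apply Groth.Agent.Helper13.FTColim.HH_subsingleton_of_ft F p
      intro N hNq hNf
      haveI : N.IsQuasicoherent := hNq
      haveI : SheafOfModules.IsFiniteType (R := X.ringCatSheaf) N := hNf
      have hgg := (isGloballyGenerated_iff N).1 (isGloballyGenerated_of_isQuasiAffine N)
      obtain ⟨n, t, ht⟩ := Groth.Agent.Helper13.FinGlobGen.exists_fin_genOn N hgg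
      exact HH_subsingleton_of_genOn p (h p hp) (fun K hK => ih (p + 1) (by omega) (by omega) K hK)
        n N hNq t ht
  exact key d p hp (by omega) F hF

end Groth.Agent.Helper13.QAffAcyc
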