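import Mathlib
import Groth.Agent.Lib.Helper13.QCohStalk
import Groth.Agent.Lib.Helper13.EpiStalk
import Groth.Agent.Lib.Helper13.QCohPush

/-!
# Epimorphisms of quasi-coherent modules are surjective on sections over affine opens;
direct images along affine morphisms preserve epimorphisms of quasi-coherent modules
-/

set_option autoImplicit false
universe u
open CategoryTheory CategoryTheory.Limits AlgebraicGeometry Opposite TopologicalSpace
open Groth.Agent.Helper13.QCoh Groth.Agent.Helper13.FinType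

namespace Groth.Agent.Helper13.AffSurj

variable {X Y : Scheme.{u}}

/-- an epimorphism of quasi-coherent modules is surjective on the sections over an affine open. -/
theorem surjective_app_of_epi {E M : X.Modules} [E.IsQuasicoherent] [M.IsQuasicoherent]
    (π : E ⟶ M) [Epi π] {U : X.Opens} (hU : IsAffineOpen U) :
    Function.Surjective (π.app U) := by
  intro s
  have key : ∀ x : U, ∃ a : Γ(X, U), (x : X) ∈ X.basicOpen a ∧
      ∃ e : Γ(E, U), π.app U e = a • s := by
    intro x
    obtain ⟨ex, hex⟩ := stalkMap_surjective_of_epi π x.1 (M.presheaf.germ U x.1 x.2 s)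
    obtain ⟨b, hxb, e, he⟩ := exists_germ_smul_eq E hU x.1 x.2 ex
    have h0 : M.presheaf.germ U x.1 x.2 (b • s - π.app U e) = 0 := by
      rw [map_sub, germ_smul, ← stalkMap_germ π x.1 U x.2 e, ← he, stalkMap_smul, hex, sub_self]
    obtain ⟨c, hxc, hc⟩ := exists_smul_eq_zero_of_germ_eq_zero M hU x.1 x.2 _ h0
    refine ⟨c * b, ?_, c • e, ?_⟩
    · rw [Scheme.basicOpen_mul]
      exact ⟨hxc, hxb⟩
    · rw [smul_sub, sub_eq_zero] at hc
      rw [Scheme.Modules.Hom.app_smul, ← hc, mul_smul]
  let I : Ideal Γ(X, U) :=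
    { carrier := {a | ∃ e : Γ(E, U), π.app U e = a • s}
      add_mem' := by
        rintro a b ⟨e, he⟩ ⟨e', he'⟩
        exact ⟨e + e', by rw [map_add, he, he', add_smul]⟩
      zero_mem' := ⟨0, by rw [map_zero, zero_smul]⟩
      smul_mem' := by
        rintro c a ⟨e, he⟩
        exact ⟨c • e, by rw [Scheme.Modules.Hom.app_smul, he, smul_eq_mul, mul_smul]⟩ }
  have hI : Ideal.span (I : Set Γ(X, U)) = ⊤ := by
    rw [← hU.self_le_iSup_basicOpen_iff]
    intro x hx
    obtain ⟨a, hxa, ha⟩ := key ⟨x, hx⟩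
    exact Opens.mem_iSup.2 ⟨⟨a, ha⟩, hxa⟩
  rw [Ideal.span_eq] at hI
  have h1 : (1 : Γ(X, U)) ∈ I := by rw [hI]; trivial
  obtain ⟨e, he⟩ := h1
  exact ⟨e, by rw [he, one_smul]⟩

/-- the direct image along an affine morphism preserves epimorphisms of quasi-coherent
modules. -/
theorem epi_pushforward_of_affine (f : X ⟶ Y) [IsAffineHom f] {E M : X.Modules}
    [E.IsQuasicoherent] [M.IsQuasicoherent] (π : E ⟶ M) [Epi π] :
    Epi ((Scheme.Modules.pushforward f).map π) := by
  rw [epi_iff_stalkMap_surjective]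
  intro y t
  obtain ⟨W, hyW, s, rfl⟩ := TopCat.Presheaf.exists_germ_eq
    ((Scheme.Modules.pushforward f).obj M).presheaf t
  obtain ⟨_, ⟨V, hV, rfl⟩, hyV, hVW⟩ := Y.isBasis_affineOpens.exists_subset_of_mem_open
    hyW W.2
  have hV' : IsAffineOpen V := hV
  have hVW' : V ≤ W := hVW
  have hU : IsAffineOpen (f ⁻¹ᵁ V) := hV'.preimage f
  let s' : Γ(M, f ⁻¹ᵁ V) := ((Scheme.Modules.pushforward f).obj M).presheaf.map (homOfLE hVW').op s
  obtain ⟨e, he⟩ := surjective_app_of_epi π hU s'
  refine ⟨((Scheme.Modules.pushforward f).obj E).presheaf.germ V y hyV e, ?_⟩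
  rw [stalkMap_germ]
  have h1 : ((Scheme.Modules.pushforward f).map π).app V e = s' := he
  rw [h1]
  exact TopCat.Presheaf.germ_res_apply _ (homOfLE hVW') y hyV s

end Groth.Agent.Helper13.AffSurj
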