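import Mathlib
import Groth.Prelude.Def_RefHull
import Groth.Agent.Lib.Lead.HomSh4
import Groth.Agent.Lib.Helper13.FinAffine2
import Groth.Agent.Lib.Helper13.TensorMap
import Groth.Agent.Lib.Helper13.EpiStalk
import Groth.Agent.Lib.Helper13.LocFree3

/-!
# The sheaf Hom over affine opens; finiteness; the evaluation map `𝓗om(F, G) ⊗ F ⟶ G`
-/

set_option autoImplicit false
set_option maxHeartbeats 400000
universe u
open CategoryTheory CategoryTheory.Limits AlgebraicGeometry Opposite TopologicalSpace TensorProduct
open RefHull Groth.Agent.Lead.HomSh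
open Groth.Agent.Helper13.QCoh Groth.Agent.Helper13.FinType Groth.Agent.Helper13.Tensor
open Groth.Agent.Helper13.LocFree

namespace Groth.Agent.Helper13.HomShAff

section Alg

/-- linear maps from a finite projective module to a finite module form a finite module. -/
theorem finite_linearMap_of_projective (A P N : Type u) [CommRing A] [AddCommGroup P] [Module A P]
    [Module.Finite A P] [Module.Projective A P] [AddCommGroup N] [Module A N] [Module.Finite A N] :
    Module.Finite A (P →ₗ[A] N) := by
  obtain ⟨n, p, s, -, -, hps⟩ := Module.Finite.exists_comp_eq_id_of_projective A P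
  let R : ((Fin n → A) →ₗ[A] N) →ₗ[A] (P →ₗ[A] N) := LinearMap.lcomp A N s
  have hR : Function.Surjective R := by
    intro ψ
    refine ⟨ψ ∘ₗ p, ?_⟩
    change (ψ ∘ₗ p) ∘ₗ s = ψ
    rw [LinearMap.comp_assoc, hps, LinearMap.comp_id]
  exact Module.Finite.of_surjective R hR

/-- transitivity of finite projectivity. -/
theorem projective_trans (A B P : Type u) [CommRing A] [CommRing B] [Algebra A B]
    [AddCommGroup P] [Module A P] [Module B P] [IsScalarTower A B P]
    [Module.Finite A B] [Module.Projective A B] [Module.Finite B P] [Module.Projective B P] :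
    Module.Projective A P := by
  obtain ⟨n, fP, gP, -, -, hP⟩ := Module.Finite.exists_comp_eq_id_of_projective B P
  obtain ⟨m, fB, gB, -, -, hB⟩ := Module.Finite.exists_comp_eq_id_of_projective A B
  let i : P →ₗ[A] (Fin n → Fin m → A) := (gB.compLeft (Fin n)) ∘ₗ (gP.restrictScalars A)
  let s : (Fin n → Fin m → A) →ₗ[A] P := (fP.restrictScalars A) ∘ₗ (fB.compLeft (Fin n))
  have h : s ∘ₗ i = LinearMap.id := by
    ext p
    change fP (fun k => fB (gB (gP p k))) = p
    have h1 : ∀ b : B, fB (gB b) = b := fun b => congr($hB b)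
    simp only [h1]
    exact congr($hP p)
  exact Module.Projective.of_split i s h

/-- over a local ring, an element of a finite free module not in `𝔪 M` is sent to `1` by some linear
form. -/
theorem exists_linearForm_eq_one (R M : Type u) [CommRing R] [IsLocalRing R] [AddCommGroup M]
    [Module R M] [Module.Free R M] [Module.Finite R M] (e : M)
    (he : e ∉ (IsLocalRing.maximalIdeal R) • (⊤ : Submodule R M)) :
    ∃ l : M →ₗ[R] R, l e = 1 := by
  classical
  let b := Module.Free.chooseBasis R M
  haveI : Fintype (Module.Free.ChooseBasisIndex R M) := Module.Free.ChooseBasisIndex.fintype R M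
  by_cases h : ∀ i, b.repr e i ∈ IsLocalRing.maximalIdeal R
  · exfalso
    apply he
    rw [← b.sum_repr e]
    apply Submodule.sum_mem
    intro i _
    exact Submodule.smul_mem_smul (h i) trivial
  · obtain ⟨i, hi⟩ := not_forall.1 h
    have hu : IsUnit (b.repr e i) := by
      by_contra hn
      exact hi ((IsLocalRing.mem_maximalIdeal _).2 hn)
    obtain ⟨u, hu⟩ := hu
    refine ⟨(↑u⁻¹ : R) • b.coord i, ?_⟩
    change (↑u⁻¹ : R) * b.repr e i = 1
    rw [← hu, Units.inv_mul]

end Alg

variable {X : Scheme.{u}} {F G : X.Modules}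

/-- evaluation of sections of the sheaf Hom, as a linear map. -/
noncomputable def evLin (V : X.Opens) :
    Γ(homSh F G, V) →ₗ[Γ(X, V)] (Γ(F, V) →ₗ[Γ(X, V)] Γ(G, V)) where
  toFun g :=
    { toFun := fun m => evalSec g m
      map_add' := fun m m' => evalSec_add_right g m m'
      map_smul' := fun r m => evalSec_smul_right g r m }
  map_add' g g' := by
    ext m
    exact evalSec_add_left g g' m
  map_smul' r g := by
    ext m
    exact evalSec_smul_left g r m

lemma evLin_apply (V : X.Opens) (g : Γ(homSh F G, V)) (m : Γ(F, V)) :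
    evLin V g m = evalSec g m := rfl

theorem evLin_injective [F.IsQuasicoherent] {V : X.Opens} (hV : IsAffineOpen V) :
    Function.Injective (evLin (F := F) (G := G) V) := by
  intro g g' h
  apply sec_ext
  intro y
  apply stalkHom_ext hV y.1 y.2
  intro m
  rw [← germ_evalSec, ← germ_evalSec]
  exact congrArg _ (congr($h m))

lemma ring_map_self {U : X.Opens} (i : U ⟶ U) (a : Γ(X, U)) : X.presheaf.map i.op a = a := by
  have : i = 𝟙 U := Subsingleton.elim _ _
  rw [this, op_id, X.presheaf.map_id]
  rfl

theorem evLin_surjective [F.IsQuasicoherent] {V : X.Opens} (hV : IsAffineOpen V) :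
    Function.Surjective (evLin (F := F) (G := G) V) := by
  intro ψ
  obtain ⟨g, hg⟩ := exists_secOfLin (G := G) hV (le_refl V) ψ.toAddMonoidHom (fun a m => by
    change ψ (a • m) = _
    rw [map_smul, ring_map_self]
    rfl)
  refine ⟨g, ?_⟩
  ext m
  apply sec_ext' G
  intro y
  rw [evLin_apply, germ_evalSec]
  exact hg y m

/-- sections of the sheaf Hom over an affine open are the linear maps between the sections. -/
noncomputable def evEquiv [F.IsQuasicoherent] {V : X.Opens} (hV : IsAffineOpen V) :
    Γ(homSh F G, V) ≃ₗ[Γ(X, V)] (Γ(F, V) →ₗ[Γ(X, V)] Γ(G, V)) :=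
  LinearEquiv.ofBijective (evLin V) ⟨evLin_injective hV, evLin_surjective hV⟩

theorem finite_sections_homSh_of_projective [F.IsQuasicoherent] {V : X.Opens}
    (hV : IsAffineOpen V) [Module.Finite Γ(X, V) Γ(F, V)] [Module.Projective Γ(X, V) Γ(F, V)]
    [Module.Finite Γ(X, V) Γ(G, V)] : Module.Finite Γ(X, V) Γ(homSh F G, V) := by
  haveI := finite_linearMap_of_projective Γ(X, V) Γ(F, V) Γ(G, V)
  exact Module.Finite.equiv (evEquiv (F := F) (G := G) hV).symm

/-- the sheaf Hom from a finite locally free module to a quasi-coherent module of finite type is of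
finite type. -/
theorem isFiniteType_homSh (hF : FlatMod.IsFinLocFree F) [F.IsQuasicoherent] [G.IsQuasicoherent]
    [SheafOfModules.IsFiniteType (R := X.ringCatSheaf) G] :
    SheafOfModules.IsFiniteType (R := X.ringCatSheaf) (homSh F G) := by
  haveI := isFinitePresentation_of_isFinLocFree F hF
  haveI : (homSh F G).IsQuasicoherent := isQuasicoherent_homSh
  apply isFiniteType_of_finite_sections
  intro x
  obtain ⟨_, ⟨V, hV, rfl⟩, hxV, -⟩ :=
    X.isBasis_affineOpens.exists_subset_of_mem_open (Set.mem_univ x) isOpen_univ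
  have hV' : IsAffineOpen V := hV
  refine ⟨V, hxV, hV', ?_⟩
  obtain ⟨h1, h2⟩ := projective_sections_of_isFinLocFree F hF hV'
  haveI := finite_sections_of_isFiniteType G hV'
  exact finite_sections_homSh_of_projective hV'

section Ev

variable (F G)

/-- the evaluation pairing on sections. -/
noncomputable def evFamily : BilinFamily (homSh F G) F G where
  β U := LinearMap.mk₂ Γ(X, U) (fun (g : Γ(homSh F G, U)) (m : Γ(F, U)) => evalSec g m)
    (fun g g' m => evalSec_add_left g g' m) (fun c g m => evalSec_smul_left g c m)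
    (fun g m m' => evalSec_add_right g m m') (fun c g m => evalSec_smul_right g c m)
  res i g m := evalSec_res i g m

/-- the evaluation map `𝓗om(F, G) ⊗ F ⟶ G`. -/
noncomputable def ev : CohB1.tensorMod (homSh F G) F ⟶ G := (evFamily F G).hom

lemma ev_app_tmul {U : X.Opens} (g : Γ(homSh F G, U)) (m : Γ(F, U)) :
    (ev F G).app U (tmul (homSh F G) F g m) = evalSec g m :=
  (evFamily F G).hom_app_tmul g m

/-- the evaluation map is an epimorphism as soon as every germ of `G` is the value of a stalk
homomorphism at the germ of a local section of `F`. -/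
theorem epi_ev [SheafOfModules.IsFinitePresentation (R := X.ringCatSheaf) F]
    (h : ∀ (y : X) (s : G.presheaf.stalk y), ∃ (W : X.Opens) (hy : y ∈ W) (a : Γ(F, W))
      (φ : StalkHom F G y), φ (F.presheaf.germ W y hy a) = s) : Epi (ev F G) := by
  rw [epi_iff_stalkMap_surjective]
  intro y s
  obtain ⟨W, hy, a, φ, hφ⟩ := h y s
  obtain ⟨W', hy', g, hg⟩ := exists_sec_eq (F := F) (G := G) y φ
  have hy'' : y ∈ W' ⊓ W := ⟨hy', hy⟩
  let g' := (homSh F G).presheaf.map (homOfLE (inf_le_left : W' ⊓ W ≤ W')).op g
  let a' := F.presheaf.map (homOfLE (inf_le_right : W' ⊓ W ≤ W)).op a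
  refine ⟨(CohB1.tensorMod (homSh F G) F).presheaf.germ (W' ⊓ W) y hy''
    (tmul (homSh F G) F g' a'), ?_⟩
  rw [stalkMap_germ, ev_app_tmul, germ_evalSec]
  have h1 : g'.1 ⟨y, hy''⟩ = g.1 ⟨y, hy'⟩ := rfl
  rw [h1, hg, TopCat.Presheaf.germ_res_apply, hφ]

end Ev

end Groth.Agent.Helper13.HomShAff
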