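import Mathlib
import Groth.Agent.Lib.Helper13.TensorAffine

/-!
# A map out of a tensor product of quasi-coherent modules, given on affine sections by an
isomorphism, is bijective on stalks
-/

set_option autoImplicit false
universe u
open CategoryTheory CategoryTheory.Limits AlgebraicGeometry Opposite TopologicalSpace TensorProduct
open Groth.Agent.Helper13.QCoh Groth.Agent.Helper13.FinType Groth.Agent.Helper13.QCohLoc

namespace Groth.Agent.Helper13.Tensor

variable {X : Scheme.{u}} (F G Q : X.Modules) [F.IsQuasicoherent] [G.IsQuasicoherent]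
  [Q.IsQuasicoherent] {U : X.Opens} (hU : IsAffineOpen U)

include hU in
/-- a map from a tensor product of quasi-coherent modules to a quasi-coherent module which on the
sections over an affine open `U` is given by an isomorphism from the tensor product of the sections is
bijective on the stalks at the points of `U`. -/
theorem stalkMap_bijective_of_affine_rev (μ : CohB1.tensorMod F G ⟶ Q)
    (q : (Γ(F, U) ⊗[Γ(X, U)] Γ(G, U)) ≃ₗ[Γ(X, U)] Γ(Q, U))
    (hq : ∀ m n, μ.app U (tmul F G m n) = q (m ⊗ₜ n)) (x : U) :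
    Function.Bijective (stalkMap μ (x : X)) := by
  letI algBO : Algebra Γ(X, U) (X.presheaf.stalk (x : X)) := X.presheaf.algebra_section_stalk x
  letI mF := modStalk F x
  letI mG := modStalk G x
  letI mQ := modStalk Q x
  letI mT := modStalk (CohB1.tensorMod F G) x
  haveI := isScalarTower_stalk F x
  haveI := isScalarTower_stalk G x
  haveI := isScalarTower_stalk Q x
  haveI := isScalarTower_stalk (CohB1.tensorMod F G) x
  haveI hlocO : IsLocalization (hU.primeIdealOf x).asIdeal.primeCompl (X.presheaf.stalk (x : X)) :=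
    hU.isLocalization_stalk x
  haveI hF := isLocalizedModule_germ F hU x
  haveI hG := isLocalizedModule_germ G hU x
  haveI hQ := isLocalizedModule_germ Q hU x
  let S := (hU.primeIdealOf x).asIdeal.primeCompl
  let ℓ₁ : (Γ(F, U) ⊗[Γ(X, U)] Γ(G, U)) →ₗ[Γ(X, U)]
      (F.presheaf.stalk (x : X) ⊗[Γ(X, U)] G.presheaf.stalk (x : X)) :=
    TensorProduct.map (germLin F x) (germLin G x)
  haveI h₁ : IsLocalizedModule S ℓ₁ := inferInstance
  let e₂ : (F.presheaf.stalk (x : X) ⊗[X.presheaf.stalk (x : X)] G.presheaf.stalk (x : X))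
      ≃ₗ[X.presheaf.stalk (x : X)]
      (F.presheaf.stalk (x : X) ⊗[Γ(X, U)] G.presheaf.stalk (x : X)) :=
    IsLocalization.moduleTensorEquiv S (X.presheaf.stalk (x : X)) _ _
  let e₃ := stalkTensorEquiv F G (x : X)
  let e : (F.presheaf.stalk (x : X) ⊗[Γ(X, U)] G.presheaf.stalk (x : X)) ≃ₗ[Γ(X, U)]
      (CohB1.tensorMod F G).presheaf.stalk (x : X) :=
    (e₂.symm.restrictScalars Γ(X, U)) ≪≫ₗ (e₃.restrictScalars Γ(X, U))
  let ℓT := e.toLinearMap ∘ₗ ℓ₁
  haveI hT : IsLocalizedModule S ℓT := IsLocalizedModule.of_linearEquiv S ℓ₁ e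
  let ℓQ := (germLin Q x) ∘ₗ q.toLinearMap
  haveI hQ' : IsLocalizedModule S ℓQ := IsLocalizedModule.of_linearEquiv_right S (germLin Q x) q
  -- the stalk map as a linear map over `Γ(X, U)`
  let h : (CohB1.tensorMod F G).presheaf.stalk (x : X) →ₗ[Γ(X, U)] Q.presheaf.stalk (x : X) :=
    (stalkLinearMap μ (x : X)).restrictScalars Γ(X, U)
  have hcomp : h ∘ₗ ℓT = ℓQ := by
    apply TensorProduct.ext'
    intro m n
    change stalkMap μ (x : X)
        (e₃ (e₂.symm (F.presheaf.germ U x x.2 m ⊗ₜ G.presheaf.germ U x x.2 n))) =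
      Q.presheaf.germ U x x.2 (q (m ⊗ₜ n))
    have : e₂.symm (F.presheaf.germ U x x.2 m ⊗ₜ[Γ(X, U)] G.presheaf.germ U x x.2 n) =
        F.presheaf.germ U x x.2 m ⊗ₜ[X.presheaf.stalk (x : X)] G.presheaf.germ U x x.2 n := by
      rw [LinearEquiv.symm_apply_eq]
      rfl
    rw [this, ← hq]
    have h3 := stalkTensorEquiv_germ F G x x.2 m n
    refine (congrArg (stalkMap μ (x : X)) h3).trans ?_
    exact stalkMap_germ μ (x : X) U x.2 (tmul F G m n)
  haveI : IsLocalizedModule S (h ∘ₗ ℓT) := by rw [hcomp]; exact hQ'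
  have := IsLocalizedModule.linearEquiv_of_isLocalizedModule_comp S ℓT h
  have hb : Function.Bijective h := by
    rw [← this]
    exact (IsLocalizedModule.linearEquiv S ℓT (h ∘ₗ ℓT)).bijective
  exact hb

end Groth.Agent.Helper13.Tensor
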