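import Mathlib
import Groth.Agent.Lib.Helper13.TensorAffineRev
import Groth.Agent.Lib.Helper13.PbGen
import Groth.Agent.Lib.Helper13.PullbackSections
import Groth.Agent.Lib.Helper18.PbCompat3
import Groth.Agent.Lib.Helper13.QCohPush
import Groth.Agent.Lib.Helper13.LocFree
import Groth.Agent.Lib.Helper13.FreeMod
import Groth.Agent.Lib.Helper13.QCohAss

/-!
# The projection formula `G ⊗ f_* O_X ≅ f_* f^* G` for an affine morphism `f` and a quasi-coherent
module `G`
-/

set_option autoImplicit false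
set_option maxHeartbeats 400000
universe u
open CategoryTheory CategoryTheory.Limits AlgebraicGeometry Opposite TopologicalSpace TensorProduct
open Groth.Agent.Helper13.QCoh Groth.Agent.Helper13.FinType Groth.Agent.Helper13.Tensor
open Groth.Agent.Helper13.PbGen Groth.Agent.Helper13.Pullback

namespace Groth.Agent.Helper13.ProjFormula

variable {X Y : Scheme.{u}} (f : X ⟶ Y) (G : Y.Modules)

/-- `f_* O_X`. -/
noncomputable abbrev pushO : Y.Modules :=
  (Scheme.Modules.pushforward f).obj (Coh.structureModule X)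

/-- `f_* f^* G`. -/
noncomputable abbrev pushPull : Y.Modules :=
  (Scheme.Modules.pushforward f).obj ((Scheme.Modules.pullback f).obj G)

/-- the pairing on sections `(g, a) ↦ a • f^* g`. -/
noncomputable def pairSec (V : Y.Opens) (g : Γ(G, V)) (a : Γ(pushO f, V)) : Γ(pushPull f G, V) :=
  (show Γ((Scheme.Modules.pullback f).obj G, f ⁻¹ᵁ V) from
    (show Γ(X, f ⁻¹ᵁ V) from a) • ηsec f G V g)

lemma smul_pushPull {V : Y.Opens} (r : Γ(Y, V)) (p : Γ(pushPull f G, V)) :
    r • p = (show Γ((Scheme.Modules.pullback f).obj G, f ⁻¹ᵁ V) from (f.app V r) •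
      (show Γ((Scheme.Modules.pullback f).obj G, f ⁻¹ᵁ V) from p)) := rfl

lemma smul_pushO {V : Y.Opens} (r : Γ(Y, V)) (a : Γ(pushO f, V)) :
    (show Γ(X, f ⁻¹ᵁ V) from (r • a)) = f.app V r * (show Γ(X, f ⁻¹ᵁ V) from a) := rfl

lemma map_self (F : X.Modules) {U : X.Opens} (i : U ⟶ U) (t : Γ(F, U)) :
    F.presheaf.map i.op t = t := by
  have : i = 𝟙 U := Subsingleton.elim _ _
  rw [this, op_id, F.presheaf.map_id]
  rfl

section aux

variable {V : Y.Opens} (a a' : Γ(X, f ⁻¹ᵁ V)) (g g' : Γ(G, V)) (r : Γ(Y, V))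

lemma aux_add_left : a • ηsec f G V (g + g') = a • ηsec f G V g + a • ηsec f G V g' := by
  rw [ηsec_add, smul_add]

lemma aux_smul_left : a • ηsec f G V (r • g) = f.app V r • (a • ηsec f G V g) := by
  rw [ηsec_smul, smul_comm]

lemma aux_add_right : (a + a') • ηsec f G V g = a • ηsec f G V g + a' • ηsec f G V g :=
  add_smul _ _ _

lemma aux_smul_right : (f.app V r * a) • ηsec f G V g = f.app V r • (a • ηsec f G V g) :=
  mul_smul _ _ _

lemma aux_res {V' : Y.Opens} (i : V' ⟶ V) :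
    ((Scheme.Modules.pullback f).obj G).presheaf.map ((Opens.map f.base).map i).op
      (a • ηsec f G V g) =
    (X.presheaf.map ((Opens.map f.base).map i).op a) • ηsec f G V' (G.presheaf.map i.op g) := by
  rw [Scheme.Modules.map_smul, ηsec_res]

end aux

/-- the bilinear family. -/
noncomputable def μFamily : BilinFamily G (pushO f) (pushPull f G) where
  β V := LinearMap.mk₂ Γ(Y, V) (pairSec f G V)
    (fun g g' a => aux_add_left f G (show Γ(X, f ⁻¹ᵁ V) from a) g g')
    (fun r g a => aux_smul_left f G (show Γ(X, f ⁻¹ᵁ V) from a) g r)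
    (fun g a a' => aux_add_right f G (show Γ(X, f ⁻¹ᵁ V) from a) (show Γ(X, f ⁻¹ᵁ V) from a') g)
    (fun r g a => aux_smul_right f G (show Γ(X, f ⁻¹ᵁ V) from a) g r)
  res {V _} i g a := aux_res f G (show Γ(X, f ⁻¹ᵁ V) from a) g i

/-- the projection formula map `G ⊗ f_* O_X ⟶ f_* f^* G`. -/
noncomputable def μ : CohB1.tensorMod G (pushO f) ⟶ pushPull f G := (μFamily f G).hom

lemma μ_app_tmul {V : Y.Opens} (g : Γ(G, V)) (a : Γ(pushO f, V)) :
    (μ f G).app V (tmul G (pushO f) g a) = pairSec f G V g a :=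
  (μFamily f G).hom_app_tmul g a

section Affine

variable [IsAffineHom f] [G.IsQuasicoherent] {V : Y.Opens} (hV : IsAffineOpen V)

set_option maxRecDepth 8000 in
include hV in
/-- over an affine open the pairing induces a bijection from the tensor product of the sections. -/
theorem lift_bijective :
    Function.Bijective (TensorProduct.lift ((μFamily f G).β V)) := by
  have hU : IsAffineOpen (f ⁻¹ᵁ V) := hV.preimage f
  letI alg2 : Algebra Γ(Y, V) Γ(X, f ⁻¹ᵁ V) := (f.appLE V (f ⁻¹ᵁ V) le_rfl).hom.toAlgebra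
  let σ := sectionsPullbackEquiv f G hU hV le_rfl
  have halg : ∀ (r : Γ(Y, V)) (a : Γ(X, f ⁻¹ᵁ V)), r • a = f.app V r * a := by
    intro r a
    rw [Algebra.smul_def]
    change (f.appLE V (f ⁻¹ᵁ V) le_rfl).hom r * a = _
    rw [← Scheme.Hom.app_eq_appLE]
  let Ψ : (Γ(X, f ⁻¹ᵁ V) ⊗[Γ(Y, V)] Γ(G, V)) →+ (Γ(G, V) ⊗[Γ(Y, V)] Γ(pushO f, V)) :=
    TensorProduct.liftAddHom
      { toFun := fun a =>
          { toFun := fun g => g ⊗ₜ[Γ(Y, V)] (show Γ(pushO f, V) from a)
            map_zero' := TensorProduct.zero_tmul _ _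
            map_add' := fun g g' => TensorProduct.add_tmul _ _ _ }
        map_zero' := by ext g; exact TensorProduct.tmul_zero _ _
        map_add' := fun a a' => by ext g; exact TensorProduct.tmul_add _ _ _ }
      (fun r a g => by
        change g ⊗ₜ[Γ(Y, V)] (show Γ(pushO f, V) from (r • a)) =
          (r • g) ⊗ₜ[Γ(Y, V)] (show Γ(pushO f, V) from a)
        rw [halg]
        exact (TensorProduct.smul_tmul r g (show Γ(pushO f, V) from a)).symm)
  have hΨ : ∀ (a : Γ(X, f ⁻¹ᵁ V)) (g : Γ(G, V)),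
      Ψ (a ⊗ₜ[Γ(Y, V)] g) = g ⊗ₜ[Γ(Y, V)] (show Γ(pushO f, V) from a) := fun a g => rfl
  let L' : (Γ(G, V) ⊗[Γ(Y, V)] Γ(pushO f, V)) →+
      Γ((Scheme.Modules.pullback f).obj G, f ⁻¹ᵁ V) :=
    (TensorProduct.lift ((μFamily f G).β V)).toAddMonoidHom
  let Φ : (Γ(G, V) ⊗[Γ(Y, V)] Γ(pushO f, V)) →+ (Γ(X, f ⁻¹ᵁ V) ⊗[Γ(Y, V)] Γ(G, V)) :=
    σ.toLinearMap.toAddMonoidHom.comp L'
  have hσ : ∀ (g : Γ(G, V)) (a : Γ(pushO f, V)),
      Φ (g ⊗ₜ a) = (show Γ(X, f ⁻¹ᵁ V) from a) ⊗ₜ[Γ(Y, V)] g := by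
    intro g a
    change σ ((show Γ(X, f ⁻¹ᵁ V) from a) • ηsec f G V g) = _
    rw [map_smul]
    have h2 : σ (ηsec f G V g) = (1 : Γ(X, f ⁻¹ᵁ V)) ⊗ₜ[Γ(Y, V)] g := by
      have h1 := Groth.Agent.Helper18.PbCompat.sectionsPullbackEquiv_pullSect f G hU hV le_rfl g
      have h0 : ((Scheme.Modules.pullback f).obj G).presheaf.map
          (homOfLE (le_refl (f ⁻¹ᵁ V))).op (ηsec f G V g) = ηsec f G V g := map_self _ _ _
      exact (congrArg σ h0).symm.trans h1
    rw [h2, TensorProduct.smul_tmul', smul_eq_mul, mul_one]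
  have hleft : ∀ t, Ψ (Φ t) = t := by
    intro t
    induction t using TensorProduct.induction_on with
    | zero => rw [map_zero, map_zero]
    | tmul g a => rw [hσ, hΨ]
    | add t t' ht ht' => rw [map_add, map_add, ht, ht']
  have hright : ∀ t', Φ (Ψ t') = t' := by
    intro t'
    induction t' using TensorProduct.induction_on with
    | zero => rw [map_zero, map_zero]
    | tmul a g => rw [hΨ, hσ]
    | add t t' ht ht' => rw [map_add, map_add, ht, ht']
  constructor
  · intro t t' h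
    have h' : L' t = L' t' := h
    have h2 : Φ t = Φ t' := congrArg σ h'
    have := congrArg Ψ h2
    rwa [hleft, hleft] at this
  · intro p
    let p' : Γ((Scheme.Modules.pullback f).obj G, f ⁻¹ᵁ V) := p
    refine ⟨Ψ (σ p'), ?_⟩
    change L' (Ψ (σ p')) = p'
    apply σ.injective
    exact hright (σ p')

/-- **The projection formula** for an affine morphism and a quasi-coherent module. -/
theorem isIso_μ : IsIso (μ f G) := by
  haveI : (Coh.structureModule X).IsQuasicoherent := Groth.Agent.Helper13.QCoh.isQuasicoherent_unit X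
  haveI : (pushO f).IsQuasicoherent :=
    Groth.Agent.Helper13.QCohPush.isQuasicoherent_pushforward f _
  haveI : (pushPull f G).IsQuasicoherent :=
    Groth.Agent.Helper13.QCohPush.isQuasicoherent_pushforward f _
  apply Groth.Agent.Helper13.LocFree.isIso_of_stalk_bijective
  intro y
  obtain ⟨_, ⟨V, hV, rfl⟩, hyV, -⟩ :=
    Y.isBasis_affineOpens.exists_subset_of_mem_open (Set.mem_univ y) isOpen_univ
  have hV' : IsAffineOpen V := hV
  exact stalkMap_bijective_of_affine_rev G (pushO f) (pushPull f G) hV' (μ f G)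
    (LinearEquiv.ofBijective _ (lift_bijective f G hV'))
    (fun g a => μ_app_tmul f G g a) ⟨y, hyV⟩

end Affine

end Groth.Agent.Helper13.ProjFormula
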