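import Mathlib
import Groth.Agent.Lib.Helper13.PushFinite
import Groth.Agent.Lib.Helper13.LocFree3
import Groth.Agent.Lib.Helper13.QCohAss

set_option autoImplicit false
universe u
open CategoryTheory CategoryTheory.Limits AlgebraicGeometry Opposite TopologicalSpace
open Groth.Agent.Helper13.QCoh Groth.Agent.Helper13.FinType Groth.Agent.Helper13.LocFree
open Groth.Agent.Helper13.PushFinite

namespace Groth.Agent.Helper13.PushFinLocFree

variable {X S : Scheme.{u}} (f : X ⟶ S)

/-- sections of `f_* O_X` over `U`, as a `Γ(S, U)`-module, are the functions on `f⁻¹ U`. -/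
noncomputable def pushUnitEquiv (U : S.Opens) :
    letI := algApp f U
    Γ((Scheme.Modules.pushforward f).obj (Coh.structureModule X), U) ≃ₗ[Γ(S, U)] Γ(X, f ⁻¹ᵁ U) :=
  letI := algApp f U
  { toFun := fun t => ofO (f ⁻¹ᵁ U) t
    invFun := fun c => toO (f ⁻¹ᵁ U) c
    left_inv := fun _ => rfl
    right_inv := fun _ => rfl
    map_add' := fun _ _ => rfl
    map_smul' := fun a t => by
      rw [RingHom.id_apply, Algebra.smul_def]
      rfl }

instance : (Coh.structureModule X).IsQuasicoherent :=
  Groth.Agent.Helper13.QCoh.isQuasicoherent_unit X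

theorem affine_finLocFree_iff :
    (IsAffineHom f ∧
      FlatMod.IsFinLocFree ((Scheme.Modules.pushforward f).obj (Coh.structureModule X))) ↔
      (IsFinite f ∧ Flat f ∧ LocallyOfFinitePresentation f) := by
  constructor
  · rintro ⟨hA, hN⟩
    haveI := Groth.Agent.Helper13.QCohPush.isQuasicoherent_pushforward f (Coh.structureModule X)
    have key : ∀ U : S.Opens, IsAffineOpen U →
        letI := algApp f U
        Module.Finite Γ(S, U) Γ(X, f ⁻¹ᵁ U) ∧ Module.Projective Γ(S, U) Γ(X, f ⁻¹ᵁ U) := by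
      intro U hU
      letI := algApp f U
      obtain ⟨h1, h2⟩ := projective_sections_of_isFinLocFree _ hN hU
      exact ⟨Module.Finite.equiv (pushUnitEquiv f U), Module.Projective.of_equiv (pushUnitEquiv f U)⟩
    refine ⟨⟨fun U hU => (key U hU).1⟩, ?_, ?_⟩
    · rw [HasRingHomProperty.iff_exists_appLE (P := @Flat)
        (RingHom.Flat.stableUnderComposition.stableUnderCompositionWithLocalizationAway
          RingHom.Flat.holdsForLocalizationAway).1]
      intro x
      obtain ⟨_, ⟨U, hU, rfl⟩, hxU, -⟩ :=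
        S.isBasis_affineOpens.exists_subset_of_mem_open (Set.mem_univ (f x)) isOpen_univ
      have hU' : IsAffineOpen U := hU
      refine ⟨⟨U, hU'⟩, ⟨f ⁻¹ᵁ U, hU'.preimage f⟩, hxU, le_rfl, ?_⟩
      rw [← Scheme.Hom.app_eq_appLE]
      letI := algApp f U
      obtain ⟨h1, h2⟩ := key U hU'
      change Module.Flat Γ(S, U) Γ(X, f ⁻¹ᵁ U)
      infer_instance
    · rw [HasRingHomProperty.iff_exists_appLE (P := @LocallyOfFinitePresentation)
        (RingHom.finitePresentation_stableUnderComposition.stableUnderCompositionWithLocalizationAway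
          RingHom.finitePresentation_holdsForLocalizationAway).1]
      intro x
      obtain ⟨_, ⟨U, hU, rfl⟩, hxU, -⟩ :=
        S.isBasis_affineOpens.exists_subset_of_mem_open (Set.mem_univ (f x)) isOpen_univ
      have hU' : IsAffineOpen U := hU
      refine ⟨⟨U, hU'⟩, ⟨f ⁻¹ᵁ U, hU'.preimage f⟩, hxU, le_rfl, ?_⟩
      rw [← Scheme.Hom.app_eq_appLE]
      letI := algApp f U
      obtain ⟨h1, h2⟩ := key U hU'
      haveI : Module.FinitePresentation Γ(S, U) Γ(X, f ⁻¹ᵁ U) :=
        Module.finitePresentation_of_projective _ _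
      change Algebra.FinitePresentation Γ(S, U) Γ(X, f ⁻¹ᵁ U)
      infer_instance
  · rintro ⟨hfin, hflat, hfp⟩
    haveI : IsAffineHom f := inferInstance
    refine ⟨inferInstance, ?_⟩
    haveI := Groth.Agent.Helper13.QCohPush.isQuasicoherent_pushforward f (Coh.structureModule X)
    apply isFinLocFree_of_projective_sections
    intro y
    obtain ⟨_, ⟨U, hU, rfl⟩, hyU, -⟩ :=
      S.isBasis_affineOpens.exists_subset_of_mem_open (Set.mem_univ y) isOpen_univ
    have hU' : IsAffineOpen U := hU
    refine ⟨U, hU', hyU, ?_⟩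
    letI := algApp f U
    haveI : Module.Finite Γ(S, U) Γ(X, f ⁻¹ᵁ U) := f.finite_app U hU'
    haveI : Algebra.FinitePresentation Γ(S, U) Γ(X, f ⁻¹ᵁ U) := by
      have := f.finitePresentation_appLE hU' (hU'.preimage f) le_rfl
      rwa [← Scheme.Hom.app_eq_appLE] at this
    haveI : Module.Flat Γ(S, U) Γ(X, f ⁻¹ᵁ U) := by
      have := HasRingHomProperty.appLE (P := @Flat) f hflat ⟨U, hU'⟩ ⟨f ⁻¹ᵁ U, hU'.preimage f⟩ le_rfl
      rwa [← Scheme.Hom.app_eq_appLE] at this
    haveI : Module.FinitePresentation Γ(S, U) Γ(X, f ⁻¹ᵁ U) :=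
      Module.FinitePresentation.of_finite_of_finitePresentation _ _
    haveI : Module.Projective Γ(S, U) Γ(X, f ⁻¹ᵁ U) := Module.Flat.projective_of_finitePresentation
    exact ⟨Module.Finite.equiv (pushUnitEquiv f U).symm,
      Module.Projective.of_equiv (pushUnitEquiv f U).symm⟩

end Groth.Agent.Helper13.PushFinLocFree
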