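import Mathlib
import Groth.Prelude.Def_Mor2
import Groth.Prelude.Def_PerfAux
import Groth.Agent.Lib.Helper13.ProjFormula
import Groth.Agent.Lib.Helper13.HomShAff
import Groth.Agent.Lib.Helper13.AffSurj
import Groth.Agent.Lib.Helper13.PushFinLocFree
import Groth.Agent.Lib.Helper13.FittPullback
import Groth.Agent.Lib.Helper13.WeakAss
import Groth.Agent.Lib.Helper13.ExtQCoh
import Groth.Agent.Lib.Helper13.Retract

/-!
# The resolution property descends along finite locally free surjective morphisms
-/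

set_option autoImplicit false
set_option maxHeartbeats 400000
universe u
open CategoryTheory CategoryTheory.Limits AlgebraicGeometry Opposite TopologicalSpace TensorProduct
open RefHull Groth.Agent.Lead.HomSh
open Groth.Agent.Helper13.QCoh Groth.Agent.Helper13.FinType Groth.Agent.Helper13.Tensor
open Groth.Agent.Helper13.LocFree Groth.Agent.Helper13.WeakAss
open Groth.Agent.Helper13.ProjFormula Groth.Agent.Helper13.HomShAff
open Groth.Agent.Helper13.PushFinite Groth.Agent.Helper13.PushFinLocFree

namespace Groth.Agent.Helper13.ResFinLocFree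

variable {X Y : Scheme.{u}} (f : X ⟶ Y)

/-- a finite locally free module is quasi-coherent. -/
theorem isQuasicoherent_of_isFinLocFree (M : X.Modules) (h : FlatMod.IsFinLocFree M) :
    M.IsQuasicoherent := by
  apply Groth.Agent.Helper13.Ext.isQuasicoherent_of_forall_exists_restrict
  intro x
  obtain ⟨U, n, hxU, ⟨e⟩⟩ := h x
  exact ⟨U, hxU, Groth.Agent.Helper13.QCohLocal.isQuasicoherent_of_iso e.symm⟩

section Rho

/-- the canonical map from the stalk of `f_* O_X` at `f x` to the local ring at `x`. -/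
noncomputable def ρ (x : X) : (pushO f).presheaf.stalk (f x) →+ X.presheaf.stalk x :=
  (unitStalkEquiv x).toLinearMap.toAddMonoidHom.comp
    (TopCat.Presheaf.stalkPushforward Ab f.base (Coh.structureModule X).presheaf x).hom

lemma ρ_germ (x : X) (V : Y.Opens) (hx : f x ∈ V) (a : Γ(pushO f, V)) :
    ρ f x ((pushO f).presheaf.germ V (f x) hx a) =
      X.presheaf.germ (f ⁻¹ᵁ V) x hx (show Γ(X, f ⁻¹ᵁ V) from a) := by
  change unitStalkEquiv x (TopCat.Presheaf.stalkPushforward Ab f.base
    (Coh.structureModule X).presheaf x ((pushO f).presheaf.germ V (f x) hx a)) = _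
  have h1 := TopCat.Presheaf.stalkPushforward_germ_apply Ab f.base
    (Coh.structureModule X).presheaf V x hx a
  exact (congrArg (unitStalkEquiv x) h1).trans (unitStalkEquiv_germ x _ hx a)

lemma ρ_smul (x : X) (r : Y.presheaf.stalk (f x)) (v : (pushO f).presheaf.stalk (f x)) :
    ρ f x (r • v) = f.stalkMap x r * ρ f x v := by
  obtain ⟨U, hxU, r₀, rfl⟩ := TopCat.Presheaf.exists_germ_eq Y.presheaf r
  obtain ⟨V, hxV, a, rfl⟩ := TopCat.Presheaf.exists_germ_eq (pushO f).presheaf v
  have hW : f x ∈ U ⊓ V := ⟨hxU, hxV⟩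
  have e1 : Y.presheaf.germ U (f x) hxU r₀
      = Y.presheaf.germ (U ⊓ V) (f x) hW (Y.presheaf.map (homOfLE inf_le_left).op r₀) :=
    (TopCat.Presheaf.germ_res_apply Y.presheaf (homOfLE inf_le_left) (f x) hW r₀).symm
  have e2 : (pushO f).presheaf.germ V (f x) hxV a
      = (pushO f).presheaf.germ (U ⊓ V) (f x) hW
        ((pushO f).presheaf.map (homOfLE inf_le_right).op a) :=
    (TopCat.Presheaf.germ_res_apply (pushO f).presheaf (homOfLE inf_le_right) (f x) hW a).symm
  rw [e1, e2, ← Groth.Agent.Helper13.QCoh.germ_smul, ρ_germ, ρ_germ, Scheme.Hom.germ_stalkMap_apply, ← map_mul]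
  rfl

/-- for surjective `f`, the germ of the unit section of `f_* O_X` does not lie in `𝔪_y (f_* O_X)_y`. -/
theorem germ_one_notMem [Surjective f] (y : Y) :
    (pushO f).presheaf.germ ⊤ y trivial (show Γ(pushO f, ⊤) from (1 : Γ(X, f ⁻¹ᵁ ⊤))) ∉
      (IsLocalRing.maximalIdeal (Y.presheaf.stalk y)) •
        (⊤ : Submodule (Y.presheaf.stalk y) ((pushO f).presheaf.stalk y)) := by
  obtain ⟨x, rfl⟩ := f.surjective y
  intro hmem
  have key : ∀ v ∈ (IsLocalRing.maximalIdeal (Y.presheaf.stalk (f x))) •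
      (⊤ : Submodule (Y.presheaf.stalk (f x)) ((pushO f).presheaf.stalk (f x))),
      ρ f x v ∈ IsLocalRing.maximalIdeal (X.presheaf.stalk x) := by
    intro v hv
    refine Submodule.smul_induction_on hv (fun r hr n _ => ?_) (fun a b ha hb => ?_)
    · rw [ρ_smul]
      apply Ideal.mul_mem_right
      rw [IsLocalRing.mem_maximalIdeal] at hr ⊢
      intro hu
      exact hr (isUnit_of_map_unit (f.stalkMap x).hom r hu)
    · rw [map_add]
      exact Ideal.add_mem _ ha hb
  have h1 := key _ hmem
  rw [ρ_germ] at h1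
  have h2 : X.presheaf.germ (f ⁻¹ᵁ ⊤) x trivial (1 : Γ(X, f ⁻¹ᵁ ⊤)) = 1 := map_one _
  rw [h2] at h1
  exact (Ideal.ne_top_iff_one _).1 (IsLocalRing.maximalIdeal.isMaximal _).ne_top h1

end Rho

section Push

/-- the direct image of a finite locally free module along a finite locally free morphism is finite
locally free. -/
theorem isFinLocFree_pushforward (hf : IsFinite f ∧ Flat f ∧ LocallyOfFinitePresentation f)
    (E : X.Modules) (hE : FlatMod.IsFinLocFree E) :
    FlatMod.IsFinLocFree ((Scheme.Modules.pushforward f).obj E) := by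
  haveI : IsFinite f := hf.1
  haveI : IsAffineHom f := inferInstance
  haveI := isQuasicoherent_of_isFinLocFree E hE
  haveI := Groth.Agent.Helper13.QCohPush.isQuasicoherent_pushforward f E
  have h𝒜 := ((affine_finLocFree_iff f).2 hf).2
  haveI := Groth.Agent.Helper13.QCohPush.isQuasicoherent_pushforward f (Coh.structureModule X)
  apply isFinLocFree_of_projective_sections
  intro y
  obtain ⟨_, ⟨V, hV, rfl⟩, hyV, -⟩ :=
    Y.isBasis_affineOpens.exists_subset_of_mem_open (Set.mem_univ y) isOpen_univ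
  have hV' : IsAffineOpen V := hV
  refine ⟨V, hV', hyV, ?_⟩
  letI := algApp f V
  letI := modPush f E V
  haveI := isScalarTower_push f E V
  obtain ⟨h1, h2⟩ := projective_sections_of_isFinLocFree E hE (hV'.preimage f)
  obtain ⟨h3, h4⟩ := projective_sections_of_isFinLocFree _ h𝒜 hV'
  haveI : Module.Finite Γ(Y, V) Γ(X, f ⁻¹ᵁ V) := Module.Finite.equiv (pushUnitEquiv f V)
  haveI : Module.Projective Γ(Y, V) Γ(X, f ⁻¹ᵁ V) := Module.Projective.of_equiv (pushUnitEquiv f V)
  have hfin : Module.Finite Γ(Y, V) Γ(E, f ⁻¹ᵁ V) :=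
    Module.Finite.trans Γ(X, f ⁻¹ᵁ V) Γ(E, f ⁻¹ᵁ V)
  have hproj : Module.Projective Γ(Y, V) Γ(E, f ⁻¹ᵁ V) :=
    projective_trans Γ(Y, V) Γ(X, f ⁻¹ᵁ V) Γ(E, f ⁻¹ᵁ V)
  exact ⟨hfin, hproj⟩

end Push

/-- **The resolution property descends along a finite locally free surjective morphism.** -/
theorem hasResolutionProperty_of_finLocFree (hf : Mor2.IsFinLocFree f) [Surjective f]
    (hX : PerfAux.HasResolutionProperty X) : PerfAux.HasResolutionProperty Y := by
  intro F hq hft
  haveI : F.IsQuasicoherent := hq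
  haveI : SheafOfModules.IsFiniteType (R := Y.ringCatSheaf) F := hft
  haveI : IsFinite f := hf.1
  haveI : IsAffineHom f := inferInstance
  have h𝒜 : FlatMod.IsFinLocFree (pushO f) := ((affine_finLocFree_iff f).2 hf).2
  haveI : (pushO f).IsQuasicoherent :=
    Groth.Agent.Helper13.QCohPush.isQuasicoherent_pushforward f _
  haveI : SheafOfModules.IsFinitePresentation (R := Y.ringCatSheaf) (pushO f) :=
    isFinitePresentation_of_isFinLocFree _ h𝒜
  let G' := homSh (pushO f) F
  haveI : G'.IsQuasicoherent := isQuasicoherent_homSh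
  haveI : SheafOfModules.IsFiniteType (R := Y.ringCatSheaf) G' := isFiniteType_homSh h𝒜
  obtain ⟨E', π, hE', hπ⟩ := hX ((Scheme.Modules.pullback f).obj G') inferInstance inferInstance
  haveI := hπ
  haveI : E'.IsQuasicoherent := isQuasicoherent_of_isFinLocFree E' hE'
  haveI : IsIso (μ f G') := isIso_μ f G'
  haveI : Epi ((Scheme.Modules.pushforward f).map π) :=
    Groth.Agent.Helper13.AffSurj.epi_pushforward_of_affine f π
  haveI : Epi (ev (pushO f) F) := by
    apply epi_ev (pushO f) F
    intro y s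
    haveI := free_stalk_of_isFinLocFree (pushO f) h𝒜 y
    haveI : Module.Finite (Y.presheaf.stalk y) ((pushO f).presheaf.stalk y) :=
      finite_stalk_of_isFiniteType (pushO f) y
    obtain ⟨l, hl⟩ := exists_linearForm_eq_one _ _ _ (germ_one_notMem f y)
    refine ⟨⊤, trivial, (show Γ(pushO f, ⊤) from (1 : Γ(X, f ⁻¹ᵁ ⊤))), l.smulRight s, ?_⟩
    rw [LinearMap.smulRight_apply, hl, one_smul]
  exact ⟨(Scheme.Modules.pushforward f).obj E',
    (Scheme.Modules.pushforward f).map π ≫ inv (μ f G') ≫ ev (pushO f) F,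
    isFinLocFree_pushforward f hf E' hE', inferInstance⟩

end Groth.Agent.Helper13.ResFinLocFree
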