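import Mathlib
import Groth.Prelude.Def_Coh
import Groth.Prelude.Def_RelSpec2
import Groth.Agent.Lib.Lead.HomSh2
import Groth.Agent.Lib.Helper13.EpiGen

/-!
# The direct image along an affine morphism is fully faithful on quasi-coherent modules
-/

set_option autoImplicit false
set_option maxHeartbeats 400000
universe u
open CategoryTheory CategoryTheory.Limits AlgebraicGeometry Opposite TopologicalSpace
open RefHull Groth.Agent.Lead.HomSh Groth.Agent.Helper13.QCoh Groth.Agent.Helper13.FinType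

namespace Groth.Agent.Helper13.DirImgFull

section HomOfSec

variable {X : Scheme.{u}} {F G : X.Modules}

/-- the restriction of a global section of the sheaf Hom. -/
noncomputable def resTop (g : Γ(homSh F G, ⊤)) (U : X.Opens) : Γ(homSh F G, U) :=
  (homSh F G).presheaf.map (homOfLE (le_top : U ≤ ⊤)).op g

lemma resTop_apply (g : Γ(homSh F G, ⊤)) (U : X.Opens) (y : U) :
    (resTop g U).1 y = g.1 ⟨y.1, trivial⟩ := rfl

/-- the map on sections defined by a global section of the sheaf Hom. -/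
noncomputable def homOfSecFun (g : Γ(homSh F G, ⊤)) (U : X.Opens) : Γ(F, U) →+ Γ(G, U) where
  toFun m := evalSec (resTop g U) m
  map_zero' := by
    apply sec_ext' G
    intro y
    rw [germ_evalSec, map_zero, map_zero, map_zero]
  map_add' m m' := evalSec_add_right _ m m'

/-- the morphism defined by a global section of the sheaf Hom. -/
noncomputable def homOfSec (g : Γ(homSh F G, ⊤)) : F ⟶ G :=
  ⟨PresheafOfModules.homMk
    { app := fun U => AddCommGrpCat.ofHom (homOfSecFun g U.unop)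
      naturality := fun {U V} i => by
        ext m
        change evalSec (resTop g V.unop) (F.presheaf.map i m) =
          G.presheaf.map i (evalSec (resTop g U.unop) m)
        have := evalSec_res i.unop (resTop g U.unop) m
        rw [Quiver.Hom.op_unop] at this
        rw [this]
        rfl }
    (fun U r m => evalSec_smul_right (resTop g U.unop) r m)⟩

lemma germ_homOfSec (g : Γ(homSh F G, ⊤)) {U : X.Opens} (m : Γ(F, U)) (y : X) (hy : y ∈ U) :
    G.presheaf.germ U y hy ((homOfSec g).app U m) =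
      g.1 ⟨y, trivial⟩ (F.presheaf.germ U y hy m) :=
  germ_evalSec (resTop g U) m y hy

end HomOfSec

variable {X S : Scheme.{u}} (f : X ⟶ S) [QuasiCompact f] [QuasiSeparated f] {F G : X.Modules}

/-- the map on sections of a morphism of direct images. -/
noncomputable def secMap (ψ : (AMod.dirImg f).obj F ⟶ (AMod.dirImg f).obj G) (V : S.Opens) :
    Γ(F, f ⁻¹ᵁ V) →+ Γ(G, f ⁻¹ᵁ V) :=
  (ψ.val.app (op V)).hom.toAddMonoidHom

lemma secMap_smul (ψ : (AMod.dirImg f).obj F ⟶ (AMod.dirImg f).obj G) (V : S.Opens)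
    (a : Γ(X, f ⁻¹ᵁ V)) (m : Γ(F, f ⁻¹ᵁ V)) :
    secMap f ψ V (a • m) = a • secMap f ψ V m :=
  (ψ.val.app (op V)).hom.map_smul a m

lemma secMap_res (ψ : (AMod.dirImg f).obj F ⟶ (AMod.dirImg f).obj G) {V V' : S.Opens}
    (i : V' ⟶ V) (m : Γ(F, f ⁻¹ᵁ V)) :
    secMap f ψ V' (F.presheaf.map ((Opens.map f.base).map i).op m) =
      G.presheaf.map ((Opens.map f.base).map i).op (secMap f ψ V m) :=
  PresheafOfModules.naturality_apply ψ.val i.op m

lemma secMap_map (φ : F ⟶ G) (V : S.Opens) (m : Γ(F, f ⁻¹ᵁ V)) :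
    secMap f ((AMod.dirImg f).map φ) V m = φ.app (f ⁻¹ᵁ V) m := rfl

lemma hom_ext_secMap (ψ ψ' : (AMod.dirImg f).obj F ⟶ (AMod.dirImg f).obj G)
    (h : ∀ (V : S.Opens) (m : Γ(F, f ⁻¹ᵁ V)), secMap f ψ V m = secMap f ψ' V m) : ψ = ψ' := by
  apply SheafOfModules.hom_ext
  apply PresheafOfModules.hom_ext
  intro V
  induction V using Opposite.rec with | op V => ?_
  apply ModuleCat.hom_ext
  apply LinearMap.ext
  intro m
  exact h V m

theorem map_injective [IsAffineHom f] [F.IsQuasicoherent] :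
    Function.Injective
      ((AMod.dirImg f).map : (F ⟶ G) → ((AMod.dirImg f).obj F ⟶ (AMod.dirImg f).obj G)) := by
  intro φ φ' h
  apply hom_ext_stalk
  intro x m
  obtain ⟨_, ⟨V, hV, rfl⟩, hxV, -⟩ := S.isBasis_affineOpens.exists_subset_of_mem_open
    (Set.mem_univ (f x)) isOpen_univ
  have hVa : IsAffineOpen V := hV
  have hU : IsAffineOpen (f ⁻¹ᵁ V) := hVa.preimage f
  have hx : x ∈ f ⁻¹ᵁ V := hxV
  have := stalkHom_ext hU x hx (stalkLinearMap φ x) (stalkLinearMap φ' x) (fun t => by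
    rw [stalkLinearMap_apply, stalkLinearMap_apply, stalkMap_germ, stalkMap_germ]
    have h2 : secMap f ((AMod.dirImg f).map φ) V t = secMap f ((AMod.dirImg f).map φ') V t := by
      rw [h]
    rw [secMap_map, secMap_map] at h2
    rw [h2])
  exact congr($this m)

section Surj

variable [IsAffineHom f] [F.IsQuasicoherent] (ψ : (AMod.dirImg f).obj F ⟶ (AMod.dirImg f).obj G)

/-- the section of the sheaf Hom over `f⁻¹ V`, for `V` affine. -/
lemma exists_sec {V : S.Opens} (hV : IsAffineOpen V) :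
    ∃ g : Γ(homSh F G, f ⁻¹ᵁ V), ∀ (y : ↥(f ⁻¹ᵁ V)) (m : Γ(F, f ⁻¹ᵁ V)),
      g.1 y (F.presheaf.germ (f ⁻¹ᵁ V) y.1 y.2 m) =
        G.presheaf.germ (f ⁻¹ᵁ V) y.1 y.2 (secMap f ψ V m) := by
  refine exists_secOfLin (hV.preimage f) (le_refl _) (secMap f ψ V) (fun a m => ?_)
  rw [secMap_smul]
  congr 1
  have : (homOfLE (le_refl (f ⁻¹ᵁ V))) = 𝟙 _ := Subsingleton.elim _ _
  rw [this, op_id, X.presheaf.map_id]
  rfl

omit [IsAffineHom f] [F.IsQuasicoherent] in
/-- compatibility of the local sections with the maps on sections over arbitrary opens. -/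
lemma sec_germ {W : S.Opens} (gW : Γ(homSh F G, f ⁻¹ᵁ W))
    (hgW : ∀ (y : ↥(f ⁻¹ᵁ W)) (m : Γ(F, f ⁻¹ᵁ W)),
      gW.1 y (F.presheaf.germ (f ⁻¹ᵁ W) y.1 y.2 m) =
        G.presheaf.germ (f ⁻¹ᵁ W) y.1 y.2 (secMap f ψ W m))
    {V : S.Opens} (hle : W ≤ V) (m : Γ(F, f ⁻¹ᵁ V)) (x : X) (hx : f x ∈ W) :
    gW.1 ⟨x, hx⟩ (F.presheaf.germ (f ⁻¹ᵁ V) x (hle hx) m) =
      G.presheaf.germ (f ⁻¹ᵁ V) x (hle hx) (secMap f ψ V m) := by
  have e1 : F.presheaf.germ (f ⁻¹ᵁ V) x (hle hx) m =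
      F.presheaf.germ (f ⁻¹ᵁ W) x hx
        (F.presheaf.map ((Opens.map f.base).map (homOfLE hle)).op m) :=
    (TopCat.Presheaf.germ_res_apply F.presheaf ((Opens.map f.base).map (homOfLE hle)) x hx m).symm
  rw [e1, hgW ⟨x, hx⟩, secMap_res, TopCat.Presheaf.germ_res_apply]

lemma exists_stalk (x : X) : ∃ φx : StalkHom F G x, ∀ (V : S.Opens) (hx : f x ∈ V)
    (m : Γ(F, f ⁻¹ᵁ V)), φx (F.presheaf.germ (f ⁻¹ᵁ V) x hx m) =
      G.presheaf.germ (f ⁻¹ᵁ V) x hx (secMap f ψ V m) := by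
  obtain ⟨_, ⟨V₀, hV₀, rfl⟩, hxV₀, -⟩ := S.isBasis_affineOpens.exists_subset_of_mem_open
    (Set.mem_univ (f x)) isOpen_univ
  have hV₀a : IsAffineOpen V₀ := hV₀
  obtain ⟨g₀, hg₀⟩ := exists_sec f ψ hV₀a
  have hx₀ : f x ∈ V₀ := hxV₀
  refine ⟨g₀.1 ⟨x, hx₀⟩, ?_⟩
  intro V hx m
  obtain ⟨_, ⟨W, hW, rfl⟩, hxW, hle⟩ := S.isBasis_affineOpens.exists_subset_of_mem_open
    (show f x ∈ ((V ⊓ V₀ : S.Opens) : Set S) from ⟨hx, hx₀⟩) (V ⊓ V₀).isOpen
  have hWa : IsAffineOpen W := hW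
  have hxW' : f x ∈ W := hxW
  have hleV : W ≤ V := fun z hz => (hle hz).1
  have hleV₀ : W ≤ V₀ := fun z hz => (hle hz).2
  obtain ⟨gW, hgW⟩ := exists_sec f ψ hWa
  have heq : g₀.1 ⟨x, hx₀⟩ = gW.1 ⟨x, hxW'⟩ := by
    apply stalkHom_ext (hV₀a.preimage f) x hx₀
    intro t
    rw [hg₀ ⟨x, hx₀⟩ t]
    exact (sec_germ f ψ gW hgW hleV₀ t x hxW').symm
  rw [heq]
  exact sec_germ f ψ gW hgW hleV m x hxW'

theorem map_surjective :
    ∃ φ : F ⟶ G, (AMod.dirImg f).map φ = ψ := by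
  choose st hst using exists_stalk f ψ
  have hloc : IsLocSect F G (fun x : (⊤ : X.Opens) => st x.1) := by
    refine (homLoc F G).locality (U := ⊤) (fun x : (⊤ : X.Opens) => st x.1) ?_
    intro x
    obtain ⟨_, ⟨V₀, hV₀, rfl⟩, hxV₀, -⟩ := S.isBasis_affineOpens.exists_subset_of_mem_open
      (Set.mem_univ (f x.1)) isOpen_univ
    have hV₀a : IsAffineOpen V₀ := hV₀
    obtain ⟨g₀, hg₀⟩ := exists_sec f ψ hV₀a
    refine ⟨f ⁻¹ᵁ V₀, hxV₀, homOfLE le_top, ?_⟩
    have : (fun y : ↥(f ⁻¹ᵁ V₀) => st y.1) = g₀.1 := by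
      funext y
      apply stalkHom_ext (hV₀a.preimage f) y.1 y.2
      intro t
      rw [hg₀ y t]
      exact hst y.1 V₀ y.2 t
    change IsLocSect F G (fun y : ↥(f ⁻¹ᵁ V₀) => st y.1)
    rw [this]
    exact g₀.2
  let g : Γ(homSh F G, ⊤) := ⟨fun x => st x.1, hloc⟩
  refine ⟨homOfSec g, ?_⟩
  apply hom_ext_secMap
  intro V m
  rw [secMap_map]
  apply sec_ext' G
  intro y
  rw [germ_homOfSec]
  exact hst y.1 V y.2 m

end Surj

theorem map_bijective [IsAffineHom f] [F.IsQuasicoherent] :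
    Function.Bijective
      ((AMod.dirImg f).map : (F ⟶ G) → ((AMod.dirImg f).obj F ⟶ (AMod.dirImg f).obj G)) :=
  ⟨map_injective f, fun ψ => map_surjective f ψ⟩

end Groth.Agent.Helper13.DirImgFull
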