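import Mathlib
import Groth.Prelude.Def_KSix
import Groth.Agent.Lib.Helper13.FinGlobGen
import Groth.Agent.Lib.Helper13.InvTwist
import Groth.Agent.Lib.Helper13.AmpleBasis

/-!
# Ample families of invertible modules: quotients of sums of negative powers (helper13)

* `JS u y`: the family of maps `u j : A j ⟶ F` is jointly surjective on the stalk at `y`;
* `exists_finset_spanAt_of_isCompact`: finitely many global sections span the stalks on a compact set
  on which the module is generated by global sections;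
* `exists_local`: for `s` a section of `L^d` with `X_s` affine, there are finitely many maps
  `(L^N)^∨ ⟶ F`, `N > 0`, jointly surjective on the stalks at the points of `X_s`;
* `exists_epi_of_family`: on a qcqs scheme with an ample family `(L_i)`, every quasi-coherent
  module of finite type is a quotient of a finite direct sum of `(L_i^N)^∨`, `N > 0`;
* `isFinLocFree_biproduct_of_isInvertible`: finite sums of invertible modules are finite locally free.
-/

set_option autoImplicit false
set_option linter.unusedSectionVars false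
universe u
open CategoryTheory CategoryTheory.Limits AlgebraicGeometry Opposite TopologicalSpace TensorProduct
open Groth.Agent.Helper13.QCoh Groth.Agent.Helper13.FinType Groth.Agent.Helper13.Tensor
open Groth.Agent.Helper13.Inv Groth.Agent.Helper13.GlobGen Groth.Agent.Helper13.FinGlobGen
open Groth.Agent.Helper13.LocFree

namespace Groth.Agent.Helper13.AmpleFam

variable {X : Scheme.{u}}

/-- the maps `u j` are jointly surjective on the stalks at `y` -/
def JS {J : Type*} {A : J → X.Modules} {F : X.Modules} (u : ∀ j, A j ⟶ F) (y : X) : Prop :=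
  ⨆ j, LinearMap.range (stalkLinearMap (u j) y) = ⊤

section JS

variable {J : Type*} {A : J → X.Modules} {F : X.Modules} {u : ∀ j, A j ⟶ F} {y : X}

lemma JS.comp (h : JS u y) {F' : X.Modules} (p : F ⟶ F')
    (hp : Function.Surjective (stalkMap p y)) : JS (fun j => u j ≫ p) y := by
  unfold JS at h ⊢
  rw [eq_top_iff]
  intro z _
  obtain ⟨w, rfl⟩ := hp z
  have hw : w ∈ ⨆ j, LinearMap.range (stalkLinearMap (u j) y) := by rw [h]; trivial
  refine Submodule.iSup_induction (motive := fun w => stalkLinearMap p y w ∈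
    ⨆ j, LinearMap.range (stalkLinearMap (u j ≫ p) y)) _ hw ?_ ?_ ?_
  · rintro j _ ⟨a, rfl⟩
    refine Submodule.mem_iSup_of_mem j ⟨a, ?_⟩
    exact Groth.Agent.Helper13.PbInv.stalkMap_comp (u j) p y a
  · rw [map_zero]; exact zero_mem _
  · intro a b ha hb
    rw [map_add]; exact add_mem ha hb

lemma JS.precomp (h : JS u y) {A' : J → X.Modules} (v : ∀ j, A' j ⟶ A j)
    (hv : ∀ j, Function.Surjective (stalkMap (v j) y)) : JS (fun j => v j ≫ u j) y := by
  unfold JS at h ⊢
  rw [eq_top_iff, ← h]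
  refine iSup_mono fun j => ?_
  rintro _ ⟨a, rfl⟩
  obtain ⟨b, rfl⟩ := hv j a
  exact ⟨b, Groth.Agent.Helper13.PbInv.stalkMap_comp (v j) (u j) y b⟩

lemma JS.twist (h : JS u y) (D : X.Modules) : JS (fun j => Tensor.map (u j) (𝟙 D)) y := by
  unfold JS at h ⊢
  rw [eq_top_iff]
  rintro z -
  obtain ⟨w, rfl⟩ := (stalkTensorEquiv F D y).surjective z
  induction w using TensorProduct.induction_on with
  | zero => rw [map_zero]; exact zero_mem _
  | add a b ha hb => rw [map_add]; exact add_mem ha hb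
  | tmul g d =>
    have hg : g ∈ ⨆ j, LinearMap.range (stalkLinearMap (u j) y) := by rw [h]; trivial
    refine Submodule.iSup_induction (motive := fun g => stalkTensorEquiv F D y (g ⊗ₜ d) ∈
      ⨆ j, LinearMap.range (stalkLinearMap (Tensor.map (u j) (𝟙 D)) y)) _ hg ?_ ?_ ?_
    · rintro j _ ⟨a, rfl⟩
      refine Submodule.mem_iSup_of_mem j ⟨stalkTensorEquiv (A j) D y (a ⊗ₜ d), ?_⟩
      rw [stalkLinearMap_apply, Groth.Agent.Helper13.TwistSES.stalkMap_map_id,
        LinearMap.rTensor_tmul]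
    · rw [TensorProduct.zero_tmul, map_zero]; exact zero_mem _
    · intro a b ha hb
      rw [TensorProduct.add_tmul, map_add]; exact add_mem ha hb

lemma JS.of_span {G : X.Modules} (t : J → Γ(G, ⊤))
    (h : Submodule.span (X.presheaf.stalk y)
      (Set.range fun j => G.presheaf.germ ⊤ y trivial (t j)) = ⊤) :
    JS (fun j => homOfSec G (t j)) y := by
  unfold JS
  rw [eq_top_iff, ← h, Submodule.span_le]
  rintro _ ⟨j, rfl⟩
  refine Submodule.mem_iSup_of_mem j ⟨(Groth.Agent.Helper13.WeakAss.unitStalkEquiv y).symm 1, ?_⟩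
  rw [stalkLinearMap_apply, stalkMap_homOfSec, LinearEquiv.apply_symm_apply, one_smul]

lemma JS.surjective_desc [Finite J] (h : JS u y) :
    Function.Surjective (stalkMap (biproduct.desc u) y) := by
  haveI := Fintype.ofFinite J
  intro z
  have hz : z ∈ ⨆ j, LinearMap.range (stalkLinearMap (u j) y) := by rw [h]; trivial
  have hle : ⨆ j, LinearMap.range (stalkLinearMap (u j) y) ≤
      LinearMap.range (stalkLinearMap (biproduct.desc u) y) := by
    refine iSup_le fun j => ?_
    rintro _ ⟨a, rfl⟩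
    refine ⟨stalkMap (biproduct.ι A j) y a, ?_⟩
    rw [stalkLinearMap_apply, ← Groth.Agent.Helper13.PbInv.stalkMap_comp, biproduct.ι_desc]
    rfl
  obtain ⟨a, ha⟩ := hle hz
  exact ⟨a, ha⟩

end JS

/-- local version of `FinGlobGen.exists_nhd_spanAt` -/
theorem exists_nhd_spanAt' (F : X.Modules) [SheafOfModules.IsFiniteType (R := X.ringCatSheaf) F]
    (x : X) (hggx : GGAt F x) :
    ∃ (T : Finset Γ(F, ⊤)) (W : Set X), W ∈ nhds x ∧ ∀ y ∈ W, SpanAt F T y := by
  classical
  obtain ⟨U, hxU, I, hI, s, hs⟩ := exists_genOn_of_isFiniteType F x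
  have hfg : (⊤ : Submodule (X.presheaf.stalk x) (F.presheaf.stalk x)).FG := by
    rw [← hs x hxU]
    exact Submodule.fg_span (Set.finite_range _)
  have hcomp := (Submodule.fg_iff_compact _).1 hfg
  let g : Γ(F, ⊤) → F.presheaf.stalk x := fun t => F.presheaf.germ ⊤ x trivial t
  obtain ⟨T, hT⟩ := CompleteLattice.IsCompactElement.exists_finset_of_le_iSup _ hcomp
    (fun t : Γ(F, ⊤) => Submodule.span (X.presheaf.stalk x) {g t}) (by
      rw [← Submodule.span_range_eq_iSup]
      exact hggx.ge)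
  have hTx : SpanAt F T x := by
    unfold SpanAt
    rw [eq_top_iff]
    refine hT.trans ?_
    refine iSup₂_le fun t ht => ?_
    rw [Submodule.span_le, Set.singleton_subset_iff]
    exact Submodule.subset_span ⟨⟨t, ht⟩, rfl⟩
  have key : ∀ i : I, ∃ (W : X.Opens) (hWU : W ≤ U), x ∈ W ∧
      F.presheaf.map (homOfLE hWU).op (s i) ∈ Submodule.span Γ(X, W)
        (Set.range (resFam F (fun t : T => (t : Γ(F, ⊤))) (le_top : W ≤ ⊤))) := by
    intro i
    have hm : F.presheaf.germ U x hxU (s i) ∈ Submodule.span (X.presheaf.stalk x)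
        (Set.range fun t : T => F.presheaf.germ ⊤ x trivial (t : Γ(F, ⊤))) := by
      unfold SpanAt at hTx
      rw [hTx]; trivial
    obtain ⟨W, hW, hxW, t', ht', hgerm⟩ :=
      exists_section_of_mem_span (fun t : T => (t : Γ(F, ⊤))) x trivial _ hm
    obtain ⟨W', hxW', i₁, i₂, heq⟩ := TopCat.Presheaf.germ_eq F.presheaf x hxW hxU t' (s i) hgerm
    refine ⟨W', i₂.le, hxW', ?_⟩
    have h1 := res_mem_span (fun t : T => (t : Γ(F, ⊤))) hW i₁.le t' ht'
    have h2 : F.presheaf.map (homOfLE i₂.le).op (s i) = F.presheaf.map (homOfLE i₁.le).op t' :=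
      heq.symm
    rw [h2]
    exact h1
  choose W hWU hxW hmem using key
  refine ⟨T, (U : Set X) ∩ ⋂ i, (W i : Set X), ?_, ?_⟩
  · refine Filter.inter_mem (U.isOpen.mem_nhds hxU) ?_
    rw [Filter.iInter_mem]
    exact fun i => (W i).isOpen.mem_nhds (hxW i)
  · rintro y ⟨hyU, hyW⟩
    rw [Set.mem_iInter] at hyW
    unfold SpanAt
    rw [eq_top_iff, ← hs y hyU, Submodule.span_le]
    rintro _ ⟨i, rfl⟩
    have h1 := germ_mem_span (fun t : T => (t : Γ(F, ⊤))) (le_top : W i ≤ ⊤) _ (hmem i) y (hyW i)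
    rw [TopCat.Presheaf.germ_res_apply] at h1
    exact h1

theorem exists_finset_spanAt_of_isCompact (F : X.Modules)
    [SheafOfModules.IsFiniteType (R := X.ringCatSheaf) F] (K : Set X) (hK : IsCompact K)
    (hgg : ∀ y ∈ K, GGAt F y) :
    ∃ T : Finset Γ(F, ⊤), ∀ y ∈ K, SpanAt F T y := by
  classical
  refine hK.induction_on (p := fun S => ∃ T : Finset Γ(F, ⊤), ∀ y ∈ S, SpanAt F T y)
    ?_ ?_ ?_ ?_
  · exact ⟨∅, fun y hy => hy.elim⟩
  · rintro S S' hSS' ⟨T, hT⟩
    exact ⟨T, fun y hy => hT y (hSS' hy)⟩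
  · rintro S S' ⟨T, hT⟩ ⟨T', hT'⟩
    refine ⟨T ∪ T', fun y hy => ?_⟩
    rcases hy with hy | hy
    · exact (hT y hy).mono Finset.subset_union_left
    · exact (hT' y hy).mono Finset.subset_union_right
  · intro x hx
    obtain ⟨T, W, hW, hT⟩ := exists_nhd_spanAt' F x (hgg x hx)
    exact ⟨W, mem_nhdsWithin_of_mem_nhds hW, T, hT⟩

/-- for `s` a section of `L^d`, `d > 0`, with `X_s` affine, there are `N > 0` and finitely many maps
`(L^N)^∨ ⟶ F` which are jointly surjective on the stalks at the points of `X_s`. -/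
theorem exists_local [CompactSpace X] [QuasiSeparatedSpace X] (L : X.Modules)
    (hL : PicF.IsInvertible L) (F : X.Modules) [F.IsQuasicoherent]
    [SheafOfModules.IsFiniteType (R := X.ringCatSheaf) F] (d : ℕ) (hd : 0 < d)
    (s : Coh.structureModule X ⟶ CohB1.tensorPow L d)
    (hs : IsAffineOpen (CohB1.genLocus _ s)) :
    ∃ (N : ℕ) (_ : 0 < N) (m : ℕ)
      (u : Fin m → (InvDual.dual (CohB1.tensorPow L N) ⟶ F)),
      ∀ y ∈ CohB1.genLocus _ s, JS u y := by
  classical
  obtain ⟨n₀, h⟩ := exists_ggAt_of_section L hL F d hd s hs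
  have hLN := isInvertible_tensorPow L hL (n₀ + 1)
  haveI : SheafOfModules.IsFiniteType (R := X.ringCatSheaf) (CohB1.tensorPow L (n₀ + 1)) :=
    isFiniteType_of_isInvertible _ hLN
  haveI : SheafOfModules.IsFiniteType (R := X.ringCatSheaf)
    (CohB1.tensorMod F (CohB1.tensorPow L (n₀ + 1))) := isFiniteType_tensorMod _ _
  obtain ⟨T, hT⟩ := exists_finset_spanAt_of_isCompact
    (CohB1.tensorMod F (CohB1.tensorPow L (n₀ + 1))) _ hs.isCompact
    (fun y hy => h (n₀ + 1) (Nat.le_succ _) y hy)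
  refine ⟨n₀ + 1, Nat.succ_pos _, T.card, fun j =>
    (Tensor.lid (InvDual.dual (CohB1.tensorPow L (n₀ + 1)))).inv ≫
      (Tensor.map (homOfSec (CohB1.tensorMod F (CohB1.tensorPow L (n₀ + 1)))
        (T.equivFin.symm j : Γ(CohB1.tensorMod F (CohB1.tensorPow L (n₀ + 1)), ⊤)))
        (𝟙 (InvDual.dual (CohB1.tensorPow L (n₀ + 1)))) ≫
        (Groth.Agent.Helper13.InvTwist.untwist F (CohB1.tensorPow L (n₀ + 1)) hLN).hom), ?_⟩
  intro y hy
  have h1 : JS (fun j : Fin T.card => homOfSec (CohB1.tensorMod F (CohB1.tensorPow L (n₀ + 1)))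
      (T.equivFin.symm j : Γ(CohB1.tensorMod F (CohB1.tensorPow L (n₀ + 1)), ⊤))) y := by
    apply JS.of_span
    rw [eq_top_iff, ← hT y hy]
    apply Submodule.span_mono
    rintro _ ⟨t, rfl⟩
    exact ⟨T.equivFin t, by simp⟩
  have h2 := (h1.twist (InvDual.dual (CohB1.tensorPow L (n₀ + 1)))).comp
    (Groth.Agent.Helper13.InvTwist.untwist F (CohB1.tensorPow L (n₀ + 1)) hLN).hom
    (stalkMap_bijective_of_isIso _ y).2
  exact h2.precomp (fun _ => (Tensor.lid (InvDual.dual (CohB1.tensorPow L (n₀ + 1)))).inv)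
    (fun _ => (stalkMap_bijective_of_isIso _ y).2)

/-- on a quasi-compact quasi-separated scheme with an ample family of invertible modules `(L_i)`,
every quasi-coherent module of finite type is a quotient of a finite direct sum of duals of
positive powers of the `L_i`. -/
theorem exists_epi_of_family [CompactSpace X] [QuasiSeparatedSpace X] {ι : Type*}
    (L : ι → X.Modules) (hinv : ∀ i, PicF.IsInvertible (L i))
    (hcov : ∀ x : X, ∃ (i : ι) (d : ℕ) (_ : 0 < d)
      (s : Coh.structureModule X ⟶ CohB1.tensorPow (L i) d),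
      x ∈ CohB1.genLocus _ s ∧ IsAffineOpen (CohB1.genLocus _ s))
    (F : X.Modules) [F.IsQuasicoherent] [SheafOfModules.IsFiniteType (R := X.ringCatSheaf) F] :
    ∃ (k : ℕ) (i : Fin k → ι) (N : Fin k → ℕ) (_ : ∀ j, 0 < N j)
      (π : (⨁ fun j => InvDual.dual (CohB1.tensorPow (L (i j)) (N j))) ⟶ F), Epi π := by
  classical
  choose i d hd s hx hs using hcov
  choose N hN m v hv using fun x =>
    exists_local (L (i x)) (hinv _) F (d x) (hd x) (s x) (hs x)
  obtain ⟨T, hT⟩ := isCompact_univ.elim_finite_subcover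
    (fun x : X => ((CohB1.genLocus _ (s x) : X.Opens) : Set X))
    (fun x => (CohB1.genLocus _ (s x)).2) (fun x _ => Set.mem_iUnion.2 ⟨x, hx x⟩)
  let e : (Σ x : T, Fin (m x.1)) ≃ Fin (Fintype.card (Σ x : T, Fin (m x.1))) :=
    Fintype.equivFin _
  refine ⟨Fintype.card (Σ x : T, Fin (m x.1)), fun b => i (e.symm b).1.1,
    fun b => N (e.symm b).1.1, fun b => hN _,
    biproduct.desc (fun b => v (e.symm b).1.1 (e.symm b).2), ?_⟩
  apply Groth.Agent.Helper13.FinType.epi_of_stalkMap_surjective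
  intro y
  obtain ⟨x, hxT, hy⟩ : ∃ x ∈ T, y ∈ CohB1.genLocus _ (s x) := by
    have := hT (Set.mem_univ y)
    simpa using this
  apply JS.surjective_desc
  have h0 := hv x y hy
  unfold JS at h0 ⊢
  rw [eq_top_iff, ← h0]
  refine iSup_le fun j => ?_
  have key : ∀ a : (Σ x : T, Fin (m x.1)),
      LinearMap.range (stalkLinearMap (v a.1.1 a.2) y) ≤
        ⨆ b, LinearMap.range (stalkLinearMap (v (e.symm b).1.1 (e.symm b).2) y) := by
    intro a
    obtain ⟨b, rfl⟩ := e.symm.surjective a
    exact le_iSup (fun b => LinearMap.range (stalkLinearMap (v (e.symm b).1.1 (e.symm b).2) y)) b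
  exact key ⟨⟨x, hxT⟩, j⟩

/-- a finite direct sum of invertible modules is finite locally free. -/
theorem isFinLocFree_biproduct_of_isInvertible {k : ℕ} (N : Fin k → X.Modules)
    (hN : ∀ j, PicF.IsInvertible (N j)) : FlatMod.IsFinLocFree (⨁ N) := by
  intro x
  choose U hxU e using fun j => hN j x
  let W : X.Opens := ⟨⋂ j, (U j : Set X), isOpen_iInter_of_finite fun j => (U j).2⟩
  have hW : ∀ j, W ≤ U j := fun j y hy => Set.mem_iInter.1 hy j
  have e' : ∀ j, Nonempty ((N j).restrict W.ι ≅ Coh.structureModule (W : Scheme.{u})) :=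
    fun j => Groth.Agent.Helper13.InvTwist.unit_of_le (N j) (hW j) (e j).some
  refine ⟨W, k, Set.mem_iInter.2 hxU, ⟨?_⟩⟩
  change (Scheme.Modules.restrictFunctor W.ι).obj (⨁ N) ≅ _
  exact (Scheme.Modules.restrictFunctorIsoPullback W.ι).app _ ≪≫
    (Scheme.Modules.pullback W.ι).mapIso (biproduct.isoCoproduct N) ≪≫
    PreservesCoproduct.iso (Scheme.Modules.pullback W.ι) N ≪≫
    Sigma.mapIso (fun j => ((Scheme.Modules.restrictFunctorIsoPullback W.ι).app (N j)).symm ≪≫
      (e' j).some)

end Groth.Agent.Helper13.AmpleFam
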