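import Mathlib
import Groth.Prelude.Def_BlowUp2
import Groth.Prelude.Def_ClSub2
import Groth.Prelude.Def_Pic
import Groth.Agent.Lib.Helper13.VanishIdealFT
import Groth.Agent.Lib.Helper13.GenLocus
import Groth.Agent.Lib.Helper13.InvTensor
import Groth.Agent.Lib.Helper13.ExtPU

set_option autoImplicit false
universe u
open CategoryTheory CategoryTheory.Limits AlgebraicGeometry Opposite TopologicalSpace
open Groth.Agent.Helper13.QCoh Groth.Agent.Helper13.FinType Groth.Agent.Helper13.KerSec
open Groth.Agent.Helper13.WeakAss Groth.Agent.Helper13.Inv Groth.Agent.Helper13.VanishIdeal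

namespace Groth.Agent.Helper13.EffCartier

variable {X : Scheme.{u}} (I : X.IdealSheafData)

/-- the ideal module of the closed subscheme cut out by `I`. -/
noncomputable abbrev K : X.Modules := idealMod I.subschemeι

/-- `ClSub.idealMod I` is the ideal module of `I.subschemeι`. -/
noncomputable def idealModIso : ClSub.idealMod I ≅ K I :=
  kernelIsoOfEq (by
    apply Scheme.Modules.hom_ext
    intro U
    rfl : ClSub.toSubscheme I = sharp I.subschemeι)

/-- the function on `U` attached to a section of the ideal module. -/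
noncomputable def fn {U : X.Opens} (k : Γ(K I, U)) : Γ(X, U) := (idealι I.subschemeι).app U k

lemma fn_injective (U : X.Opens) : Function.Injective (fn I (U := U)) :=
  (mono_iff_app_injective (idealι I.subschemeι)).1 inferInstance U

lemma fn_smul {U : X.Opens} (a : Γ(X, U)) (k : Γ(K I, U)) : fn I (a • k) = a * fn I k :=
  Scheme.Modules.Hom.app_smul (idealι I.subschemeι) a k

lemma fn_res {U V : X.Opens} (h : V ≤ U) (k : Γ(K I, U)) :
    fn I ((K I).presheaf.map (homOfLE h).op k) = X.presheaf.map (homOfLE h).op (fn I k) := by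
  have hnat := (idealι I.subschemeι).mapPresheaf.naturality (homOfLE h).op
  exact congr($hnat k)

/-- sections of the ideal module over an affine open are the elements of the ideal. -/
lemma mem_ideal_iff (U : X.affineOpens) (g : Γ(X, U.1)) :
    g ∈ I.ideal U ↔ ∃ k : Γ(K I, U.1), fn I k = g := by
  rw [← Scheme.IdealSheafData.ker_subschemeι_app I U, RingHom.mem_ker]
  constructor
  · intro hg
    exact exists_kernel_section (sharp I.subschemeι) U.1 g hg
  · rintro ⟨k, rfl⟩
    exact app_idealι I.subschemeι U.1 k


instance : (K I).IsQuasicoherent := isQuasicoherent_idealMod I.subschemeι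

lemma unitStalkEquiv_stalkMap_smul_germ {U : X.Opens} (e : Γ(K I, U)) (y : X) (hy : y ∈ U)
    (r : X.presheaf.stalk y) :
    unitStalkEquiv y (stalkMap (idealι I.subschemeι) y (r • (K I).presheaf.germ U y hy e)) =
      r * X.presheaf.germ U y hy (fn I e) := by
  rw [stalkMap_smul, stalkMap_germ, map_smul, unitStalkEquiv_germ]
  rfl

/-- a generator of the ideal of `I` on an affine open which is a nonzerodivisor generates the ideal
module freely at every point. -/
theorem isGen_of_span_singleton (U : X.affineOpens) (f : Γ(X, U.1))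
    (hf : f ∈ nonZeroDivisors Γ(X, U.1)) (hI : I.ideal U = Ideal.span {f}) (e : Γ(K I, U.1))
    (he : fn I e = f) (y : X) (hy : y ∈ U.1) : IsGen (K I) e y hy := by
  constructor
  · intro r r' h
    have h' : (r - r') • (K I).presheaf.germ U.1 y hy e = 0 := by
      rw [sub_smul]; exact sub_eq_zero.2 h
    have h1 := unitStalkEquiv_stalkMap_smul_germ I e y hy (r - r')
    rw [h', map_zero, map_zero, he] at h1
    letI := TopCat.Presheaf.algebra_section_stalk X.presheaf (⟨y, hy⟩ : U.1)
    haveI := U.2.isLocalization_stalk ⟨y, hy⟩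
    have hnzd : X.presheaf.germ U.1 y hy f ∈ nonZeroDivisors (X.presheaf.stalk y) :=
      IsLocalization.map_nonZeroDivisors_le (U.2.primeIdealOf ⟨y, hy⟩).asIdeal.primeCompl
        (X.presheaf.stalk y) (Submonoid.mem_map_of_mem _ hf)
    have := (mul_right_mem_nonZeroDivisors_eq_zero_iff hnzd).1 h1.symm
    exact sub_eq_zero.1 this
  · intro m
    obtain ⟨V, hyV, k, rfl⟩ := TopCat.Presheaf.exists_germ_eq (K I).presheaf m
    obtain ⟨g, hgle, hyg⟩ := U.2.exists_basicOpen_le (V := V ⊓ U.1) ⟨y, hyV, hy⟩ hy
    have hDV : X.basicOpen g ≤ V := hgle.trans inf_le_left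
    have hDU : X.basicOpen g ≤ U.1 := X.basicOpen_le g
    let k' : Γ(K I, X.basicOpen g) := (K I).presheaf.map (homOfLE hDV).op k
    let e' : Γ(K I, X.basicOpen g) := (K I).presheaf.map (homOfLE hDU).op e
    have h1 : fn I k' ∈ I.ideal (X.affineBasicOpen g) := (mem_ideal_iff I _ _).2 ⟨k', rfl⟩
    rw [← I.map_ideal_basicOpen U g, hI, Ideal.map_span, Set.image_singleton] at h1
    obtain ⟨a, ha⟩ := Ideal.mem_span_singleton'.1 h1
    have h2 : k' = a • e' := by
      apply fn_injective I
      rw [fn_smul]
      have he' : fn I e' = X.presheaf.map (homOfLE hDU).op f := by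
        rw [← he]; exact fn_res I hDU e
      rw [he']
      exact ha.symm
    refine ⟨X.presheaf.germ (X.basicOpen g) y hyg a, ?_⟩
    change X.presheaf.germ (X.basicOpen g) y hyg a • (K I).presheaf.germ U.1 y hy e =
      (K I).presheaf.germ V y hyV k
    have e1 : (K I).presheaf.germ U.1 y hy e = (K I).presheaf.germ (X.basicOpen g) y hyg e' :=
      (TopCat.Presheaf.germ_res_apply (K I).presheaf (homOfLE hDU) y hyg e).symm
    have e2 : (K I).presheaf.germ V y hyV k = (K I).presheaf.germ (X.basicOpen g) y hyg k' :=
      (TopCat.Presheaf.germ_res_apply (K I).presheaf (homOfLE hDV) y hyg k).symm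
    rw [e1, e2, h2, QCoh.germ_smul]

/-- a section generating the ideal module freely on an affine open gives a nonzerodivisor generating
the ideal. -/
theorem span_singleton_of_isGen (U : X.affineOpens) (e : Γ(K I, U.1))
    (he : ∀ (y : X) (hy : y ∈ U.1), IsGen (K I) e y hy) :
    fn I e ∈ nonZeroDivisors Γ(X, U.1) ∧ I.ideal U = Ideal.span {fn I e} := by
  constructor
  · rw [mem_nonZeroDivisors_iff_right]
    intro a ha
    have h1 : a • e = 0 := by
      apply fn_injective I
      rw [fn_smul, ha]
      exact (map_zero ((idealι I.subschemeι).app U.1).hom).symm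
    apply TopCat.Presheaf.section_ext X.sheaf U.1
    intro y hy
    have h2 : X.presheaf.germ U.1 y hy a • (K I).presheaf.germ U.1 y hy e = 0 := by
      rw [← QCoh.germ_smul, h1, map_zero]
    have h3 : (0 : X.presheaf.stalk y) • (K I).presheaf.germ U.1 y hy e = 0 := zero_smul _ _
    have := (he y hy).1 (h2.trans h3.symm)
    exact this.trans (map_zero (X.presheaf.germ U.1 y hy).hom).symm
  · ext g
    rw [mem_ideal_iff, Ideal.mem_span_singleton']
    constructor
    · rintro ⟨k, rfl⟩
      have hk : k ∈ Submodule.span Γ(X, U.1) (Set.range fun _ : Unit => e) := by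
        apply Groth.Agent.Helper13.Ext.mem_span_of_forall_germ_mem (K I) U.2
        intro y hy
        obtain ⟨r, hr⟩ := (he y hy).2 ((K I).presheaf.germ U.1 y hy k)
        have hr' : r • (K I).presheaf.germ U.1 y hy e = (K I).presheaf.germ U.1 y hy k := hr
        rw [← hr']
        exact Submodule.smul_mem _ _ (Submodule.subset_span ⟨(), rfl⟩)
      rw [Set.range_const, Submodule.mem_span_singleton] at hk
      obtain ⟨a, rfl⟩ := hk
      exact ⟨a, (fn_smul I a e).symm⟩
    · rintro ⟨a, rfl⟩
      exact ⟨a • e, fn_smul I a e⟩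

end Groth.Agent.Helper13.EffCartier
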