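import Groth.Agent.Lib.Helper13.EffCartierPartA
import Groth.Agent.Lib.Helper13.EffCartierPartB

/-!
`Groth.Agent.Lib.Helper13.EffCartier` = union of two files that both lived at this path:

* `EffCartierPartA` : the ORIGINAL content (effective Cartier ideals / blow-up lemmas:
  `exists_chart_le`, `chart_restrict`, `isIso_morphismRestrict_compl`, `isBlowUp_mul`, ...),
  used by S8852 S8898 S8902 S8907 S8861 S2313, `CartierMax*`, `Helper16/Sch/EffC`, `RelCart`, ...
* `EffCartierPartB` : the LATER content (ideal module `K`, `idealModIso`, `fn`, `mem_ideal_iff`,
  `isGen_of_span_singleton`, `span_singleton_of_isGen`), used by S8914 and `Helper18/Omega*`, ...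

Both parts live in the namespace `Groth.Agent.Helper13.EffCartier` and have disjoint names.
(lead, 2026-11-29: repaired after the path was overwritten; do NOT overwrite this file again.)
-/
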