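import Mathlib
import Groth.Agent.S0022
import Groth.Agent.Lib.Helper9.ResVan
import Groth.Agent.Lib.Helper26.PnTwist
import Groth.Agent.Lib.Helper28.TwistGen
import Groth.Agent.Lib.Helper13.ResAmple
import Groth.Agent.Lib.Helper13.GlobGen2
import Groth.Agent.Lib.Helper13.TensorFunctor
import Groth.Agent.Lib.Helper13.TensorAssoc
import Groth.Agent.Lib.Helper13.TensorUnit
import Groth.Agent.Lib.Lead.KerFree2
import Groth.Agent.Lib.Helper15.ProjSpaceProper

/-!
# Finiteness of cohomology of coherent modules on projective space over a Noetherian ring,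
from finiteness for the twisting sheaves (helper13)
-/

set_option autoImplicit false
set_option linter.unusedSectionVars false
set_option linter.style.haveILetI false
universe u
open CategoryTheory CategoryTheory.Limits AlgebraicGeometry Opposite TopologicalSpace

namespace Groth.Agent.Helper13.PnFin

section General

variable {X : Scheme.{u}} (A : Type u) [CommRing A] [X.Over (Spec (CommRingCat.of A))]

/-- `H^p(φ)` as an `A`-linear map. -/
noncomputable def hstar {M M' : X.Modules} (φ : M ⟶ M') (p : ℕ) :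
    Coh.HH X M p →ₗ[A] Coh.HH X M' p where
  toFun y := Sheaf.H.map ((SheafOfModules.toSheaf X.ringCatSheaf).map φ) p y
  map_add' y z := map_add _ y z
  map_smul' a y := (Groth.Agent.Helper9.PowKill.smul_Hmap φ
    (Coh.toGlobal (X ↘ Spec (CommRingCat.of A)) a) p y).symm

theorem hstar_apply {M M' : X.Modules} (φ : M ⟶ M') (p : ℕ) (y : Coh.HH X M p) :
    hstar A φ p y = Sheaf.H.map ((SheafOfModules.toSheaf X.ringCatSheaf).map φ) p y := rfl

theorem hstar_id (M : X.Modules) (p : ℕ) : hstar A (𝟙 M) p = LinearMap.id := by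
  ext y
  have h : (SheafOfModules.toSheaf X.ringCatSheaf).map (𝟙 M) = 𝟙 _ :=
    CategoryTheory.Functor.map_id _ _
  exact (congrArg (fun f => Sheaf.H.map f p y) h).trans (Sheaf.H.map_id_apply y)

theorem hstar_comp {M M' M'' : X.Modules} (φ : M ⟶ M') (ψ : M' ⟶ M'') (p : ℕ) :
    hstar A (φ ≫ ψ) p = (hstar A ψ p).comp (hstar A φ p) := by
  ext y
  have h : (SheafOfModules.toSheaf X.ringCatSheaf).map (φ ≫ ψ) =
      (SheafOfModules.toSheaf X.ringCatSheaf).map φ ≫
        (SheafOfModules.toSheaf X.ringCatSheaf).map ψ := CategoryTheory.Functor.map_comp _ _ _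
  exact (congrArg (fun f => Sheaf.H.map f p y) h).trans (Sheaf.H.map_comp_apply _ _ y)

theorem hstar_add {M M' : X.Modules} (φ ψ : M ⟶ M') (p : ℕ) :
    hstar A (φ + ψ) p = hstar A φ p + hstar A ψ p := by
  ext y
  have h : (SheafOfModules.toSheaf X.ringCatSheaf).map (φ + ψ) =
      (SheafOfModules.toSheaf X.ringCatSheaf).map φ +
        (SheafOfModules.toSheaf X.ringCatSheaf).map ψ := Functor.map_add _
  exact (congrArg (fun f => Sheaf.H.map f p y) h).trans (Sheaf.H.map_add_apply _ _ y)

theorem hstar_zero {M M' : X.Modules} (p : ℕ) : hstar A (0 : M ⟶ M') p = 0 := by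
  ext y
  have h : (SheafOfModules.toSheaf X.ringCatSheaf).map (0 : M ⟶ M') = 0 := Functor.map_zero _ _ _
  exact (congrArg (fun f => Sheaf.H.map f p y) h).trans
    (Groth.Agent.Helper9.PowKill.Hmap_zero p y)

theorem hstar_sum {M M' : X.Modules} {ι : Type*} (s : Finset ι) (φ : ι → (M ⟶ M')) (p : ℕ) :
    hstar A (∑ j ∈ s, φ j) p = ∑ j ∈ s, hstar A (φ j) p := by
  classical
  induction s using Finset.induction_on with
  | empty => simp [hstar_zero]
  | insert a s ha ih => rw [Finset.sum_insert ha, Finset.sum_insert ha, hstar_add, ih]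

theorem finite_of_iso {M M' : X.Modules} (e : M ≅ M') (p : ℕ)
    (h : Module.Finite A (Coh.HH X M p)) : Module.Finite A (Coh.HH X M' p) := by
  haveI := h
  refine Module.Finite.of_surjective (hstar A e.hom p) (fun y => ⟨hstar A e.inv p y, ?_⟩)
  rw [← LinearMap.comp_apply, ← hstar_comp, e.inv_hom_id, hstar_id]
  rfl

/-- cohomology of the image of a finite coproduct under an additive functor is finite as soon as
the cohomology of the images of the summands is. -/
theorem finite_sigma {m : ℕ} (E : Fin m → X.Modules) (T : X.Modules ⥤ X.Modules) [T.Additive]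
    (p : ℕ) (h : ∀ j, Module.Finite A (Coh.HH X (T.obj (E j)) p)) :
    Module.Finite A (Coh.HH X (T.obj (∐ E)) p) := by
  classical
  let e : (⨁ E) ≅ ∐ E := biproduct.isoCoproduct E
  let inc : ∀ j, E j ⟶ ∐ E := fun j => biproduct.ι E j ≫ e.hom
  let prj : ∀ j, (∐ E) ⟶ E j := fun j => e.inv ≫ biproduct.π E j
  have htot : ∑ j : Fin m, prj j ≫ inc j = 𝟙 (∐ E) := by
    have h1 : ∀ j, prj j ≫ inc j = e.inv ≫ (biproduct.π E j ≫ biproduct.ι E j) ≫ e.hom := by
      intro j
      simp only [prj, inc, Category.assoc]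
    simp only [h1]
    rw [← Preadditive.comp_sum, ← Preadditive.sum_comp, biproduct.total, Category.id_comp,
      e.inv_hom_id]
  have hT : ∑ j : Fin m, T.map (prj j) ≫ T.map (inc j) = 𝟙 (T.obj (∐ E)) := by
    simp only [← T.map_comp]
    rw [← Functor.map_sum, htot, T.map_id]
  have hsup : (⊤ : Submodule A (Coh.HH X (T.obj (∐ E)) p)) =
      ⨆ j : Fin m, LinearMap.range (hstar A (T.map (inc j)) p) := by
    rw [eq_comm, eq_top_iff]
    intro y _
    have hy : y = ∑ j : Fin m, hstar A (T.map (inc j)) p (hstar A (T.map (prj j)) p y) := by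
      have h2 := congrArg (fun φ => hstar A φ p y) hT
      simp only [hstar_sum, hstar_comp, hstar_id, LinearMap.sum_apply, LinearMap.comp_apply,
        LinearMap.id_apply] at h2
      exact h2.symm
    rw [hy]
    refine Submodule.sum_mem _ (fun j _ => ?_)
    exact Submodule.mem_iSup_of_mem j ⟨_, rfl⟩
  refine ⟨?_⟩
  rw [hsup]
  refine Submodule.fg_iSup _ (fun j => ?_)
  haveI := h j
  rw [LinearMap.range_eq_map]
  exact (Module.Finite.fg_top).map _

end General

section Pn

variable (n : ℕ) (R : Type u) [CommRing R]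

open Groth.Agent.Helper13 Groth.Agent.Helper13.Tensor Groth.Agent.Helper13.GlobGen
  Groth.Agent.Helper13.Inv Groth.Agent.Helper13.FinType

instance compactSpace_projSpace : CompactSpace (CohB1.ProjSpace n R) :=
  QuasiCompact.compactSpace_of_compactSpace (CohB1.ProjSpace.toSpec n R)

instance compactSpace_proj : CompactSpace (Proj (CohB1.polyGrading n R)) :=
  inferInstanceAs (CompactSpace (CohB1.ProjSpace n R))

theorem isAmple_twist_one : CohB1.IsAmple (Twist.twistProjSpace n R 1) :=
  Groth.Agent.Helper28.TwistMul.twist_one_isAmple' (CohB1.polyGrading n R)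
    (Groth.Agent.Helper26.PnTwist.hcov n R)

theorem twist_zero_iso :
    Nonempty (Twist.twistProjSpace n R 0 ≅ Coh.structureModule (CohB1.ProjSpace n R)) :=
  (Groth.Agent.Helper28.TwistMul.twist_all_of_degree_one (CohB1.polyGrading n R)
    (Groth.Agent.Helper26.PnTwist.hcov n R)).2.2 0

/-- `O^m ⊗ O(-N)` -/
noncomputable abbrev Etw (m N : ℕ) : (CohB1.ProjSpace n R).Modules :=
  CohB1.tensorMod (FlatMod.freeMod (CohB1.ProjSpace n R) m) (Twist.twistProjSpace n R (-(N : ℤ)))

/-- every coherent module on `P^n_R` is a quotient of `O^m ⊗ O(-N)`. -/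
theorem exists_epi_twist (M : (CohB1.ProjSpace n R).Modules) (hM : Coh.IsCoh M) :
    ∃ (m N : ℕ) (π : Etw n R m N ⟶ M), Epi π := by
  haveI : M.IsQuasicoherent := hM.1
  haveI : SheafOfModules.IsFiniteType (R := (CohB1.ProjSpace n R).ringCatSheaf) M := hM.2
  have hL := isAmple_twist_one n R
  haveI : CompactSpace (CohB1.ProjSpace n R) := hL.2.1
  obtain ⟨N, hN⟩ := exists_isGloballyGenerated_twist (Twist.twistProjSpace n R 1) hL M
  obtain ⟨e⟩ : Nonempty (Twist.twistProjSpace n R (N : ℤ) ≅
      CohB1.tensorPow (Twist.twistProjSpace n R 1) N) :=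
    (Groth.Agent.Helper28.TwistMul.twist_all_of_degree_one (CohB1.polyGrading n R)
      (Groth.Agent.Helper26.PnTwist.hcov n R)).2.2 N
  have hLN := Groth.Agent.Helper26.PnTwist.isInvertible_twist n R (N : ℤ)
  haveI : (Twist.twistProjSpace n R (N : ℤ)).IsQuasicoherent :=
    isQuasicoherent_of_isInvertible _ hLN
  haveI : SheafOfModules.IsFiniteType (R := (CohB1.ProjSpace n R).ringCatSheaf)
      (Twist.twistProjSpace n R (N : ℤ)) := isFiniteType_of_isInvertible _ hLN
  haveI : SheafOfModules.IsFiniteType (R := (CohB1.ProjSpace n R).ringCatSheaf)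
      (CohB1.tensorMod M (Twist.twistProjSpace n R (N : ℤ))) := isFiniteType_tensorMod _ _
  have hgg0 : Curv2.IsGloballyGenerated
      (CohB1.tensorMod M (Twist.twistProjSpace n R (N : ℤ))) :=
    isGloballyGenerated_of_iso (Tensor.mapIso (Iso.refl _) e.symm) (hN N le_rfl)
  have hgg := (isGloballyGenerated_iff _).1 hgg0
  obtain ⟨m, t, ht⟩ := Groth.Agent.Helper13.FinGlobGen.exists_fin_genOn
    (CohB1.tensorMod M (Twist.twistProjSpace n R (N : ℤ))) hgg
  haveI := Groth.Agent.Helper13.InvTwist.epi_descSec_of_genOn _ t ht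
  haveI := Groth.Agent.Helper13.InvTwist.epi_map_id
    (Groth.Agent.Helper13.LocFree.descSec
      (CohB1.tensorMod M (Twist.twistProjSpace n R (N : ℤ))) t)
    (Twist.twistProjSpace n R (-(N : ℤ)))
  obtain ⟨e1⟩ := Groth.Agent.Helper26.PnTwist.twist_tensor_iso n R (N : ℤ) (-(N : ℤ))
  obtain ⟨e0⟩ := twist_zero_iso n R
  have hz : (N : ℤ) + -(N : ℤ) = 0 := by omega
  let ε : CohB1.tensorMod (CohB1.tensorMod M (Twist.twistProjSpace n R (N : ℤ)))
      (Twist.twistProjSpace n R (-(N : ℤ))) ≅ M :=
    Tensor.assoc _ _ _ ≪≫ Tensor.mapIso (Iso.refl M) (e1 ≪≫ eqToIso (by rw [hz]) ≪≫ e0) ≪≫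
      Tensor.rid M
  exact ⟨m, N, Tensor.map (Groth.Agent.Helper13.LocFree.descSec _ t)
    (𝟙 (Twist.twistProjSpace n R (-(N : ℤ)))) ≫ ε.hom, epi_comp _ _⟩

variable [IsNoetherianRing R]

theorem isNoetherian_projSpace : IsNoetherian (CohB1.ProjSpace n R) := by
  haveI hPft : LocallyOfFiniteType (CohB1.ProjSpace.toSpec n R) := inferInstance
  haveI hPln : IsLocallyNoetherian (CohB1.ProjSpace n R) :=
    LocallyOfFiniteType.isLocallyNoetherian (CohB1.ProjSpace.toSpec n R)
  haveI hPc : CompactSpace (CohB1.ProjSpace n R) :=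
    QuasiCompact.compactSpace_of_compactSpace (CohB1.ProjSpace.toSpec n R)
  exact {}

/-- finiteness of the cohomology of coherent modules on `P^n_R` from finiteness for the `O(d)`. -/
theorem finite_HH_of_twist
    (hfin : ∀ (d : ℤ) (i : ℕ),
      Module.Finite R (Coh.HH (CohB1.ProjSpace n R) (Twist.twistProjSpace n R d) i))
    (M : (CohB1.ProjSpace n R).Modules) (hM : Coh.IsCoh M) (i : ℕ) :
    Module.Finite R (Coh.HH (CohB1.ProjSpace n R) M i) := by
  haveI := isNoetherian_projSpace n R
  have key : ∀ a i : ℕ, n < i + a → ∀ G : (CohB1.ProjSpace n R).Modules, Coh.IsCoh G →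
      Module.Finite R (Coh.HH (CohB1.ProjSpace n R) G i) := by
    intro a
    induction a with
    | zero =>
      intro i hi G hG
      haveI : Coh.IsQCoh G := hG.1
      haveI : Subsingleton (Coh.HH (CohB1.ProjSpace n R) G i) :=
        Groth.Agent.S0022.result n R G i (by omega)
      exact Module.Finite.of_finite
    | succ a ih =>
      intro i hi G hG
      obtain ⟨m, N, π, hπ⟩ := exists_epi_twist n R G hG
      haveI := hπ
      have hLN := Groth.Agent.Helper26.PnTwist.isInvertible_twist n R (-(N : ℤ))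
      have hEfin : ∀ j : ℕ, Module.Finite R (Coh.HH (CohB1.ProjSpace n R) (Etw n R m N) j) := by
        intro j
        refine finite_sigma R (fun _ : Fin m => Coh.structureModule (CohB1.ProjSpace n R))
          (Groth.Agent.Helper13.TensorFunctor.tensorRight (Twist.twistProjSpace n R (-(N : ℤ)))) j (fun _ => ?_)
        exact finite_of_iso R (Tensor.lid (Twist.twistProjSpace n R (-(N : ℤ)))).symm j
          (hfin _ j)
      have hEcoh : Coh.IsCoh (Etw n R m N) := by
        have hlf : FlatMod.IsFinLocFree (Etw n R m N) :=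
          Groth.Agent.Helper13.InvTwist.isFinLocFree_tensor_invertible _ _
            (Groth.Agent.Helper13.LocFree.isFinLocFree_freeMod m) hLN
        exact Groth.Agent.Helper9.ResVan.isCoh_of_isFinLocFree _ hlf
      have hK : Coh.IsCoh (kernel π) := Groth.Agent.Lead.KerFree.isCoh_kernel hEcoh hG π
      haveI : Epi (ShortComplex.mk (kernel.ι π) π (kernel.condition π)).g := hπ
      have hS : (ShortComplex.mk (kernel.ι π) π (kernel.condition π)).ShortExact :=
        { exact := ShortComplex.exact_of_f_is_kernel _ (kernelIsKernel π) }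
      exact Groth.Agent.Helper9.ResVan.finite_HH_right R _ hS i (hEfin i)
        (ih (i + 1) (by omega) _ hK)
  exact key (n + 1) i (by omega) M hM

end Pn

end Groth.Agent.Helper13.PnFin
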