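import Mathlib
import Groth.Agent.Lib.Helper26.PnFin
import Groth.Agent.Lib.Helper13.PnFin1

universe u
open CategoryTheory CategoryTheory.Limits AlgebraicGeometry Opposite TopologicalSpace

namespace Groth.Agent.Helper13.FinProj

open Groth.Agent.Helper26.PnFin Groth.Agent.Helper13.ToAbExact Abelian

variable (A : Type u) [CommRing A] [IsNoetherianRing A] {X : Scheme.{u}}
  [X.Over (Spec (CommRingCat.of A))]

theorem finite_HH_X₂ (S : ShortComplex X.Modules) (hS : S.ShortExact) (i : ℕ)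
    [Module.Finite A (Coh.HH X S.X₁ i)] [Module.Finite A (Coh.HH X S.X₃ i)] :
    Module.Finite A (Coh.HH X S.X₂ i) :=
  finite_of_exact (Canon.HHlin A S.f i) (Canon.HHlin A S.g i)
    (fun b hb => Ext.covariant_sequence_exact₂ _ (toAb_shortExact S hS) b hb)

theorem finite_HH_X₁_zero (S : ShortComplex X.Modules) (hS : S.ShortExact)
    [Module.Finite A (Coh.HH X S.X₂ 0)] : Module.Finite A (Coh.HH X S.X₁ 0) := by
  haveI : IsNoetherian A (Coh.HH X S.X₂ 0) := isNoetherian_of_isNoetherianRing_of_finite A _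
  haveI : Mono ((SheafOfModules.toSheaf X.ringCatSheaf).map S.f) := (toAb_shortExact S hS).mono_f
  exact Module.Finite.of_injective (Canon.HHlin A S.f 0)
    (Ext.postcomp_mk₀_injective_of_mono _ ((SheafOfModules.toSheaf X.ringCatSheaf).map S.f))

theorem finite_HH_X₁_succ (S : ShortComplex X.Modules) (hS : S.ShortExact) (i : ℕ)
    [Module.Finite A (Coh.HH X S.X₃ i)] [Module.Finite A (Coh.HH X S.X₂ (i + 1))] :
    Module.Finite A (Coh.HH X S.X₁ (i + 1)) :=
  finite_of_exact (deltaLin A S hS i) (Canon.HHlin A S.f (i + 1))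
    (fun b hb => Ext.covariant_sequence_exact₁ _ (toAb_shortExact S hS) b hb rfl)

theorem finite_HH_X₁ (S : ShortComplex X.Modules) (hS : S.ShortExact)
    (h2 : ∀ i, Module.Finite A (Coh.HH X S.X₂ i)) (h3 : ∀ i, Module.Finite A (Coh.HH X S.X₃ i)) :
    ∀ i, Module.Finite A (Coh.HH X S.X₁ i)
  | 0 => by
    haveI := h2 0
    exact finite_HH_X₁_zero A S hS
  | i + 1 => by
    haveI := h3 i
    haveI := h2 (i + 1)
    exact finite_HH_X₁_succ A S hS i

/-- a retract has finite cohomology. -/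
theorem finite_of_retract {M M' : X.Modules} (ι : M ⟶ M') (π : M' ⟶ M) (h : ι ≫ π = 𝟙 M) (p : ℕ)
    [Module.Finite A (Coh.HH X M' p)] : Module.Finite A (Coh.HH X M p) := by
  refine Module.Finite.of_surjective (Groth.Agent.Helper13.PnFin.hstar A π p)
    (fun y => ⟨Groth.Agent.Helper13.PnFin.hstar A ι p y, ?_⟩)
  rw [← LinearMap.comp_apply, ← Groth.Agent.Helper13.PnFin.hstar_comp, h,
    Groth.Agent.Helper13.PnFin.hstar_id]
  rfl

end Groth.Agent.Helper13.FinProj
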