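import Mathlib

universe u
open CategoryTheory CategoryTheory.Limits AlgebraicGeometry Opposite TopologicalSpace

namespace Groth.Agent.Helper13.Chow

/-- A morphism from a reduced scheme which, on a dense part, factors through a closed
immersion, factors through it. -/
theorem exists_factor_of_dominant {X C T U : Scheme.{u}} [IsReduced X]
    (c : C ⟶ T) [IsClosedImmersion c] (h : X ⟶ T) (ι : U ⟶ X) [IsDominant ι] (w : U ⟶ C)
    (hw : ι ≫ h = w ≫ c) : ∃ a : X ⟶ C, a ≫ c = h := by
  have hsurj : Surjective (pullback.fst h c) := by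
    constructor
    have hcl : IsClosed (Set.range (pullback.fst h c)) :=
      (pullback.fst h c).isClosedEmbedding.isClosed_range
    have hd : Dense (Set.range (pullback.fst h c)) := by
      refine ι.denseRange.mono ?_
      rintro _ ⟨x, rfl⟩
      refine ⟨pullback.lift ι w hw x, ?_⟩
      rw [← Scheme.Hom.comp_apply, pullback.lift_fst]
    intro x
    have := hd.closure_eq
    rw [hcl.closure_eq] at this
    have hx : x ∈ Set.range (pullback.fst h c) := by rw [this]; exact Set.mem_univ x
    exact hx
  haveI := isIso_of_isClosedImmersion_of_surjective (pullback.fst h c)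
  refine ⟨inv (pullback.fst h c) ≫ pullback.snd h c, ?_⟩
  rw [Category.assoc, ← pullback.condition, IsIso.inv_hom_id_assoc]

/-- Lifting a dominant morphism into an open containing its range stays dominant. -/
theorem isDominant_lift {U X : Scheme.{u}} (s : U ⟶ X) [IsDominant s] (O : X.Opens)
    (t : U ⟶ O) (ht : t ≫ O.ι = s) : IsDominant t := by
  constructor
  intro y
  rw [mem_closure_iff]
  intro W hW hyW
  have hW' : IsOpen (O.ι '' W) := O.ι.isOpenEmbedding.isOpenMap W hW
  have := s.denseRange (O.ι y)
  rw [mem_closure_iff] at this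
  obtain ⟨z, hz, ⟨u, rfl⟩⟩ := this (O.ι '' W) hW' ⟨y, hyW, rfl⟩
  obtain ⟨w, hwW, hw⟩ := hz
  refine ⟨t u, ?_, ⟨u, rfl⟩⟩
  have : O.ι (t u) = O.ι w := by
    rw [← Scheme.Hom.comp_apply, ht]; exact hw.symm
  rw [O.ι.isOpenEmbedding.injective this]
  exact hwW

end Groth.Agent.Helper13.Chow
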