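import Mathlib
import Groth.Agent.Lib.Helper13.Chow1

universe u
open CategoryTheory CategoryTheory.Limits AlgebraicGeometry Opposite TopologicalSpace

namespace Groth.Agent.Helper13.Chow

set_option maxHeartbeats 1600000 in
/-- One side of the gluing step of Chow's lemma. -/
theorem side {S Y P R V V' U Y' : Scheme.{u}}
    (fY : Y ⟶ S) [IsSeparated fY] (fP : P ⟶ S) [IsSeparated fP] (fR : R ⟶ S) (r₁ : R ⟶ P)
    (hr : r₁ ≫ fP = fR)
    [IsReduced Y'] (ι' : Y' ⟶ pullback fY fR) [IsClosedImmersion ι']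
    (s : U ⟶ Y') [IsDominant s]
    (iV : V ⟶ Y) [IsOpenImmersion iV] (pV : V' ⟶ V) [IsProper pV] (αV : V' ⟶ P) [IsImmersion αV]
    (hα : αV ≫ fP = pV ≫ iV ≫ fY)
    (sV : U ⟶ V') (h1 : s ≫ ι' ≫ pullback.fst fY fR = sV ≫ pV ≫ iV)
    (h2 : s ≫ ι' ≫ pullback.snd fY fR ≫ r₁ = sV ≫ αV) :
    ∃ O : R.Opens, (∀ x : Y', (ι' ≫ pullback.fst fY fR) x ∈ Set.range iV →
        (ι' ≫ pullback.snd fY fR) x ∈ O) ∧
      IsImmersion (((ι' ≫ pullback.snd fY fR) ⁻¹ᵁ O).ι ≫ ι' ≫ pullback.snd fY fR) := by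
  set π : Y' ⟶ Y := ι' ≫ pullback.fst fY fR with hπ
  set γ : Y' ⟶ R := ι' ≫ pullback.snd fY fR with hγ
  have hπγ : π ≫ fY = γ ≫ r₁ ≫ fP := by
    rw [hπ, hγ, Category.assoc, Category.assoc, pullback.condition, hr]
  have h1' : s ≫ π = sV ≫ pV ≫ iV := by rw [hπ]; exact h1
  have h2' : s ≫ γ ≫ r₁ = sV ≫ αV := by rw [hγ]; simpa using h2
  let YV : Y'.Opens := π ⁻¹ᵁ iV.opensRange
  -- F1
  have hrange1 : Set.range (YV.ι ≫ π) ⊆ Set.range iV := by
    rintro _ ⟨y, rfl⟩
    exact y.2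
  let πV : (YV : Scheme.{u}) ⟶ V := IsOpenImmersion.lift iV (YV.ι ≫ π) hrange1
  have hπV : πV ≫ iV = YV.ι ≫ π := IsOpenImmersion.lift_fac _ _ _
  have hrange2 : Set.range s ⊆ Set.range YV.ι := by
    rintro _ ⟨x, rfl⟩
    rw [Scheme.Opens.range_ι]
    show π (s x) ∈ Set.range iV
    rw [← Scheme.Hom.comp_apply, h1', Scheme.Hom.comp_apply, Scheme.Hom.comp_apply]
    exact ⟨_, rfl⟩
  let ιU : U ⟶ (YV : Scheme.{u}) := IsOpenImmersion.lift YV.ι s hrange2
  have hιU : ιU ≫ YV.ι = s := IsOpenImmersion.lift_fac _ _ _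
  haveI : IsDominant ιU := isDominant_lift s YV ιU hιU
  let c : V' ⟶ pullback (iV ≫ fY) fP := pullback.lift pV αV (by rw [hα])
  haveI : IsProper c := by
    haveI : IsProper (c ≫ pullback.fst (iV ≫ fY) fP) := by
      rw [pullback.lift_fst]; infer_instance
    exact IsProper.of_comp c (pullback.fst (iV ≫ fY) fP)
  haveI : IsImmersion c := by
    haveI : IsImmersion (c ≫ pullback.snd (iV ≫ fY) fP) := by
      rw [pullback.lift_snd]; infer_instance
    exact IsImmersion.of_comp c (pullback.snd (iV ≫ fY) fP)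
  haveI : IsClosedImmersion c :=
    IsClosedImmersion.of_isPreimmersion c c.isClosedMap.isClosed_range
  let h : (YV : Scheme.{u}) ⟶ pullback (iV ≫ fY) fP :=
    pullback.lift πV (YV.ι ≫ γ ≫ r₁) (by
      rw [← Category.assoc, hπV, Category.assoc, hπγ]; simp)
  have hw : ιU ≫ h = sV ≫ c := by
    apply pullback.hom_ext
    · rw [Category.assoc, Category.assoc, pullback.lift_fst, pullback.lift_fst,
        ← cancel_mono iV, Category.assoc, hπV, ← Category.assoc, hιU, h1', Category.assoc]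
    · rw [Category.assoc, Category.assoc, pullback.lift_snd, pullback.lift_snd,
        ← Category.assoc, hιU, h2']
  obtain ⟨a, ha⟩ := exists_factor_of_dominant c h ιU sV hw
  have ha1 : a ≫ pV = πV := by
    have : (a ≫ c) ≫ pullback.fst (iV ≫ fY) fP = h ≫ pullback.fst (iV ≫ fY) fP := by rw [ha]
    rw [Category.assoc, pullback.lift_fst, pullback.lift_fst] at this
    exact this
  have ha2 : a ≫ αV = YV.ι ≫ γ ≫ r₁ := by
    have : (a ≫ c) ≫ pullback.snd (iV ≫ fY) fP = h ≫ pullback.snd (iV ≫ fY) fP := by rw [ha]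
    rw [Category.assoc, pullback.lift_snd, pullback.lift_snd] at this
    exact this
  -- F2
  let P0 : P.Opens := αV.coborderRange
  let O : R.Opens := r₁ ⁻¹ᵁ P0
  let Y2 : Y'.Opens := γ ⁻¹ᵁ O
  let c' : V' ⟶ pullback fY (P0.ι ≫ fP) := pullback.lift (pV ≫ iV) αV.liftCoborder (by
    rw [← Category.assoc αV.liftCoborder, αV.liftCoborder_ι, hα, Category.assoc])
  haveI : IsClosedImmersion c' := by
    haveI : IsClosedImmersion (c' ≫ pullback.snd fY (P0.ι ≫ fP)) := by
      rw [pullback.lift_snd]; infer_instance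
    exact IsClosedImmersion.of_comp c' (pullback.snd fY (P0.ι ≫ fP))
  have hrange3 : Set.range (Y2.ι ≫ γ ≫ r₁) ⊆ Set.range P0.ι := by
    rintro _ ⟨y, rfl⟩
    rw [Scheme.Opens.range_ι]
    exact y.2
  let ρ : (Y2 : Scheme.{u}) ⟶ P0 := IsOpenImmersion.lift P0.ι (Y2.ι ≫ γ ≫ r₁) hrange3
  have hρ : ρ ≫ P0.ι = Y2.ι ≫ γ ≫ r₁ := IsOpenImmersion.lift_fac _ _ _
  let h' : (Y2 : Scheme.{u}) ⟶ pullback fY (P0.ι ≫ fP) :=
    pullback.lift (Y2.ι ≫ π) ρ (by
      rw [Category.assoc, hπγ, ← Category.assoc ρ, hρ]; simp)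
  have hmem : ∀ x : V', αV x ∈ P0 := fun x => subset_coborder ⟨x, rfl⟩
  have hrange4 : Set.range s ⊆ Set.range Y2.ι := by
    rintro _ ⟨x, rfl⟩
    rw [Scheme.Opens.range_ι]
    show (r₁ (γ (s x))) ∈ P0
    have : r₁ (γ (s x)) = αV (sV x) := by
      rw [← Scheme.Hom.comp_apply, ← Scheme.Hom.comp_apply, h2', Scheme.Hom.comp_apply]
    rw [this]
    exact hmem _
  let ιU2 : U ⟶ (Y2 : Scheme.{u}) := IsOpenImmersion.lift Y2.ι s hrange4
  have hιU2 : ιU2 ≫ Y2.ι = s := IsOpenImmersion.lift_fac _ _ _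
  haveI : IsDominant ιU2 := isDominant_lift s Y2 ιU2 hιU2
  have hw' : ιU2 ≫ h' = sV ≫ c' := by
    apply pullback.hom_ext
    · rw [Category.assoc, Category.assoc, pullback.lift_fst, pullback.lift_fst,
        ← Category.assoc, hιU2, h1']
    · rw [Category.assoc, Category.assoc, pullback.lift_snd, pullback.lift_snd,
        ← cancel_mono P0.ι, Category.assoc, hρ, ← Category.assoc, hιU2, h2', Category.assoc,
        αV.liftCoborder_ι]
  obtain ⟨a', ha'⟩ := exists_factor_of_dominant c' h' ιU2 sV hw'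
  have ha1' : a' ≫ pV ≫ iV = Y2.ι ≫ π := by
    have : (a' ≫ c') ≫ pullback.fst fY (P0.ι ≫ fP) = h' ≫ pullback.fst fY (P0.ι ≫ fP) := by
      rw [ha']
    rw [Category.assoc, pullback.lift_fst, pullback.lift_fst] at this
    exact this
  have claim1 : Y2 = YV := by
    ext x
    constructor
    · intro hx
      show π x ∈ Set.range iV
      have : π x = iV (pV (a' ⟨x, hx⟩)) := by
        have := congrArg (fun k : (Y2 : Scheme.{u}) ⟶ Y => k ⟨x, hx⟩) ha1'
        simpa using this.symm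
      rw [this]
      exact ⟨_, rfl⟩
    · intro hx
      show r₁ (γ x) ∈ P0
      have : r₁ (γ x) = αV (a ⟨x, hx⟩) := by
        have := congrArg (fun k : (YV : Scheme.{u}) ⟶ P => k ⟨x, hx⟩) ha2
        simpa using this.symm
      rw [this]
      exact hmem _
  -- claim 2
  let m₁ : (YV : Scheme.{u}) ⟶ pullback αV r₁ := pullback.lift a (YV.ι ≫ γ) (by
    rw [ha2]; simp only [hγ, Category.assoc])

  let Ξ : pullback αV r₁ ⟶ pullback fY fR :=
    pullback.lift (pullback.fst αV r₁ ≫ pV ≫ iV) (pullback.snd αV r₁) (by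
      rw [Category.assoc, Category.assoc, ← hα, pullback.condition_assoc, hr])
  haveI : IsImmersion Ξ := by
    haveI : IsImmersion (Ξ ≫ pullback.snd fY fR) := by
      rw [pullback.lift_snd]; infer_instance
    exact IsImmersion.of_comp Ξ (pullback.snd fY fR)
  have hm : m₁ ≫ Ξ = YV.ι ≫ ι' := by
    apply pullback.hom_ext
    · rw [Category.assoc, Category.assoc, pullback.lift_fst, pullback.lift_fst_assoc,
        ← Category.assoc, ha1, hπV]
    · rw [Category.assoc, Category.assoc, pullback.lift_snd, pullback.lift_snd]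
  haveI : IsImmersion m₁ := by
    haveI : IsImmersion (m₁ ≫ Ξ) := by rw [hm]; infer_instance
    exact IsImmersion.of_comp m₁ Ξ
  have claim2 : IsImmersion (YV.ι ≫ γ) := by
    have : YV.ι ≫ γ = m₁ ≫ pullback.snd αV r₁ := (pullback.lift_snd _ _ _).symm
    rw [this]; infer_instance
  refine ⟨O, fun x hx => ?_, ?_⟩
  · have : x ∈ Y2 := by rw [claim1]; exact hx
    exact this
  · show IsImmersion (Y2.ι ≫ γ)
    rw [claim1]
    exact claim2

end Groth.Agent.Helper13.Chow
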