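import Mathlib
import Groth.Agent.Lib.Helper13.Chow2

universe u
open CategoryTheory CategoryTheory.Limits AlgebraicGeometry Opposite TopologicalSpace

namespace Groth.Agent.Helper13.Chow

theorem toImage_ker_eq_bot {X Y : Scheme.{u}} (f : X ⟶ Y) [QuasiCompact f] :
    f.toImage.ker = ⊥ := by
  have haff : ∀ U : Y.affineOpens, IsAffineOpen (f.imageι ⁻¹ᵁ U.1) := fun U =>
    U.2.preimage f.imageι
  refine Scheme.IdealSheafData.ext_of_iSup_eq_top
    (fun U : Y.affineOpens => (⟨f.imageι ⁻¹ᵁ U.1, haff U⟩ : f.image.affineOpens)) ?_ ?_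
  · apply top_le_iff.mp
    intro x _
    have hx : f.imageι x ∈ (⊤ : Y.Opens) := trivial
    rw [← iSup_affineOpens_eq_top Y] at hx
    obtain ⟨U, hU⟩ := Opens.mem_iSup.mp hx
    exact Opens.mem_iSup.mpr ⟨U, hU⟩
  · intro U
    rw [Scheme.Hom.ker_apply, Scheme.IdealSheafData.ideal_bot]
    exact (RingHom.injective_iff_ker_eq_bot _).mp (f.toImage_app_injective U)

theorem isReduced_image {X Y : Scheme.{u}} (f : X ⟶ Y) [QuasiCompact f] [IsReduced X] :
    IsReduced f.image := by
  haveI : IsSchemeTheoreticallyDominant f.toImage := ⟨toImage_ker_eq_bot f⟩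
  exact IsSchemeTheoreticallyDominant.isReduced f.toImage

theorem irreducibleSpace_of_denseRange {A B : Type*} [TopologicalSpace A] [TopologicalSpace B]
    [IrreducibleSpace A] (f : A → B) (hf : Continuous f) (hd : DenseRange f) :
    IrreducibleSpace B := by
  have h1 : IsIrreducible (f '' Set.univ) :=
    (IrreducibleSpace.isIrreducible_univ A).image f hf.continuousOn
  have h2 := h1.closure
  rw [Set.image_univ, hd.closure_range] at h2
  exact (irreducibleSpace_def B).mpr h2

theorem isIntegral_image {X Y : Scheme.{u}} (f : X ⟶ Y) [QuasiCompact f] [IsIntegral X] :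
    IsIntegral f.image := by
  haveI := isReduced_image f
  haveI : IrreducibleSpace f.image :=
    irreducibleSpace_of_denseRange f.toImage f.toImage.continuous f.toImage.denseRange
  exact isIntegral_of_irreducibleSpace_of_isReduced _

instance : MorphismProperty.RespectsRight @IsImmersion @IsOpenImmersion where
  postcomp i hi f hf := by
    haveI : IsOpenImmersion i := hi
    haveI : IsImmersion f := hf
    exact (inferInstance : IsImmersion (f ≫ i))

instance : MorphismProperty.HasOfPostcompProperty @IsImmersion @IsOpenImmersion where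
  of_postcomp f g hg hfg := by
    haveI : IsImmersion (f ≫ g) := hfg
    exact IsImmersion.of_comp f g

set_option maxHeartbeats 1600000 in
/-- The gluing step of Chow's lemma. -/
theorem glue {S Y V W V' W' P Q U : Scheme.{u}}
    (fY : Y ⟶ S) [IsSeparated fY] (fP : P ⟶ S) [IsProper fP] (fQ : Q ⟶ S) [IsProper fQ]
    [IsIntegral U] [NoetherianSpace U]
    (iV : V ⟶ Y) [IsOpenImmersion iV] (iW : W ⟶ Y) [IsOpenImmersion iW]
    (hcov : ∀ y : Y, y ∈ Set.range iV ∨ y ∈ Set.range iW)
    (pV : V' ⟶ V) [IsProper pV] (αV : V' ⟶ P) [IsImmersion αV] (hαV : αV ≫ fP = pV ≫ iV ≫ fY)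
    (pW : W' ⟶ W) [IsProper pW] (αW : W' ⟶ Q) [IsImmersion αW] (hαW : αW ≫ fQ = pW ≫ iW ≫ fY)
    (jU : U ⟶ Y) (sV : U ⟶ V') (sW : U ⟶ W') (hsV : sV ≫ pV ≫ iV = jU)
    (hsW : sW ≫ pW ≫ iW = jU) :
    ∃ (Y' : Scheme.{u}) (_ : IsIntegral Y') (π : Y' ⟶ Y) (_ : IsProper π)
      (γ : Y' ⟶ pullback fP fQ) (_ : IsImmersion γ) (s : U ⟶ Y'),
      s ≫ π = jU ∧ γ ≫ pullback.fst fP fQ ≫ fP = π ≫ fY := by
  let fR : pullback fP fQ ⟶ S := pullback.fst fP fQ ≫ fP
  let uR : U ⟶ pullback fP fQ := pullback.lift (sV ≫ αV) (sW ≫ αW) (by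
    rw [Category.assoc, Category.assoc, hαV, hαW]
    have e1 : sV ≫ pV ≫ iV ≫ fY = jU ≫ fY := by rw [← hsV]; simp only [Category.assoc]
    have e2 : sW ≫ pW ≫ iW ≫ fY = jU ≫ fY := by rw [← hsW]; simp only [Category.assoc]
    rw [e1, e2])
  let u : U ⟶ pullback fY fR := pullback.lift jU uR (by
    rw [← hsV]
    simp only [fR, uR, Category.assoc, pullback.lift_fst_assoc, hαV])
  let ι' : u.image ⟶ pullback fY fR := u.imageι
  let s : U ⟶ u.image := u.toImage
  have hsι : s ≫ ι' = u := u.toImage_imageι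
  haveI : IsIntegral u.image := isIntegral_image u
  let π : u.image ⟶ Y := ι' ≫ pullback.fst fY fR
  let γ : u.image ⟶ pullback fP fQ := ι' ≫ pullback.snd fY fR
  haveI : IsProper π := by
    show IsProper (ι' ≫ pullback.fst fY fR)
    infer_instance
  have hsπ : s ≫ π = jU := by
    show s ≫ ι' ≫ pullback.fst fY fR = jU
    rw [reassoc_of% hsι, pullback.lift_fst]
  have hsγ : s ≫ ι' ≫ pullback.snd fY fR = uR := by
    rw [reassoc_of% hsι, pullback.lift_snd]
  have himm : IsImmersion γ := by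
    refine IsZariskiLocalAtTarget.of_forall_source_exists_preimage (P := @IsImmersion) γ ?_
    intro x
    rcases hcov (π x) with hx | hx
    · obtain ⟨O, hO1, hO2⟩ := side fY fP fR (pullback.fst fP fQ) rfl ι' s iV pV αV hαV sV
        (by rw [hsV]; exact hsπ)
        (by rw [reassoc_of% hsγ, pullback.lift_fst])
      exact ⟨O, hO1 x hx, hO2⟩
    · obtain ⟨O, hO1, hO2⟩ := side fY fQ fR (pullback.snd fP fQ) pullback.condition.symm ι' s iW
        pW αW hαW sW
        (by rw [hsW]; exact hsπ)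
        (by rw [reassoc_of% hsγ, pullback.lift_snd])
      exact ⟨O, hO1 x hx, hO2⟩
  refine ⟨u.image, inferInstance, π, inferInstance, γ, himm, s, hsπ, ?_⟩
  show (ι' ≫ pullback.snd fY fR) ≫ fR = (ι' ≫ pullback.fst fY fR) ≫ fY
  rw [Category.assoc, Category.assoc, pullback.condition]

end Groth.Agent.Helper13.Chow
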