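import Mathlib
import Groth.Agent.Lib.Helper13.PbGen
import Groth.Agent.Lib.Helper13.TensorUnit
import Groth.Agent.Lib.Helper13.PbInv
import Groth.Agent.Lib.Helper13.TensorPow

set_option autoImplicit false
universe u
open CategoryTheory CategoryTheory.Limits AlgebraicGeometry Opposite TopologicalSpace
open Groth.Agent.Helper13.QCoh Groth.Agent.Helper13.FinType Groth.Agent.Helper13.Tensor
open Groth.Agent.Helper13.PbGen
open TensorProduct

namespace Groth.Agent.Helper13.PbTensor

variable {X Y : Scheme.{u}} (u : Y ⟶ X) (A B : X.Modules)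

/-- the target of the comparison map, pushed forward. -/
noncomputable abbrev Ptarget : X.Modules :=
  (Scheme.Modules.pushforward u).obj
    (CohB1.tensorMod ((Scheme.Modules.pullback u).obj A) ((Scheme.Modules.pullback u).obj B))

/-- the pairing `(a, b) ↦ u^* a ⊗ u^* b` on sections. -/
noncomputable def pairSec (U : X.Opens) (a : Γ(A, U)) (b : Γ(B, U)) : Γ(Ptarget u A B, U) :=
  tmul ((Scheme.Modules.pullback u).obj A) ((Scheme.Modules.pullback u).obj B)
    (ηsec u A U a) (ηsec u B U b)

lemma smul_Ptarget (U : X.Opens) (r : Γ(X, U)) (p : Γ(Ptarget u A B, U)) :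
    r • p = (show Γ(CohB1.tensorMod ((Scheme.Modules.pullback u).obj A)
      ((Scheme.Modules.pullback u).obj B), u ⁻¹ᵁ U) from (u.app U r) •
        (show Γ(CohB1.tensorMod ((Scheme.Modules.pullback u).obj A)
          ((Scheme.Modules.pullback u).obj B), u ⁻¹ᵁ U) from p)) := rfl

/-- the bilinear family. -/
noncomputable def pairFamily : BilinFamily A B (Ptarget u A B) where
  β U := LinearMap.mk₂ Γ(X, U) (pairSec u A B U)
    (fun a a' b => by
      unfold pairSec
      rw [ηsec_add]
      exact tmul_add_left _ _ _ _ _)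
    (fun r a b => by
      unfold pairSec
      rw [ηsec_smul, smul_Ptarget]
      exact tmul_smul_left _ _ _ _ _)
    (fun a b b' => by
      unfold pairSec
      rw [ηsec_add]
      exact tmul_add_right _ _ _ _ _)
    (fun r a b => by
      unfold pairSec
      rw [ηsec_smul, smul_Ptarget]
      exact tmul_smul_right _ _ _ _ _)
  res := by
    intro U V i a b
    change (CohB1.tensorMod _ _).presheaf.map ((Opens.map u.base).map i).op (pairSec u A B U a b) =
      pairSec u A B V _ _
    unfold pairSec
    rw [tmul_res, ηsec_res, ηsec_res]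


/-- the comparison map `u^*(A ⊗ B) ⟶ u^*A ⊗ u^*B`. -/
noncomputable def cmp : (Scheme.Modules.pullback u).obj (CohB1.tensorMod A B) ⟶
    CohB1.tensorMod ((Scheme.Modules.pullback u).obj A) ((Scheme.Modules.pullback u).obj B) :=
  ((Scheme.Modules.pullbackPushforwardAdjunction u).homEquiv _ _).symm (pairFamily u A B).hom

lemma cmp_app_ηsec (U : X.Opens) (a : Γ(A, U)) (b : Γ(B, U)) :
    (cmp u A B).app (u ⁻¹ᵁ U) (ηsec u (CohB1.tensorMod A B) U (tmul A B a b)) =
      tmul ((Scheme.Modules.pullback u).obj A) ((Scheme.Modules.pullback u).obj B)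
        (ηsec u A U a) (ηsec u B U b) := by
  rw [← homEquiv_app]
  unfold cmp
  rw [Equiv.apply_symm_apply, BilinFamily.hom_app_tmul]
  rfl

/-- the comparison map is surjective on stalks. -/
theorem stalkMap_cmp_surjective (z : Y) : Function.Surjective (stalkMap (cmp u A B) z) := by
  let A' := (Scheme.Modules.pullback u).obj A
  let B' := (Scheme.Modules.pullback u).obj B
  let R := LinearMap.range (stalkLinearMap (cmp u A B) z)
  have key : ∀ (x : A'.presheaf.stalk z) (y : B'.presheaf.stalk z),
      stalkTensorEquiv A' B' z (x ⊗ₜ y) ∈ R := by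
    intro x y
    have hx : x ∈ genSpan u A z := by rw [genSpan_eq_top]; trivial
    have hy : y ∈ genSpan u B z := by rw [genSpan_eq_top]; trivial
    induction hx using Submodule.span_induction with
    | mem x hx =>
      induction hy using Submodule.span_induction with
      | mem y hy =>
        obtain ⟨U, hzU, a, rfl⟩ := hx
        obtain ⟨U', hzU', b, rfl⟩ := hy
        let W : X.Opens := U ⊓ U'
        have hzW : u z ∈ W := ⟨hzU, hzU'⟩
        let a' : Γ(A, W) := A.presheaf.map (homOfLE (inf_le_left : W ≤ U)).op a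
        let b' : Γ(B, W) := B.presheaf.map (homOfLE (inf_le_right : W ≤ U')).op b
        have ea : A'.presheaf.germ (u ⁻¹ᵁ W) z hzW (ηsec u A W a') =
            A'.presheaf.germ (u ⁻¹ᵁ U) z hzU (ηsec u A U a) := by
          change A'.presheaf.germ (u ⁻¹ᵁ W) z hzW (ηsec u A W (A.presheaf.map _ a)) = _
          rw [ηsec_res]
          exact TopCat.Presheaf.germ_res_apply _ _ _ _ _
        have eb : B'.presheaf.germ (u ⁻¹ᵁ W) z hzW (ηsec u B W b') =
            B'.presheaf.germ (u ⁻¹ᵁ U') z hzU' (ηsec u B U' b) := by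
          change B'.presheaf.germ (u ⁻¹ᵁ W) z hzW (ηsec u B W (B.presheaf.map _ b)) = _
          rw [ηsec_res]
          exact TopCat.Presheaf.germ_res_apply _ _ _ _ _
        rw [← ea, ← eb, stalkTensorEquiv_germ, ← cmp_app_ηsec, ← stalkMap_germ]
        exact ⟨_, rfl⟩
      | zero => rw [TensorProduct.tmul_zero, map_zero]; exact Submodule.zero_mem _
      | add y y' _ _ h1 h2 =>
        rw [TensorProduct.tmul_add, map_add]; exact Submodule.add_mem _ h1 h2
      | smul r y _ h1 =>
        rw [TensorProduct.tmul_smul, map_smul]; exact Submodule.smul_mem _ _ h1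
    | zero => rw [TensorProduct.zero_tmul, map_zero]; exact Submodule.zero_mem _
    | add x x' _ _ h1 h2 =>
      rw [TensorProduct.add_tmul, map_add]; exact Submodule.add_mem _ h1 h2
    | smul r x _ h1 =>
      rw [← TensorProduct.smul_tmul', map_smul]; exact Submodule.smul_mem _ _ h1
  intro s
  have : s ∈ R := by
    induction s using stalk_tensorMod_induction with
    | h0 => exact Submodule.zero_mem _
    | ht W hW m n =>
      rw [← stalkTensorEquiv_germ]
      exact key _ _
    | ha a b h1 h2 => exact Submodule.add_mem _ h1 h2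
  obtain ⟨t, ht⟩ := this
  exact ⟨t, ht⟩


open Groth.Agent.Helper13.Inv Groth.Agent.Helper13.LocFree in
/-- a stalkwise surjective map between invertible modules is an isomorphism. -/
theorem isIso_of_surjective_of_isInvertible {L L' : Y.Modules} (φ : L ⟶ L')
    (hL : PicF.IsInvertible L) (hL' : PicF.IsInvertible L')
    (h : ∀ z, Function.Surjective (stalkMap φ z)) : IsIso φ := by
  apply isIso_of_stalk_bijective
  intro z
  refine ⟨?_, h z⟩
  obtain ⟨U, hzU, e, he⟩ := (isInvertible_iff_exists_isGen L).1 hL z
  obtain ⟨U', hzU', e', he'⟩ := (isInvertible_iff_exists_isGen L').1 hL' z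
  let g : Y.presheaf.stalk z →ₗ[Y.presheaf.stalk z] L.presheaf.stalk z :=
    LinearMap.toSpanSingleton _ _ (L.presheaf.germ U z hzU e)
  let g' : Y.presheaf.stalk z →ₗ[Y.presheaf.stalk z] L'.presheaf.stalk z :=
    LinearMap.toSpanSingleton _ _ (L'.presheaf.germ U' z hzU' e')
  have hg : Function.Bijective g := he z hzU
  have hg' : Function.Bijective g' := he' z hzU'
  let G := LinearEquiv.ofBijective g hg
  let i : L.presheaf.stalk z →ₗ[Y.presheaf.stalk z] L'.presheaf.stalk z :=
    g'.comp G.symm.toLinearMap
  have hi : Function.Injective i := hg'.1.comp G.symm.injective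
  haveI : Module.Finite (Y.presheaf.stalk z) (L'.presheaf.stalk z) :=
    Module.Finite.of_surjective g' hg'.2
  exact OrzechProperty.injective_of_surjective_of_injective i (stalkLinearMap φ z) hi (h z)

theorem isIso_cmp_of_isInvertible (hA : PicF.IsInvertible A) (hB : PicF.IsInvertible B) :
    IsIso (cmp u A B) :=
  isIso_of_surjective_of_isInvertible (cmp u A B)
    (Groth.Agent.Helper13.PbInv.isInvertible_pullback u _
      (Groth.Agent.Helper13.Inv.isInvertible_tensorMod A B hA hB))
    (Groth.Agent.Helper13.Inv.isInvertible_tensorMod _ _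
      (Groth.Agent.Helper13.PbInv.isInvertible_pullback u A hA)
      (Groth.Agent.Helper13.PbInv.isInvertible_pullback u B hB))
    (stalkMap_cmp_surjective u A B)

/-- `u^*(A ⊗ B) ≅ u^*A ⊗ u^*B` for invertible modules. -/
noncomputable def pullbackTensorIso (hA : PicF.IsInvertible A) (hB : PicF.IsInvertible B) :
    (Scheme.Modules.pullback u).obj (CohB1.tensorMod A B) ≅
      CohB1.tensorMod ((Scheme.Modules.pullback u).obj A) ((Scheme.Modules.pullback u).obj B) :=
  haveI := isIso_cmp_of_isInvertible u A B hA hB
  asIso (cmp u A B)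

/-- `u^*(L^n) ≅ (u^*L)^n` for an invertible module. -/
noncomputable def pullbackPowIso (L : X.Modules) (hL : PicF.IsInvertible L) :
    ∀ n : ℕ, (Scheme.Modules.pullback u).obj (CohB1.tensorPow L n) ≅
      CohB1.tensorPow ((Scheme.Modules.pullback u).obj L) n
  | 0 => Groth.Agent.Helper13.PbUnit.pullbackUnitIso u
  | n + 1 => pullbackTensorIso u (CohB1.tensorPow L n) L
      (Groth.Agent.Helper13.Inv.isInvertible_tensorPow L hL n) hL ≪≫
      mapIso (pullbackPowIso L hL n) (Iso.refl _)

end Groth.Agent.Helper13.PbTensor
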