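import Mathlib
import Groth.Agent.Lib.Helper13.PbTensor
import Groth.Agent.Lib.Helper13.AmpleBasis
import Groth.Agent.Lib.Helper13.GenLocusAffine
import Groth.Agent.Lib.Helper13.GenLocusQcqs

set_option autoImplicit false
universe u
open CategoryTheory CategoryTheory.Limits AlgebraicGeometry Opposite TopologicalSpace
open Groth.Agent.Helper13.QCoh Groth.Agent.Helper13.FinType Groth.Agent.Helper13.Tensor
open Groth.Agent.Helper13.PbGen Groth.Agent.Helper13.PbTensor

namespace Groth.Agent.Helper13.PbAmple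

variable {X Y : Scheme.{u}} (u : Y ⟶ X) (L : X.Modules) (hL : PicF.IsInvertible L)

/-- the pullback of a section of a power of `L`, as a section of the power of the pullback. -/
noncomputable def pullbackPowSec (n : ℕ) (s : Coh.structureModule X ⟶ CohB1.tensorPow L n) :
    Coh.structureModule Y ⟶ CohB1.tensorPow ((Scheme.Modules.pullback u).obj L) n :=
  ((Groth.Agent.Helper13.PbUnit.pullbackUnitIso u).inv ≫ (Scheme.Modules.pullback u).map s) ≫
    (pullbackPowIso u L hL n).hom

theorem genLocus_pullbackPowSec (n : ℕ) (s : Coh.structureModule X ⟶ CohB1.tensorPow L n) :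
    CohB1.genLocus _ (pullbackPowSec u L hL n s) = u ⁻¹ᵁ CohB1.genLocus _ s := by
  unfold pullbackPowSec
  rw [Groth.Agent.Helper13.GenLoc.genLocus_comp_iso]
  exact Groth.Agent.Helper13.PbInv.genLocus_pullback u (CohB1.tensorPow L n)
    (Groth.Agent.Helper13.Inv.isInvertible_tensorPow L hL n) s
    (Groth.Agent.Helper13.PbUnit.pullbackUnitIso u).symm

/-- pullback of an ample module along an affine morphism is ample. -/
theorem isAmple_pullback_of_isAffineHom [IsAffineHom u] (hamp : CohB1.IsAmple L) :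
    CohB1.IsAmple ((Scheme.Modules.pullback u).obj L) := by
  obtain ⟨h1, h2, h3⟩ := hamp
  haveI := h2
  refine ⟨Groth.Agent.Helper13.PbInv.isInvertible_pullback u L h1,
    QuasiCompact.compactSpace_of_compactSpace u, fun y => ?_⟩
  obtain ⟨n, s, hx, hs⟩ := h3 (u y)
  refine ⟨n, pullbackPowSec u L h1 (n + 1) s, ?_, ?_⟩
  · rw [genLocus_pullbackPowSec]; exact hx
  · rw [genLocus_pullbackPowSec]; exact hs.preimage u

/-- pullback of an ample module along a topological embedding from a quasi-compact scheme is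
ample. -/
theorem isAmple_pullback_of_isEmbedding [CompactSpace Y] (hu : Topology.IsEmbedding u)
    (hamp : CohB1.IsAmple L) : CohB1.IsAmple ((Scheme.Modules.pullback u).obj L) := by
  have hL' := Groth.Agent.Helper13.PbInv.isInvertible_pullback u L hamp.1
  refine ⟨hL', inferInstance, fun y => ?_⟩
  obtain ⟨_, ⟨W', hW', rfl⟩, hyW', -⟩ :=
    Y.isBasis_affineOpens.exists_subset_of_mem_open (Set.mem_univ y) isOpen_univ
  have hW'a : IsAffineOpen W' := hW'
  obtain ⟨W₀, hW₀, hW₀'⟩ := hu.isOpen_iff.1 W'.2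
  let W : X.Opens := ⟨W₀, hW₀⟩
  have hyW : u y ∈ W := by
    have : y ∈ u ⁻¹' W₀ := by rw [hW₀']; exact hyW'
    exact this
  obtain ⟨_, ⟨n, s, rfl⟩, hxs, hsW⟩ :=
    Opens.isBasis_iff_nbhd.1 (Groth.Agent.Helper13.Ample.isBasis_genLocus_of_isAmple L hamp)
      (show u y ∈ W from hyW)
  refine ⟨n, pullbackPowSec u L hamp.1 (n + 1) s, ?_, ?_⟩
  · rw [genLocus_pullbackPowSec]; exact hxs
  · have hle : CohB1.genLocus _ (pullbackPowSec u L hamp.1 (n + 1) s) ≤ W' := by
      rw [genLocus_pullbackPowSec]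
      intro z hz
      have : z ∈ u ⁻¹' W₀ := hsW hz
      rw [hW₀'] at this
      exact this
    have := Groth.Agent.Helper13.GenLoc.isAffineOpen_genLocus_inf _
      (Groth.Agent.Helper13.Inv.isInvertible_tensorPow _ hL' (n + 1))
      (pullbackPowSec u L hamp.1 (n + 1) s) hW'a
    rwa [inf_eq_left.2 hle] at this

end Groth.Agent.Helper13.PbAmple
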