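import Mathlib
import Groth.Agent.Lib.Helper13.AmpleLocal

set_option autoImplicit false
universe u
open CategoryTheory CategoryTheory.Limits AlgebraicGeometry Opposite TopologicalSpace TensorProduct
open Groth.Agent.Helper13.QCoh Groth.Agent.Helper13.FinType Groth.Agent.Helper13.Tensor
open Groth.Agent.Helper13.Inv Groth.Agent.Helper13.GenLoc Groth.Agent.Helper13.Qcqs
open Groth.Agent.Helper13.Twist Groth.Agent.Helper13.Ample

namespace Groth.Agent.Helper13.GenTwist

variable {X : Scheme.{u}}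

/-- on a qcqs scheme, the locus inside `X_θ` where a section `t` of `M` over `X_θ` generates is of
the form `X_τ` for a global section `τ` of `M ⊗ K^{k+1}`. -/
theorem exists_genLocus_eq_of_section_twist [CompactSpace X] [QuasiSeparatedSpace X]
    (M K : X.Modules) (hM : PicF.IsInvertible M) (hK : PicF.IsInvertible K)
    (θ : Coh.structureModule X ⟶ K) (t : Γ(M, CohB1.genLocus K θ)) :
    ∃ (k : ℕ) (τ : Coh.structureModule X ⟶ CohB1.tensorMod M (CohB1.tensorPow K (k + 1))),
      ∀ z : X, z ∈ CohB1.genLocus _ τ ↔ ∃ hz : z ∈ CohB1.genLocus K θ, IsGen M t z hz := by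
  haveI := isQuasicoherent_of_isInvertible M hM
  obtain ⟨n, u, hu⟩ := exists_twist_eq_res K hK θ M t ⊤ (by simpa using isCompact_univ)
  have hKn : PicF.IsInvertible (CohB1.tensorPow K n) := isInvertible_tensorPow K hK n
  have hMK : PicF.IsInvertible (CohB1.tensorMod M (CohB1.tensorPow K n)) :=
    isInvertible_tensorMod _ _ hM hKn
  let τ₀ : Coh.structureModule X ⟶ CohB1.tensorMod M (CohB1.tensorPow K n) := LocFree.homOfSec _ u
  let τ : Coh.structureModule X ⟶ CohB1.tensorMod M (CohB1.tensorPow K (n + 1)) :=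
    SecTwist.tmulHom τ₀ θ ≫ (assoc M (CohB1.tensorPow K n) K).hom
  have hτ : CohB1.genLocus _ τ = CohB1.genLocus _ τ₀ ⊓ CohB1.genLocus K θ := by
    change CohB1.genLocus _ (SecTwist.tmulHom τ₀ θ ≫ (assoc M (CohB1.tensorPow K n) K).hom) = _
    rw [genLocus_comp_iso, genLocus_tmulHom _ _ hMK hK]
  refine ⟨n, τ, fun z => ?_⟩
  have key : ∀ hz : z ∈ CohB1.genLocus K θ,
      (z ∈ CohB1.genLocus _ τ₀ ↔ IsGen M t z hz) := by
    intro hz
    rw [mem_genLocus_iff_isGen _ _ hMK, sec_homOfSec,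
      ← isGen_res _ (homOfLE (le_top : CohB1.genLocus K θ ≤ ⊤)) u z hz]
    have h1 := hu (CohB1.genLocus K θ) le_top le_rfl
    rw [res_self] at h1
    change IsGen _ (res _ (le_top : CohB1.genLocus K θ ≤ ⊤) u) z hz ↔ _
    rw [h1]
    change IsGen _ (tmul M (CohB1.tensorPow K n) t (SecTwist.pow θ n (CohB1.genLocus K θ))) z hz ↔ _
    rw [isGen_tmul_iff M _ hM hKn, pow_eq_lpow]
    have h2 : IsGen K (SecTwist.val θ (CohB1.genLocus K θ)) z hz := by
      have h3 := (mem_genLocus_iff_isGen K θ hK z).1 hz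
      rw [← isGen_res K (homOfLE (le_top : CohB1.genLocus K θ ≤ ⊤)) _ z hz] at h3
      have h4 : K.presheaf.map (homOfLE (le_top : CohB1.genLocus K θ ≤ ⊤)).op (sec K θ) =
          SecTwist.val θ (CohB1.genLocus K θ) := SecTwist.map_val θ _
      rwa [h4] at h3
    exact ⟨fun h => h.1, fun h => ⟨h, isGen_lpow K _ z hz h2 n⟩⟩
  rw [hτ]
  constructor
  · rintro ⟨h1, h2⟩
    exact ⟨h2, (key h2).1 h1⟩
  · rintro ⟨h2, h1⟩
    exact ⟨(key h2).2 h1, h2⟩

end Groth.Agent.Helper13.GenTwist
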