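import Mathlib
import Groth.Agent.Lib.Helper13.GenTwist

set_option autoImplicit false
universe u
open CategoryTheory CategoryTheory.Limits AlgebraicGeometry Opposite TopologicalSpace TensorProduct
open Groth.Agent.Helper13.QCoh Groth.Agent.Helper13.FinType Groth.Agent.Helper13.Tensor
open Groth.Agent.Helper13.Inv Groth.Agent.Helper13.GenLoc Groth.Agent.Helper13.Qcqs
open Groth.Agent.Helper13.Twist Groth.Agent.Helper13.Ample

namespace Groth.Agent.Helper13.GenTwist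

variable {X : Scheme.{u}}

/-- flexible version: all large twists. -/
theorem exists_genLocus_eq_of_section_twist_ge [CompactSpace X] [QuasiSeparatedSpace X]
    (M K : X.Modules) (hM : PicF.IsInvertible M) (hK : PicF.IsInvertible K)
    (θ : Coh.structureModule X ⟶ K) (t : Γ(M, CohB1.genLocus K θ)) :
    ∃ k₀ : ℕ, ∀ k, k₀ ≤ k → ∃ τ : Coh.structureModule X ⟶ CohB1.tensorMod M (CohB1.tensorPow K k),
      ∀ z : X, z ∈ CohB1.genLocus _ τ ↔ ∃ hz : z ∈ CohB1.genLocus K θ, IsGen M t z hz := by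
  obtain ⟨k₁, τ₁, hτ₁⟩ := exists_genLocus_eq_of_section_twist M K hM hK θ t
  refine ⟨k₁ + 1, fun k hk => ?_⟩
  obtain ⟨j, rfl⟩ : ∃ j, k = (k₁ + 1) + j := ⟨k - (k₁ + 1), by omega⟩
  have hK1 : PicF.IsInvertible (CohB1.tensorPow K (k₁ + 1)) := isInvertible_tensorPow K hK _
  have hMK : PicF.IsInvertible (CohB1.tensorMod M (CohB1.tensorPow K (k₁ + 1))) :=
    isInvertible_tensorMod _ _ hM hK1
  have hKj : PicF.IsInvertible (CohB1.tensorPow K j) := isInvertible_tensorPow K hK _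
  let e : CohB1.tensorMod (CohB1.tensorMod M (CohB1.tensorPow K (k₁ + 1))) (CohB1.tensorPow K j) ≅
      CohB1.tensorMod M (CohB1.tensorPow K ((k₁ + 1) + j)) :=
    assoc M (CohB1.tensorPow K (k₁ + 1)) (CohB1.tensorPow K j) ≪≫
      mapIso (Iso.refl M) (powAdd K (k₁ + 1) j).symm
  refine ⟨SecTwist.tmulHom τ₁ (SecTwist.powHom θ j) ≫ e.hom, fun z => ?_⟩
  rw [genLocus_comp_iso, genLocus_tmulHom _ _ hMK hKj, ← hτ₁ z]
  constructor
  · exact fun h => h.1
  · intro h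
    refine ⟨h, ?_⟩
    cases j with
    | zero =>
      change z ∈ CohB1.genLocus (Coh.structureModule X) (𝟙 _)
      rw [genLocus_id]; trivial
    | succ j =>
      rw [genLocus_powHom K hK θ j]
      exact ((hτ₁ z).1 h).1

/-- if `L` is ample on `X_θ`, every point of `X_θ` has an affine neighbourhood `G ⊆ X_θ` which is
the locus of a global section of `L^{βα} ⊗ K^k` for all large `k`. -/
theorem exists_twisted_section_of_isAmple_restrict [CompactSpace X] [QuasiSeparatedSpace X]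
    (L K : X.Modules) (hL : PicF.IsInvertible L) (hK : PicF.IsInvertible K)
    (θ : Coh.structureModule X ⟶ K)
    (hamp : CohB1.IsAmple (L.restrict (CohB1.genLocus K θ).ι)) (β : ℕ) (hβ : 0 < β) (x : X)
    (hx : x ∈ CohB1.genLocus K θ) :
    ∃ (α : ℕ) (G : X.Opens), 0 < α ∧ x ∈ G ∧ IsAffineOpen G ∧ G ≤ CohB1.genLocus K θ ∧
      ∃ k₀ : ℕ, ∀ k, k₀ ≤ k →
        ∃ τ : Coh.structureModule X ⟶ CohB1.tensorMod (CohB1.tensorPow L (β * α)) (CohB1.tensorPow K k),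
          CohB1.genLocus _ τ = G := by
  set G₀ := CohB1.genLocus K θ with hG₀
  obtain ⟨a, s', hxs, hs⟩ := (isAmple_tensorPow _ hamp β hβ).2.2 ⟨x, hx⟩
  have hM : PicF.IsInvertible (CohB1.tensorPow L (β * (a + 1))) := isInvertible_tensorPow L hL _
  let e : CohB1.tensorPow (CohB1.tensorPow (L.restrict G₀.ι) β) (a + 1) ≅
      (CohB1.tensorPow L (β * (a + 1))).restrict G₀.ι :=
    powMul (L.restrict G₀.ι) β (a + 1) ≪≫ (powRestrict G₀.ι L (β * (a + 1))).symm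
  have hs'' : CohB1.genLocus _ (s' ≫ e.hom) = CohB1.genLocus _ s' := genLocus_comp_iso s' e
  have htop : G₀.ι ''ᵁ ⊤ = G₀ := Scheme.Opens.ι_image_top _
  let t : Γ(CohB1.tensorPow L (β * (a + 1)), G₀) :=
    (CohB1.tensorPow L (β * (a + 1))).presheaf.map (eqToHom htop.symm).op
      (show Γ(CohB1.tensorPow L (β * (a + 1)), G₀.ι ''ᵁ ⊤) from
        sec ((CohB1.tensorPow L (β * (a + 1))).restrict G₀.ι) (s' ≫ e.hom))
  have hG : ∀ z : X, (∃ hz : z ∈ G₀, IsGen _ t z hz) ↔ z ∈ G₀.ι ''ᵁ CohB1.genLocus _ s' := by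
    intro z
    rw [← hs'']
    constructor
    · rintro ⟨hz, hgen⟩
      refine ⟨⟨z, hz⟩, ?_, rfl⟩
      refine (mem_genLocus_restrict_iff G₀.ι _ hM _ ⟨z, hz⟩).2 ?_
      exact (isGen_res _ (eqToHom htop.symm) _ z hz).1 hgen
    · rintro ⟨z', hz', rfl⟩
      refine ⟨z'.2, ?_⟩
      have := (mem_genLocus_restrict_iff G₀.ι _ hM _ z').1 hz'
      exact (isGen_res _ (eqToHom htop.symm) _ (G₀.ι z') z'.2).2 this
  obtain ⟨k₀, hk₀⟩ := exists_genLocus_eq_of_section_twist_ge _ K hM hK θ t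
  refine ⟨a + 1, G₀.ι ''ᵁ CohB1.genLocus _ s', Nat.succ_pos a, ⟨⟨x, hx⟩, hxs, rfl⟩,
    hs.image_of_isOpenImmersion G₀.ι, ?_, k₀, fun k hk => ?_⟩
  · rintro _ ⟨z', -, rfl⟩
    exact z'.2
  · obtain ⟨τ, hτ⟩ := hk₀ k hk
    refine ⟨τ, ?_⟩
    ext z
    change z ∈ CohB1.genLocus _ τ ↔ z ∈ G₀.ι ''ᵁ CohB1.genLocus _ s'
    rw [hτ z, hG z]

end Groth.Agent.Helper13.GenTwist
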