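import Mathlib
import Groth.Prelude.Def_LCI2
import Groth.Agent.Lib.Helper13.GenTwist2
import Groth.Agent.Lib.Helper13.PbAmple

set_option autoImplicit false
universe u
open CategoryTheory CategoryTheory.Limits AlgebraicGeometry Opposite TopologicalSpace
open Groth.Agent.Helper13.Tensor Groth.Agent.Helper13.Inv Groth.Agent.Helper13.GenLoc
open Groth.Agent.Helper13.Ample Groth.Agent.Helper13.GenTwist Groth.Agent.Helper13.PbAmple
open Groth.Agent.Helper13.PbTensor

namespace Groth.Agent.Helper13.RelAmpleComp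

theorem isInvertible_of_isRelAmple {X Y : Scheme.{u}} (f : X ⟶ Y) (L : X.Modules)
    (hL : RelAmple.IsRelAmple f L) : PicF.IsInvertible L := by
  apply isInvertible_of_forall_exists_restrict
  intro x
  obtain ⟨V, hV, hxV, -⟩ := exists_isAffineOpen_mem_and_subset (x := f x) (U := ⊤) trivial
  exact ⟨_, (f ⁻¹ᵁ V).ι, inferInstance, ⟨⟨x, hxV⟩, rfl⟩, (hL.2 ⟨V, hV⟩).1⟩

/-- **EGA II 4.6.13 (ii), absolute form**: `L` ample relative to `f : X ⟶ Y` and `K` ample on `Y`:
then `L ⊗ f^*K^n` is ample for all large `n`. -/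
theorem exists_isAmple_tensor_pullback_pow {X Y : Scheme.{u}} (f : X ⟶ Y)
    (L : X.Modules) (K : Y.Modules) (hL : RelAmple.IsRelAmple f L) (hK : CohB1.IsAmple K) :
    ∃ n₀ : ℕ, ∀ n, n₀ ≤ n →
      CohB1.IsAmple (CohB1.tensorMod L ((Scheme.Modules.pullback f).obj (CohB1.tensorPow K n))) := by
  classical
  haveI := hK.2.1
  haveI := hL.1
  haveI : CompactSpace X := QuasiCompact.compactSpace_of_compactSpace f
  have hLinv := isInvertible_of_isRelAmple f L hL
  have hP : PicF.IsInvertible ((Scheme.Modules.pullback f).obj K) :=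
    Groth.Agent.Helper13.PbInv.isInvertible_pullback f K hK.1
  have key : ∀ x : X, ∃ (β : ℕ) (θ : Coh.structureModule X ⟶
      CohB1.tensorPow ((Scheme.Modules.pullback f).obj K) β), 0 < β ∧
      x ∈ CohB1.genLocus _ θ ∧ CohB1.IsAmple (L.restrict (CohB1.genLocus _ θ).ι) := by
    intro x
    obtain ⟨b, t, hy, haff⟩ := hK.2.2 (f x)
    refine ⟨b + 1, pullbackPowSec f K hK.1 (b + 1) t, Nat.succ_pos b, ?_, ?_⟩
    · rw [genLocus_pullbackPowSec]; exact hy
    · rw [genLocus_pullbackPowSec]; exact hL.2 ⟨_, haff⟩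
  choose β θ hβ hx hamp using key
  have hPβ : ∀ x, PicF.IsInvertible (CohB1.tensorPow ((Scheme.Modules.pullback f).obj K) (β x)) :=
    fun x => isInvertible_tensorPow _ hP _
  haveI : QuasiSeparatedSpace X :=
    QuasiSeparatedSpace.of_isOpenCover (U := fun x => CohB1.genLocus _ (θ x))
      (eq_top_iff.mpr fun x _ => Opens.mem_iSup.mpr ⟨x, hx x⟩)
      (fun x => isRetrocompact_genLocus _ (hPβ x) (θ x))
      (fun x => (isQuasiSeparated_iff_quasiSeparatedSpace _ (CohB1.genLocus _ (θ x)).2).2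
        (quasiSeparatedSpace_of_isAmple _ (hamp x)))
  choose α G hα hxG hG _ k₀ hk using fun x =>
    exists_twisted_section_of_isAmple_restrict L _ hLinv (hPβ x) (θ x) (hamp x) (β x) (hβ x) x (hx x)
  obtain ⟨T, hT⟩ := isCompact_univ.elim_finite_subcover
    (fun x : X => ((G x : X.Opens) : Set X)) (fun x => (G x).2)
    (fun x _ => Set.mem_iUnion.2 ⟨x, hxG x⟩)
  refine ⟨T.sup k₀, fun n hn => ?_⟩
  rw [isAmple_iff_exists_pos]
  refine ⟨isInvertible_tensorMod _ _ hLinv (Groth.Agent.Helper13.PbInv.isInvertible_pullback f _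
    (isInvertible_tensorPow K hK.1 n)), inferInstance, fun z => ?_⟩
  obtain ⟨x, hxT, hzx⟩ : ∃ x ∈ T, z ∈ G x := by
    have := hT (Set.mem_univ z)
    simpa using this
  have hkx : k₀ x ≤ n * α x := by
    have h1 : k₀ x ≤ n := (Finset.le_sup hxT).trans hn
    have h2 : n ≤ n * α x := Nat.le_mul_of_pos_right n (hα x)
    exact h1.trans h2
  obtain ⟨τ, hτ⟩ := hk x (n * α x) hkx
  let P := (Scheme.Modules.pullback f).obj K
  let Q := (Scheme.Modules.pullback f).obj (CohB1.tensorPow K n)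
  let N := β x * α x
  have hmul : β x * (n * α x) = n * N := by
    change β x * (n * α x) = n * (β x * α x)
    ring
  let e : CohB1.tensorMod (CohB1.tensorPow L N) (CohB1.tensorPow (CohB1.tensorPow P (β x)) (n * α x)) ≅
      CohB1.tensorPow (CohB1.tensorMod L Q) N :=
    mapIso (Iso.refl _) (powMul P (β x) (n * α x) ≪≫ powCast P hmul ≪≫ (powMul P n N).symm ≪≫
      (powIso (pullbackPowIso f K hK.1 n) N).symm) ≪≫ (powTensor L Q N).symm
  have hloc : CohB1.genLocus _ (τ ≫ e.hom) = G x := (genLocus_comp_iso τ e).trans hτ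
  refine ⟨N, Nat.mul_pos (hβ x) (hα x), τ ≫ e.hom, ?_, ?_⟩
  · rw [hloc]; exact hzx
  · rw [hloc]; exact hG x

end Groth.Agent.Helper13.RelAmpleComp
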