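import Mathlib
import Groth.Prelude.Def_LCI2
import Groth.Agent.Lib.Helper13.RelAmpleComp
import Groth.Agent.Lib.Helper13.AmpleRel
import Groth.Agent.Lib.Helper13.PullbackLocal

set_option autoImplicit false
universe u
open CategoryTheory CategoryTheory.Limits AlgebraicGeometry Opposite TopologicalSpace
open Groth.Agent.Helper13.Tensor Groth.Agent.Helper13.Inv Groth.Agent.Helper13.GenLoc
open Groth.Agent.Helper13.Ample Groth.Agent.Helper13.Pullback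

namespace Groth.Agent.Helper13.RelAmpleComp

variable {X Y : Scheme.{u}} (f : X ⟶ Y)

/-- relative ampleness restricts to opens of the base. -/
theorem isRelAmple_morphismRestrict (L : X.Modules) (hL : RelAmple.IsRelAmple f L) (Y₀ : Y.Opens) :
    RelAmple.IsRelAmple (f ∣_ Y₀) (L.restrict (f ⁻¹ᵁ Y₀).ι) := by
  haveI := hL.1
  refine ⟨inferInstance, fun V => ?_⟩
  have hVb : IsAffineOpen (Y₀.ι ''ᵁ V.1) := V.2.image_of_isOpenImmersion Y₀.ι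
  have h := hL.2 ⟨Y₀.ι ''ᵁ V.1, hVb⟩
  haveI : CompactSpace (((f ∣_ Y₀) ⁻¹ᵁ V.1 : (f ⁻¹ᵁ Y₀).toScheme.Opens) : Scheme.{u}) :=
    compactSpace_preimage (f ∣_ Y₀) V.1 V.2.isCompact
  have hr : Set.range (((f ∣_ Y₀) ⁻¹ᵁ V.1).ι ≫ (f ⁻¹ᵁ Y₀).ι) ⊆
      Set.range (f ⁻¹ᵁ (Y₀.ι ''ᵁ V.1)).ι := by
    rw [Scheme.Opens.range_ι]
    rintro _ ⟨z, rfl⟩
    have h1 : (f ⁻¹ᵁ Y₀).ι (((f ∣_ Y₀) ⁻¹ᵁ V.1).ι z) ∈ (f ⁻¹ᵁ Y₀).ι ''ᵁ ((f ∣_ Y₀) ⁻¹ᵁ V.1) :=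
      ⟨_, z.2, rfl⟩
    rw [image_morphismRestrict_preimage] at h1
    exact h1
  have h2 := isAmple_restrict_of_factor (f ⁻¹ᵁ (Y₀.ι ''ᵁ V.1)).ι
    (((f ∣_ Y₀) ⁻¹ᵁ V.1).ι ≫ (f ⁻¹ᵁ Y₀).ι) hr L h
  exact isAmple_of_iso (restrictRestrictIso ((f ∣_ Y₀) ⁻¹ᵁ V.1).ι (f ⁻¹ᵁ Y₀).ι _ rfl L).symm h2

/-- restriction of `L ⊗ f^* K^n` to the preimage of an open of the base. -/
noncomputable def restrictTensorPullbackPowIso (L : X.Modules) (K : Y.Modules) (n : ℕ) (Y₀ : Y.Opens) :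
    (CohB1.tensorMod L ((Scheme.Modules.pullback f).obj (CohB1.tensorPow K n))).restrict (f ⁻¹ᵁ Y₀).ι ≅
      CohB1.tensorMod (L.restrict (f ⁻¹ᵁ Y₀).ι)
        ((Scheme.Modules.pullback (f ∣_ Y₀)).obj (CohB1.tensorPow (K.restrict Y₀.ι) n)) :=
  restrictIso (f ⁻¹ᵁ Y₀).ι L _ ≪≫ mapIso (Iso.refl _)
    ((pullbackRestrictIso f (f ⁻¹ᵁ Y₀).ι Y₀.ι (f ∣_ Y₀) (morphismRestrict_ι f Y₀).symm).app _ ≪≫
      (Scheme.Modules.pullback (f ∣_ Y₀)).mapIso (powRestrict Y₀.ι K n))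

end Groth.Agent.Helper13.RelAmpleComp
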