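import Mathlib
import Groth.Agent.Lib.Helper13.PbAmple
import Groth.Agent.Lib.Helper13.AmpleRel
import Groth.Agent.Lib.Helper13.PullbackLocal

set_option autoImplicit false
universe u
open CategoryTheory CategoryTheory.Limits AlgebraicGeometry Opposite TopologicalSpace

namespace Groth.Agent.Helper13.PbAmple

/-- the "box" `fst⁻¹ A ∩ snd⁻¹ V''` in a fibre product is affine when `A`, `V''` are affine and map
into a common affine open of the base. -/
theorem isAffineOpen_pullback_inf {X Y Y' : Scheme.{u}} (f : X ⟶ Y) (g : Y' ⟶ Y) {A : X.Opens}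
    {V : Y.Opens} {V'' : Y'.Opens} (hA : IsAffineOpen A) (hV : IsAffineOpen V)
    (hV'' : IsAffineOpen V'') (hAV : A ≤ f ⁻¹ᵁ V) (hV''V : V'' ≤ g ⁻¹ᵁ V) :
    IsAffineOpen (pullback.fst f g ⁻¹ᵁ A ⊓ pullback.snd f g ⁻¹ᵁ V'') := by
  haveI : IsAffine (A : Scheme.{u}) := hA
  haveI : IsAffine (V : Scheme.{u}) := hV
  haveI : IsAffine (V'' : Scheme.{u}) := hV''
  have hr1 : Set.range (A.ι ≫ f) ⊆ Set.range V.ι := by
    rintro _ ⟨a, rfl⟩
    rw [Scheme.Opens.range_ι]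
    exact hAV a.2
  have hr2 : Set.range (V''.ι ≫ g) ⊆ Set.range V.ι := by
    rintro _ ⟨a, rfl⟩
    rw [Scheme.Opens.range_ι]
    exact hV''V a.2
  let fA : (A : Scheme.{u}) ⟶ V := IsOpenImmersion.lift V.ι (A.ι ≫ f) hr1
  let gV : (V'' : Scheme.{u}) ⟶ V := IsOpenImmersion.lift V.ι (V''.ι ≫ g) hr2
  have e₁ : fA ≫ V.ι = A.ι ≫ f := IsOpenImmersion.lift_fac _ _ _
  have e₂ : gV ≫ V.ι = V''.ι ≫ g := IsOpenImmersion.lift_fac _ _ _
  let m := pullback.map fA gV f g A.ι V''.ι V.ι e₁ e₂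
  have hm : m.opensRange = pullback.fst f g ⁻¹ᵁ A ⊓ pullback.snd f g ⁻¹ᵁ V'' := by
    apply Opens.ext
    change Set.range m = _
    rw [Scheme.Pullback.range_map, Scheme.Opens.range_ι, Scheme.Opens.range_ι]
    rfl
  rw [← hm]
  exact isAffineOpen_opensRange m


/-- relative ampleness is stable under base change. -/
theorem isAmple_restrict_baseChange {X Y Y' : Scheme.{u}} (f : X ⟶ Y) [QuasiCompact f] (g : Y' ⟶ Y)
    (L : X.Modules)
    (hL : ∀ V : Y.affineOpens, CohB1.IsAmple (L.restrict (f ⁻¹ᵁ V.1).ι))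
    (V' : Y'.Opens) (hV' : IsAffineOpen V') :
    CohB1.IsAmple (((Scheme.Modules.pullback (pullback.fst f g)).obj L).restrict
      (pullback.snd f g ⁻¹ᵁ V').ι) := by
  apply Groth.Agent.Helper13.Ample.isAmple_restrict_preimage_of_local (pullback.snd f g) _ V' hV'
  intro y' hy'
  obtain ⟨_, ⟨V, hV, rfl⟩, hyV, -⟩ :=
    Y.isBasis_affineOpens.exists_subset_of_mem_open (Set.mem_univ (g y')) isOpen_univ
  have hVa : IsAffineOpen V := hV
  obtain ⟨_, ⟨V'', hV'', rfl⟩, hyV'', hV''V⟩ :=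
    Y'.isBasis_affineOpens.exists_subset_of_mem_open (show y' ∈ ((g ⁻¹ᵁ V : Y'.Opens) : Set Y')
      from hyV) (g ⁻¹ᵁ V).2
  have hV''a : IsAffineOpen V'' := hV''
  let U : X.Opens := f ⁻¹ᵁ V
  let Ω : (pullback f g).Opens := pullback.snd f g ⁻¹ᵁ V''
  refine ⟨Ω, V'', hyV'', le_rfl, ?_⟩
  have hrange : Set.range (Ω.ι ≫ pullback.fst f g) ⊆ Set.range U.ι := by
    rintro _ ⟨ω, rfl⟩
    rw [Scheme.Opens.range_ι]
    change f ((Ω.ι ≫ pullback.fst f g) ω) ∈ V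
    rw [Scheme.Hom.comp_apply, ← Scheme.Hom.comp_apply (pullback.fst f g) f, pullback.condition,
      Scheme.Hom.comp_apply]
    exact hV''V ω.2
  let k : (Ω : Scheme.{u}) ⟶ U := IsOpenImmersion.lift U.ι (Ω.ι ≫ pullback.fst f g) hrange
  have hk : k ≫ U.ι = Ω.ι ≫ pullback.fst f g := IsOpenImmersion.lift_fac _ _ _
  haveI : IsAffineHom k := by
    refine ⟨fun A' hA' => ?_⟩
    rw [← Scheme.Hom.isAffineOpen_iff_of_isOpenImmersion Ω.ι]
    have hA : IsAffineOpen (U.ι ''ᵁ A') := hA'.image_of_isOpenImmersion U.ι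
    have hAV : U.ι ''ᵁ A' ≤ f ⁻¹ᵁ V := by
      rintro _ ⟨a, -, rfl⟩
      exact a.2
    have key := isAffineOpen_pullback_inf f g hA hVa hV''a hAV hV''V
    have heq : Ω.ι ''ᵁ (k ⁻¹ᵁ A') =
        pullback.fst f g ⁻¹ᵁ (U.ι ''ᵁ A') ⊓ pullback.snd f g ⁻¹ᵁ V'' := by
      ext x'
      constructor
      · rintro ⟨ω, hω, rfl⟩
        refine ⟨⟨k ω, hω, ?_⟩, ω.2⟩
        change (k ≫ U.ι) ω = (Ω.ι ≫ pullback.fst f g) ω
        rw [hk]
      · rintro ⟨⟨a, ha, hax⟩, hx'⟩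
        refine ⟨⟨x', hx'⟩, ?_, rfl⟩
        have : U.ι (k ⟨x', hx'⟩) = U.ι a := by
          change (k ≫ U.ι) ⟨x', hx'⟩ = U.ι a
          rw [hk]
          exact hax.symm
        have h2 : k ⟨x', hx'⟩ = a := U.ι.isOpenEmbedding.injective this
        change k ⟨x', hx'⟩ ∈ A'
        rw [h2]; exact ha
    rw [heq]
    exact key
  have hamp := hL ⟨V, hVa⟩
  have h1 := isAmple_pullback_of_isAffineHom k (L.restrict U.ι) hamp
  have e := (Groth.Agent.Helper13.Pullback.pullbackRestrictIso (pullback.fst f g) Ω.ι U.ι k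
    hk.symm).app L
  exact Groth.Agent.Helper13.Ample.isAmple_of_iso e.symm h1

end Groth.Agent.Helper13.PbAmple
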