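import Mathlib
import Groth.Agent.Lib.Helper13.Chow3
import Groth.Agent.Lib.Helper13.AmpleQA
import Groth.Agent.Lib.Helper15.ProjSpaceProper
import Groth.Agent.S1497
import Groth.Agent.S1616

universe u
open CategoryTheory CategoryTheory.Limits AlgebraicGeometry Opposite TopologicalSpace

namespace Groth.Agent.Helper13.Chow

/-- weak Chow data for `fY : Y ⟶ S`. -/
def HasChow {S Y : Scheme.{u}} (fY : Y ⟶ S) : Prop :=
  ∃ (Y' : Scheme.{u}) (_ : IsIntegral Y') (π : Y' ⟶ Y) (_ : IsProper π) (N : ℕ)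
    (α : Y' ⟶ CohB1.ProjSpaceOver N S) (_ : IsImmersion α) (U : Y.Opens) (_ : Nonempty U)
    (s : (U : Scheme.{u}) ⟶ Y'),
    α ≫ CohB1.ProjSpaceOver.toBase N S = π ≫ fY ∧ s ≫ π = U.ι

theorem hasChow_aux {S Y : Scheme.{u}} (hS : ∃ N : S.Modules, CohB1.IsAmple N)
    (fY : Y ⟶ S) [IsAffine Y] [LocallyOfFiniteType fY] [QuasiCompact fY] :
    ∃ (n : ℕ) (i : Y ⟶ CohB1.ProjSpaceOver n S), IsImmersion i ∧ QuasiCompact i ∧
      i ≫ CohB1.ProjSpaceOver.toBase n S = fY := by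
  have hL : ∃ L : Y.Modules, CohB1.IsAmple L :=
    ⟨_, Groth.Agent.Helper13.GenLoc.isAmple_of_isQuasiAffine _
      Groth.Agent.Helper13.Inv.isInvertible_structureModule⟩
  exact (Groth.Agent.S1497.result hS fY).mpr ⟨inferInstance, inferInstance, hL⟩

theorem hasChow_of_isAffine {S Y : Scheme.{u}} (hS : ∃ N : S.Modules, CohB1.IsAmple N)
    (fY : Y ⟶ S) [IsIntegral Y] [IsAffine Y] [LocallyOfFiniteType fY] [QuasiCompact fY] :
    HasChow fY := by
  obtain ⟨n, α, hα1, -, hα2⟩ := hasChow_aux hS fY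
  haveI : Nonempty ((⊤ : Y.Opens) : Scheme.{u}) := by
    obtain ⟨y⟩ := (inferInstance : Nonempty Y)
    exact ⟨⟨y, trivial⟩⟩
  refine ⟨Y, inferInstance, 𝟙 Y, inferInstance, n, α, hα1, ⊤, inferInstance, (⊤ : Y.Opens).ι,
    ?_, Category.comp_id _⟩
  rw [Category.id_comp]
  exact hα2

set_option maxHeartbeats 1600000 in
theorem step {S Y V W : Scheme.{u}} (hS : ∃ N : S.Modules, CohB1.IsAmple N)
    (fY : Y ⟶ S) [IsSeparated fY] [IsIntegral Y] [NoetherianSpace Y]
    (iV : V ⟶ Y) [IsOpenImmersion iV] (iW : W ⟶ Y) [IsOpenImmersion iW]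
    (hcov : ∀ y : Y, y ∈ Set.range iV ∨ y ∈ Set.range iW)
    [IsAffine V] [Nonempty V] [LocallyOfFiniteType (iV ≫ fY)] (hW : HasChow (iW ≫ fY)) :
    HasChow fY := by
  haveI : NoetherianSpace V := iV.isOpenEmbedding.isInducing.noetherianSpace
  haveI : IsIntegral V := isIntegral_of_isOpenImmersion iV
  obtain ⟨n, αV, hαV1, -, hαV2⟩ := hasChow_aux hS (iV ≫ fY)
  obtain ⟨W', hW'int, pW, hpW, m, αW, hαW1, U₀, hU₀, s₀, hαW2, hs₀⟩ := hW
  haveI := hW'int
  haveI := hpW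
  haveI := hαV1
  haveI := hαW1
  let U : Y.Opens := iV.opensRange ⊓ ((U₀.ι ≫ iW).opensRange)
  have hUne : (U : Set Y).Nonempty := by
    obtain ⟨v⟩ := (inferInstance : Nonempty V)
    obtain ⟨w⟩ := hU₀
    exact nonempty_preirreducible_inter iV.opensRange.isOpen (U₀.ι ≫ iW).opensRange.isOpen
      ⟨iV v, ⟨v, rfl⟩⟩ ⟨(U₀.ι ≫ iW) w, ⟨w, rfl⟩⟩
  haveI : Nonempty (U : Scheme.{u}) := by
    obtain ⟨y, hy⟩ := hUne
    exact ⟨⟨y, hy⟩⟩
  haveI : IsIntegral (U : Scheme.{u}) := isIntegral_of_isOpenImmersion U.ι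
  haveI : NoetherianSpace (U : Scheme.{u}) := U.ι.isOpenEmbedding.isInducing.noetherianSpace
  have hr1 : Set.range U.ι ⊆ Set.range iV := by
    rw [Scheme.Opens.range_ι]
    exact fun y hy => hy.1
  have hr2 : Set.range U.ι ⊆ Set.range (U₀.ι ≫ iW) := by
    rw [Scheme.Opens.range_ι]
    exact fun y hy => hy.2
  let sV : (U : Scheme.{u}) ⟶ V := IsOpenImmersion.lift iV U.ι hr1
  have hsV : sV ≫ iV = U.ι := IsOpenImmersion.lift_fac _ _ _
  let t : (U : Scheme.{u}) ⟶ U₀ := IsOpenImmersion.lift (U₀.ι ≫ iW) U.ι hr2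
  have ht : t ≫ U₀.ι ≫ iW = U.ι := IsOpenImmersion.lift_fac _ _ _
  obtain ⟨Y', hY', π, hπ, γ, hγ, s, hs1, hs2⟩ :=
    glue fY (CohB1.ProjSpaceOver.toBase n S) (CohB1.ProjSpaceOver.toBase m S) iV iW hcov
      (𝟙 V) αV (by rw [Category.id_comp]; exact hαV2) pW αW (by rw [hαW2])
      U.ι sV (t ≫ s₀) (by rw [Category.id_comp]; exact hsV)
      (by rw [Category.assoc, reassoc_of% hs₀]; exact ht)
  obtain ⟨φ, hφ1, hφ2⟩ := Groth.Agent.S1616.result S n m
  haveI := hφ1
  haveI := hγ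
  refine ⟨Y', hY', π, hπ, _, γ ≫ φ, inferInstance, U, inferInstance, s, ?_, hs1⟩
  rw [Category.assoc, hφ2]
  exact hs2

theorem hasChow_of_iso {S Y W : Scheme.{u}} (j : W ⟶ Y) [IsIso j] (fY : Y ⟶ S)
    (h : HasChow (j ≫ fY)) : HasChow fY := by
  obtain ⟨Y', hY', π, hπ, N, α, hα, U, hU, s, h1, h2⟩ := h
  haveI := hπ
  haveI : Nonempty ((j ''ᵁ U : Y.Opens) : Scheme.{u}) := by
    obtain ⟨x⟩ := hU
    exact ⟨⟨j x.1, ⟨x.1, x.2, rfl⟩⟩⟩
  refine ⟨Y', hY', π ≫ j, inferInstance, N, α, hα, j ''ᵁ U, inferInstance,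
    (j.isoImage U).inv ≫ s, by rw [h1, Category.assoc], ?_⟩
  rw [Category.assoc, reassoc_of% h2]
  exact j.isoImage_inv_ι U

set_option maxHeartbeats 1600000 in
theorem hasChow_of_finset {S Y : Scheme.{u}} (hS : ∃ N : S.Modules, CohB1.IsAmple N)
    (fY : Y ⟶ S) [IsSeparated fY] [LocallyOfFiniteType fY] [IsIntegral Y] [NoetherianSpace Y] :
    ∀ (t : Finset Y.affineOpens) (W : Y.Opens), W = ⨆ U ∈ t, (U : Y.Opens) →
      (W : Set Y).Nonempty → HasChow (W.ι ≫ fY) := by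
  classical
  intro t
  induction t using Finset.induction_on with
  | empty =>
    intro W hW hne
    exfalso
    simp only [Finset.notMem_empty, iSup_false, iSup_bot] at hW
    subst hW
    obtain ⟨y, hy⟩ := hne
    exact hy
  | insert a t hat ih =>
    intro W hW hne
    rw [Finset.iSup_insert] at hW
    set W₀ : Y.Opens := ⨆ U ∈ t, (U : Y.Opens) with hW₀
    haveI : Nonempty (W : Scheme.{u}) := by
      obtain ⟨y, hy⟩ := hne
      exact ⟨⟨y, hy⟩⟩
    haveI : IsIntegral (W : Scheme.{u}) := isIntegral_of_isOpenImmersion W.ι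
    haveI : NoetherianSpace (W : Scheme.{u}) := W.ι.isOpenEmbedding.isInducing.noetherianSpace
    by_cases h0 : (W₀ : Set Y).Nonempty
    · by_cases ha : ((a : Y.Opens) : Set Y).Nonempty
      · have hle1 : (a : Y.Opens) ≤ W := by rw [hW]; exact le_sup_left
        have hle2 : W₀ ≤ W := by rw [hW]; exact le_sup_right
        haveI : IsAffine ((a : Y.Opens) : Scheme.{u}) := a.2
        haveI : Nonempty ((a : Y.Opens) : Scheme.{u}) := by
          obtain ⟨y, hy⟩ := ha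
          exact ⟨⟨y, hy⟩⟩
        refine step hS (W.ι ≫ fY) (Y.homOfLE hle1) (Y.homOfLE hle2) ?_ ?_
        · intro y
          have hy : y.1 ∈ (a : Y.Opens) ⊔ W₀ := by rw [← hW]; exact y.2
          rcases hy with hy | hy
          · left
            exact ⟨⟨y.1, hy⟩, Subtype.ext (Scheme.homOfLE_apply _ _)⟩
          · right
            exact ⟨⟨y.1, hy⟩, Subtype.ext (Scheme.homOfLE_apply _ _)⟩
        · rw [Scheme.homOfLE_ι_assoc]
          exact ih W₀ rfl h0
      · have : W = W₀ := by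
          rw [hW]
          have : (a : Y.Opens) = ⊥ := by
            ext y
            simp only [Opens.coe_bot, Set.mem_empty_iff_false, iff_false]
            exact fun hy => ha ⟨y, hy⟩
          rw [this, bot_sup_eq]
        rw [this]
        exact ih W₀ rfl h0
    · have : W = (a : Y.Opens) := by
        rw [hW]
        have : W₀ = ⊥ := by
          ext y
          simp only [Opens.coe_bot, Set.mem_empty_iff_false, iff_false]
          exact fun hy => h0 ⟨y, hy⟩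
        rw [this, sup_bot_eq]
      subst this
      haveI : IsAffine ((a : Y.Opens) : Scheme.{u}) := a.2
      exact hasChow_of_isAffine hS _

/-- Weak Chow lemma: an integral scheme, separated of finite type over a base with an ample
sheaf is dominated by a quasi-projective one. -/
theorem weak_chow {S Y : Scheme.{u}} (hS : ∃ N : S.Modules, CohB1.IsAmple N)
    (fY : Y ⟶ S) [IsSeparated fY] [LocallyOfFiniteType fY] [IsIntegral Y] [NoetherianSpace Y] :
    HasChow fY := by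
  obtain ⟨t, ht⟩ : ∃ t : Finset Y.affineOpens, (⊤ : Y.Opens) = ⨆ U ∈ t, (U : Y.Opens) := by
    have hc : IsCompact (Set.univ : Set Y) := isCompact_univ
    obtain ⟨t, ht⟩ := hc.elim_finite_subcover (fun U : Y.affineOpens => ((U : Y.Opens) : Set Y))
      (fun U => U.1.isOpen) (by
        intro y _
        have hy : y ∈ (⊤ : Y.Opens) := trivial
        rw [← iSup_affineOpens_eq_top Y] at hy
        obtain ⟨U, hU⟩ := Opens.mem_iSup.mp hy
        exact Set.mem_iUnion.mpr ⟨U, hU⟩)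
    refine ⟨t, ?_⟩
    apply le_antisymm
    · intro y hy
      obtain ⟨U, hU⟩ := Set.mem_iUnion.mp (ht (Set.mem_univ y))
      obtain ⟨hUt, hyU⟩ := Set.mem_iUnion.mp hU
      exact Opens.mem_iSup.mpr ⟨U, Opens.mem_iSup.mpr ⟨hUt, hyU⟩⟩
    · exact le_top
  have hne : ((⊤ : Y.Opens) : Set Y).Nonempty := by
    obtain ⟨y⟩ := (inferInstance : Nonempty Y)
    exact ⟨y, trivial⟩
  haveI : IsIso (⊤ : Y.Opens).ι := (inferInstance : IsIso Y.topIso.hom)
  exact hasChow_of_iso (⊤ : Y.Opens).ι fY (hasChow_of_finset hS fY t ⊤ ht hne)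

end Groth.Agent.Helper13.Chow
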