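import Mathlib
import Groth.Prelude.Def_CohPull
import Groth.Agent.Lib.Helper13.LerayZero

universe u
set_option linter.unusedSectionVars false
open CategoryTheory CategoryTheory.Limits Opposite TopologicalSpace Abelian

namespace Groth.Agent.Helper13.PushEdge

open Groth.Agent.Helper24.CechH Groth.Agent.Helper24.CechInj Groth.Agent.Helper24.Flasque
  Groth.Agent.Helper24 Groth.Agent.Helper13.LerayZero

lemma assoc_aux {C : Type*} [Category C] [Abelian C] [HasExt C] {Z W A₃ A₁ B₃ B₁ : C} {p : ℕ}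
    (o : Ext Z W 0) (y : Ext W A₃ p) (e : Ext A₃ A₁ 1) (c₁ : Ext A₁ B₁ 0) (c₃ : Ext A₃ B₃ 0)
    (e' : Ext B₃ B₁ 1) (h : e.comp c₁ (add_zero 1) = c₃.comp e' (zero_add 1)) :
    (o.comp (y.comp e rfl) (zero_add (p + 1))).comp c₁ (add_zero (p + 1)) =
      ((o.comp y (zero_add p)).comp c₃ (add_zero p)).comp e' rfl := by
  have e1 : (o.comp (y.comp e rfl) (zero_add (p + 1))).comp c₁ (add_zero (p + 1)) =
      o.comp (y.comp (c₃.comp e' (zero_add 1)) rfl) (zero_add (p + 1)) := by
    rw [Ext.comp_assoc_of_third_deg_zero, Ext.comp_assoc_of_third_deg_zero, h]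
  have e2 : ((o.comp y (zero_add p)).comp c₃ (add_zero p)).comp e' rfl =
      o.comp (y.comp (c₃.comp e' (zero_add 1)) rfl) (zero_add (p + 1)) := by
    rw [Ext.comp_assoc_of_second_deg_zero, Ext.comp_assoc o y _ (zero_add p) rfl (by omega)]
  exact e1.trans e2.symm

variable {X Y : TopCat.{u}} (f : X ⟶ Y)

/-- the edge map for abelian sheaves -/
noncomputable def edgeAb (A : CohTop.Ab X) (p : ℕ) :
    Sheaf.H ((CohTop.push f).obj A) p →+ Sheaf.H A p :=
  (Sheaf.H.map ((CohPull.invPushAdj f).counit.app A) p).comp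
    (CohPull.pullAb f ((CohTop.push f).obj A) p)

lemma edgeAb_apply (A : CohTop.Ab X) (p : ℕ) (x : Sheaf.H ((CohTop.push f).obj A) p) :
    edgeAb f A p x =
      ((Ext.mk₀ (CohPull.oneTo f)).comp (x.mapExactFunctor (CohPull.inv f)) (zero_add p)).comp
        (Ext.mk₀ ((CohPull.invPushAdj f).counit.app A)) (add_zero p) := rfl

lemma edgeAb_natural {A B : CohTop.Ab X} (φ : A ⟶ B) (p : ℕ)
    (x : Sheaf.H ((CohTop.push f).obj A) p) :
    edgeAb f B p (Sheaf.H.map ((CohTop.push f).map φ) p x) = Sheaf.H.map φ p (edgeAb f A p x) := by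
  rw [edgeAb_apply, edgeAb_apply, Sheaf.H.map_apply, Sheaf.H.map_apply,
    Ext.mapExactFunctor_comp, Ext.mapExactFunctor_mk₀]
  simp only [Ext.comp_assoc_of_third_deg_zero, Ext.mk₀_comp_mk₀]
  congr 3
  exact (CohPull.invPushAdj f).counit.naturality φ

/-- the counit as a morphism of short complexes -/
noncomputable def counitS (S : ShortComplex (CohTop.Ab X)) :
    (S.map (CohTop.push f)).map (CohPull.inv f) ⟶ S where
  τ₁ := (CohPull.invPushAdj f).counit.app S.X₁
  τ₂ := (CohPull.invPushAdj f).counit.app S.X₂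
  τ₃ := (CohPull.invPushAdj f).counit.app S.X₃
  comm₁₂ := ((CohPull.invPushAdj f).counit.naturality S.f).symm
  comm₂₃ := ((CohPull.invPushAdj f).counit.naturality S.g).symm

lemma edgeAb_δ (S : ShortComplex (CohTop.Ab X)) (hS : S.ShortExact)
    (hS' : (S.map (CohTop.push f)).ShortExact) (p : ℕ)
    (x : Ext (constZ Y) (S.map (CohTop.push f)).X₃ p) :
    edgeAb f S.X₁ (p + 1) (x.comp hS'.extClass rfl) = (edgeAb f S.X₃ p x).comp hS.extClass rfl := by
  have h := ShortComplex.ShortExact.extClass_naturality (hS'.map_of_exact (CohPull.inv f)) hS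
    (counitS f S)
  have h1 : (x.comp hS'.extClass rfl).mapExactFunctor (CohPull.inv f) =
      (x.mapExactFunctor (CohPull.inv f)).comp (hS'.map_of_exact (CohPull.inv f)).extClass rfl := by
    rw [Ext.mapExactFunctor_comp, Ext.mapExactFunctor_extClass]
    rfl
  refine (edgeAb_apply f S.X₁ (p + 1) _).trans ?_
  refine (congrArg (fun z => ((Ext.mk₀ (CohPull.oneTo f)).comp z (zero_add (p + 1))).comp
        (Ext.mk₀ ((CohPull.invPushAdj f).counit.app S.X₁)) (add_zero (p + 1))) h1).trans ?_
  refine Eq.trans ?_ (congrArg (fun z => z.comp hS.extClass rfl) (edgeAb_apply f S.X₃ p x)).symm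
  exact assoc_aux _ _ _ _ _ _ h


lemma equiv₀_edgeAb (A : CohTop.Ab X) (s : Sheaf.H ((CohTop.push f).obj A) 0) :
    Sheaf.H.equiv₀ A (T := (⊤ : Opens X)) isTerminalTop (edgeAb f A 0 s) =
      Sheaf.H.equiv₀ ((CohTop.push f).obj A) (T := (⊤ : Opens Y)) isTerminalTop s := by
  have h1 := Sheaf.H.equiv₀_naturality (T := (⊤ : Opens X)) isTerminalTop
    ((CohPull.invPushAdj f).counit.app A) (CohPull.pullAb f ((CohTop.push f).obj A) 0 s)
  have h2 := CohPull.equiv₀_pullAb f ((CohTop.push f).obj A) s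
  have h3 := (CohPull.invPushAdj f).right_triangle_components A
  have h4 := congrArg (fun t => (t.hom.app (op (⊤ : Opens Y)))
    (Sheaf.H.equiv₀ ((CohTop.push f).obj A) (T := (⊤ : Opens Y)) isTerminalTop s)) h3
  simp only [ObjectProperty.FullSubcategory.comp_hom, NatTrans.comp_app,
    ConcreteCategory.comp_apply] at h4
  refine h1.symm.trans ?_
  refine (congrArg (fun z => (ConcreteCategory.hom
    (((CohPull.invPushAdj f).counit.app A).hom.app (op ⊤))) z) h2).trans ?_
  exact h4

lemma edgeAb_zero_bijective (A : CohTop.Ab X) : Function.Bijective (edgeAb f A 0) := by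
  have : (edgeAb f A 0 : _ → _) = (Sheaf.H.equiv₀ A (T := (⊤ : Opens X)) isTerminalTop).symm ∘
      (Sheaf.H.equiv₀ ((CohTop.push f).obj A) (T := (⊤ : Opens Y)) isTerminalTop) := by
    funext s
    apply (Sheaf.H.equiv₀ A (T := (⊤ : Opens X)) isTerminalTop).injective
    rw [equiv₀_edgeAb]
    simp
  rw [this]
  exact (AddEquiv.bijective _).comp (AddEquiv.bijective _)

/-- four-lemma variant -/
lemma bijective_of_ladder {B C D B' C' D' : Type u} [AddCommGroup B] [AddCommGroup C]
    [AddCommGroup D] [AddCommGroup B'] [AddCommGroup C'] [AddCommGroup D']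
    (b : B →+ C) (c : C →+ D) (b' : B' →+ C') (c' : C' →+ D')
    (hc : Function.Surjective c) (hc' : Function.Surjective c')
    (hex : ∀ x, c x = 0 ↔ x ∈ b.range) (hex' : ∀ x, c' x = 0 ↔ x ∈ b'.range)
    (β : B →+ B') (γ : C →+ C') (δ : D →+ D') (hβ : Function.Surjective β)
    (hγ : Function.Bijective γ) (comm1 : ∀ x, γ (b x) = b' (β x)) (comm2 : ∀ x, δ (c x) = c' (γ x)) :
    Function.Bijective δ := by
  constructor
  · rw [injective_iff_map_eq_zero]
    intro d hd
    obtain ⟨c0, rfl⟩ := hc d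
    rw [comm2] at hd
    obtain ⟨b0', hb0'⟩ := (hex' _).1 hd
    obtain ⟨b0, rfl⟩ := hβ b0'
    rw [← comm1] at hb0'
    have := hγ.1 hb0'
    rw [← this]
    exact (hex _).2 ⟨b0, rfl⟩
  · intro d'
    obtain ⟨c0', rfl⟩ := hc' d'
    obtain ⟨c0, rfl⟩ := hγ.2 c0'
    exact ⟨c c0, comm2 c0⟩

theorem edgeAb_bijective : ∀ (p : ℕ) (F : CohTop.Ab X),
    (∀ q : ℕ, IsZero ((CohTop.Rpush f (q + 1)).obj F)) → Function.Bijective (edgeAb f F p)
  | 0, F, _ => edgeAb_zero_bijective f F
  | p + 1, F, h => by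
    have ih := edgeAb_bijective p (cokernel (Injective.ι F)) (isZero_Rpush_coker f F h)
    haveI hinj : Injective (Injective.under F) := Injective.injective_under F
    have hS := sesS_shortExact (Injective.ι F)
    have hS' := push_shortExact f F (h 0)
    have hI1 : Subsingleton (((TH X).F (p + 1)).obj (sesS (Injective.ι F)).X₂) :=
      Abelian.Ext.subsingleton_of_injective (constZ X) (Injective.under F) p
    haveI hfl : TopCat.Sheaf.IsFlasque (Injective.under F) :=
      @isFlasque_of_injective _ _ (Injective.injective_under F)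
    have hfl' : TopCat.Sheaf.IsFlasque ((CohTop.push f).obj (Injective.under F)) :=
      @TopCat.Sheaf.IsFlasque.pushforward_isFlasque X AddCommGrpCat.{u} _ Y (Injective.under F) hfl f
    have hI1' : Subsingleton (((TH Y).F (p + 1)).obj ((sesS (Injective.ι F)).map (CohTop.push f)).X₂) :=
      H_succ_subsingleton p _ hfl'
    have hβ : Function.Surjective (edgeAb f (Injective.under F) p) := by
      cases p with
      | zero => exact (edgeAb_zero_bijective f _).2
      | succ k =>
        intro y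
        haveI : Subsingleton (Sheaf.H (Injective.under F) (k + 1)) :=
          Abelian.Ext.subsingleton_of_injective (constZ X) (Injective.under F) k
        exact ⟨0, Subsingleton.elim _ _⟩
    exact bijective_of_ladder
      (((TH Y).F p).map ((sesS (Injective.ι F)).map (CohTop.push f)).g).hom
      ((TH Y).δ _ hS' p (p + 1) rfl).hom
      (((TH X).F p).map (sesS (Injective.ι F)).g).hom
      ((TH X).δ _ hS p (p + 1) rfl).hom
      (δ_surjective (TH Y) _ hS' p hI1') (δ_surjective (TH X) _ hS p hI1)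
      (δ_ker (TH Y) _ hS' p) (δ_ker (TH X) _ hS p)
      (edgeAb f (Injective.under F) p) (edgeAb f (cokernel (Injective.ι F)) p)
      (edgeAb f F (p + 1)) hβ ih
      (fun x => edgeAb_natural f (cokernel.π (Injective.ι F)) p x)
      (fun x => edgeAb_δ f _ hS hS' p x)

end Groth.Agent.Helper13.PushEdge
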