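import Mathlib
import Groth.Prelude.Def_Coh

universe u
set_option linter.unusedSectionVars false
open CategoryTheory CategoryTheory.Limits Opposite

namespace Groth.Agent.Helper13.ModFlasque

section Site
variable {C : Type u} [SmallCategory C] {J : GrothendieckTopology C} (R : Sheaf J RingCat.{u})
  [HasWeakSheafify J AddCommGrpCat.{u}] [J.WEqualsLocallyBijective AddCommGrpCat.{u}]

/-- the free sheaf of modules on a presheaf of sets -/
noncomputable abbrev L : (Cᵒᵖ ⥤ Type u) ⥤ SheafOfModules.{u} R :=
  PresheafOfModules.free R.obj ⋙ PresheafOfModules.sheafification (𝟙 R.obj)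

/-- the underlying presheaf of sets of a sheaf of modules -/
noncomputable abbrev G : SheafOfModules.{u} R ⥤ (Cᵒᵖ ⥤ Type u) :=
  (SheafOfModules.forget R ⋙ PresheafOfModules.restrictScalars (𝟙 R.obj)) ⋙
    (PresheafOfModules.toPresheaf R.obj ⋙ (Functor.whiskeringRight _ _ _).obj (forget Ab))

noncomputable def adj : L R ⊣ G R :=
  (PresheafOfModules.freeAdjunction R.obj).comp (PresheafOfModules.sheafificationAdjunction (𝟙 R.obj))

lemma mono_free_map {P Q : Cᵒᵖ ⥤ Type u} (φ : P ⟶ Q) (hφ : ∀ W, Function.Injective (φ.app W)) :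
    Mono ((PresheafOfModules.free R.obj).map φ) := by
  apply PresheafOfModules.mono_of_injective
  intro W
  exact Finsupp.mapDomain_injective (hφ W)

variable {R}

lemma restrict_surjective_of_injective (I : SheafOfModules.{u} R) [Injective I] {U V : C}
    (f : V ⟶ U) [Mono f] : Function.Surjective (I.val.map f.op).hom := by
  intro s
  have hm : Mono ((L R).map (yoneda.map f)) := by
    have h1 : Mono ((PresheafOfModules.free R.obj).map (yoneda.map f)) := by
      apply mono_free_map
      intro W a b hab
      exact (cancel_mono f).1 hab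
    exact inferInstanceAs (Mono ((PresheafOfModules.sheafification (𝟙 R.obj)).map
      ((PresheafOfModules.free R.obj).map (yoneda.map f))))
  let σ : yoneda.obj V ⟶ (G R).obj I := yonedaEquiv.symm s
  let σ' : (L R).obj (yoneda.obj V) ⟶ I := ((adj R).homEquiv _ _).symm σ
  let τ' : (L R).obj (yoneda.obj U) ⟶ I := Injective.factorThru σ' ((L R).map (yoneda.map f))
  have hτ' : (L R).map (yoneda.map f) ≫ τ' = σ' := Injective.comp_factorThru _ _
  let τ : yoneda.obj U ⟶ (G R).obj I := (adj R).homEquiv _ _ τ'
  have hτ : yoneda.map f ≫ τ = σ := by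
    rw [← (adj R).homEquiv_naturality_left, hτ']
    exact Equiv.apply_symm_apply _ _
  refine ⟨yonedaEquiv τ, ?_⟩
  have := yonedaEquiv_naturality τ f
  rw [hτ] at this
  exact this.trans (Equiv.apply_symm_apply _ _)

end Site

section Scheme
open AlgebraicGeometry TopologicalSpace

theorem isFlasque_toAb {X : Scheme.{u}} (I : X.Modules) [Injective I] :
    TopCat.Sheaf.IsFlasque (X := X.toTopCat) (Coh.toAb I) where
  epi {U V} i := by
    rw [AddCommGrpCat.epi_iff_surjective]
    have : Mono i.unop := ⟨fun _ _ _ => Subsingleton.elim _ _⟩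
    have hI : @Injective (SheafOfModules.{u} X.ringCatSheaf) _ I :=
      ⟨fun {A B} g f hf => @Injective.factors X.Modules _ I _ A B g f hf⟩
    exact @restrict_surjective_of_injective _ _ _ X.ringCatSheaf _ _ I hI _ _ i.unop _

end Scheme

end Groth.Agent.Helper13.ModFlasque
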