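import Mathlib
import Groth.Prelude.Def_Coh
import Groth.Prelude.Def_CohTop
import Groth.Prelude.Def_RDerDelta
import Groth.Agent.Lib.Helper13.DeltaPsh
import Groth.Agent.Lib.Helper13.ToAbExact
import Groth.Agent.Lib.Helper13.ModFlasque
import Groth.Agent.Lib.Helper24.Flasque
import Groth.Agent.S16463
import Groth.Agent.S16465
import Groth.Agent.S6773

universe v v' v'' u u' u''
set_option linter.unusedSectionVars false
open CategoryTheory CategoryTheory.Limits Opposite

namespace Groth.Agent.Helper13.RpushCmp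

open Groth.Agent.Helper13.DeltaPsh

section Precomp
variable {A : Type u} [Category.{v} A] [Abelian A] {A' : Type u'} [Category.{v'} A'] [Abelian A']
  {B : Type u''} [Category.{v''} B] [Abelian B]
  (G : A ⥤ A') [G.Additive] [PreservesFiniteLimits G] [PreservesFiniteColimits G]
  (T : DeltaF.CohDeltaFunctor A' B ℕ)

/-- pull a δ-functor back along an exact functor -/
noncomputable def precomp : DeltaF.CohDeltaFunctor A B ℕ where
  F n := G ⋙ T.F n
  additive n := inferInstance
  δ S hS n₀ n₁ h := T.δ (S.map G) (hS.map_of_exact G) n₀ n₁ h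
  δ_natural {S S'} hS hS' φ n₀ n₁ h :=
    T.δ_natural (hS.map_of_exact G) (hS'.map_of_exact G) (G.mapShortComplex.map φ) n₀ n₁ h
  exact₂ S hS n := T.exact₂ (S.map G) (hS.map_of_exact G) n
  comp_δ S hS n₀ n₁ h := T.comp_δ (S.map G) (hS.map_of_exact G) n₀ n₁ h
  exact₃ S hS n₀ n₁ h := T.exact₃ (S.map G) (hS.map_of_exact G) n₀ n₁ h
  δ_comp S hS n₀ n₁ h := T.δ_comp (S.map G) (hS.map_of_exact G) n₀ n₁ h
  exact₁ S hS n₀ n₁ h := T.exact₁ (S.map G) (hS.map_of_exact G) n₀ n₁ h

end Precomp

section Main
open AlgebraicGeometry TopologicalSpace Groth.Agent.Helper13.ToAbExact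

variable {X Y : Scheme.{u}} (f : X ⟶ Y)

lemma enoughInjectives_of_hasInjectiveResolutions {C : Type u'} [Category.{v'} C] [Abelian C]
    [HasInjectiveResolutions C] : EnoughInjectives C where
  presentation Z := by
    obtain ⟨⟨I⟩⟩ := (inferInstance : HasInjectiveResolution Z)
    exact ⟨⟨I.cocomplex.X 0, inferInstance,
      (HomologicalComplex.singleObjXSelf (ComplexShape.up ℕ) 0 Z).inv ≫ I.ι.f 0, inferInstance⟩⟩

/-- push then forget = forget then push -/
noncomputable def pushToAb : Scheme.Modules.pushforward f ⋙ toAbF Y ≅ toAbF X ⋙ Coh.pushAb f :=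
  NatIso.ofComponents (fun M => Iso.refl _) (by intros; rfl)

theorem main [HasInjectiveResolutions X.Modules] (M : X.Modules) (n : ℕ) :
    Nonempty (Coh.toAb ((Coh.Rpush f n).obj M) ≅ (Coh.RpushAb f n).obj (Coh.toAb M)) := by
  haveI : EnoughInjectives X.Modules := enoughInjectives_of_hasInjectiveResolutions
  obtain ⟨Δm⟩ := Groth.Agent.S16463.result (Scheme.Modules.pushforward f)
  obtain ⟨Δa⟩ := Groth.Agent.S16463.result (Coh.pushAb f)
  let T := postcomp Δm.toCohDeltaFunctor (toAbF Y)
  let T' := precomp (toAbF X) Δa.toCohDeltaFunctor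
  have hT : T.IsUniversal := by
    apply Groth.Agent.S6773.result
    apply effaceable_of_injective
    intro k I hI
    exact Functor.map_isZero (toAbF Y)
      (Functor.isZero_rightDerived_obj_injective_succ (Scheme.Modules.pushforward f) k I)
  have hT' : T'.IsUniversal := by
    apply Groth.Agent.S6773.result
    apply effaceable_of_injective
    intro k I hI
    have hfl : TopCat.Sheaf.IsFlasque (X := X.toTopCat) (Coh.toAb I) := ModFlasque.isFlasque_toAb I
    exact Groth.Agent.Helper24.Flasque.Rpush_succ_isZero f.base k (Coh.toAb I) hfl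
  let e0 : T.F 0 ≅ T'.F 0 :=
    Functor.isoWhiskerRight (Scheme.Modules.pushforward f).rightDerivedZeroIsoSelf (toAbF Y) ≪≫
      pushToAb f ≪≫
      Functor.isoWhiskerLeft (toAbF X) (Coh.pushAb f).rightDerivedZeroIsoSelf.symm
  obtain ⟨e⟩ := iso_of_universal T T' hT hT' e0 n
  exact ⟨e.app M⟩

end Main

end Groth.Agent.Helper13.RpushCmp
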