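import Mathlib
import Groth.Prelude.Def_CohPull
import Groth.Agent.Lib.Helper13.PushEdge
import Groth.Agent.Lib.Helper13.RpushCmp

universe u
open CategoryTheory CategoryTheory.Limits Opposite TopologicalSpace Abelian AlgebraicGeometry

namespace Groth.Agent.Helper13.PushEdgeSch

open Groth.Agent.Helper13.PushEdge

variable {X Y : Scheme.{u}} (f : X ⟶ Y)

lemma theta_counit (G : X.Modules) :
    CohPull.theta f ((Scheme.Modules.pushforward f).obj G) ≫
      (SheafOfModules.toSheaf X.ringCatSheaf).map
        ((Scheme.Modules.pullbackPushforwardAdjunction f).counit.app G) =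
    (CohPull.invPushAdj f.base).counit.app (Coh.toAb G) := by
  apply ((CohPull.invPushAdj f.base).homEquiv _ _).injective
  rw [Adjunction.homEquiv_naturality_right]
  erw [Equiv.apply_symm_apply]
  have h1 : ((CohPull.invPushAdj f.base).homEquiv (Coh.toAb ((Scheme.Modules.pushforward f).obj G))
        (Coh.toAb G)) ((CohPull.invPushAdj f.base).counit.app (Coh.toAb G)) = 𝟙 _ := by
    rw [Adjunction.homEquiv_unit]
    exact (CohPull.invPushAdj f.base).right_triangle_components (Coh.toAb G)
  refine Eq.trans ?_ h1.symm
  have h2 := (Scheme.Modules.pullbackPushforwardAdjunction f).right_triangle_components G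
  have h3 := congrArg (fun t => (SheafOfModules.toSheaf Y.ringCatSheaf).map t) h2
  exact ((SheafOfModules.toSheaf Y.ringCatSheaf).map_comp _ _).symm.trans
    (h3.trans ((SheafOfModules.toSheaf Y.ringCatSheaf).map_id _))

theorem pushEdge_eq (G : X.Modules) (p : ℕ) (x : Coh.HH Y ((Scheme.Modules.pushforward f).obj G) p) :
    CohPull.pushEdge f G p x = edgeAb f.base (Coh.toAb G) p x := by
  show Sheaf.H.map _ p (Sheaf.H.map _ p _) = Sheaf.H.map _ p _
  rw [← Sheaf.H.map_comp_apply, theta_counit]
  rfl

theorem pushEdge_bijective (G : X.Modules) (p : ℕ)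
    (h : ∀ q : ℕ, IsZero ((Coh.RpushAb f (q + 1)).obj (Coh.toAb G))) :
    Function.Bijective (CohPull.pushEdge f G p) := by
  have := edgeAb_bijective f.base p (Coh.toAb G) h
  have e : (CohPull.pushEdge f G p : _ → _) = edgeAb f.base (Coh.toAb G) p := by
    funext x
    exact pushEdge_eq f G p x
  rw [e]
  exact this

end Groth.Agent.Helper13.PushEdgeSch
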