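import Mathlib
import Groth.Prelude.Def_Coh
import Groth.Prelude.Def_Canon
import Groth.Agent.Lib.Helper13.PushEdgeSch

universe u
open CategoryTheory CategoryTheory.Limits AlgebraicGeometry Opposite TopologicalSpace

namespace Groth.Agent.Helper13.FinProj

open Groth.Agent.Helper13.PushEdge Groth.Agent.Helper13.PushEdgeSch

variable {X Y : Scheme.{u}} (f : X ⟶ Y)

/-- multiplication by a global function of the base on a direct image. -/
theorem push_map_smulAb (G : X.Modules) (c : Coh.Γtop Y) :
    (CohTop.push f.base).map (Coh.smulAb G (f.appTop.hom c)) =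
      Coh.smulAb ((Scheme.Modules.pushforward f).obj G) c := by
  ext U m
  change (Coh.smulAb G (f.appTop.hom c)).hom.app (op ((Opens.map f.base).obj U.unop)) m =
    (Coh.smulAb ((Scheme.Modules.pushforward f).obj G) c).hom.app U m
  rw [Coh.smulAb_app, Coh.smulAb_app]
  have key : (Coh.resTop X (op ((Opens.map f.base).obj (unop U)))) (f.appTop.hom c) =
      (f.app U.unop).hom (Coh.resTop Y U c) := by
    have := f.naturality (homOfLE (le_top (a := U.unop))).op
    have h2 := congrArg (fun k => k.hom c) this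
    exact h2.symm
  rw [key]
  rfl

theorem pushEdge_smul (G : X.Modules) (p : ℕ) (c : Coh.Γtop Y)
    (x : Coh.HH Y ((Scheme.Modules.pushforward f).obj G) p) :
    CohPull.pushEdge f G p
        (Sheaf.H.map (Coh.smulAb ((Scheme.Modules.pushforward f).obj G) c) p x) =
      Sheaf.H.map (Coh.smulAb G (f.appTop.hom c)) p (CohPull.pushEdge f G p x) := by
  rw [pushEdge_eq, pushEdge_eq, ← push_map_smulAb]
  exact edgeAb_natural f.base (Coh.smulAb G (f.appTop.hom c)) p x

section Over

variable (A : Type u) [CommRing A] [X.Over (Spec (CommRingCat.of A))]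
  [Y.Over (Spec (CommRingCat.of A))]
  (hf : f ≫ (Y ↘ Spec (CommRingCat.of A)) = X ↘ Spec (CommRingCat.of A))

include hf in
theorem toGlobal_comp (a : A) :
    Coh.toGlobal (X ↘ Spec (CommRingCat.of A)) a =
      f.appTop.hom (Coh.toGlobal (Y ↘ Spec (CommRingCat.of A)) a) := by
  unfold Coh.toGlobal
  rw [← hf, Scheme.Hom.comp_appTop]
  rfl

/-- the edge map as a linear map. -/
noncomputable def pushEdgeLin (G : X.Modules) (p : ℕ) :
    Coh.HH Y ((Scheme.Modules.pushforward f).obj G) p →ₗ[A] Coh.HH X G p where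
  toFun := CohPull.pushEdge f G p
  map_add' := map_add _
  map_smul' a x := by
    change CohPull.pushEdge f G p (Sheaf.H.map (Coh.smulAb _
      (Coh.toGlobal (Y ↘ Spec (CommRingCat.of A)) a)) p x) =
      Sheaf.H.map (Coh.smulAb G (Coh.toGlobal (X ↘ Spec (CommRingCat.of A)) a)) p
        (CohPull.pushEdge f G p x)
    rw [pushEdge_smul, toGlobal_comp f A hf]

include hf in
theorem finite_of_push (G : X.Modules) (p : ℕ)
    (h : ∀ q : ℕ, IsZero ((Coh.RpushAb f (q + 1)).obj (Coh.toAb G)))
    [Module.Finite A (Coh.HH Y ((Scheme.Modules.pushforward f).obj G) p)] :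
    Module.Finite A (Coh.HH X G p) :=
  Module.Finite.of_surjective (pushEdgeLin f A hf G p) (pushEdge_bijective f G p h).2

include hf in
theorem finite_push_of_finite (G : X.Modules) (p : ℕ)
    (h : ∀ q : ℕ, IsZero ((Coh.RpushAb f (q + 1)).obj (Coh.toAb G)))
    [Module.Finite A (Coh.HH X G p)] :
    Module.Finite A (Coh.HH Y ((Scheme.Modules.pushforward f).obj G) p) := by
  let e : Coh.HH Y ((Scheme.Modules.pushforward f).obj G) p ≃ₗ[A] Coh.HH X G p :=
    LinearEquiv.ofBijective (pushEdgeLin f A hf G p) (pushEdge_bijective f G p h)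
  exact Module.Finite.equiv e.symm

end Over

end Groth.Agent.Helper13.FinProj
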