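import Mathlib
import Groth.Prelude.Def_CohSite
import Groth.Prelude.Def_CohTop
import Groth.Prelude.Def_CechEdge
import Groth.Agent.Lib.Helper13.DeltaPsh
import Groth.Agent.Lib.Helper24.KillClass
import Groth.Agent.Lib.Helper24.Flasque
import Groth.Agent.S6773

universe u
set_option linter.unusedSectionVars false
open CategoryTheory CategoryTheory.Limits Opposite TopologicalSpace

namespace Groth.Agent.Helper13.RestrCoh

open Groth.Agent.Helper24.CechH Groth.Agent.Helper24.CechEdgeLib Groth.Agent.Helper24.KillClass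
  Groth.Agent.Helper13.DeltaPsh

variable {X : TopCat.{u}} (U : Opens X)

/-- the inclusion `U ⟶ X` -/
abbrev incl : TopCat.of U ⟶ X := TopCat.ofHom ⟨Subtype.val, continuous_subtype_val⟩

lemma incl_isOpenEmbedding : Topology.IsOpenEmbedding (incl U).hom := U.isOpenEmbedding

/-- the inclusion functor `Opens U ⥤ Opens X` -/
abbrev jU : Opens (TopCat.of U) ⥤ Opens X := (incl_isOpenEmbedding U).isOpenMap.functor

instance : (jU U).IsContinuous (Opens.grothendieckTopology (TopCat.of U)) (Opens.grothendieckTopology X) :=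
  (incl_isOpenEmbedding U).functor_isContinuous

instance : (jU U).IsCocontinuous (Opens.grothendieckTopology (TopCat.of U))
    (Opens.grothendieckTopology X) := by
  rw [((incl_isOpenEmbedding U).isOpenMap.adjunction).isCocontinuous_iff_coverPreserving]
  exact coverPreserving_opens_map _

example : CohTop.restrFunctor U = CohSite.push _ _ (jU U) := rfl

instance : PreservesFiniteLimits (CohTop.restrFunctor (X := X) U) :=
  inferInstanceAs (PreservesFiniteLimits (CohSite.push _ _ (jU U)))

instance : PreservesFiniteColimits (CohTop.restrFunctor (X := X) U) := by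
  have : (CohSite.push (Opens.grothendieckTopology X) (Opens.grothendieckTopology (TopCat.of U))
      (jU U)).IsLeftAdjoint :=
    ((jU U).sheafAdjunctionCocontinuous AddCommGrpCat.{u} _ _).isLeftAdjoint
  exact inferInstanceAs (PreservesFiniteColimits (CohSite.push _ _ (jU U)))

lemma isFlasque_restr (F : CohTop.Ab X) [hF : TopCat.Sheaf.IsFlasque F] :
    TopCat.Sheaf.IsFlasque (CohTop.restr F U) where
  epi {V W} i := by
    show Epi (F.obj.map ((jU U).op.map i))
    infer_instance

/-- the constant sheaf `ℤ` on `U` -/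
noncomputable abbrev constZ : CohTop.Ab (TopCat.of U) :=
  (constantSheaf (Opens.grothendieckTopology (TopCat.of U)) AddCommGrpCat.{u}).obj
    (AddCommGrpCat.of (ULift ℤ))

/-- `F ↦ H^n(U, F|_U)` as a δ-functor -/
noncomputable abbrev TR : DeltaF.CohDeltaFunctor (CohTop.Ab X) AddCommGrpCat.{u} ℕ :=
  comap (CohTop.restrFunctor U) (extDelta (constZ U))

/-- `F ↦ H^n(U, F)` as a δ-functor -/
noncomputable abbrev TU : DeltaF.CohDeltaFunctor (CohTop.Ab X) AddCommGrpCat.{u} ℕ :=
  extDelta (CohCx.freeSheaf (Opens.grothendieckTopology X) U)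

lemma TU_universal : (TU U).IsUniversal := by
  apply Groth.Agent.S6773.result
  apply effaceable_of_injective
  intro n I hI
  have : Subsingleton (Abelian.Ext (CohCx.freeSheaf (Opens.grothendieckTopology X) U) I (n + 1)) :=
    Abelian.Ext.subsingleton_of_injective _ _ n
  exact AddCommGrpCat.isZero_of_subsingleton
    (AddCommGrpCat.of (Abelian.Ext (CohCx.freeSheaf (Opens.grothendieckTopology X) U) I (n + 1)))

lemma TR_universal : (TR U).IsUniversal := by
  apply Groth.Agent.S6773.result
  apply effaceable_of_injective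
  intro n I hI
  have h1 : TopCat.Sheaf.IsFlasque I := Groth.Agent.Helper24.Flasque.isFlasque_of_injective I
  have h2 := isFlasque_restr U I
  have : Subsingleton (CohTop.H (CohTop.restr I U) (n + 1)) :=
    Groth.Agent.Helper24.Flasque.H_succ_subsingleton n _ h2
  exact AddCommGrpCat.isZero_of_subsingleton (AddCommGrpCat.of (CohTop.H (CohTop.restr I U) (n + 1)))

lemma jU_top : (jU U).obj ⊤ = U := U.isOpenEmbedding_obj_top

/-- sections over `U` are global sections of the restriction -/
noncomputable def secEquiv (F : CohTop.Ab X) :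
    F.obj.obj (op U) ≃+ (CohTop.restr F U).obj.obj (op ⊤) :=
  (F.obj.mapIso (eqToIso (congrArg op (jU_top U).symm))).addCommGroupIsoToAddEquiv

lemma secEquiv_apply (F : CohTop.Ab X) (s : F.obj.obj (op U)) :
    secEquiv U F s = (F.obj.map (eqToHom (congrArg op (jU_top U).symm))).hom s := rfl

lemma secEquiv_naturality {F G : CohTop.Ab X} (φ : F ⟶ G) (s : F.obj.obj (op U)) :
    (((CohTop.restrFunctor U).map φ).hom.app (op ⊤)).hom (secEquiv U F s) =
      secEquiv U G ((φ.hom.app (op U)).hom s) := by
  rw [secEquiv_apply, secEquiv_apply]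
  exact congrArg (fun m => m.hom s) (φ.hom.naturality (eqToHom (congrArg op (jU_top U).symm)))

/-- degree-zero comparison -/
noncomputable def e0Equiv (F : CohTop.Ab X) : CohTop.HU F 0 U ≃+ CohTop.H (CohTop.restr F U) 0 :=
  ((CechEdge.sectH0 (Opens.grothendieckTopology X) U F).symm.trans (secEquiv U F)).trans
    (Sheaf.H.equiv₀ (CohTop.restr F U) (T := (⊤ : Opens (TopCat.of U))) isTerminalTop).symm

noncomputable def e0 : (TU U).F 0 ≅ (TR U).F 0 :=
  NatIso.ofComponents (fun F => (e0Equiv U F).toAddCommGrpIso) (fun {F G} φ => by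
    ext x
    obtain ⟨s, rfl⟩ := (CechEdge.sectH0 (Opens.grothendieckTopology X) U F).surjective x
    have h1 := sectH0_naturality (Opens.grothendieckTopology X) φ U s
    have h2 := Sheaf.H.equiv₀_symm_naturality (T := (⊤ : Opens (TopCat.of U))) isTerminalTop
      ((CohTop.restrFunctor U).map φ) (secEquiv U F s)
    rw [secEquiv_naturality] at h2
    show e0Equiv U G (CechEdge.HUmap φ 0 U (CechEdge.sectH0 _ U F s)) =
      Sheaf.H.map ((CohTop.restrFunctor U).map φ) 0 (e0Equiv U F (CechEdge.sectH0 _ U F s))
    rw [h1]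
    simp only [e0Equiv, AddEquiv.trans_apply, AddEquiv.symm_apply_apply]
    exact h2.symm)

theorem main (F : CohTop.Ab X) (n : ℕ) :
    Nonempty (CohTop.HU F n U ≃+ CohTop.H (CohTop.restr F U) n) := by
  obtain ⟨e⟩ := iso_of_universal (TU U) (TR U) (TU_universal U) (TR_universal U) (e0 U) n
  exact ⟨(e.app F).addCommGroupIsoToAddEquiv⟩

end Groth.Agent.Helper13.RestrCoh
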