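import Mathlib
import Groth.Agent.S0028
import Groth.Agent.Lib.Helper6.BCTwC
import Groth.Agent.Lib.Helper17.QP5
import Groth.Agent.Lib.Helper9.AffStrat
import Groth.Agent.Lib.Helper13.PushEdgeSch
import Groth.Agent.Lib.Helper13.RestrCoh
import Groth.Agent.Lib.Helper13.RpushShf
import Groth.Agent.Lib.Helper13.ShfZero
import Groth.Agent.Lib.Helper13.PbInv
import Groth.Agent.Lib.Helper13.InvQCoh
import Groth.Agent.Lib.Helper26.PnTwist

/-!
# `P^n_Y` over an affine open of `Y` is `P^n_R`, compatibly with the twisting sheaves (helper13)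

* `gmap_pullback_twist`: the pullback of `O(d)` along `P^n_R → P^n_ℤ` is `O(d)`;
* `HH_subsingleton_of_iso_scheme`, `HU_subsingleton_of_openImmersion`: transfer of vanishing of
  cohomology along isomorphisms and open immersions of schemes;
* `isZero_RpushAb_twistOver`: `R^i pr_* O(d) = 0` on `P^n_Y` as soon as `H^i(P^n_R, O(d)) = 0` for
  all rings `R`.
-/

set_option autoImplicit false
set_option linter.unusedSectionVars false
set_option linter.style.haveILetI false
universe u
open CategoryTheory CategoryTheory.Limits AlgebraicGeometry Opposite TopologicalSpace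

namespace Groth.Agent.Helper13.PnOverLoc

open Groth.Agent.Helper17.QP

section Twist

variable (n : ℕ) (R : Type u) [CommRing R]

attribute [local instance] MvPolynomial.algebraMvPolynomial

/-- `gmap^* O_ℤ(d) ≅ O_R(d)`. -/
theorem gmap_pullback_twist (d : ℤ) :
    Nonempty ((Scheme.Modules.pullback (gmap n R)).obj (Twist.twistProjSpace n (ULift.{u} ℤ) d) ≅
      Twist.twistProjSpace n R d) := by
  letI : Algebra (ULift.{u} ℤ) R := (rho R).toAlgebra
  exact Groth.Agent.Helper6.BCTw.nonempty_iso_twist (R' := ULift.{u} ℤ) (R := R)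
    (CohB1.polyGrading n (ULift.{u} ℤ)) (CohB1.polyGrading n R) (gradedMap n R)
    (fun b => rfl) (irrelevant_le_map n R) d

end Twist

section Transfer

/-- the range of the first projection of a pullback square of schemes. -/
theorem range_fst_of_isPullback {P X Y Z : Scheme.{u}} {fst : P ⟶ X} {snd : P ⟶ Y}
    {f : X ⟶ Z} {g : Y ⟶ Z} (h : IsPullback fst snd f g) :
    Set.range fst = f ⁻¹' Set.range g := by
  have h1 : h.isoPullback.hom ≫ pullback.fst f g = fst := h.isoPullback_hom_fst
  have h2 : h.isoPullback.inv ≫ fst = pullback.fst f g := h.isoPullback_inv_fst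
  rw [← Scheme.Pullback.range_fst]
  ext x
  constructor
  · rintro ⟨y, rfl⟩
    exact ⟨h.isoPullback.hom y, congrArg (fun k : P ⟶ X => k y) h1⟩
  · rintro ⟨y, rfl⟩
    exact ⟨h.isoPullback.inv y, congrArg (fun k : pullback f g ⟶ X => k y) h2⟩

/-- for an isomorphism `e`, `e.inv_* G ≅ e.hom^* G`. -/
noncomputable def pushInvIsoPull {X' X : Scheme.{u}} (e : X' ≅ X) (G : X.Modules) :
    (Scheme.Modules.pushforward e.inv).obj G ≅ (Scheme.Modules.pullback e.hom).obj G :=
  (asIso ((Scheme.Modules.pullbackPushforwardAdjunction e.hom).counit.app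
    ((Scheme.Modules.pushforward e.inv).obj G))).symm ≪≫
    (Scheme.Modules.pullback e.hom).mapIso
      ((Scheme.Modules.pushforwardComp e.inv e.hom).app G ≪≫
        (Scheme.Modules.pushforwardCongr e.inv_hom_id).app G ≪≫
        (Scheme.Modules.pushforwardId X).app G)

/-- vanishing of cohomology transfers along an isomorphism of schemes. -/
theorem HH_subsingleton_of_iso_scheme {X' X : Scheme.{u}} (e : X' ≅ X) (G : X.Modules)
    [G.IsQuasicoherent] (i : ℕ)
    (h : Subsingleton (Coh.HH X' ((Scheme.Modules.pullback e.hom).obj G) i)) :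
    Subsingleton (Coh.HH X G i) := by
  haveI : Coh.IsQCoh G := ‹G.IsQuasicoherent›
  have h1 : Subsingleton (Coh.HH X' ((Scheme.Modules.pushforward e.inv).obj G) i) :=
    Groth.Agent.Helper9.AffStrat.HH_subsingleton_of_iso (pushInvIsoPull e G) i h
  have hb := Groth.Agent.Helper13.PushEdgeSch.pushEdge_bijective e.inv G i
    (fun q => Groth.Agent.S0028.result e.inv G (q + 1) (Nat.succ_pos q))
  exact hb.surjective.subsingleton

/-- vanishing of cohomology over the range of an open immersion from vanishing on the source. -/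
theorem HU_subsingleton_of_openImmersion {X' X : Scheme.{u}} (j : X' ⟶ X) [IsOpenImmersion j]
    (M : X.Modules) [M.IsQuasicoherent] (i : ℕ) (W : X.Opens) (hW : Set.range j = (W : Set X))
    (h : Subsingleton (Coh.HH X' ((Scheme.Modules.pullback j).obj M) i)) :
    Subsingleton (CohTop.HU (X := X.toTopCat) (Coh.toAb M) i W) := by
  have hW' : j.opensRange = W := Opens.ext (by rw [Scheme.Hom.coe_opensRange]; exact hW)
  subst hW'
  have he : j.isoOpensRange.hom ≫ j.opensRange.ι = j := j.isoOpensRange_hom_ι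
  haveI : (M.restrict j.opensRange.ι).IsQuasicoherent :=
    inferInstanceAs ((Scheme.Modules.restrictFunctor j.opensRange.ι).obj M).IsQuasicoherent
  have h2 : Subsingleton (Coh.HH (j.opensRange : Scheme.{u}) (M.restrict j.opensRange.ι) i) := by
    refine HH_subsingleton_of_iso_scheme j.isoOpensRange _ i ?_
    let φ : (Scheme.Modules.pullback j.isoOpensRange.hom).obj (M.restrict j.opensRange.ι) ≅
        (Scheme.Modules.pullback j).obj M :=
      (Scheme.Modules.pullback j.isoOpensRange.hom).mapIso
        ((Scheme.Modules.restrictFunctorIsoPullback j.opensRange.ι).app M) ≪≫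
      (Scheme.Modules.pullbackComp j.isoOpensRange.hom j.opensRange.ι).app M ≪≫
      (Scheme.Modules.pullbackCongr he).app M
    exact Groth.Agent.Helper9.AffStrat.HH_subsingleton_of_iso φ i h
  obtain ⟨e₃⟩ := Groth.Agent.Helper13.RestrCoh.main (X := X.toTopCat) j.opensRange (Coh.toAb M) i
  exact @Function.Injective.subsingleton _ _ _ e₃.injective h2

end Transfer

section Main

variable (Y : Scheme.{u}) (r : ℕ) (d : ℤ)

theorem isInvertible_twistOver : PicF.IsInvertible (Twist.twistOver r Y d) :=
  Groth.Agent.Helper13.PbInv.isInvertible_pullback _ _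
    (Groth.Agent.Helper26.PnTwist.isInvertible_twist r (ULift.{u} ℤ) d)

instance isQuasicoherent_twistOver : (Twist.twistOver r Y d).IsQuasicoherent :=
  Groth.Agent.Helper13.Inv.isQuasicoherent_of_isInvertible _ (isInvertible_twistOver Y r d)

/-- over an affine open `V` of `Y`, cohomology of `O(d)` on `P^r_Y` is that of `O(d)` on
`P^r_{Γ(Y,V)}`. -/
theorem HU_twistOver_subsingleton (i : ℕ)
    (hvan : ∀ (R : Type u) [CommRing R],
      Subsingleton (Coh.HH (CohB1.ProjSpace r R) (Twist.twistProjSpace r R d) i))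
    (V : Y.Opens) (hV : IsAffineOpen V) :
    Subsingleton (CohTop.HU (X := (CohB1.ProjSpaceOver r Y).toTopCat)
      (Coh.toAb (Twist.twistOver r Y d)) i (CohB1.ProjSpaceOver.toBase r Y ⁻¹ᵁ V)) := by
  let A : Type u := Γ(Y, V)
  let φ : Spec (CommRingCat.of A) ⟶ Y := hV.fromSpec
  haveI : IsOpenImmersion φ := inferInstanceAs (IsOpenImmersion hV.fromSpec)
  have t : IsPullback
      (pullback.fst (CohB1.ProjSpace.toSpec r (ULift.{u} ℤ)) (specULiftZIsTerminal.from Y))
      (pullback.snd (CohB1.ProjSpace.toSpec r (ULift.{u} ℤ)) (specULiftZIsTerminal.from Y))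
      (CohB1.ProjSpace.toSpec r (ULift.{u} ℤ)) (specULiftZIsTerminal.from Y) :=
    IsPullback.of_hasPullback _ _
  have hs : IsPullback (gmap r A) (CohB1.ProjSpace.toSpec r A)
      (CohB1.ProjSpace.toSpec r (ULift.{u} ℤ)) (φ ≫ specULiftZIsTerminal.from Y) := by
    have h0 := projSpace_isPullback r A
    rw [show Spec.map (CommRingCat.ofHom (rho A)) = φ ≫ specULiftZIsTerminal.from Y from
      specULiftZIsTerminal.hom_ext _ _] at h0
    exact h0
  have sq := IsPullback.of_right' hs t
  let j : CohB1.ProjSpace r A ⟶ CohB1.ProjSpaceOver r Y :=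
    t.lift (gmap r A) (CohB1.ProjSpace.toSpec r A ≫ φ) (hs.w.trans (Category.assoc _ _ _).symm)
  have hjfst : j ≫ pullback.fst (CohB1.ProjSpace.toSpec r (ULift.{u} ℤ))
      (specULiftZIsTerminal.from Y) = gmap r A := t.lift_fst _ _ _
  haveI hopen : IsOpenImmersion j :=
    MorphismProperty.of_isPullback (P := @IsOpenImmersion) sq.flip inferInstance
  have hrange : Set.range j =
      ((CohB1.ProjSpaceOver.toBase r Y ⁻¹ᵁ V : (CohB1.ProjSpaceOver r Y).Opens) :
        Set (CohB1.ProjSpaceOver r Y)) := by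
    have h1 := range_fst_of_isPullback sq
    have h2 : Set.range φ = (V : Set Y) := hV.range_fromSpec
    rw [h2] at h1
    exact h1
  refine HU_subsingleton_of_openImmersion j (Twist.twistOver r Y d) i _ hrange ?_
  obtain ⟨ε⟩ := gmap_pullback_twist r A d
  let ψ : (Scheme.Modules.pullback j).obj (Twist.twistOver r Y d) ≅ Twist.twistProjSpace r A d :=
    (Scheme.Modules.pullbackComp j (pullback.fst (CohB1.ProjSpace.toSpec r (ULift.{u} ℤ))
      (specULiftZIsTerminal.from Y))).app (Twist.twistProjSpace r (ULift.{u} ℤ) d) ≪≫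
    (Scheme.Modules.pullbackCongr hjfst).app _ ≪≫ ε
  exact Groth.Agent.Helper9.AffStrat.HH_subsingleton_of_iso ψ i (hvan A)

/-- `R^i pr_* O(d) = 0` on `P^r_Y` whenever `H^i(P^r_R, O(d)) = 0` for all rings `R`. -/
theorem isZero_RpushAb_twistOver (i : ℕ)
    (hvan : ∀ (R : Type u) [CommRing R],
      Subsingleton (Coh.HH (CohB1.ProjSpace r R) (Twist.twistProjSpace r R d) i)) :
    IsZero ((Coh.RpushAb (CohB1.ProjSpaceOver.toBase r Y) i).obj
      (Coh.toAb (Twist.twistOver r Y d))) := by
  obtain ⟨e⟩ := Groth.Agent.Helper13.RpushShf.main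
    (Opens.grothendieckTopology (CohB1.ProjSpaceOver r Y))
    (Opens.grothendieckTopology Y)
    (TopologicalSpace.Opens.map (CohB1.ProjSpaceOver.toBase r Y).base)
    (Coh.toAb (Twist.twistOver r Y d)) i
  refine IsZero.of_iso ?_ e
  refine Groth.Agent.Helper13.ShfZero.isZero_presheafToSheaf_of_basis (Y := Y.toTopCat) _
    {U | IsAffineOpen U} Y.isBasis_affineOpens ?_
  intro W hW
  exact HU_twistOver_subsingleton Y r d i hvan W hW

end Main

end Groth.Agent.Helper13.PnOverLoc
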