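import Mathlib
import Groth.Agent.Lib.Helper13.PnOverLoc

/-!
# The canonical map `P^r_A → P^r_Y` attached to `Spec A → Y` (helper13)

For `φ : Spec A ⟶ Y` the base change `jmap r A φ : P^r_A ⟶ P^r_Y` of `φ`, compatible with the
twisting sheaves; an open immersion (resp. isomorphism) when `φ` is.
-/

set_option autoImplicit false
set_option linter.unusedSectionVars false
set_option linter.style.haveILetI false
universe u
open CategoryTheory CategoryTheory.Limits AlgebraicGeometry Opposite TopologicalSpace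

namespace Groth.Agent.Helper13.PnOverMap

open Groth.Agent.Helper17.QP Groth.Agent.Helper13.PnOverLoc

variable {Y : Scheme.{u}} (r : ℕ) (A : Type u) [CommRing A] (φ : Spec (CommRingCat.of A) ⟶ Y)

lemma isPullback_gmap : IsPullback (gmap r A) (CohB1.ProjSpace.toSpec r A)
    (CohB1.ProjSpace.toSpec r (ULift.{u} ℤ)) (φ ≫ specULiftZIsTerminal.from Y) := by
  have h0 := projSpace_isPullback r A
  rw [show Spec.map (CommRingCat.ofHom (rho A)) = φ ≫ specULiftZIsTerminal.from Y from
    specULiftZIsTerminal.hom_ext _ _] at h0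
  exact h0

lemma isPullback_over : IsPullback
    (pullback.fst (CohB1.ProjSpace.toSpec r (ULift.{u} ℤ)) (specULiftZIsTerminal.from Y))
    (CohB1.ProjSpaceOver.toBase r Y)
    (CohB1.ProjSpace.toSpec r (ULift.{u} ℤ)) (specULiftZIsTerminal.from Y) :=
  IsPullback.of_hasPullback _ _

/-- the base change `P^r_A ⟶ P^r_Y` of `φ : Spec A ⟶ Y`. -/
noncomputable def jmap : CohB1.ProjSpace r A ⟶ CohB1.ProjSpaceOver r Y :=
  (isPullback_over (Y := Y) r).lift (gmap r A) (CohB1.ProjSpace.toSpec r A ≫ φ)
    ((isPullback_gmap r A φ).w.trans (Category.assoc _ _ _).symm)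

lemma jmap_fst : jmap r A φ ≫
    pullback.fst (CohB1.ProjSpace.toSpec r (ULift.{u} ℤ)) (specULiftZIsTerminal.from Y) =
      gmap r A :=
  (isPullback_over (Y := Y) r).lift_fst _ _ _

lemma jmap_snd : jmap r A φ ≫ CohB1.ProjSpaceOver.toBase r Y = CohB1.ProjSpace.toSpec r A ≫ φ :=
  (isPullback_over (Y := Y) r).lift_snd _ _ _

lemma isPullback_jmap : IsPullback (jmap r A φ) (CohB1.ProjSpace.toSpec r A)
    (CohB1.ProjSpaceOver.toBase r Y) φ :=
  IsPullback.of_right' (isPullback_gmap r A φ) (isPullback_over (Y := Y) r)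

instance isOpenImmersion_jmap [IsOpenImmersion φ] : IsOpenImmersion (jmap r A φ) :=
  MorphismProperty.of_isPullback (P := @IsOpenImmersion) (isPullback_jmap r A φ).flip inferInstance

instance isIso_jmap [IsIso φ] : IsIso (jmap r A φ) :=
  MorphismProperty.of_isPullback (P := MorphismProperty.isomorphisms Scheme.{u})
    (isPullback_jmap r A φ).flip (inferInstanceAs (IsIso φ))

lemma range_jmap : Set.range (jmap r A φ) = (CohB1.ProjSpaceOver.toBase r Y) ⁻¹' (Set.range φ) :=
  range_fst_of_isPullback (isPullback_jmap r A φ)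

/-- `jmap^* O_Y(d) ≅ O_A(d)`. -/
theorem jmap_pullback_twist (d : ℤ) :
    Nonempty ((Scheme.Modules.pullback (jmap r A φ)).obj (Twist.twistOver r Y d) ≅
      Twist.twistProjSpace r A d) := by
  obtain ⟨ε⟩ := gmap_pullback_twist r A d
  exact ⟨(Scheme.Modules.pullbackComp (jmap r A φ)
      (pullback.fst (CohB1.ProjSpace.toSpec r (ULift.{u} ℤ))
        (specULiftZIsTerminal.from Y))).app (Twist.twistProjSpace r (ULift.{u} ℤ) d) ≪≫
    (Scheme.Modules.pullbackCongr (jmap_fst r A φ)).app _ ≪≫ ε⟩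

end Groth.Agent.Helper13.PnOverMap
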