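import Mathlib
import Groth.Agent.Lib.Helper13.PnFin1

/-!
# `H^i(P^n_R, M)` is finite for coherent `M`, from the computation of `H^q(P^n_R, O(d))` (helper13)
-/

set_option autoImplicit false
set_option linter.unusedSectionVars false
set_option linter.style.haveILetI false
universe u
open CategoryTheory CategoryTheory.Limits AlgebraicGeometry Opposite TopologicalSpace

namespace Groth.Agent.Helper13.PnFin

variable (n : ℕ) (R : Type u) [CommRing R]

instance finite_homogeneousSubmodule (d : ℕ) :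
    Module.Finite R ↥(MvPolynomial.homogeneousSubmodule (Fin (n + 1)) R d) :=
  Module.Finite.iff_fg.2 (MvPolynomial.homogeneousSubmodule_fg (σ := Fin (n + 1)) (R := R) d)

/-- finiteness of all `H^q(P^n_R, O(d))` from the three computations. -/
theorem finite_HH_twist
    (h0 : ∀ d : ℕ, Nonempty (Coh.HH (CohB1.ProjSpace n R) (Twist.twistProjSpace n R (d : ℤ)) 0 ≃ₗ[R]
      ↥(MvPolynomial.homogeneousSubmodule (Fin (n + 1)) R d)))
    (hmid : ∀ (d : ℤ) (q : ℕ), ¬ (q = 0 ∧ 0 ≤ d) → ¬ (q = n ∧ d ≤ -((n : ℤ) + 1)) →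
      Subsingleton (Coh.HH (CohB1.ProjSpace n R) (Twist.twistProjSpace n R d) q))
    (htop : ∀ k : ℕ, Nonempty (Coh.HH (CohB1.ProjSpace n R)
      (Twist.twistProjSpace n R (-((n : ℤ) + 1 + k))) n ≃ₗ[R]
      ↥(MvPolynomial.homogeneousSubmodule (Fin (n + 1)) R k)))
    (d : ℤ) (q : ℕ) :
    Module.Finite R (Coh.HH (CohB1.ProjSpace n R) (Twist.twistProjSpace n R d) q) := by
  by_cases hA : q = 0 ∧ 0 ≤ d
  · obtain ⟨rfl, hd⟩ := hA
    obtain ⟨k, rfl⟩ := Int.eq_ofNat_of_zero_le hd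
    obtain ⟨e⟩ := h0 k
    exact Module.Finite.equiv e.symm
  · by_cases hB : q = n ∧ d ≤ -((n : ℤ) + 1)
    · obtain ⟨rfl, hd⟩ := hB
      obtain ⟨k, hk⟩ := Int.eq_ofNat_of_zero_le (show 0 ≤ -((q : ℤ) + 1) - d by omega)
      have hd' : d = -((q : ℤ) + 1 + k) := by omega
      subst hd'
      obtain ⟨e⟩ := htop k
      exact Module.Finite.equiv e.symm
    · haveI := hmid d q hA hB
      exact Module.Finite.of_finite

end Groth.Agent.Helper13.PnFin
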