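import Mathlib
import Groth.Agent.Lib.Helper13.FinProj1
import Groth.Agent.Lib.Helper13.PnOverMap
import Groth.Agent.Lib.Helper13.AmpleQA
import Groth.Agent.Lib.Helper13.PushFinite
import Groth.Agent.S1496
import Groth.Agent.S0038
import Groth.Agent.S0028

universe u
open CategoryTheory CategoryTheory.Limits AlgebraicGeometry Opposite TopologicalSpace

namespace Groth.Agent.Helper13.FinProj

theorem exists_isAmple_of_isAffine (S : Scheme.{u}) [IsAffine S] :
    ∃ N : S.Modules, CohB1.IsAmple N :=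
  ⟨_, Groth.Agent.Helper13.GenLoc.isAmple_of_isQuasiAffine _
    Groth.Agent.Helper13.Inv.isInvertible_structureModule⟩

theorem isCoh_push_closed {X Z : Scheme.{u}} (i : Z ⟶ X) [IsClosedImmersion i] (M : Z.Modules)
    (hM : Coh.IsCoh M) : Coh.IsCoh ((Scheme.Modules.pushforward i).obj M) := by
  haveI : M.IsQuasicoherent := hM.1
  haveI : SheafOfModules.IsFiniteType (R := Z.ringCatSheaf) M := hM.2
  exact ⟨Groth.Agent.Helper13.QCohPush.isQuasicoherent_pushforward i M,
    (Groth.Agent.Helper13.PushFinite.isFiniteType_pushforward_iff i M).1 inferInstance⟩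

/-- Finiteness of cohomology for a proper scheme with an ample sheaf over a Noetherian ring. -/
theorem finite_HH_of_isAmple (B : Type u) [CommRing B] [IsNoetherianRing B] (T : Scheme.{u})
    [T.Over (Spec (CommRingCat.of B))] [IsProper (T ↘ Spec (CommRingCat.of B))]
    (L : T.Modules) (hL : CohB1.IsAmple L) (F : T.Modules) (hF : Coh.IsCoh F) (n : ℕ) :
    Module.Finite B (Coh.HH T F n) := by
  have hS := exists_isAmple_of_isAffine (Spec (CommRingCat.of B))
  obtain ⟨n₀, i, hi1, hi2⟩ :=
    ((Groth.Agent.S1496.result hS (T ↘ Spec (CommRingCat.of B))).1).mpr ⟨inferInstance, L, hL⟩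
  haveI := hi1
  let jm := Groth.Agent.Helper13.PnOverMap.jmap (Y := Spec (CommRingCat.of B)) n₀ B (𝟙 _)
  haveI : IsIso jm := Groth.Agent.Helper13.PnOverMap.isIso_jmap n₀ B (𝟙 _)
  let j : T ⟶ CohB1.ProjSpace n₀ B := i ≫ inv jm
  have hjm : inv jm ≫ CohB1.ProjSpace.toSpec n₀ B =
      CohB1.ProjSpaceOver.toBase n₀ (Spec (CommRingCat.of B)) := by
    rw [IsIso.inv_comp_eq]
    have := Groth.Agent.Helper13.PnOverMap.jmap_snd (Y := Spec (CommRingCat.of B)) n₀ B (𝟙 _)
    rw [Category.comp_id] at this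
    exact this.symm
  have hj : j ≫ ((CohB1.ProjSpace n₀ B) ↘ Spec (CommRingCat.of B)) =
      T ↘ Spec (CommRingCat.of B) := by
    show (i ≫ inv jm) ≫ CohB1.ProjSpace.toSpec n₀ B = _
    rw [Category.assoc, hjm]
    exact hi2
  haveI : IsClosedImmersion j := by
    show IsClosedImmersion (i ≫ inv jm)
    infer_instance
  haveI : F.IsQuasicoherent := hF.1
  haveI := Groth.Agent.S0038.result n₀ B ((Scheme.Modules.pushforward j).obj F)
    (isCoh_push_closed j F hF) n
  exact finite_of_push j B hj F n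
    (fun q => Groth.Agent.S0028.result j F (q + 1) (Nat.succ_pos q))

end Groth.Agent.Helper13.FinProj
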