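import Mathlib
import Groth.Prelude.Def_Coh
import Groth.Prelude.Def_CohPull
import Groth.Agent.Lib.Helper13.FinProj2

universe u
open CategoryTheory CategoryTheory.Limits AlgebraicGeometry Opposite TopologicalSpace

namespace Groth.Agent.Helper13.FinProj

variable {X : Scheme.{u}} (F : X.Modules) (U : X.Opens)

theorem sectH0_smul (r : Γ(X, U)) (s : F.val.obj (op U)) :
    CohPull.sectH0 F U (r • s : F.val.obj (op U)) =
      Sheaf.H.map (Coh.smulAb (F.restrict U.ι) (U.topIso.inv.hom r)) 0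
        (CohPull.sectH0 F U s) := by
  unfold CohPull.sectH0
  simp only [AddEquiv.trans_apply]
  rw [Sheaf.H.equiv₀_symm_naturality]
  congr 1
  rw [Coh.smulAb_app]
  have hres : (Coh.resTop (↑U) (op ⊤)) ((CommRingCat.Hom.hom U.topIso.inv) r) =
      U.topIso.inv.hom r := by
    unfold Coh.resTop
    have : (homOfLE (le_top (a := (unop (op (⊤ : (U : Scheme.{u}).Opens)))))).op = 𝟙 _ := rfl
    rw [this, CategoryTheory.Functor.map_id]
    rfl
  rw [hres]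
  have key := PresheafOfModules.map_smul F.val (eqToHom (U.ι_image_top)).op r s
  have h1 : ∀ (a : Γ((U : Scheme.{u}), ⊤)) (m : (F.restrict U.ι).val.obj (op ⊤)),
      a • m = (show F.val.obj (op (U.ι ''ᵁ ⊤)) from
        (((U.ι.appIso ⊤).inv.hom a : Γ(X, U.ι ''ᵁ ⊤)) •
          (show F.val.obj (op (U.ι ''ᵁ ⊤)) from m))) := fun a m => rfl
  refine (Eq.trans ?_ key).trans ?_
  · rfl
  · have h2 : (U.ι.appIso ⊤).inv.hom (U.topIso.inv.hom r) =
        (X.presheaf.map (eqToHom U.ι_image_top).op).hom r := by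
      rw [Scheme.Opens.ι_appIso]; rfl
    exact (congrArg (fun a : Γ(X, U.ι ''ᵁ ⊤) => (show F.val.obj (op (U.ι ''ᵁ ⊤)) from
      a • (show F.val.obj (op (U.ι ''ᵁ ⊤)) from
        (F.val.map (eqToHom U.ι_image_top).op).hom s))) h2.symm).trans
      (h1 (U.topIso.inv.hom r) _).symm

theorem toGlobal_restrict {Z' Z : Scheme.{u}} (g : Z' ⟶ Z) (V : Z.Opens) (b : Γ(Z, V)) :
    Coh.toGlobal (A := Γ(Z, V)) (X := ((g ⁻¹ᵁ V : Z'.Opens) : Scheme.{u}))
      ((g ∣_ V) ≫ V.toSpecΓ) b = ((g ⁻¹ᵁ V).topIso.inv).hom ((g.app V).hom b) := by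
  unfold Coh.toGlobal
  have h0 : (g ∣_ V).appTop = V.topIso.hom ≫ g.app V ≫ (g ⁻¹ᵁ V).topIso.inv := by
    have := Scheme.Hom.resLE_app_top g (U := V) (V := g ⁻¹ᵁ V) le_rfl
    rw [Scheme.Hom.resLE_eq_morphismRestrict, Scheme.Hom.appLE_eq_app] at this
    exact this
  have h1 : ((g ∣_ V) ≫ V.toSpecΓ).appTop =
      (Scheme.ΓSpecIso Γ(Z, V)).hom ≫ g.app V ≫ (g ⁻¹ᵁ V).topIso.inv := by
    rw [Scheme.Hom.comp_appTop, Scheme.Opens.toSpecΓ_appTop, Category.assoc, h0,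
      Iso.inv_hom_id_assoc]
  rw [h1]
  have h2 : (Scheme.ΓSpecIso Γ(Z, V)).hom.hom ((Scheme.ΓSpecIso Γ(Z, V)).inv.hom b) = b := by
    rw [← CommRingCat.comp_apply, Iso.inv_hom_id]
    rfl
  show ((g ⁻¹ᵁ V).topIso.inv).hom ((g.app V).hom
    ((Scheme.ΓSpecIso Γ(Z, V)).hom.hom ((Scheme.ΓSpecIso Γ(Z, V)).inv.hom b))) = _
  rw [h2]

end Groth.Agent.Helper13.FinProj
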