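import Mathlib
import Groth.Agent.Lib.Helper13.FinProj4
import Groth.Agent.Lib.Helper13.FinTypeRestrict
import Groth.Agent.Lib.Helper13.FinAffine2
import Groth.Agent.Lib.Helper13.QCohPush
import Groth.Agent.Lib.Helper13.Qcqs
import Groth.Agent.Lib.Helper13.AmpleRestrict

universe u
open CategoryTheory CategoryTheory.Limits AlgebraicGeometry Opposite TopologicalSpace

namespace Groth.Agent.Helper13.FinProj

set_option maxHeartbeats 800000 in
theorem finite_sections_push {Z' Z : Scheme.{u}} (g : Z' ⟶ Z) [IsProper g]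
    [IsLocallyNoetherian Z] (L : Z'.Modules) (F : Z'.Modules) (hF : Coh.IsCoh F) (V : Z.Opens)
    (hV : IsAffineOpen V) (hamp : CohB1.IsAmple (L.restrict (g ⁻¹ᵁ V).ι)) :
    Module.Finite Γ(Z, V) Γ((Scheme.Modules.pushforward g).obj F, V) := by
  haveI : IsNoetherianRing Γ(Z, V) := IsLocallyNoetherian.component_noetherian ⟨V, hV⟩
  let T : Scheme.{u} := ((g ⁻¹ᵁ V : Z'.Opens) : Scheme.{u})
  let q : T ⟶ Spec (CommRingCat.of Γ(Z, V)) := (g ∣_ V) ≫ V.toSpecΓ
  letI : T.Over (Spec (CommRingCat.of Γ(Z, V))) := ⟨q⟩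
  haveI : IsProper (g ∣_ V) := IsZariskiLocalAtTarget.restrict ‹IsProper g› V
  haveI : IsIso V.toSpecΓ := by rw [← hV.isoSpec_hom]; infer_instance
  haveI : IsProper (T ↘ Spec (CommRingCat.of Γ(Z, V))) := by
    show IsProper ((g ∣_ V) ≫ V.toSpecΓ)
    infer_instance
  haveI := hF.1
  haveI := hF.2
  have hM : Coh.IsCoh (F.restrict (g ⁻¹ᵁ V).ι) :=
    ⟨inferInstance, Groth.Agent.Helper13.FinType.isFiniteType_restrict (g ⁻¹ᵁ V).ι F⟩
  haveI fin := finite_HH_of_isAmple Γ(Z, V) T (L.restrict (g ⁻¹ᵁ V).ι) hamp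
    (F.restrict (g ⁻¹ᵁ V).ι) hM 0
  let Φ : Coh.HH T (F.restrict (g ⁻¹ᵁ V).ι) 0 →ₗ[Γ(Z, V)]
      Γ((Scheme.Modules.pushforward g).obj F, V) :=
    { toFun := fun x => (CohPull.sectH0 F (g ⁻¹ᵁ V)).symm x
      map_add' := fun x y => map_add _ x y
      map_smul' := fun b x => by
        apply (CohPull.sectH0 F (g ⁻¹ᵁ V)).injective
        rw [AddEquiv.apply_symm_apply]
        have h1 := sectH0_smul F (g ⁻¹ᵁ V) ((g.app V).hom b)
          ((CohPull.sectH0 F (g ⁻¹ᵁ V)).symm x)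
        rw [AddEquiv.apply_symm_apply, ← toGlobal_restrict g V b] at h1
        exact h1.symm }
  exact Module.Finite.of_surjective Φ (fun y => ⟨CohPull.sectH0 F (g ⁻¹ᵁ V) y,
    (CohPull.sectH0 F (g ⁻¹ᵁ V)).symm_apply_apply y⟩)

/-- direct images of coherent modules under a proper morphism with a relatively ample module
are coherent. -/
theorem isCoh_pushforward_of_isAmple {Z' Z : Scheme.{u}} (g : Z' ⟶ Z) [IsProper g]
    [IsLocallyNoetherian Z] (L : Z'.Modules)
    (hamp : ∀ V : Z.Opens, IsAffineOpen V → CohB1.IsAmple (L.restrict (g ⁻¹ᵁ V).ι))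
    (F : Z'.Modules) (hF : Coh.IsCoh F) :
    Coh.IsCoh ((Scheme.Modules.pushforward g).obj F) := by
  haveI := hF.1
  haveI := Groth.Agent.Helper13.Qcqs.isQuasicoherent_pushforward_of_qcqs g F
  refine ⟨inferInstance, Groth.Agent.Helper13.FinType.isFiniteType_of_finite_sections _ fun z => ?_⟩
  obtain ⟨_, ⟨V, hV, rfl⟩, hzV, -⟩ :=
    Z.isBasis_affineOpens.exists_subset_of_mem_open (Set.mem_univ z) isOpen_univ
  exact ⟨V, hzV, hV, finite_sections_push g L F hF V hV (hamp V hV)⟩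

theorem isAffineHom_ι_of_isSeparated {S B : Scheme.{u}} (p : S ⟶ B) [IsAffine B] [IsSeparated p]
    (W : S.Opens) (hW : IsAffineOpen W) : IsAffineHom W.ι := by
  haveI : IsAffine (W : Scheme.{u}) := hW
  haveI : IsAffineHom (W.ι ≫ p) := inferInstance
  exact IsAffineHom.of_comp W.ι p

theorem isAmple_restrict_preimage {T S : Scheme.{u}} (f : T ⟶ S) [QuasiCompact f]
    (L : T.Modules) (hL : CohB1.IsAmple L) (W : S.Opens) (hW : IsAffineOpen W)
    [IsAffineHom W.ι] : CohB1.IsAmple (L.restrict (f ⁻¹ᵁ W).ι) := by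
  haveI : IsAffineHom (f ⁻¹ᵁ W).ι :=
    MorphismProperty.of_isPullback (P := @IsAffineHom) (isPullback_morphismRestrict f W)
      inferInstance
  haveI : CompactSpace ((f ⁻¹ᵁ W : T.Opens) : Scheme.{u}) :=
    isCompact_iff_compactSpace.mp (QuasiCompact.isCompact_preimage (f := f) _ W.isOpen hW.isCompact)
  exact Groth.Agent.Helper13.Ample.isAmple_restrict_of_isAffineHom (f ⁻¹ᵁ W).ι L hL

end Groth.Agent.Helper13.FinProj
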