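import Mathlib
import Groth.Agent.S0844
import Groth.Agent.Lib.Helper13.PnFin1
import Groth.Agent.Lib.Helper13.TensorQCoh
import Groth.Agent.Lib.Helper13.QAffAcyc
import Groth.Agent.Lib.Helper9.AffStrat

/-!
# Serre vanishing on projective space over a Noetherian ring (helper13)

For a coherent module `M` on `P^n_R` (`R` Noetherian) there is `N₀` with `H^p(P^n_R, M(d)) = 0`
for all `d ≥ N₀` and all `p > 0`.
-/

set_option autoImplicit false
set_option linter.unusedSectionVars false
set_option linter.style.haveILetI false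
universe u
open CategoryTheory CategoryTheory.Limits AlgebraicGeometry Opposite TopologicalSpace

namespace Groth.Agent.Helper13.PnSerre

open Groth.Agent.Helper13.PnFin

section General

variable {X : Scheme.{u}}

/-- cohomology of the image of a finite coproduct under an additive functor vanishes as soon as
the cohomology of the images of the summands does. -/
theorem subsingleton_sigma (A : Type u) [CommRing A] [X.Over (Spec (CommRingCat.of A))] {m : ℕ} (E : Fin m → X.Modules) (T : X.Modules ⥤ X.Modules)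
    [T.Additive] (p : ℕ) (h : ∀ j, Subsingleton (Coh.HH X (T.obj (E j)) p)) :
    Subsingleton (Coh.HH X (T.obj (∐ E)) p) := by
  classical
  let e : (⨁ E) ≅ ∐ E := biproduct.isoCoproduct E
  let inc : ∀ j, E j ⟶ ∐ E := fun j => biproduct.ι E j ≫ e.hom
  let prj : ∀ j, (∐ E) ⟶ E j := fun j => e.inv ≫ biproduct.π E j
  have htot : ∑ j : Fin m, prj j ≫ inc j = 𝟙 (∐ E) := by
    have h1 : ∀ j, prj j ≫ inc j = e.inv ≫ (biproduct.π E j ≫ biproduct.ι E j) ≫ e.hom := by
      intro j
      simp only [prj, inc, Category.assoc]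
    simp only [h1]
    rw [← Preadditive.comp_sum, ← Preadditive.sum_comp, biproduct.total, Category.id_comp,
      e.inv_hom_id]
  have hT : ∑ j : Fin m, T.map (prj j) ≫ T.map (inc j) = 𝟙 (T.obj (∐ E)) := by
    simp only [← T.map_comp]
    rw [← Functor.map_sum, htot, T.map_id]
  refine subsingleton_of_forall_eq 0 (fun y => ?_)
  have hy : y = ∑ j : Fin m, hstar A (T.map (inc j)) p (hstar A (T.map (prj j)) p y) := by
    have h2 := congrArg (fun φ => hstar A φ p y) hT
    simp only [hstar_sum, hstar_comp, hstar_id, LinearMap.sum_apply, LinearMap.comp_apply,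
      LinearMap.id_apply] at h2
    exact h2.symm
  rw [hy]
  refine Finset.sum_eq_zero (fun j _ => ?_)
  haveI := h j
  rw [Subsingleton.elim (hstar A (T.map (prj j)) p y) 0, map_zero]

end General

section Pn

variable (n : ℕ) (R : Type u) [CommRing R]

open Groth.Agent.Helper13 Groth.Agent.Helper13.Tensor

/-- `H^p(P^n_R, O(d)) = 0` for `p > 0`, `d ≥ 0`. -/
theorem subsingleton_HH_twist (d : ℤ) (hd : 0 ≤ d) (p : ℕ) (hp : 0 < p) :
    Subsingleton (Coh.HH (CohB1.ProjSpace n R) (Twist.twistProjSpace n R d) p) :=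
  Groth.Agent.S0844.result R n d p (by omega) (by omega)

/-- `H^p(P^n_R, (O^m ⊗ O(-N)) ⊗ O(d)) = 0` for `p > 0`, `d ≥ N`. -/
theorem subsingleton_HH_Etw (m N : ℕ) (d : ℤ) (hd : (N : ℤ) ≤ d) (p : ℕ) (hp : 0 < p) :
    Subsingleton (Coh.HH (CohB1.ProjSpace n R)
      (CohB1.tensorMod (Etw n R m N) (Twist.twistProjSpace n R d)) p) := by
  obtain ⟨e1⟩ := Groth.Agent.Helper26.PnTwist.twist_tensor_iso n R (-(N : ℤ)) d
  let ε : CohB1.tensorMod (Etw n R m N) (Twist.twistProjSpace n R d) ≅
      CohB1.tensorMod (FlatMod.freeMod (CohB1.ProjSpace n R) m)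
        (Twist.twistProjSpace n R (-(N : ℤ) + d)) :=
    Tensor.assoc _ _ _ ≪≫ Tensor.mapIso (Iso.refl _) e1
  refine Groth.Agent.Helper9.AffStrat.HH_subsingleton_of_iso ε p ?_
  refine subsingleton_sigma R (fun _ : Fin m => Coh.structureModule (CohB1.ProjSpace n R))
    (Groth.Agent.Helper13.TensorFunctor.tensorRight (Twist.twistProjSpace n R (-(N : ℤ) + d)))
    p (fun _ => ?_)
  exact Groth.Agent.Helper9.AffStrat.HH_subsingleton_of_iso
    (Tensor.lid (Twist.twistProjSpace n R (-(N : ℤ) + d))) p
    (subsingleton_HH_twist n R _ (by omega) p hp)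

variable [IsNoetherianRing R]

/-- **Serre vanishing** on `P^n_R`, `R` Noetherian. -/
theorem serre_vanishing (M : (CohB1.ProjSpace n R).Modules) (hM : Coh.IsCoh M) :
    ∃ N₀ : ℤ, ∀ d : ℤ, N₀ ≤ d → ∀ p : ℕ, 0 < p →
      Subsingleton (Coh.HH (CohB1.ProjSpace n R)
        (CohB1.tensorMod M (Twist.twistProjSpace n R d)) p) := by
  haveI := isNoetherian_projSpace n R
  have key : ∀ a : ℕ, ∀ G : (CohB1.ProjSpace n R).Modules, Coh.IsCoh G →
      ∃ N₀ : ℤ, ∀ d : ℤ, N₀ ≤ d → ∀ p : ℕ, 0 < p → n < p + a →
        Subsingleton (Coh.HH (CohB1.ProjSpace n R)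
          (CohB1.tensorMod G (Twist.twistProjSpace n R d)) p) := by
    intro a
    induction a with
    | zero =>
      intro G hG
      refine ⟨0, fun d _ p _ hpn => ?_⟩
      haveI : G.IsQuasicoherent := hG.1
      haveI : (Twist.twistProjSpace n R d).IsQuasicoherent :=
        Groth.Agent.Helper13.Inv.isQuasicoherent_of_isInvertible _
          (Groth.Agent.Helper26.PnTwist.isInvertible_twist n R d)
      haveI : Coh.IsQCoh (CohB1.tensorMod G (Twist.twistProjSpace n R d)) :=
        Groth.Agent.Helper13.Tensor.isQuasicoherent_tensorMod _ _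
      exact Groth.Agent.S0022.result n R _ p (by omega)
    | succ a ih =>
      intro G hG
      obtain ⟨m, N, π, hπ⟩ := exists_epi_twist n R G hG
      haveI := hπ
      have hLN := Groth.Agent.Helper26.PnTwist.isInvertible_twist n R (-(N : ℤ))
      have hEcoh : Coh.IsCoh (Etw n R m N) := by
        have hlf : FlatMod.IsFinLocFree (Etw n R m N) :=
          Groth.Agent.Helper13.InvTwist.isFinLocFree_tensor_invertible _ _
            (Groth.Agent.Helper13.LocFree.isFinLocFree_freeMod m) hLN
        exact Groth.Agent.Helper9.ResVan.isCoh_of_isFinLocFree _ hlf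
      have hK : Coh.IsCoh (kernel π) := Groth.Agent.Lead.KerFree.isCoh_kernel hEcoh hG π
      haveI : Epi (ShortComplex.mk (kernel.ι π) π (kernel.condition π)).g := hπ
      have hS : (ShortComplex.mk (kernel.ι π) π (kernel.condition π)).ShortExact :=
        { exact := ShortComplex.exact_of_f_is_kernel _ (kernelIsKernel π) }
      obtain ⟨N₁, hN₁⟩ := ih (kernel π) hK
      refine ⟨max N₁ N, fun d hd p hp hpn => ?_⟩
      have hS' := Groth.Agent.Helper13.TwistSES.tensorSC_shortExact _ hS
        (Twist.twistProjSpace n R d) (Groth.Agent.Helper26.PnTwist.isInvertible_twist n R d)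
      exact Groth.Agent.Helper13.QAffAcyc.HH_right _ hS' p
        (subsingleton_HH_Etw n R m N d (le_trans (le_max_right _ _) hd) p hp)
        (hN₁ d (le_trans (le_max_left _ _) hd) (p + 1) (by omega) (by omega))
  obtain ⟨N₀, h⟩ := key (n + 1) M hM
  exact ⟨N₀, fun d hd p hp => h d hd p hp (by omega)⟩

end Pn

end Groth.Agent.Helper13.PnSerre
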