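import Mathlib
import Groth.Agent.Lib.Helper13.StalkBasis5
import Groth.Agent.Lib.Helper13.GenLocusQcqs

set_option autoImplicit false
universe u
open CategoryTheory CategoryTheory.Limits AlgebraicGeometry Opposite TopologicalSpace
open Groth.Agent.Helper13.QCoh Groth.Agent.Helper13.FinType Groth.Agent.Helper13.LocFree
open Groth.Agent.Helper13.Inv Groth.Agent.Helper13.StalkBasis

namespace Groth.Agent.Helper13.LocalLift

variable {X : Scheme.{u}} {n : ℕ}

/-- if `descSec s` is an isomorphism then the `s i` form a basis of every stalk. -/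
theorem isBasisAt_of_isIso_descSec (M : X.Modules) (s : Fin n → Γ(M, ⊤))
    [IsIso (descSec M s)] (y : X) : IsBasisAt M s y trivial := by
  have hb := stalkMap_bijective_of_isIso (descSec M s) y
  constructor
  · intro c d hcd
    obtain ⟨V₁, hyV₁, γ, hγ⟩ := exists_common_germ_ring y c
    obtain ⟨V₂, hyV₂, δ, hδ⟩ := exists_common_germ_ring y d
    let V : X.Opens := V₁ ⊓ V₂
    have hyV : y ∈ V := ⟨hyV₁, hyV₂⟩
    let γ' : Fin n → Γ(X, V) := fun i => X.presheaf.map (homOfLE (inf_le_left : V ≤ V₁)).op (γ i)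
    let δ' : Fin n → Γ(X, V) := fun i => X.presheaf.map (homOfLE (inf_le_right : V ≤ V₂)).op (δ i)
    have hγ' : ∀ i, X.presheaf.germ V y hyV (γ' i) = c i := fun i => by
      rw [← hγ i]; exact TopCat.Presheaf.germ_res_apply _ _ _ _ _
    have hδ' : ∀ i, X.presheaf.germ V y hyV (δ' i) = d i := fun i => by
      rw [← hδ i]; exact TopCat.Presheaf.germ_res_apply _ _ _ _ _
    have h1 : (FlatMod.freeMod X n).presheaf.germ V y hyV (secOfCoord n V γ') =
        (FlatMod.freeMod X n).presheaf.germ V y hyV (secOfCoord n V δ') := by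
      apply hb.1
      rw [stalkMap_descSec_germ, stalkMap_descSec_germ]
      have e1 : (fun i => X.presheaf.germ V y hyV (γ' i)) = c := funext hγ'
      have e2 : (fun i => X.presheaf.germ V y hyV (δ' i)) = d := funext hδ'
      rw [e1, e2]
      exact hcd
    funext i
    have h2 := congrArg (stalkMap (π n i) y) h1
    rw [stalkMap_germ, stalkMap_germ] at h2
    have h3 := congrArg (Groth.Agent.Helper13.WeakAss.unitStalkEquiv y) h2
    rw [Groth.Agent.Helper13.WeakAss.unitStalkEquiv_germ,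
      Groth.Agent.Helper13.WeakAss.unitStalkEquiv_germ] at h3
    have e3 : ∀ ε : Fin n → Γ(X, V), ofO V ((π n i).app V (secOfCoord n V ε)) = ε i := fun ε =>
      congrFun (coordOfSec_secOfCoord n V ε) i
    rw [← hγ' i, ← hδ' i, ← e3 γ', ← e3 δ']
    exact h3
  · intro m
    obtain ⟨a, rfl⟩ := hb.2 m
    obtain ⟨V, hyV, t, rfl⟩ := TopCat.Presheaf.exists_germ_eq (FlatMod.freeMod X n).presheaf a
    obtain ⟨c, rfl⟩ := (secEquiv n V).surjective t
    exact ⟨_, (stalkMap_descSec_germ M s y hyV c).symm⟩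

/-- composition of the morphism attached to a section with a morphism. -/
lemma homOfSec_comp {M N : X.Modules} (f : M ⟶ N) (t : Γ(M, ⊤)) :
    homOfSec M t ≫ f = homOfSec N (f.app ⊤ t) := by
  rw [← Groth.Agent.Helper13.GenLoc.homOfSec_sec N (homOfSec M t ≫ f)]
  congr 1
  exact congrArg (f.app ⊤) (Groth.Agent.Helper13.GenLoc.sec_homOfSec M t)


lemma app_naturality {M N : X.Modules} (f : M ⟶ N) {U V : X.Opens} (i : V ⟶ U) (t : Γ(M, U)) :
    f.app V (M.presheaf.map i.op t) = N.presheaf.map i.op (f.app U t) := by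
  have := f.mapPresheaf.naturality i.op
  exact congr($this t)

theorem exists_local_lift {E F G : X.Modules} (p : G ⟶ F) [Epi p] (φ : E ⟶ F)
    (hE : FlatMod.IsFinLocFree E) (x : X) :
    ∃ (V : X.Opens) (ψ : E.restrict V.ι ⟶ G.restrict V.ι), x ∈ V ∧
      ψ ≫ (Scheme.Modules.restrictFunctor V.ι).map p =
        (Scheme.Modules.restrictFunctor V.ι).map φ := by
  obtain ⟨U, n, hxU, ⟨e⟩⟩ := hE x
  -- sections of `E` over `U` forming a basis of the stalks
  let s' : Fin n → Γ(E.restrict U.ι, ⊤) := fun i =>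
    Groth.Agent.Helper13.GenLoc.sec (E.restrict U.ι) (ι n i ≫ e.inv)
  have he : e.inv = descSec (E.restrict U.ι) s' := eq_descSec _ e.inv
  haveI : IsIso (descSec (E.restrict U.ι) s') := by rw [← he]; infer_instance
  let s₀ : Fin n → Γ(E, U.ι ''ᵁ ⊤) := fun i => s' i
  have hbas : ∀ y : (U : Scheme.{u}), IsBasisAt E s₀ (U.ι y) ⟨y, trivial, rfl⟩ := by
    intro y
    rw [← isBasisAt_restrict_iff U.ι E (U := ⊤) s₀ y trivial]
    exact isBasisAt_of_isIso_descSec (E.restrict U.ι) s' y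
  have hxU' : x ∈ U.ι ''ᵁ (⊤ : (U : Scheme.{u}).Opens) := by
    rw [ι_image_top]; exact hxU
  -- lift the images of the `s₀ i` near `x`
  have key : ∀ i : Fin n, ∃ (W : X.Opens) (hW : W ≤ U.ι ''ᵁ ⊤) (g : Γ(G, W)), x ∈ W ∧
      p.app W g = φ.app W (E.presheaf.map (homOfLE hW).op (s₀ i)) := by
    intro i
    obtain ⟨a, ha⟩ := stalkMap_surjective_of_epi p x
      (F.presheaf.germ _ x hxU' (φ.app _ (s₀ i)))
    obtain ⟨W₁, hxW₁, g₁, rfl⟩ := TopCat.Presheaf.exists_germ_eq G.presheaf a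
    rw [stalkMap_germ] at ha
    obtain ⟨W, hxW, i₁, i₂, heq⟩ := TopCat.Presheaf.germ_eq F.presheaf x hxW₁ hxU' _ _ ha
    refine ⟨W, i₂.le, G.presheaf.map i₁.op g₁, hxW, ?_⟩
    rw [app_naturality, app_naturality]
    exact heq
  choose W hW g hxW hg using key
  obtain ⟨V₀, hxV₀, hV₀⟩ := exists_common_open x W hxW
  let V : X.Opens := V₀ ⊓ U
  have hxV : x ∈ V := ⟨hxV₀, hxU⟩
  have hVU' : V ≤ U.ι ''ᵁ ⊤ := by rw [ι_image_top]; exact inf_le_right
  have hVW : ∀ i, V ≤ W i := fun i => inf_le_left.trans (hV₀ i)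
  let sV : Fin n → Γ(E, V) := fun i => E.presheaf.map (homOfLE hVU').op (s₀ i)
  let gV : Fin n → Γ(G, V) := fun i => G.presheaf.map (homOfLE (hVW i)).op (g i)
  have hpg : ∀ i, p.app V (gV i) = φ.app V (sV i) := by
    intro i
    change p.app V (G.presheaf.map (homOfLE (hVW i)).op (g i)) = _
    rw [app_naturality, hg i, ← app_naturality]
    congr 1
    change _ = E.presheaf.map (homOfLE hVU').op (s₀ i)
    rw [← ConcreteCategory.comp_apply, ← Functor.map_comp]
    rfl
  have hbasV : ∀ (y : X) (hy : y ∈ V), IsBasisAt E sV y hy := by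
    intro y hy
    rw [isBasisAt_res E (homOfLE hVU') s₀ y hy]
    exact hbas ⟨y, hy.2⟩
  let sVV : Fin n → Γ(E, V.ι ''ᵁ ⊤) := fun i => E.presheaf.map (eqToHom (ι_image_top V)).op (sV i)
  let gVV : Fin n → Γ(G, V.ι ''ᵁ ⊤) := fun i => G.presheaf.map (eqToHom (ι_image_top V)).op (gV i)
  have hgen : ∀ y : (V : Scheme.{u}),
      IsBasisAt (E.restrict V.ι) (fun i => toRes V.ι E (sVV i)) y trivial := by
    intro y
    rw [isBasisAt_restrict_iff V.ι E (U := ⊤) sVV y trivial, isBasisAt_res]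
    exact hbasV _ _
  haveI := isIso_descSec_of_isBasisAt (E.restrict V.ι) (fun i => toRes V.ι E (sVV i)) hgen
  refine ⟨V, inv (descSec (E.restrict V.ι) (fun i => toRes V.ι E (sVV i))) ≫
    descSec (G.restrict V.ι) (fun i => toRes V.ι G (gVV i)), hxV, ?_⟩
  rw [Category.assoc, IsIso.inv_comp_eq]
  apply LocFree.hom_ext
  intro i
  rw [← Category.assoc, ← Category.assoc, ι_descSec, ι_descSec, homOfSec_comp, homOfSec_comp]
  congr 1
  change p.app (V.ι ''ᵁ ⊤) (gVV i) = φ.app (V.ι ''ᵁ ⊤) (sVV i)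
  change p.app (V.ι ''ᵁ ⊤) (G.presheaf.map (eqToHom (ι_image_top V)).op (gV i)) =
    φ.app (V.ι ''ᵁ ⊤) (E.presheaf.map (eqToHom (ι_image_top V)).op (sV i))
  refine (app_naturality p _ _).trans ?_
  refine Eq.trans ?_ (app_naturality φ _ _).symm
  exact congrArg _ (hpg i)

end Groth.Agent.Helper13.LocalLift
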