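import Mathlib
import Groth.Agent.Lib.Helper13.LocalLift
import Groth.Agent.Lib.Helper13.TensorUnit
import Groth.Agent.Lib.Helper13.StalkBasis2

/-!
# The tensor product of finite locally free modules is finite locally free
-/

set_option autoImplicit false
set_option maxHeartbeats 400000
universe u
open CategoryTheory CategoryTheory.Limits AlgebraicGeometry Opposite TopologicalSpace TensorProduct
open Groth.Agent.Helper13.QCoh Groth.Agent.Helper13.FinType Groth.Agent.Helper13.LocFree
open Groth.Agent.Helper13.Inv Groth.Agent.Helper13.StalkBasis Groth.Agent.Helper13.Tensor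
open Groth.Agent.Helper13.LocalLift

namespace Groth.Agent.Helper13.TensorFinLocFree

variable {X : Scheme.{u}}

/-- a finite locally free module has, near every point, sections forming a basis of all nearby
stalks. -/
theorem exists_isBasisAt_of_isFinLocFree (E : X.Modules) (hE : FlatMod.IsFinLocFree E) (x : X) :
    ∃ (V : X.Opens) (n : ℕ) (s : Fin n → Γ(E, V)), x ∈ V ∧
      ∀ (y : X) (hy : y ∈ V), IsBasisAt E s y hy := by
  obtain ⟨U, n, hxU, ⟨e⟩⟩ := hE x
  let s' : Fin n → Γ(E.restrict U.ι, ⊤) := fun i =>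
    Groth.Agent.Helper13.GenLoc.sec (E.restrict U.ι) (ι n i ≫ e.inv)
  have he : e.inv = descSec (E.restrict U.ι) s' := eq_descSec _ e.inv
  haveI : IsIso (descSec (E.restrict U.ι) s') := by rw [← he]; infer_instance
  let s₀ : Fin n → Γ(E, U.ι ''ᵁ ⊤) := fun i => s' i
  have hbas : ∀ y : (U : Scheme.{u}), IsBasisAt E s₀ (U.ι y) ⟨y, trivial, rfl⟩ := by
    intro y
    rw [← isBasisAt_restrict_iff U.ι E (U := ⊤) s₀ y trivial]
    exact isBasisAt_of_isIso_descSec (E.restrict U.ι) s' y
  have hxU' : x ∈ U.ι ''ᵁ (⊤ : (U : Scheme.{u}).Opens) := by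
    rw [ι_image_top]; exact hxU
  refine ⟨U.ι ''ᵁ ⊤, n, s₀, hxU', ?_⟩
  intro y hy
  have hyU : y ∈ U := by rw [ι_image_top] at hy; exact hy
  exact hbas ⟨y, hyU⟩

section Basis

variable {n : ℕ} (M : X.Modules) {U : X.Opens} (s : Fin n → Γ(M, U)) (y : X) (hy : y ∈ U)

/-- the basis of the stalk attached to sections forming a basis at `y`. -/
noncomputable def basisOf (h : IsBasisAt M s y hy) :
    Module.Basis (Fin n) (X.presheaf.stalk y) (M.presheaf.stalk y) :=
  Module.Basis.ofEquivFun (LinearEquiv.ofBijective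
    (Fintype.linearCombination (X.presheaf.stalk y) (fun i => M.presheaf.germ U y hy (s i)))
    (by rw [← comb_eq_linearCombination]; exact h)).symm

lemma basisOf_apply (h : IsBasisAt M s y hy) (i : Fin n) :
    basisOf M s y hy h i = M.presheaf.germ U y hy (s i) := by
  classical
  unfold basisOf
  rw [Module.Basis.coe_ofEquivFun, LinearEquiv.symm_symm]
  show (LinearEquiv.ofBijective _ _) (Pi.single i 1) = _
  rw [LinearEquiv.ofBijective_apply, Fintype.linearCombination_apply_single, one_smul]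

/-- sections whose germs are the vectors of a basis form a basis at `y`. -/
lemma isBasisAt_of_basis (b : Module.Basis (Fin n) (X.presheaf.stalk y) (M.presheaf.stalk y))
    (hb : ∀ i, b i = M.presheaf.germ U y hy (s i)) : IsBasisAt M s y hy := by
  have h : comb M s y hy = ⇑b.equivFun.symm := by
    funext c
    rw [Module.Basis.equivFun_symm_apply]
    unfold comb
    refine Finset.sum_congr rfl (fun i _ => ?_)
    rw [hb i]
  unfold IsBasisAt
  rw [h]
  exact b.equivFun.symm.bijective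

end Basis

/-- tensor products of sections forming bases of the stalks at `y` form a basis at `y`. -/
theorem isBasisAt_tmul (E₁ E₂ : X.Modules) {n m : ℕ} {V : X.Opens} (s₁ : Fin n → Γ(E₁, V))
    (s₂ : Fin m → Γ(E₂, V)) (y : X) (hy : y ∈ V) (h₁ : IsBasisAt E₁ s₁ y hy)
    (h₂ : IsBasisAt E₂ s₂ y hy) :
    IsBasisAt (CohB1.tensorMod E₁ E₂)
      (fun k : Fin (n * m) => tmul E₁ E₂ (s₁ (finProdFinEquiv.symm k).1)
        (s₂ (finProdFinEquiv.symm k).2)) y hy := by
  let b₁ := basisOf E₁ s₁ y hy h₁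
  let b₂ := basisOf E₂ s₂ y hy h₂
  let b : Module.Basis (Fin (n * m)) (X.presheaf.stalk y)
      ((CohB1.tensorMod E₁ E₂).presheaf.stalk y) :=
    ((b₁.tensorProduct b₂).map (stalkTensorEquiv E₁ E₂ y)).reindex finProdFinEquiv
  apply isBasisAt_of_basis _ _ y hy b
  intro k
  rw [Module.Basis.reindex_apply, Module.Basis.map_apply, Module.Basis.tensorProduct_apply,
    basisOf_apply, basisOf_apply, stalkTensorEquiv_germ]

/-- **the tensor product of two finite locally free modules is finite locally free.** -/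
theorem isFinLocFree_tensorMod (E₁ E₂ : X.Modules) (h₁ : FlatMod.IsFinLocFree E₁)
    (h₂ : FlatMod.IsFinLocFree E₂) : FlatMod.IsFinLocFree (CohB1.tensorMod E₁ E₂) := by
  intro x
  obtain ⟨V₁, n, s₁, hx₁, hb₁⟩ := exists_isBasisAt_of_isFinLocFree E₁ h₁ x
  obtain ⟨V₂, m, s₂, hx₂, hb₂⟩ := exists_isBasisAt_of_isFinLocFree E₂ h₂ x
  let V : X.Opens := V₁ ⊓ V₂
  let t₁ : Fin n → Γ(E₁, V) := fun i => E₁.presheaf.map (homOfLE (inf_le_left : V ≤ V₁)).op (s₁ i)
  let t₂ : Fin m → Γ(E₂, V) := fun i => E₂.presheaf.map (homOfLE (inf_le_right : V ≤ V₂)).op (s₂ i)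
  have ht₁ : ∀ (y : X) (hy : y ∈ V), IsBasisAt E₁ t₁ y hy := by
    intro y hy
    rw [isBasisAt_res E₁ (homOfLE (inf_le_left : V ≤ V₁)) s₁ y hy]
    exact hb₁ y _
  have ht₂ : ∀ (y : X) (hy : y ∈ V), IsBasisAt E₂ t₂ y hy := by
    intro y hy
    rw [isBasisAt_res E₂ (homOfLE (inf_le_right : V ≤ V₂)) s₂ y hy]
    exact hb₂ y _
  refine ⟨V, n * m, ⟨hx₁, hx₂⟩, ?_⟩
  exact nonempty_restrict_iso_freeMod (CohB1.tensorMod E₁ E₂) _
    (fun y hy => isBasisAt_tmul E₁ E₂ t₁ t₂ y hy (ht₁ y hy) (ht₂ y hy))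

end Groth.Agent.Helper13.TensorFinLocFree
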