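import Mathlib
import Groth.Agent.Lib.Helper13.TensorFunctor
import Groth.Agent.Lib.Helper13.HomShAff

/-!
# The tensor-hom adjunction for the sheaf Hom `RefHull.homSh`, and injectivity of `𝓗om(D, I)`
-/

set_option autoImplicit false
set_option maxHeartbeats 400000
universe u
open CategoryTheory CategoryTheory.Limits AlgebraicGeometry Opposite TopologicalSpace TensorProduct
open Groth.Agent.Helper13.QCoh Groth.Agent.Helper13.FinType
open Groth.Agent.Helper13.Tensor Groth.Agent.Helper13.TensorFunctor RefHull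
open Groth.Agent.Lead.HomSh Groth.Agent.Helper13.HomShAff

namespace Groth.Agent.Helper13.TensorHom

variable {X : Scheme.{u}} {B B' D I : X.Modules}

/-- the curried map on stalks. -/
noncomputable def curryAt (h : CohB1.tensorMod B D ⟶ I) (y : X) :
    B.presheaf.stalk y →ₗ[X.presheaf.stalk y] StalkHom D I y :=
  TensorProduct.curry ((stalkLinearMap h y).comp (stalkTensorEquiv B D y).toLinearMap)

lemma curryAt_germ (h : CohB1.tensorMod B D ⟶ I) (y : X) {W : X.Opens} (hy : y ∈ W)
    (b : Γ(B, W)) (d : Γ(D, W)) :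
    curryAt h y (B.presheaf.germ W y hy b) (D.presheaf.germ W y hy d) =
      I.presheaf.germ W y hy (h.app W (tmul B D b d)) :=
  stalkMap_stalkTensorEquiv_germ h y hy b d

/-- the curried map on sections. -/
noncomputable def currySec (h : CohB1.tensorMod B D ⟶ I) {U : X.Opens} (b : Γ(B, U)) :
    Γ(homSh D I, U) :=
  ⟨fun y => curryAt h y.1 (B.presheaf.germ U y.1 y.2 b), fun V i m x => by
    refine ⟨V, x.2, 𝟙 V, h.app V (tmul B D (B.presheaf.map i.op b) m), fun y => ?_⟩
    rw [← curryAt_germ h y.1 y.2, TopCat.Presheaf.germ_res_apply]⟩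

lemma currySec_apply (h : CohB1.tensorMod B D ⟶ I) {U : X.Opens} (b : Γ(B, U)) (y : U) :
    (currySec h b).1 y = curryAt h y.1 (B.presheaf.germ U y.1 y.2 b) := rfl

/-- the curried map on sections, as an additive map. -/
noncomputable def curryFun (h : CohB1.tensorMod B D ⟶ I) (U : X.Opens) :
    Γ(B, U) →+ Γ(homSh D I, U) where
  toFun b := currySec h b
  map_zero' := Subtype.ext <| funext fun x => by
    change curryAt h x.1 _ = _
    rw [map_zero, map_zero]
    rfl
  map_add' s t := Subtype.ext <| funext fun x => by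
    change curryAt h x.1 _ = _
    rw [map_add, map_add]
    rfl

/-- **currying**: a map `B ⊗ D ⟶ I` gives a map `B ⟶ 𝓗om(D, I)`. -/
noncomputable def curry (h : CohB1.tensorMod B D ⟶ I) : B ⟶ homSh D I :=
  ⟨PresheafOfModules.homMk
    { app := fun U => AddCommGrpCat.ofHom (curryFun h U.unop)
      naturality := fun {U V} i => by
        ext s
        refine Subtype.ext (funext fun x => ?_)
        change curryAt h x.1 _ = curryAt h x.1 _
        exact congrArg _ (TopCat.Presheaf.germ_res_apply' B.presheaf i x.1 x.2 s) }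
    (fun U r s => Subtype.ext <| funext fun x =>
      (congrArg (curryAt h x.1) (Mero.germ_smul B U.unop x.1 x.2 r s)).trans
        (map_smul (curryAt h x.1) _ _))⟩

lemma curry_app_apply (h : CohB1.tensorMod B D ⟶ I) {U : X.Opens} (b : Γ(B, U)) (y : U) :
    ((curry h).app U b).1 y = curryAt h y.1 (B.presheaf.germ U y.1 y.2 b) := rfl

/-- **uncurrying**. -/
noncomputable def uncurry (k : B ⟶ homSh D I) : CohB1.tensorMod B D ⟶ I :=
  Tensor.map k (𝟙 D) ≫ ev D I

lemma uncurry_app_tmul (k : B ⟶ homSh D I) {U : X.Opens} (b : Γ(B, U)) (d : Γ(D, U)) :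
    (uncurry k).app U (tmul B D b d) = evalSec (k.app U b) d := by
  unfold uncurry
  rw [Scheme.Modules.Hom.comp_app, ConcreteCategory.comp_apply, map_app_tmul, ev_app_tmul]
  rfl

lemma uncurry_comp (i : B' ⟶ B) (k : B ⟶ homSh D I) :
    uncurry (i ≫ k) = Tensor.map i (𝟙 D) ≫ uncurry k := by
  unfold uncurry
  have := Tensor.map_comp i k (𝟙 D) (𝟙 D)
  rw [Category.comp_id] at this
  rw [this, Category.assoc]

theorem uncurry_curry (h : CohB1.tensorMod B D ⟶ I) : uncurry (curry h) = h := by
  apply Tensor.hom_ext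
  intro U b d
  rw [uncurry_app_tmul]
  apply sec_ext' I
  intro y
  rw [germ_evalSec, curry_app_apply, curryAt_germ]

theorem uncurry_injective (k k' : B ⟶ homSh D I) (h : uncurry k = uncurry k') : k = k' := by
  apply Scheme.Modules.hom_ext
  intro U
  ext b
  apply sec_ext
  intro y
  apply LinearMap.ext
  intro d
  obtain ⟨V, hyV, d₀, rfl⟩ := TopCat.Presheaf.exists_germ_eq D.presheaf d
  have hyW : y.1 ∈ U ⊓ V := ⟨y.2, hyV⟩
  let iU : U ⊓ V ⟶ U := homOfLE inf_le_left
  let iV : U ⊓ V ⟶ V := homOfLE inf_le_right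
  have key : ∀ κ : B ⟶ homSh D I, (κ.app U b).1 y (D.presheaf.germ V y.1 hyV d₀) =
      I.presheaf.germ (U ⊓ V) y.1 hyW ((uncurry κ).app (U ⊓ V)
        (tmul B D (B.presheaf.map iU.op b) (D.presheaf.map iV.op d₀))) := by
    intro κ
    have hnat : κ.app (U ⊓ V) (B.presheaf.map iU.op b) =
        (homSh D I).presheaf.map iU.op (κ.app U b) :=
      congr($(κ.mapPresheaf.naturality iU.op) b)
    rw [uncurry_app_tmul, germ_evalSec, TopCat.Presheaf.germ_res_apply, hnat]
    rfl
  exact (key k).trans ((congrArg (fun κ => I.presheaf.germ (U ⊓ V) y.1 hyW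
    ((κ : CohB1.tensorMod B D ⟶ I).app (U ⊓ V)
      (tmul B D (B.presheaf.map iU.op b) (D.presheaf.map iV.op d₀)))) h).trans (key k').symm)

/-- `𝓗om(D, I)` is injective when `I` is injective and the stalks of `D` are flat. -/
theorem injective_homSh (D I : X.Modules) [Injective I]
    (hD : ∀ x : X, Module.Flat (X.presheaf.stalk x) (D.presheaf.stalk x)) :
    Injective (homSh D I) where
  factors {A B} g i hi := by
    haveI := hi
    haveI : Mono (Tensor.map i (𝟙 D)) := mono_map_of_flat D hD i
    refine ⟨curry (Injective.factorThru (uncurry g) (Tensor.map i (𝟙 D))), ?_⟩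
    apply uncurry_injective
    rw [uncurry_comp, uncurry_curry, Injective.comp_factorThru]

end Groth.Agent.Helper13.TensorHom
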