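import Mathlib
import Groth.Agent.Lib.Helper13.TensorHom
import Groth.Agent.Lib.Helper13.TensorFinLocFree
import Groth.Agent.Lib.Helper13.InvDual
import Groth.Agent.Lib.Helper13.LocFree3
import Groth.Agent.Lib.Helper13.ResFinLocFree
import Groth.Agent.Lib.Helper13.TensorAssoc

/-!
# The dual of a finite locally free module; `N ⊗ E ≅ 𝓗om(E^∨, N)`; injectivity of `E ⊗ I`
-/

set_option autoImplicit false
set_option maxHeartbeats 400000
universe u
open CategoryTheory CategoryTheory.Limits AlgebraicGeometry Opposite TopologicalSpace TensorProduct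
open Groth.Agent.Helper13.QCoh Groth.Agent.Helper13.FinType Groth.Agent.Helper13.LocFree
open Groth.Agent.Helper13.Tensor Groth.Agent.Helper13.TensorFunctor RefHull
open Groth.Agent.Lead.HomSh Groth.Agent.Helper13.HomShAff Groth.Agent.Helper13.TensorHom
open Groth.Agent.Helper13.StalkBasis Groth.Agent.Helper13.TensorFinLocFree

namespace Groth.Agent.Helper13.DualFinLocFree

variable {X : Scheme.{u}}

theorem free_finite_stalk (E : X.Modules) (hE : FlatMod.IsFinLocFree E) (x : X) :
    Module.Free (X.presheaf.stalk x) (E.presheaf.stalk x) ∧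
      Module.Finite (X.presheaf.stalk x) (E.presheaf.stalk x) := by
  obtain ⟨V, n, s, hxV, hb⟩ := exists_isBasisAt_of_isFinLocFree E hE x
  exact ⟨Module.Free.of_basis (basisOf E s x hxV (hb x hxV)),
    Module.Finite.of_basis (basisOf E s x hxV (hb x hxV))⟩

theorem flat_stalk (E : X.Modules) (hE : FlatMod.IsFinLocFree E) (x : X) :
    Module.Flat (X.presheaf.stalk x) (E.presheaf.stalk x) := by
  haveI := (free_finite_stalk E hE x).1
  infer_instance

/-- the dual of a finite locally free module is finite locally free. -/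
theorem isFinLocFree_dual (E : X.Modules) (hE : FlatMod.IsFinLocFree E) :
    FlatMod.IsFinLocFree (homSh E (Coh.structureModule X)) := by
  haveI := Groth.Agent.Helper13.ResFinLocFree.isQuasicoherent_of_isFinLocFree E hE
  haveI := isFinitePresentation_of_isFinLocFree E hE
  haveI : (Coh.structureModule X).IsQuasicoherent := Groth.Agent.Helper13.QCoh.isQuasicoherent_unit X
  haveI : (homSh E (Coh.structureModule X)).IsQuasicoherent := isQuasicoherent_homSh
  apply isFinLocFree_of_projective_sections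
  intro x
  obtain ⟨_, ⟨V, hV, rfl⟩, hxV, -⟩ :=
    X.isBasis_affineOpens.exists_subset_of_mem_open (Set.mem_univ x) isOpen_univ
  have hV' : IsAffineOpen V := hV
  refine ⟨V, hV', hxV, ?_⟩
  obtain ⟨h1, h2⟩ := projective_sections_of_isFinLocFree E hE hV'
  haveI : Module.Projective Γ(X, V) (Γ(E, V) →ₗ[Γ(X, V)] Γ(Coh.structureModule X, V)) :=
    (Module.dual_projective : Module.Projective Γ(X, V) (Module.Dual Γ(X, V) Γ(E, V)))
  haveI : Module.Finite Γ(X, V) (Γ(E, V) →ₗ[Γ(X, V)] Γ(Coh.structureModule X, V)) :=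
    (Module.dual_finite : Module.Finite Γ(X, V) (Module.Dual Γ(X, V) Γ(E, V)))
  exact ⟨Module.Finite.equiv (evEquiv (F := E) (G := Coh.structureModule X) hV').symm,
    Module.Projective.of_equiv (evEquiv (F := E) (G := Coh.structureModule X) hV').symm⟩

section EvalStalk

variable (F G : X.Modules)

theorem evalStalk_surjective (hF : FlatMod.IsFinLocFree F) (x : X) :
    Function.Surjective (evalStalk F G x) := by
  haveI := Groth.Agent.Helper13.ResFinLocFree.isQuasicoherent_of_isFinLocFree F hF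
  haveI := isFinitePresentation_of_isFinLocFree F hF
  intro φ
  obtain ⟨W, hxW, g, hg⟩ := exists_sec_eq (F := F) (G := G) x φ
  exact ⟨(homSh F G).presheaf.germ W x hxW g, by rw [evalStalk_germ]; exact hg⟩

lemma span_germ_eq_top_of_isBasisAt {n : ℕ} {V : X.Opens} (s : Fin n → Γ(F, V)) (y : X)
    (hy : y ∈ V) (hb : IsBasisAt F s y hy) :
    Submodule.span (X.presheaf.stalk y) (Set.range fun i => F.presheaf.germ V y hy (s i)) = ⊤ := by
  rw [eq_top_iff]
  rintro m -
  obtain ⟨c, rfl⟩ := hb.2 m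
  unfold comb
  exact Submodule.sum_mem _ (fun i _ => Submodule.smul_mem _ _ (Submodule.subset_span ⟨i, rfl⟩))

theorem evalStalk_injective (hF : FlatMod.IsFinLocFree F) (x : X) :
    Function.Injective (evalStalk F G x) := by
  rw [injective_iff_map_eq_zero]
  intro z hz
  obtain ⟨W, hxW, g, rfl⟩ := TopCat.Presheaf.exists_germ_eq (homSh F G).presheaf z
  rw [evalStalk_germ] at hz
  obtain ⟨V, n, s, hxV, hb⟩ := exists_isBasisAt_of_isFinLocFree F hF x
  have hxW₁ : x ∈ W ⊓ V := ⟨hxW, hxV⟩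
  let g₁ : Γ(homSh F G, W ⊓ V) := (homSh F G).presheaf.map (homOfLE (inf_le_left : W ⊓ V ≤ W)).op g
  let s₁ : Fin n → Γ(F, W ⊓ V) := fun i =>
    F.presheaf.map (homOfLE (inf_le_right : W ⊓ V ≤ V)).op (s i)
  have h0 : ∀ i, G.presheaf.germ (W ⊓ V) x hxW₁ (evalSec g₁ (s₁ i)) = 0 := by
    intro i
    rw [germ_evalSec]
    have : g₁.1 ⟨x, hxW₁⟩ = g.1 ⟨x, hxW⟩ := rfl
    rw [this, hz]
    rfl
  have h1 : ∀ i, ∃ (W' : X.Opens), x ∈ W' ∧ ∃ (hW' : W' ≤ W ⊓ V),
      G.presheaf.map (homOfLE hW').op (evalSec g₁ (s₁ i)) = 0 := by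
    intro i
    obtain ⟨W', hxW', iU, iV, hres⟩ := TopCat.Presheaf.germ_eq G.presheaf x hxW₁ hxW₁
      (evalSec g₁ (s₁ i)) 0 (by rw [h0 i, map_zero])
    refine ⟨W', hxW', iU.le, ?_⟩
    rw [map_zero] at hres
    exact hres
  choose W' hxW' hW' hres using h1
  obtain ⟨W₂, hxW₂, hW₂⟩ := Groth.Agent.Helper13.StalkBasis.exists_common_open x W' hxW'
  have hxW₃ : x ∈ W₂ ⊓ (W ⊓ V) := ⟨hxW₂, hxW₁⟩
  let j₃ : W₂ ⊓ (W ⊓ V) ⟶ W ⊓ V := homOfLE inf_le_right
  let g₃ : Γ(homSh F G, W₂ ⊓ (W ⊓ V)) := (homSh F G).presheaf.map j₃.op g₁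
  let s₃ : Fin n → Γ(F, W₂ ⊓ (W ⊓ V)) := fun i => F.presheaf.map j₃.op (s₁ i)
  have h3 : ∀ i, evalSec g₃ (s₃ i) = 0 := by
    intro i
    rw [← evalSec_res j₃ g₁ (s₁ i)]
    have hle : W₂ ⊓ (W ⊓ V) ≤ W' i := inf_le_left.trans (hW₂ i)
    have : j₃ = homOfLE hle ≫ homOfLE (hW' i) := Subsingleton.elim _ _
    rw [this, op_comp, G.presheaf.map_comp, ConcreteCategory.comp_apply, hres i, map_zero]
  have hm : ∀ y : ↥(W₂ ⊓ (W ⊓ V)), Submodule.span (X.presheaf.stalk y.1)
      (Set.range fun i => F.presheaf.germ (W₂ ⊓ (W ⊓ V)) y.1 y.2 (s₃ i)) = ⊤ := by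
    intro y
    have hyV : y.1 ∈ V := y.2.2.2
    have := span_germ_eq_top_of_isBasisAt F s y.1 hyV (hb y.1 hyV)
    convert this using 3
    funext i
    change F.presheaf.germ _ y.1 y.2 (F.presheaf.map j₃.op (F.presheaf.map _ (s i))) = _
    rw [TopCat.Presheaf.germ_res_apply, TopCat.Presheaf.germ_res_apply]
  have hg₃ : g₃ = 0 := eq_zero_of_evalSec_eq_zero g₃ s₃ hm h3
  have e1 : (homSh F G).presheaf.germ W x hxW g =
      (homSh F G).presheaf.germ (W₂ ⊓ (W ⊓ V)) x hxW₃ g₃ := by
    change _ = (homSh F G).presheaf.germ _ x hxW₃ ((homSh F G).presheaf.map j₃.op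
      ((homSh F G).presheaf.map _ g))
    rw [TopCat.Presheaf.germ_res_apply, TopCat.Presheaf.germ_res_apply]
  rw [e1, hg₃, map_zero]

theorem evalStalk_bijective (hF : FlatMod.IsFinLocFree F) (x : X) :
    Function.Bijective (evalStalk F G x) :=
  ⟨evalStalk_injective F G hF x, evalStalk_surjective F G hF x⟩

end EvalStalk

theorem bijective_of_contraction {R : Type u} [CommRing R] {E N D : Type u} [AddCommGroup E]
    [Module R E] [AddCommGroup N] [Module R N] [AddCommGroup D] [Module R D] [Module.Free R E]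
    [Module.Finite R E] (c : D ≃ₗ[R] Module.Dual R E) (Φ : N ⊗[R] E →ₗ[R] (D →ₗ[R] N))
    (hΦ : ∀ n e d, Φ (n ⊗ₜ e) d = c d e • n) : Function.Bijective Φ := by
  let Ψ : N ⊗[R] E ≃ₗ[R] (D →ₗ[R] N) :=
    (TensorProduct.comm R N E).trans
      ((TensorProduct.congr (Module.evalEquiv R E) (LinearEquiv.refl R N)).trans
        ((dualTensorHomEquiv R (Module.Dual R E) N).trans
          (LinearEquiv.arrowCongr c.symm (LinearEquiv.refl R N))))
  have : Φ = Ψ.toLinearMap := by
    apply TensorProduct.ext'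
    intro n e
    apply LinearMap.ext
    intro d
    rw [hΦ]
    simp [Ψ]
  rw [this]
  exact Ψ.bijective

section Theta

variable (N E : X.Modules)

/-- the contraction `(N ⊗ E) ⊗ E^∨ ⟶ N`. -/
noncomputable def contr :
    CohB1.tensorMod (CohB1.tensorMod N E) (homSh E (Coh.structureModule X)) ⟶ N :=
  (Tensor.assoc N E (homSh E (Coh.structureModule X))).hom ≫
    Tensor.map (𝟙 N) (Groth.Agent.Helper13.InvDual.evHom E) ≫ (Tensor.rid N).hom

lemma contr_app_tmul {U : X.Opens} (n : Γ(N, U)) (e : Γ(E, U))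
    (d : Γ(homSh E (Coh.structureModule X), U)) :
    (contr N E).app U (tmul _ _ (tmul N E n e) d) = (show Γ(X, U) from evalSec d e) • n := by
  unfold contr
  rw [Scheme.Modules.Hom.comp_app, Scheme.Modules.Hom.comp_app, ConcreteCategory.comp_apply,
    ConcreteCategory.comp_apply, assoc_hom_app_tmul, map_app_tmul,
    Groth.Agent.Helper13.InvDual.evHom_app_tmul]
  exact rid_hom_app_tmul N n _

/-- the canonical map `N ⊗ E ⟶ 𝓗om(E^∨, N)`. -/
noncomputable def θ : CohB1.tensorMod N E ⟶ homSh (homSh E (Coh.structureModule X)) N :=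
  curry (contr N E)

lemma exists_three (A B C : X.Modules) (x : X) (a : A.presheaf.stalk x) (b : B.presheaf.stalk x)
    (c : C.presheaf.stalk x) :
    ∃ (W : X.Opens) (hW : x ∈ W) (a₀ : Γ(A, W)) (b₀ : Γ(B, W)) (c₀ : Γ(C, W)),
      A.presheaf.germ W x hW a₀ = a ∧ B.presheaf.germ W x hW b₀ = b ∧
        C.presheaf.germ W x hW c₀ = c := by
  obtain ⟨W₁, h₁, a₀, rfl⟩ := TopCat.Presheaf.exists_germ_eq A.presheaf a
  obtain ⟨W₂, h₂, b₀, rfl⟩ := TopCat.Presheaf.exists_germ_eq B.presheaf b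
  obtain ⟨W₃, h₃, c₀, rfl⟩ := TopCat.Presheaf.exists_germ_eq C.presheaf c
  refine ⟨W₁ ⊓ W₂ ⊓ W₃, ⟨⟨h₁, h₂⟩, h₃⟩,
    A.presheaf.map (homOfLE (inf_le_left.trans inf_le_left : W₁ ⊓ W₂ ⊓ W₃ ≤ W₁)).op a₀,
    B.presheaf.map (homOfLE (inf_le_left.trans inf_le_right : W₁ ⊓ W₂ ⊓ W₃ ≤ W₂)).op b₀,
    C.presheaf.map (homOfLE (inf_le_right : W₁ ⊓ W₂ ⊓ W₃ ≤ W₃)).op c₀, ?_, ?_, ?_⟩ <;>
  rw [TopCat.Presheaf.germ_res_apply]

theorem isIso_θ (hE : FlatMod.IsFinLocFree E) : IsIso (θ N E) := by
  have hD := isFinLocFree_dual E hE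
  apply isIso_of_stalkTensor
  intro x
  obtain ⟨hfree, hfin⟩ := free_finite_stalk E hE x
  let f := (stalkLinearMap (θ N E) x).comp (stalkTensorEquiv N E x).toLinearMap
  let Φ := (evalStalk (homSh E (Coh.structureModule X)) N x).comp f
  let c : (homSh E (Coh.structureModule X)).presheaf.stalk x ≃ₗ[X.presheaf.stalk x]
      Module.Dual (X.presheaf.stalk x) (E.presheaf.stalk x) :=
    (LinearEquiv.ofBijective (evalStalk E (Coh.structureModule X) x)
      (evalStalk_bijective E _ hE x)).trans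
      (LinearEquiv.congrRight (Groth.Agent.Helper13.WeakAss.unitStalkEquiv x))
  have hΦ : ∀ n e d, Φ (n ⊗ₜ e) d = c d e • n := by
    intro n e d
    obtain ⟨W, hW, n₀, e₀, d₀, rfl, rfl, rfl⟩ :=
      exists_three N E (homSh E (Coh.structureModule X)) x n e d
    change evalStalk _ N x (stalkMap (θ N E) x (stalkTensorEquiv N E x _)) _ = _
    rw [stalkMap_stalkTensorEquiv_germ, evalStalk_germ]
    unfold θ
    rw [curry_app_apply, curryAt_germ, contr_app_tmul, Groth.Agent.Helper13.QCoh.germ_smul]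
    congr 1
    change _ = Groth.Agent.Helper13.WeakAss.unitStalkEquiv x
      (evalStalk E (Coh.structureModule X) x _ _)
    rw [evalStalk_germ]
    have h1 : (d₀.1 ⟨x, hW⟩) (E.presheaf.germ W x hW e₀) =
        (Coh.structureModule X).presheaf.germ W x hW (evalSec d₀ e₀) :=
      (germ_evalSec d₀ e₀ x hW).symm
    exact ((congrArg (Groth.Agent.Helper13.WeakAss.unitStalkEquiv x) h1).trans
      (Groth.Agent.Helper13.WeakAss.unitStalkEquiv_germ x W hW _)).symm
  have hbij : Function.Bijective Φ := bijective_of_contraction c Φ hΦ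
  have hinj := evalStalk_injective (homSh E (Coh.structureModule X)) N hD x
  constructor
  · exact Function.Injective.of_comp (f := evalStalk (homSh E (Coh.structureModule X)) N x)
      hbij.1
  · intro z
    obtain ⟨w, hw⟩ := hbij.2 (evalStalk (homSh E (Coh.structureModule X)) N x z)
    exact ⟨w, hinj hw⟩

/-- `N ⊗ E ≅ 𝓗om(E^∨, N)` for `E` finite locally free. -/
noncomputable def θIso (hE : FlatMod.IsFinLocFree E) :
    CohB1.tensorMod N E ≅ homSh (homSh E (Coh.structureModule X)) N :=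
  haveI := isIso_θ N E hE
  asIso (θ N E)

end Theta

/-- tensoring an injective module with a finite locally free module gives an injective module. -/
theorem injective_tensorMod_right (I E : X.Modules) [Injective I] (hE : FlatMod.IsFinLocFree E) :
    Injective (CohB1.tensorMod I E) := by
  haveI : Injective (homSh (homSh E (Coh.structureModule X)) I) :=
    injective_homSh _ I (flat_stalk _ (isFinLocFree_dual E hE))
  exact Injective.of_iso (θIso I E hE).symm inferInstance

theorem injective_tensorMod_left (I E : X.Modules) [Injective I] (hE : FlatMod.IsFinLocFree E) :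
    Injective (CohB1.tensorMod E I) := by
  haveI := injective_tensorMod_right I E hE
  exact Injective.of_iso (Tensor.braid I E) inferInstance

end Groth.Agent.Helper13.DualFinLocFree
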