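import Mathlib
import Groth.Prelude.Def_PerfAux
import Groth.Agent.Lib.Helper13.FTSub
import Groth.Agent.Lib.Helper13.CounitGen
import Groth.Agent.Lib.Helper13.FinAffine2
import Groth.Agent.Lib.Helper13.QCohLoc
import Groth.Agent.Lib.Helper13.ExtStalk
import Groth.Agent.Lib.Helper13.EpiStalk
import Groth.Agent.Lib.Helper13.PullbackLocal
import Groth.Agent.Lib.Helper13.PbUnit

/-!
# The resolution property passes up along affine morphisms

For an affine morphism `f : X ⟶ Y` to a quasi-compact quasi-separated scheme, every quasi-coherent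
`O_X`-module of finite type is a quotient of `f^* J` for a quasi-coherent `O_Y`-module `J` of finite
type.
-/

set_option autoImplicit false
set_option maxHeartbeats 400000
universe u
open CategoryTheory CategoryTheory.Limits AlgebraicGeometry Opposite TopologicalSpace
open Groth.Agent.Helper13.QCoh Groth.Agent.Helper13.FinType Groth.Agent.Helper13.PbGen
open Groth.Agent.Helper13.Qcqs Groth.Agent.Helper13.QCohLoc

namespace Groth.Agent.Helper13.ResAffine

variable {X Y : Scheme.{u}}

/-- the germs of a spanning family of sections over an affine open span the stalks of a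
quasi-coherent module. -/
theorem germSpanAt_eq_top (M : X.Modules) [M.IsQuasicoherent] {W : X.Opens} (hW : IsAffineOpen W)
    {ι : Type*} (t : ι → Γ(M, W)) (ht : Submodule.span Γ(X, W) (Set.range t) = ⊤)
    (x : W) : Ext.germSpanAt M t (x : X) x.2 = ⊤ := by
  rw [eq_top_iff]
  intro m _
  letI := modStalk M x
  haveI := isLocalizedModule_germ M hW x
  obtain ⟨⟨s, g⟩, hsg⟩ := IsLocalizedModule.surj (hW.primeIdealOf x).asIdeal.primeCompl
    (germLin M x) m
  have hloc := hW.isLocalization_stalk x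
  obtain ⟨u, hu⟩ := IsLocalization.map_units (X.presheaf.stalk (x : X)) g
  have h1 : (u : X.presheaf.stalk (x : X)) • m = M.presheaf.germ W x x.2 s := by
    rw [hu]
    exact hsg
  have h2 : m = ((u⁻¹ : (X.presheaf.stalk (x : X))ˣ) : X.presheaf.stalk (x : X)) •
      M.presheaf.germ W x x.2 s := by
    rw [← h1, smul_smul, Units.inv_mul, one_smul]
  rw [h2]
  refine Submodule.smul_mem _ _ ?_
  exact Ext.germ_mem_germSpanAt_of_mem_span M t s (by rw [ht]; trivial) x x.2

variable (f : X ⟶ Y)

/-- the pullback of a free module is free -/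
noncomputable def pullbackFreeModIso (n : ℕ) :
    (Scheme.Modules.pullback f).obj (FlatMod.freeMod Y n) ≅ FlatMod.freeMod X n :=
  PreservesCoproduct.iso (Scheme.Modules.pullback f) (fun _ : Fin n => Coh.structureModule Y) ≪≫
    Sigma.mapIso (fun _ => Groth.Agent.Helper13.PbUnit.pullbackUnitIso f)

/-- the pullback of a finite locally free module is finite locally free -/
theorem isFinLocFree_pullback (E : Y.Modules) (h : FlatMod.IsFinLocFree E) :
    FlatMod.IsFinLocFree ((Scheme.Modules.pullback f).obj E) := by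
  intro x
  obtain ⟨W, n, hx, ⟨e⟩⟩ := h (f.base x)
  refine ⟨f ⁻¹ᵁ W, n, hx, ⟨?_⟩⟩
  exact (Groth.Agent.Helper13.Pullback.pullbackRestrictIso f (f ⁻¹ᵁ W).ι W.ι (f ∣_ W)
    (morphismRestrict_ι f W).symm).app E ≪≫ (Scheme.Modules.pullback (f ∣_ W)).mapIso e ≪≫
    pullbackFreeModIso (f ∣_ W) n

theorem exists_epi_pullback_ft [IsAffineHom f] [CompactSpace Y] [QuasiSeparatedSpace Y]
    (M : X.Modules) [M.IsQuasicoherent] [SheafOfModules.IsFiniteType (R := X.ringCatSheaf) M] :
    ∃ (J : Y.Modules) (ψ : (Scheme.Modules.pullback f).obj J ⟶ M), J.IsQuasicoherent ∧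
      SheafOfModules.IsFiniteType (R := Y.ringCatSheaf) J ∧ Epi ψ := by
  haveI : ((Scheme.Modules.pushforward f).obj M).IsQuasicoherent :=
    isQuasicoherent_pushforward_of_qcqs f M
  obtain ⟨s, hsfin, hs⟩ := (isCompact_iff_finite_and_eq_biUnion_affineOpens (U := (⊤ : Y.Opens))).1
    (by simpa using isCompact_univ)
  haveI : Finite s := hsfin.to_subtype
  have hgen : ∀ V : s, ∃ (n : ℕ) (t : Fin n → Γ(M, f ⁻¹ᵁ V.1.1)),
      Submodule.span Γ(X, f ⁻¹ᵁ V.1.1) (Set.range t) = ⊤ := by
    intro V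
    haveI := finite_sections_of_isFiniteType M (V.1.2.preimage f)
    exact Module.Finite.exists_fin
  choose n t ht using hgen
  obtain ⟨J, φ, hmono, hq, hft, hg⟩ := FTSub.exists_ft_sub_through_sections
    ((Scheme.Modules.pushforward f).obj M) (Σ V : s, Fin (n V)) (fun c => c.1.1.1)
    (fun c => c.1.1.2.isCompact) (fun c => t c.1 c.2)
  choose g hg using hg
  refine ⟨J, ((Scheme.Modules.pullbackPushforwardAdjunction f).homEquiv J M).symm φ, hq, hft, ?_⟩
  set ψ := ((Scheme.Modules.pullbackPushforwardAdjunction f).homEquiv J M).symm φ with hψ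
  have hψ' : (Scheme.Modules.pullbackPushforwardAdjunction f).homEquiv J M ψ = φ := by
    rw [hψ, Equiv.apply_symm_apply]
  rw [epi_iff_stalkMap_surjective]
  intro x
  have hx : f x ∈ (⊤ : Y.Opens) := trivial
  rw [hs] at hx
  simp only [Opens.mem_iSup] at hx
  obtain ⟨V, hVs, hxV⟩ := hx
  have htop := germSpanAt_eq_top M (V.2.preimage f) (t ⟨V, hVs⟩) (ht ⟨V, hVs⟩) ⟨x, hxV⟩
  have hle : Ext.germSpanAt M (t ⟨V, hVs⟩) x hxV ≤ LinearMap.range (stalkLinearMap ψ x) := by
    apply Submodule.span_le.2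
    rintro _ ⟨k, rfl⟩
    refine ⟨((Scheme.Modules.pullback f).obj J).presheaf.germ (f ⁻¹ᵁ V.1) x hxV
      (ηsec f J V.1 (g ⟨⟨V, hVs⟩, k⟩)), ?_⟩
    rw [stalkLinearMap_apply, stalkMap_germ, ← homEquiv_app, hψ']
    exact congrArg _ (hg ⟨⟨V, hVs⟩, k⟩)
  intro m
  have hm : m ∈ Ext.germSpanAt M (t ⟨V, hVs⟩) x hxV := by rw [htop]; trivial
  obtain ⟨m', hm'⟩ := hle hm
  exact ⟨m', hm'⟩

/-- the resolution property passes up along affine morphisms to a qcqs base. -/
theorem hasResolutionProperty_of_isAffineHom [IsAffineHom f] [CompactSpace Y]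
    [QuasiSeparatedSpace Y] (hY : PerfAux.HasResolutionProperty Y) :
    PerfAux.HasResolutionProperty X := by
  intro M hM hft
  haveI : M.IsQuasicoherent := hM
  haveI : SheafOfModules.IsFiniteType (R := X.ringCatSheaf) M := hft
  obtain ⟨J, ψ, hJq, hJf, hψ⟩ := exists_epi_pullback_ft f M
  obtain ⟨E, π, hE, hπ⟩ := hY J hJq hJf
  haveI := hπ
  haveI := hψ
  haveI : (Scheme.Modules.pullback f).IsLeftAdjoint :=
    (Scheme.Modules.pullbackPushforwardAdjunction f).isLeftAdjoint
  haveI : Epi ((Scheme.Modules.pullback f).map π) := inferInstance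
  exact ⟨(Scheme.Modules.pullback f).obj E, (Scheme.Modules.pullback f).map π ≫ ψ,
    isFinLocFree_pullback f E hE, epi_comp _ _⟩

end Groth.Agent.Helper13.ResAffine
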