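import Mathlib
import Groth.Agent.Lib.Helper13.TensorFinLocFree
import Groth.Agent.Lib.Lead.HomSh1

/-!
# Sections of `M ⊗ E` over an open where `E` has a basis of sections
-/

set_option autoImplicit false
set_option maxHeartbeats 400000
universe u
open CategoryTheory CategoryTheory.Limits AlgebraicGeometry Opposite TopologicalSpace TensorProduct
open Groth.Agent.Helper13.QCoh Groth.Agent.Helper13.FinType
open Groth.Agent.Helper13.Tensor Groth.Agent.Lead.HomSh
open Groth.Agent.Helper13.StalkBasis Groth.Agent.Helper13.TensorFinLocFree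

namespace Groth.Agent.Helper13.TensorBasisSec

variable {X : Scheme.{u}} (M E : X.Modules) {n : ℕ} {U : X.Opens} (s : Fin n → Γ(E, U))

/-- the sum of the pure tensors `m i ⊗ s i`. -/
noncomputable def tsum {U' : X.Opens} (hU' : U' ≤ U) (m : Fin n → Γ(M, U')) :
    Γ(CohB1.tensorMod M E, U') :=
  ∑ i, tmul M E (m i) (E.presheaf.map (homOfLE hU').op (s i))

/-- the stalk version. -/
noncomputable def stalkSum (x : X) (hx : x ∈ U) (μ : Fin n → M.presheaf.stalk x) :
    (CohB1.tensorMod M E).presheaf.stalk x :=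
  stalkTensorEquiv M E x (∑ i, μ i ⊗ₜ E.presheaf.germ U x hx (s i))

theorem stalkSum_bijective (x : X) (hx : x ∈ U) (hb : IsBasisAt E s x hx) :
    Function.Bijective (stalkSum M E s x hx) := by
  classical
  let b := basisOf E s x hx hb
  let e : (Fin n → M.presheaf.stalk x) ≃ₗ[X.presheaf.stalk x]
      (M.presheaf.stalk x ⊗[X.presheaf.stalk x] E.presheaf.stalk x) :=
    (Finsupp.linearEquivFunOnFinite (X.presheaf.stalk x) (M.presheaf.stalk x) (Fin n)).symm.trans
      (TensorProduct.equivFinsuppOfBasisRight b).symm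
  have : stalkSum M E s x hx = fun μ => stalkTensorEquiv M E x (e μ) := by
    funext μ
    unfold stalkSum
    congr 1
    simp only [e, LinearEquiv.trans_apply, TensorProduct.equivFinsuppOfBasisRight_symm_apply]
    rw [Finsupp.sum_fintype]
    · refine Finset.sum_congr rfl (fun i _ => ?_)
      rw [basisOf_apply]
      rfl
    · intro i
      exact TensorProduct.zero_tmul _ _
  rw [this]
  exact (stalkTensorEquiv M E x).bijective.comp e.bijective

lemma germ_tsum {U' : X.Opens} (hU' : U' ≤ U) (m : Fin n → Γ(M, U')) (x : X) (hx : x ∈ U') :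
    (CohB1.tensorMod M E).presheaf.germ U' x hx (tsum M E s hU' m) =
      stalkSum M E s x (hU' hx) (fun i => M.presheaf.germ U' x hx (m i)) := by
  unfold tsum stalkSum
  rw [map_sum, map_sum]
  refine Finset.sum_congr rfl (fun i _ => ?_)
  rw [← TopCat.Presheaf.germ_res_apply E.presheaf (homOfLE hU') x hx (s i), stalkTensorEquiv_germ]

lemma tsum_res {U' U'' : X.Opens} (hU' : U' ≤ U) (i : U'' ⟶ U') (m : Fin n → Γ(M, U')) :
    (CohB1.tensorMod M E).presheaf.map i.op (tsum M E s hU' m) =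
      tsum M E s (i.le.trans hU') (fun k => M.presheaf.map i.op (m k)) := by
  unfold tsum
  rw [map_sum]
  refine Finset.sum_congr rfl (fun k _ => ?_)
  rw [tmul_res, ← ConcreteCategory.comp_apply, ← E.presheaf.map_comp]
  rfl

theorem tsum_injective {U' : X.Opens} (hU' : U' ≤ U)
    (hb : ∀ (x : X) (hx : x ∈ U), IsBasisAt E s x hx) :
    Function.Injective (tsum M E s hU') := by
  intro m m' h
  funext i
  apply sec_ext' M
  intro y
  have := congrArg ((CohB1.tensorMod M E).presheaf.germ U' y.1 y.2) h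
  rw [germ_tsum, germ_tsum] at this
  exact congrFun ((stalkSum_bijective M E s y.1 (hU' y.2) (hb _ _)).1 this) i

theorem tsum_surjective {U' : X.Opens} (hU' : U' ≤ U)
    (hb : ∀ (x : X) (hx : x ∈ U), IsBasisAt E s x hx) :
    Function.Surjective (tsum M E s hU') := by
  intro t
  have hex : ∀ y : U', ∃ κ : Fin n → M.presheaf.stalk y.1,
      stalkSum M E s y.1 (hU' y.2) κ = (CohB1.tensorMod M E).presheaf.germ U' y.1 y.2 t :=
    fun y => (stalkSum_bijective M E s y.1 (hU' y.2) (hb _ _)).2 _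
  choose κ hκ using hex
  have hloc : ∀ y : U', ∃ (W' : X.Opens) (_ : y.1 ∈ W') (j : W' ⟶ U') (m : Fin n → Γ(M, W')),
      ∀ (z : W') (i : Fin n), M.presheaf.germ W' z.1 z.2 (m i) = κ ⟨z.1, j.le z.2⟩ i := by
    intro y
    obtain ⟨W₁, hy₁, m₁, hm₁⟩ := exists_common_germ M y.1 (κ y)
    have hy₂ : y.1 ∈ W₁ ⊓ U' := ⟨hy₁, y.2⟩
    let m₂ : Fin n → Γ(M, W₁ ⊓ U') := fun i =>
      M.presheaf.map (homOfLE (inf_le_left : W₁ ⊓ U' ≤ W₁)).op (m₁ i)
    have hW₂ : W₁ ⊓ U' ≤ U := inf_le_right.trans hU'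
    let jU : W₁ ⊓ U' ⟶ U' := homOfLE inf_le_right
    have hg : (CohB1.tensorMod M E).presheaf.germ (W₁ ⊓ U') y.1 hy₂ (tsum M E s hW₂ m₂) =
        (CohB1.tensorMod M E).presheaf.germ (W₁ ⊓ U') y.1 hy₂
          ((CohB1.tensorMod M E).presheaf.map jU.op t) := by
      rw [germ_tsum, TopCat.Presheaf.germ_res_apply, ← hκ y]
      congr 1
      funext i
      rw [TopCat.Presheaf.germ_res_apply]
      exact hm₁ i
    obtain ⟨W₃, hy₃, iU, iV, hres⟩ := TopCat.Presheaf.germ_eq _ y.1 hy₂ hy₂ _ _ hg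
    refine ⟨W₃, hy₃, iU ≫ jU, fun i => M.presheaf.map iU.op (m₂ i), ?_⟩
    intro z i
    have hz₂ : z.1 ∈ W₁ ⊓ U' := iU.le z.2
    have h1 : stalkSum M E s z.1 (hW₂ hz₂) (fun i => M.presheaf.germ (W₁ ⊓ U') z.1 hz₂ (m₂ i)) =
        stalkSum M E s z.1 (hW₂ hz₂) (κ ⟨z.1, (iU ≫ jU).le z.2⟩) := by
      refine Eq.trans ?_ (hκ ⟨z.1, (iU ≫ jU).le z.2⟩).symm
      rw [← germ_tsum M E s hW₂ m₂ z.1 hz₂,
        ← TopCat.Presheaf.germ_res_apply _ iU z.1 z.2 (tsum M E s hW₂ m₂), hres,
        TopCat.Presheaf.germ_res_apply, TopCat.Presheaf.germ_res_apply]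
    have h2 := (stalkSum_bijective M E s z.1 (hW₂ hz₂) (hb _ _)).1 h1
    rw [TopCat.Presheaf.germ_res_apply]
    exact congrFun h2 i
  have hglue : ∀ i, ∃ mi : Γ(M, U'), ∀ y : U', M.presheaf.germ U' y.1 y.2 mi = κ y i := by
    intro i
    apply exists_glue M U' (fun y => κ y i)
    intro y
    obtain ⟨W', hyW', j, m, hm⟩ := hloc y
    exact ⟨W', hyW', j, m i, fun z => hm z i⟩
  choose m hm using hglue
  refine ⟨m, ?_⟩
  apply sec_ext' (CohB1.tensorMod M E)
  intro y
  rw [germ_tsum, ← hκ y]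
  congr 1
  funext i
  exact hm i y

end Groth.Agent.Helper13.TensorBasisSec
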