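import Mathlib
import Groth.Agent.Lib.Helper13.DualFinLocFree
import Groth.Agent.Lib.Helper13.TensorBasisSec
import Groth.Agent.Lib.Helper13.PbGen
import Groth.Agent.Lib.Helper13.PullbackStalk
import Groth.Agent.Lib.Helper13.StalkBasis3
import Groth.Agent.Lib.Helper13.ResAffine

/-!
# The projection formula `f_* M ⊗ E ≅ f_* (M ⊗ f^* E)` for a finite locally free module `E`
-/

set_option autoImplicit false
set_option maxHeartbeats 400000
universe u
open CategoryTheory CategoryTheory.Limits AlgebraicGeometry Opposite TopologicalSpace TensorProduct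
open Groth.Agent.Helper13.QCoh Groth.Agent.Helper13.FinType Groth.Agent.Helper13.LocFree
open Groth.Agent.Helper13.Tensor Groth.Agent.Helper13.TensorFunctor
open Groth.Agent.Lead.HomSh Groth.Agent.Helper13.PbGen
open Groth.Agent.Helper13.StalkBasis Groth.Agent.Helper13.TensorFinLocFree
open Groth.Agent.Helper13.TensorBasisSec

namespace Groth.Agent.Helper13.ProjFormulaLF

variable {X Y : Scheme.{u}}

/-- a section is, near a point where the `s i` generate the stalk, a combination of the `s i`. -/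
lemma exists_local_expansion (E : Y.Modules) {n : ℕ} {V U : Y.Opens} (s : Fin n → Γ(E, V))
    (a : Γ(E, U)) (y : Y) (hyV : y ∈ V) (hyU : y ∈ U)
    (hspan : Submodule.span (Y.presheaf.stalk y)
      (Set.range fun i => E.presheaf.germ V y hyV (s i)) = ⊤) :
    ∃ (W : Y.Opens) (_ : y ∈ W) (hWU : W ≤ U) (hWV : W ≤ V) (c : Fin n → Γ(Y, W)),
      E.presheaf.map (homOfLE hWU).op a = ∑ i, c i • E.presheaf.map (homOfLE hWV).op (s i) := by
  have hm : E.presheaf.germ U y hyU a ∈ Submodule.span (Y.presheaf.stalk y)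
      (Set.range fun i => E.presheaf.germ V y hyV (s i)) := by
    rw [hspan]; trivial
  obtain ⟨γ, hγ⟩ := (Submodule.mem_span_range_iff_exists_fun _).1 hm
  obtain ⟨U₁, hy₁, c₁, hc₁⟩ := exists_common_germ_ring y γ
  have hy₂ : y ∈ U ⊓ V ⊓ U₁ := ⟨⟨hyU, hyV⟩, hy₁⟩
  have hWU : U ⊓ V ⊓ U₁ ≤ U := inf_le_left.trans inf_le_left
  have hWV : U ⊓ V ⊓ U₁ ≤ V := inf_le_left.trans inf_le_right
  have hW1 : U ⊓ V ⊓ U₁ ≤ U₁ := inf_le_right
  let c₂ : Fin n → Γ(Y, U ⊓ V ⊓ U₁) := fun i => Y.presheaf.map (homOfLE hW1).op (c₁ i)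
  have hg : E.presheaf.germ (U ⊓ V ⊓ U₁) y hy₂ (E.presheaf.map (homOfLE hWU).op a) =
      E.presheaf.germ (U ⊓ V ⊓ U₁) y hy₂ (∑ i, c₂ i • E.presheaf.map (homOfLE hWV).op (s i)) := by
    rw [TopCat.Presheaf.germ_res_apply, map_sum, ← hγ]
    refine Finset.sum_congr rfl (fun i _ => ?_)
    rw [Mero.germ_smul, TopCat.Presheaf.germ_res_apply, TopCat.Presheaf.germ_res_apply, hc₁ i]
  obtain ⟨W₃, hy₃, iU, iV, hres⟩ := TopCat.Presheaf.germ_eq E.presheaf y hy₂ hy₂ _ _ hg
  refine ⟨W₃, hy₃, iU.le.trans hWU, iU.le.trans hWV, fun i => Y.presheaf.map iV.op (c₂ i), ?_⟩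
  have e1 : E.presheaf.map (homOfLE (iU.le.trans hWU)).op a =
      E.presheaf.map iU.op (E.presheaf.map (homOfLE hWU).op a) := by
    rw [← ConcreteCategory.comp_apply, ← E.presheaf.map_comp]
    rfl
  rw [e1, hres, map_sum]
  refine Finset.sum_congr rfl (fun i _ => ?_)
  rw [Scheme.Modules.map_smul]
  congr 1
  rw [← ConcreteCategory.comp_apply, ← E.presheaf.map_comp]
  rfl

variable (f : X ⟶ Y) (E : Y.Modules)

/-- the pulled-back sections. -/
noncomputable def pullSec {n : ℕ} {V : Y.Opens} (s : Fin n → Γ(E, V)) :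
    Fin n → Γ((Scheme.Modules.pullback f).obj E, f ⁻¹ᵁ V) := fun i => ηsec f E V (s i)

theorem span_pullSec_eq_top {n : ℕ} {V : Y.Opens} (s : Fin n → Γ(E, V)) (x : X) (hx : f x ∈ V)
    (hspan : Submodule.span (Y.presheaf.stalk (f x))
      (Set.range fun i => E.presheaf.germ V (f x) hx (s i)) = ⊤) :
    Submodule.span (X.presheaf.stalk x) (Set.range fun i =>
      ((Scheme.Modules.pullback f).obj E).presheaf.germ (f ⁻¹ᵁ V) x hx (pullSec f E s i)) = ⊤ := by
  rw [eq_top_iff, ← genSpan_eq_top f E x]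
  unfold genSpan
  apply Submodule.span_le.2
  rintro m ⟨U, hz, a, rfl⟩
  obtain ⟨W, hW, hWU, hWV, c, hc⟩ := exists_local_expansion E s a (f x) hx hz hspan
  have hxW : x ∈ f ⁻¹ᵁ W := hW
  have e1 : ((Scheme.Modules.pullback f).obj E).presheaf.germ (f ⁻¹ᵁ U) x hz (ηsec f E U a) =
      ((Scheme.Modules.pullback f).obj E).presheaf.germ (f ⁻¹ᵁ W) x hxW
        (ηsec f E W (E.presheaf.map (homOfLE hWU).op a)) := by
    rw [ηsec_res, TopCat.Presheaf.germ_res_apply]
  rw [e1, hc]
  have e2 : ηsec f E W (∑ i, c i • E.presheaf.map (homOfLE hWV).op (s i)) =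
      ∑ i, f.app W (c i) • ηsec f E W (E.presheaf.map (homOfLE hWV).op (s i)) := by
    unfold ηsec
    rw [map_sum]
    refine Finset.sum_congr rfl (fun i _ => ?_)
    exact ηsec_smul f E W (c i) _
  rw [e2, map_sum]
  refine Submodule.sum_mem _ (fun i _ => ?_)
  rw [Mero.germ_smul]
  refine Submodule.smul_mem _ _ (Submodule.subset_span ⟨i, ?_⟩)
  rw [ηsec_res, TopCat.Presheaf.germ_res_apply]
  rfl

/-- the pull-back of a local basis of `E` is a local basis of `f^* E`. -/
theorem isBasisAt_pullSec (hE : FlatMod.IsFinLocFree E) {n : ℕ} {V : Y.Opens} (s : Fin n → Γ(E, V))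
    (x : X) (hx : f x ∈ V) (hb : IsBasisAt E s (f x) hx) :
    IsBasisAt ((Scheme.Modules.pullback f).obj E) (pullSec f E s) x hx := by
  haveI := Groth.Agent.Helper13.ResFinLocFree.isQuasicoherent_of_isFinLocFree E hE
  have hE' := Groth.Agent.Helper13.ResAffine.isFinLocFree_pullback f E hE
  obtain ⟨hfree, hfin⟩ := Groth.Agent.Helper13.DualFinLocFree.free_finite_stalk _ hE' x
  apply isBasisAt_of_span_of_free
  · letI := (f.stalkMap x).hom.toAlgebra
    obtain ⟨e⟩ := Groth.Agent.Helper13.Pullback.exists_stalk_pullback_equiv f E x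
    rw [e.finrank_eq]
    have b := basisOf E s (f x) hx hb
    haveI : Module.Free (Y.presheaf.stalk (f x)) (E.presheaf.stalk (f x)) := Module.Free.of_basis b
    rw [Module.finrank_baseChange, Module.finrank_eq_card_basis b, Fintype.card_fin]
  · exact span_pullSec_eq_top f E s x hx
      (Groth.Agent.Helper13.DualFinLocFree.span_germ_eq_top_of_isBasisAt E s (f x) hx hb)

section Nu

variable (M : X.Modules)

/-- the pairing on sections `(m, e) ↦ m ⊗ f^* e`. -/
noncomputable def pairSec (V : Y.Opens) (m : Γ((Scheme.Modules.pushforward f).obj M, V))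
    (e : Γ(E, V)) :
    Γ((Scheme.Modules.pushforward f).obj (CohB1.tensorMod M ((Scheme.Modules.pullback f).obj E)), V) :=
  (show Γ(CohB1.tensorMod M ((Scheme.Modules.pullback f).obj E), f ⁻¹ᵁ V) from
    tmul M ((Scheme.Modules.pullback f).obj E) (show Γ(M, f ⁻¹ᵁ V) from m) (ηsec f E V e))

lemma map_self (F : X.Modules) {U : X.Opens} (i : U ⟶ U) (t : Γ(F, U)) :
    F.presheaf.map i.op t = t := by
  have : i = 𝟙 U := Subsingleton.elim _ _
  rw [this, op_id, F.presheaf.map_id]
  rfl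

section aux

variable {V : Y.Opens} (m m' : Γ(M, f ⁻¹ᵁ V)) (e e' : Γ(E, V)) (r : Γ(Y, V))

lemma aux_add_left : tmul M ((Scheme.Modules.pullback f).obj E) (m + m') (ηsec f E V e) =
    tmul M _ m (ηsec f E V e) + tmul M _ m' (ηsec f E V e) := tmul_add_left _ _ _ _ _

lemma aux_smul_left : tmul M ((Scheme.Modules.pullback f).obj E) (f.app V r • m) (ηsec f E V e) =
    f.app V r • tmul M _ m (ηsec f E V e) := tmul_smul_left _ _ _ _ _

lemma aux_add_right : tmul M ((Scheme.Modules.pullback f).obj E) m (ηsec f E V (e + e')) =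
    tmul M _ m (ηsec f E V e) + tmul M _ m (ηsec f E V e') := by
  rw [ηsec_add]
  exact tmul_add_right _ _ _ _ _

lemma aux_smul_right : tmul M ((Scheme.Modules.pullback f).obj E) m (ηsec f E V (r • e)) =
    f.app V r • tmul M _ m (ηsec f E V e) := by
  rw [ηsec_smul]
  exact tmul_smul_right _ _ _ _ _

lemma aux_res {V' : Y.Opens} (i : V' ⟶ V) :
    (CohB1.tensorMod M ((Scheme.Modules.pullback f).obj E)).presheaf.map
      ((Opens.map f.base).map i).op (tmul M _ m (ηsec f E V e)) =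
    tmul M _ (M.presheaf.map ((Opens.map f.base).map i).op m)
      (ηsec f E V' (E.presheaf.map i.op e)) := by
  rw [tmul_res, ηsec_res]

end aux

/-- the bilinear family. -/
noncomputable def νFamily : BilinFamily ((Scheme.Modules.pushforward f).obj M) E
    ((Scheme.Modules.pushforward f).obj
      (CohB1.tensorMod M ((Scheme.Modules.pullback f).obj E))) where
  β V := LinearMap.mk₂ Γ(Y, V) (pairSec f E M V)
    (fun m m' e => aux_add_left f E M (show Γ(M, f ⁻¹ᵁ V) from m) (show Γ(M, f ⁻¹ᵁ V) from m') e)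
    (fun r m e => aux_smul_left f E M (show Γ(M, f ⁻¹ᵁ V) from m) e r)
    (fun m e e' => aux_add_right f E M (show Γ(M, f ⁻¹ᵁ V) from m) e e')
    (fun r m e => aux_smul_right f E M (show Γ(M, f ⁻¹ᵁ V) from m) e r)
  res {V _} i m e := aux_res f E M (show Γ(M, f ⁻¹ᵁ V) from m) e i

/-- the projection formula map `f_* M ⊗ E ⟶ f_* (M ⊗ f^* E)`. -/
noncomputable def ν : CohB1.tensorMod ((Scheme.Modules.pushforward f).obj M) E ⟶
    (Scheme.Modules.pushforward f).obj (CohB1.tensorMod M ((Scheme.Modules.pullback f).obj E)) :=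
  (νFamily f E M).hom

lemma ν_app_tmul {V : Y.Opens} (m : Γ((Scheme.Modules.pushforward f).obj M, V)) (e : Γ(E, V)) :
    (ν f E M).app V (tmul _ E m e) = pairSec f E M V m e :=
  (νFamily f E M).hom_app_tmul m e

theorem app_bijective (hE : FlatMod.IsFinLocFree E) {W : Y.Opens} {n : ℕ} (s : Fin n → Γ(E, W))
    (hb : ∀ (y : Y) (hy : y ∈ W), IsBasisAt E s y hy) :
    Function.Bijective ((ν f E M).app W) := by
  have hY : Function.Bijective (tsum ((Scheme.Modules.pushforward f).obj M) E s (le_refl W)) :=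
    ⟨tsum_injective _ E s _ hb, tsum_surjective _ E s _ hb⟩
  have hb' : ∀ (x : X) (hx : x ∈ f ⁻¹ᵁ W),
      IsBasisAt ((Scheme.Modules.pullback f).obj E) (pullSec f E s) x hx :=
    fun x hx => isBasisAt_pullSec f E hE s x hx (hb (f x) hx)
  have hX : Function.Bijective (tsum M ((Scheme.Modules.pullback f).obj E) (pullSec f E s)
      (le_refl (f ⁻¹ᵁ W))) :=
    ⟨tsum_injective _ _ _ _ hb', tsum_surjective _ _ _ _ hb'⟩
  have hcomp : ∀ m : Fin n → Γ(M, f ⁻¹ᵁ W),
      (ν f E M).app W (tsum ((Scheme.Modules.pushforward f).obj M) E s (le_refl W) m) =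
        tsum M ((Scheme.Modules.pullback f).obj E) (pullSec f E s) (le_refl (f ⁻¹ᵁ W)) m := by
    intro m
    unfold TensorBasisSec.tsum
    rw [map_sum]
    refine Finset.sum_congr rfl (fun i _ => ?_)
    rw [ν_app_tmul]
    unfold pairSec
    rw [map_self, map_self]
    rfl
  refine (Function.Bijective.of_comp_iff _ hY).1 ?_
  have : (⇑(ConcreteCategory.hom ((ν f E M).app W))) ∘
      (tsum ((Scheme.Modules.pushforward f).obj M) E s (le_refl W)) =
      tsum M ((Scheme.Modules.pullback f).obj E) (pullSec f E s) (le_refl (f ⁻¹ᵁ W)) :=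
    funext hcomp
  rw [this]
  exact hX

theorem isIso_ν (hE : FlatMod.IsFinLocFree E) : IsIso (ν f E M) := by
  let B : Set Y.Opens := {W | ∃ (n : ℕ) (s : Fin n → Γ(E, W)),
    ∀ (y : Y) (hy : y ∈ W), IsBasisAt E s y hy}
  have hB : Opens.IsBasis B := by
    rw [Opens.isBasis_iff_nbhd]
    intro O y hy
    obtain ⟨V, n, s, hyV, hb⟩ := exists_isBasisAt_of_isFinLocFree E hE y
    refine ⟨V ⊓ O, ⟨n, fun i => E.presheaf.map (homOfLE (inf_le_left : V ⊓ O ≤ V)).op (s i),
      fun z hz => ?_⟩, ⟨hyV, hy⟩, inf_le_right⟩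
    exact (isBasisAt_res E (homOfLE (inf_le_left : V ⊓ O ≤ V)) s z hz).2 (hb z hz.1)
  apply isIso_of_app_bijective_of_isBasis _ hB
  rintro W ⟨n, s, hb⟩
  exact app_bijective f E M hE s hb

theorem ν_naturality {M M' : X.Modules} (φ : M ⟶ M') :
    Tensor.map ((Scheme.Modules.pushforward f).map φ) (𝟙 E) ≫ ν f E M' =
      ν f E M ≫ (Scheme.Modules.pushforward f).map
        (Tensor.map φ (𝟙 ((Scheme.Modules.pullback f).obj E))) := by
  apply Tensor.hom_ext
  intro V m e
  rw [Scheme.Modules.Hom.comp_app, ConcreteCategory.comp_apply, map_app_tmul, ν_app_tmul,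
    Scheme.Modules.Hom.comp_app, ConcreteCategory.comp_apply, ν_app_tmul]
  unfold pairSec
  exact (map_app_tmul φ (𝟙 ((Scheme.Modules.pullback f).obj E)) _ _).symm

/-- **the projection formula** for a finite locally free module, as a natural isomorphism. -/
noncomputable def νIso (hE : FlatMod.IsFinLocFree E) :
    Scheme.Modules.pushforward f ⋙ tensorRight E ≅
      tensorRight ((Scheme.Modules.pullback f).obj E) ⋙ Scheme.Modules.pushforward f :=
  NatIso.ofComponents (fun M => @asIso _ _ _ _ (ν f E M) (isIso_ν f E M hE))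
    (fun φ => ν_naturality f E φ)

end Nu

end Groth.Agent.Helper13.ProjFormulaLF
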