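import Mathlib

/-!
# Flat base change: the algebraic gluing lemma
-/

set_option autoImplicit false
universe u v
open TensorProduct

namespace Groth.Agent.Helper13.FlatBC

section Glue

variable {A A' : Type u} [CommRing A] [CommRing A'] [Algebra A A'] [Module.Flat A A']
  {I T : Type v} [Fintype I] [Fintype T]
  {N : Type u} [AddCommGroup N] [Module A N]
  {Ni : I → Type u} [∀ i, AddCommGroup (Ni i)] [∀ i, Module A (Ni i)]
  {Nt : T → Type u} [∀ t, AddCommGroup (Nt t)] [∀ t, Module A (Nt t)]
  (r : ∀ i, N →ₗ[A] Ni i) (a b : T → I) (ρ : ∀ t, Ni (a t) →ₗ[A] Nt t)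
  (σ : ∀ t, Ni (b t) →ₗ[A] Nt t)

lemma piRight_lTensor_pi [DecidableEq I] (z : A' ⊗[A] N) (i : I) :
    TensorProduct.piRight A A A' Ni ((LinearMap.pi r).lTensor A' z) i = (r i).lTensor A' z := by
  induction z using TensorProduct.induction_on with
  | zero => simp only [map_zero, Pi.zero_apply]
  | tmul x n => rfl
  | add x y hx hy => simp only [map_add, Pi.add_apply, hx, hy]

lemma piRight_lTensor_proj [DecidableEq I] (w : A' ⊗[A] (∀ i, Ni i)) (i : I) :
    TensorProduct.piRight A A A' Ni w i = (LinearMap.proj i).lTensor A' w := by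
  induction w using TensorProduct.induction_on with
  | zero => simp only [map_zero, Pi.zero_apply]
  | tmul x n => rfl
  | add x y hx hy => simp only [map_add, Pi.add_apply, hx, hy]

variable {r a b ρ σ}

theorem bijective_glue
    (hcomp : ∀ t m, ρ t (r (a t) m) = σ t (r (b t) m))
    (hsep : ∀ n : N, (∀ i, r i n = 0) → n = 0)
    (hglue : ∀ n : ∀ i, Ni i, (∀ t, ρ t (n (a t)) = σ t (n (b t))) → ∃ m : N, ∀ i, r i m = n i)
    {P : Type u} [AddCommGroup P] {Pi : I → Type u} [∀ i, AddCommGroup (Pi i)]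
    {Pt : T → Type u} [∀ t, AddCommGroup (Pt t)]
    (r' : ∀ i, P →+ Pi i) (ρ' : ∀ t, Pi (a t) →+ Pt t) (σ' : ∀ t, Pi (b t) →+ Pt t)
    (hcomp' : ∀ t p, ρ' t (r' (a t) p) = σ' t (r' (b t) p))
    (hsep' : ∀ p : P, (∀ i, r' i p = 0) → p = 0)
    (ψ : A' ⊗[A] N →+ P) (ψi : ∀ i, A' ⊗[A] Ni i →+ Pi i) (ψt : ∀ t, A' ⊗[A] Nt t →+ Pt t)
    (hψi : ∀ i, Function.Bijective (ψi i)) (hψt : ∀ t, Function.Injective (ψt t))
    (c1 : ∀ i z, r' i (ψ z) = ψi i ((r i).lTensor A' z))
    (c2 : ∀ t w, ρ' t (ψi (a t) w) = ψt t ((ρ t).lTensor A' w))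
    (c3 : ∀ t w, σ' t (ψi (b t) w) = ψt t ((σ t).lTensor A' w)) :
    Function.Bijective ψ := by
  classical
  let R : N →ₗ[A] (∀ i, Ni i) := LinearMap.pi r
  let D : (∀ i, Ni i) →ₗ[A] (∀ t, Nt t) :=
    LinearMap.pi (fun t => ρ t ∘ₗ LinearMap.proj (a t) - σ t ∘ₗ LinearMap.proj (b t))
  have hR : Function.Injective R := by
    rw [injective_iff_map_eq_zero]
    intro n hn
    exact hsep n (fun i => congrFun hn i)
  have hex : Function.Exact R D := by
    intro n
    constructor
    · intro hn
      have h1 : ∀ t, ρ t (n (a t)) = σ t (n (b t)) := by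
        intro t
        have := congrFun hn t
        exact sub_eq_zero.mp this
      obtain ⟨m, hm⟩ := hglue n h1
      exact ⟨m, funext hm⟩
    · rintro ⟨m, rfl⟩
      funext t
      exact sub_eq_zero.mpr (hcomp t m)
  have hR' : Function.Injective (R.lTensor A') :=
    Module.Flat.lTensor_preserves_injective_linearMap R hR
  have hex' : Function.Exact (R.lTensor A') (D.lTensor A') := Module.Flat.lTensor_exact A' hex
  constructor
  · rw [injective_iff_map_eq_zero]
    intro z hz
    apply hR'
    rw [map_zero]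
    apply (TensorProduct.piRight A A A' Ni).injective
    rw [map_zero]
    funext i
    rw [piRight_lTensor_pi]
    change (r i).lTensor A' z = 0
    apply (hψi i).1
    rw [← c1, hz, map_zero, map_zero]
  · intro p
    choose w hw using fun i => (hψi i).2 (r' i p)
    let W : A' ⊗[A] (∀ i, Ni i) := (TensorProduct.piRight A A A' Ni).symm w
    have hWi : ∀ i, (LinearMap.proj i).lTensor A' W = w i := by
      intro i
      rw [← piRight_lTensor_proj]
      exact congrFun ((TensorProduct.piRight A A A' Ni).apply_symm_apply w) i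
    have hDW : D.lTensor A' W = 0 := by
      apply (TensorProduct.piRight A A A' Nt).injective
      rw [map_zero]
      funext t
      rw [piRight_lTensor_proj]
      change (LinearMap.proj t).lTensor A' (D.lTensor A' W) = 0
      rw [← LinearMap.comp_apply, ← LinearMap.lTensor_comp]
      have e1 : LinearMap.proj t ∘ₗ D =
          ρ t ∘ₗ LinearMap.proj (a t) - σ t ∘ₗ LinearMap.proj (b t) := rfl
      rw [e1, LinearMap.lTensor_sub, LinearMap.sub_apply, LinearMap.lTensor_comp,
        LinearMap.lTensor_comp, LinearMap.comp_apply, LinearMap.comp_apply, hWi, hWi]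
      apply hψt t
      rw [map_sub, ← c2, ← c3, hw, hw, hcomp', sub_self, map_zero]
    obtain ⟨z, hz⟩ := (hex' W).mp hDW
    refine ⟨z, ?_⟩
    have h2 : ∀ i, r' i (ψ z - p) = 0 := by
      intro i
      rw [map_sub, c1, ← piRight_lTensor_pi, show (LinearMap.pi r).lTensor A' z = W from hz,
        piRight_lTensor_proj, hWi, hw, sub_self]
    exact sub_eq_zero.mp (hsep' _ h2)

end Glue

end Groth.Agent.Helper13.FlatBC
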