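import Mathlib
import Groth.Agent.Lib.Helper28.AffBC
import Groth.Agent.Lib.Helper13.FlatBC1
import Groth.Agent.Lib.Helper13.Qcqs

/-!
# Flat base change for quasi-compact quasi-separated morphisms: the maps `ψ_W`
-/

set_option autoImplicit false
set_option maxRecDepth 8000
universe u
open CategoryTheory AlgebraicGeometry Opposite TopologicalSpace TensorProduct
open Groth.Agent.Helper13.QCoh Groth.Agent.Helper13.Pullback Groth.Agent.Helper18.PbCompat
open Groth.Agent.Helper18.Rec Groth.Agent.Helper13.Qcqs OmegaSh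

namespace Groth.Agent.Helper13.FlatBC

section PullRes

variable {X Y : Scheme.{u}} (j : X ⟶ Y) (G : Y.Modules)

lemma pullRes_eq_res {U : X.Opens} {V : Y.Opens} (e : U ≤ j ⁻¹ᵁ V) (t : Γ(G, V)) :
    pullRes j G e t = res ((Scheme.Modules.pullback j).obj G) e (pullSect j G V t) := rfl

lemma pullRes_add {U : X.Opens} {V : Y.Opens} (e : U ≤ j ⁻¹ᵁ V) (t t' : Γ(G, V)) :
    pullRes j G e (t + t') = pullRes j G e t + pullRes j G e t' := by
  rw [pullRes_eq_res, pullRes_eq_res, pullRes_eq_res, map_add, map_add]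

lemma pullRes_zero {U : X.Opens} {V : Y.Opens} (e : U ≤ j ⁻¹ᵁ V) :
    pullRes j G e (0 : Γ(G, V)) = 0 := by
  rw [pullRes_eq_res, map_zero, map_zero]

lemma pullRes_smul {U : X.Opens} {V : Y.Opens} (e : U ≤ j ⁻¹ᵁ V) (b : Γ(Y, V)) (t : Γ(G, V)) :
    pullRes j G e (b • t) = (j.appLE V U e).hom b • pullRes j G e t := by
  rw [pullRes_eq_res, pullRes_eq_res]
  have h1 : pullSect j G V (b • t) = (j.app V).hom b • pullSect j G V t :=
    Groth.Agent.Helper13.PbGen.ηsec_smul j G V b t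
  rw [h1, res_smul]
  rfl

lemma res_pullRes {U U₂ : X.Opens} {V : Y.Opens} (e : U ≤ j ⁻¹ᵁ V) (h : U₂ ≤ U) (t : Γ(G, V)) :
    res ((Scheme.Modules.pullback j).obj G) h (pullRes j G e t) = pullRes j G (h.trans e) t := by
  rw [pullRes_eq_res, pullRes_eq_res, Qcqs.res_res]

lemma pullRes_res {U : X.Opens} {V V₂ : Y.Opens} (hV : V₂ ≤ V) (e : U ≤ j ⁻¹ᵁ V₂) (t : Γ(G, V)) :
    pullRes j G e (res G hV t) = pullRes j G (e.trans (j.preimage_mono hV)) t := by
  rw [pullRes_eq_res, pullRes_eq_res]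
  have h1 : pullSect j G V₂ (res G hV t) =
      res ((Scheme.Modules.pullback j).obj G) (j.preimage_mono hV) (pullSect j G V t) :=
    Groth.Agent.Helper13.PbGen.ηsec_res j G (homOfLE hV) t
  rw [h1, Qcqs.res_res]

end PullRes

section Sheaf

variable {X : Scheme.{u}} (F : X.Modules)

lemma eq_of_res_eq {ι : Type u} (U : ι → X.Opens) (W : X.Opens) (hU : ∀ i, U i ≤ W)
    (hcov : W ≤ iSup U) (s t : Γ(F, W)) (h : ∀ i, res F (hU i) s = res F (hU i) t) : s = t :=
  TopCat.Sheaf.eq_of_locally_eq' ⟨F.presheaf, F.isSheaf⟩ U W (fun i => homOfLE (hU i)) hcov s t h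

lemma exists_glue {ι : Type u} (U : ι → X.Opens) (W : X.Opens) (hU : ∀ i, U i ≤ W)
    (hcov : W ≤ iSup U) (sf : ∀ i, Γ(F, U i))
    (hc : ∀ i j, res F (inf_le_left : U i ⊓ U j ≤ U i) (sf i) =
      res F (inf_le_right : U i ⊓ U j ≤ U j) (sf j)) :
    ∃ s : Γ(F, W), ∀ i, res F (hU i) s = sf i := by
  obtain ⟨s, hs, -⟩ := TopCat.Sheaf.existsUnique_gluing' ⟨F.presheaf, F.isSheaf⟩ U W
    (fun i => homOfLE (hU i)) hcov sf (fun i j => hc i j)
  exact ⟨s, hs⟩

end Sheaf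

section Datum

variable {X S X' S' : Scheme.{u}} (f : X ⟶ S) (g : S' ⟶ S) (g' : X' ⟶ X) (f' : X' ⟶ S')

/-- an affine-local datum on the base -/
structure Datum where
  /-- an open of the base -/
  V : S.Opens
  /-- an open of the new base -/
  V' : S'.Opens
  /-- the second lies over the first -/
  e : V' ≤ g ⁻¹ᵁ V

variable {g}

/-- the ring `Γ(S, V)` -/
abbrev RA (d : Datum g) : Type u := Γ(S, d.V)

/-- the ring `Γ(S', V')` -/
abbrev RA' (d : Datum g) : Type u := Γ(S', d.V')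

noncomputable instance (d : Datum g) : Algebra (RA d) (RA' d) :=
  (g.appLE d.V d.V' d.e).hom.toAlgebra

lemma algebraMap_RA (d : Datum g) (a : RA d) :
    algebraMap (RA d) (RA' d) a = (g.appLE d.V d.V' d.e).hom a := rfl

/-- opens of `X` inside `f⁻¹V` -/
abbrev Sub (d : Datum g) : Type u := {W : X.Opens // W ≤ f ⁻¹ᵁ d.V}

variable (M : X.Modules)

/-- sections of `M` over `W`, as a module over `Γ(S, V)` -/
def SecV (d : Datum g) (W : Sub f d) : Type u := Γ(M, W.1)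

noncomputable instance (d : Datum g) (W : Sub f d) : AddCommGroup (SecV f M d W) :=
  inferInstanceAs (AddCommGroup Γ(M, W.1))

noncomputable instance (d : Datum g) (W : Sub f d) : Module (RA d) (SecV f M d W) :=
  Module.compHom Γ(M, W.1) (f.appLE d.V W.1 W.2).hom

variable {f M} in
/-- the underlying section of an element of `SecV` -/
def SecV.out {d : Datum g} {W : Sub f d} (t : SecV f M d W) : Γ(M, W.1) := t

variable {f M} in
lemma SecV.out_add {d : Datum g} {W : Sub f d} (t t' : SecV f M d W) :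
    (t + t').out = t.out + t'.out := rfl

variable {f M} in
lemma SecV.out_zero {d : Datum g} {W : Sub f d} : (0 : SecV f M d W).out = 0 := rfl

variable {f M} in
lemma SecV.out_smul {d : Datum g} {W : Sub f d} (a : RA d) (t : SecV f M d W) :
    (a • t).out = (f.appLE d.V W.1 W.2).hom a • t.out := rfl

variable {f M} in
lemma SecV.out_injective {d : Datum g} {W : Sub f d} :
    Function.Injective (SecV.out : SecV f M d W → Γ(M, W.1)) := fun _ _ h => h

/-- the open `g'⁻¹W ∩ f'⁻¹V'` -/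
def pre (d : Datum g) (W : X.Opens) : X'.Opens := g' ⁻¹ᵁ W ⊓ f' ⁻¹ᵁ d.V'

lemma pre_le_left (d : Datum g) (W : X.Opens) : pre g' f' d W ≤ g' ⁻¹ᵁ W := inf_le_left

lemma pre_le_right (d : Datum g) (W : X.Opens) : pre g' f' d W ≤ f' ⁻¹ᵁ d.V' := inf_le_right

lemma pre_mono (d : Datum g) {W₁ W₂ : X.Opens} (hW : W₂ ≤ W₁) :
    pre g' f' d W₂ ≤ pre g' f' d W₁ :=
  inf_le_inf_right _ (g'.preimage_mono hW)

variable {f g' f'}

include f in
lemma appLE_comm (h : IsPullback g' f' f g) (d : Datum g) (W : Sub f d) (W' : X'.Opens)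
    (h1 : W' ≤ g' ⁻¹ᵁ W.1) (h2 : W' ≤ f' ⁻¹ᵁ d.V') (a : RA d) :
    (f'.appLE d.V' W' h2).hom ((g.appLE d.V d.V' d.e).hom a) =
      (g'.appLE W.1 W' h1).hom ((f.appLE d.V W.1 W.2).hom a) := by
  have hcomm : f.appLE d.V W.1 W.2 ≫ g'.appLE W.1 W' h1 =
      g.appLE d.V d.V' d.e ≫ f'.appLE d.V' W' h2 := by
    simp only [Scheme.Hom.appLE_comp_appLE, h.w]
  exact (congrArg (fun φ => φ.hom a) hcomm).symm

/-- the map `t ↦ a' • (g'^* t)` for fixed `a'` -/
noncomputable def psiAux (d : Datum g) (W : Sub f d) (W' : X'.Opens)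
    (h1 : W' ≤ g' ⁻¹ᵁ W.1) (h2 : W' ≤ f' ⁻¹ᵁ d.V') (a' : RA' d) :
    SecV f M d W →+ Γ((Scheme.Modules.pullback g').obj M, W') where
  toFun t := (f'.appLE d.V' W' h2).hom a' • pullRes g' M h1 t.out
  map_zero' := by
    have h0 := pullRes_zero g' M h1
    exact (congrArg _ h0).trans (smul_zero _)
  map_add' t t' := by
    have h0 := pullRes_add g' M h1 t.out t'.out
    exact (congrArg _ h0).trans (smul_add _ _ _)

/-- the bi-additive map defining `ψ_W` -/
noncomputable def psiBil (d : Datum g) (W : Sub f d) (W' : X'.Opens)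
    (h1 : W' ≤ g' ⁻¹ᵁ W.1) (h2 : W' ≤ f' ⁻¹ᵁ d.V') :
    RA' d →+ SecV f M d W →+ Γ((Scheme.Modules.pullback g').obj M, W') where
  toFun a' := psiAux M d W W' h1 h2 a'
  map_zero' := by
    ext t
    change (f'.appLE d.V' W' h2).hom (0 : Γ(S', d.V')) •
      pullRes g' M h1 t.out = 0
    rw [map_zero, zero_smul]
  map_add' a₁ a₂ := by
    ext t
    change (f'.appLE d.V' W' h2).hom ((a₁ : Γ(S', d.V')) + a₂) •
      pullRes g' M h1 t.out = _
    rw [map_add, add_smul]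
    rfl

/-- the comparison map `ψ : Γ(S', V') ⊗ Γ(W, M) → Γ(W', g'^* M)`, `a' ⊗ t ↦ a' • g'^* t` -/
noncomputable def psi (h : IsPullback g' f' f g) (d : Datum g) (W : Sub f d) (W' : X'.Opens)
    (h1 : W' ≤ g' ⁻¹ᵁ W.1) (h2 : W' ≤ f' ⁻¹ᵁ d.V') :
    RA' d ⊗[RA d] SecV f M d W →+ Γ((Scheme.Modules.pullback g').obj M, W') :=
  TensorProduct.liftAddHom (psiBil M d W W' h1 h2) (fun a a' t => by
    change (f'.appLE d.V' W' h2).hom ((g.appLE d.V d.V' d.e).hom a * (a' : Γ(S', d.V'))) •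
      pullRes g' M h1 t.out =
      (f'.appLE d.V' W' h2).hom a' •
        pullRes g' M h1 ((f.appLE d.V W.1 W.2).hom a • t.out)
    rw [pullRes_smul, map_mul, appLE_comm h d W W' h1 h2 a, smul_smul, mul_comm])

lemma psi_tmul (h : IsPullback g' f' f g) (d : Datum g) (W : Sub f d) (W' : X'.Opens)
    (h1 : W' ≤ g' ⁻¹ᵁ W.1) (h2 : W' ≤ f' ⁻¹ᵁ d.V') (a' : RA' d) (t : SecV f M d W) :
    psi M h d W W' h1 h2 (a' ⊗ₜ t) =
      (f'.appLE d.V' W' h2).hom a' • pullRes g' M h1 t.out := rfl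

/-- restriction of sections as a linear map over `Γ(S, V)` -/
noncomputable def resLin (d : Datum g) {W₁ W₂ : Sub f d} (hW : W₂.1 ≤ W₁.1) :
    SecV f M d W₁ →ₗ[RA d] SecV f M d W₂ where
  toFun t := res M hW t.out
  map_add' t t' := map_add (res M hW) _ _
  map_smul' a t := by
    change res M hW ((f.appLE d.V W₁.1 W₁.2).hom a • t.out) =
      (f.appLE d.V W₂.1 W₂.2).hom a • res M hW t.out
    rw [res_smul]
    congr 1
    have h1 := Scheme.Hom.appLE_map f W₁.2 (homOfLE hW).op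
    exact congrArg (fun φ => φ.hom a) h1

lemma resLin_apply (d : Datum g) {W₁ W₂ : Sub f d} (hW : W₂.1 ≤ W₁.1) (t : SecV f M d W₁) :
    (resLin M d hW t).out = res M hW t.out := rfl

/-- naturality of `ψ` under restriction -/
lemma psi_res (h : IsPullback g' f' f g) (d : Datum g) {W₁ W₂ : Sub f d} (hW : W₂.1 ≤ W₁.1)
    (W₁' W₂' : X'.Opens) (hW' : W₂' ≤ W₁')
    (h1 : W₁' ≤ g' ⁻¹ᵁ W₁.1) (h2 : W₁' ≤ f' ⁻¹ᵁ d.V')
    (k1 : W₂' ≤ g' ⁻¹ᵁ W₂.1) (k2 : W₂' ≤ f' ⁻¹ᵁ d.V')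
    (z : RA' d ⊗[RA d] SecV f M d W₁) :
    res ((Scheme.Modules.pullback g').obj M) hW' (psi M h d W₁ W₁' h1 h2 z) =
      psi M h d W₂ W₂' k1 k2 ((resLin M d hW).lTensor (RA' d) z) := by
  induction z using TensorProduct.induction_on with
  | zero => simp only [map_zero]
  | tmul a' t =>
    rw [LinearMap.lTensor_tmul, psi_tmul, psi_tmul, res_smul, res_pullRes, resLin_apply,
      pullRes_res]
    congr 1
    have h3 := Scheme.Hom.appLE_map f' h2 (homOfLE hW').op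
    exact congrArg (fun φ => φ.hom a') h3
  | add x y hx hy => simp only [map_add, hx, hy]

end Datum

end Groth.Agent.Helper13.FlatBC
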