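import Mathlib
import Groth.Agent.Lib.Helper13.FlatBC2

/-!
# Flat base change for qcqs morphisms: bijectivity of `ψ`
-/

set_option autoImplicit false
set_option maxRecDepth 8000
universe u
open CategoryTheory AlgebraicGeometry Opposite TopologicalSpace TensorProduct
open Groth.Agent.Helper13.QCoh Groth.Agent.Helper13.Pullback Groth.Agent.Helper18.PbCompat
open Groth.Agent.Helper18.Rec Groth.Agent.Helper13.Qcqs OmegaSh

namespace Groth.Agent.Helper13.FlatBC

variable {X S X' S' : Scheme.{u}} {f : X ⟶ S} {g : S' ⟶ S} {g' : X' ⟶ X} {f' : X' ⟶ S'}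
  (M : X.Modules)

theorem isAffineOpen_pre (h : IsPullback g' f' f g) (d : Datum g) (hV : IsAffineOpen d.V)
    (hV' : IsAffineOpen d.V') (W : Sub f d) (hW : IsAffineOpen W.1) :
    IsAffineOpen (pre g' f' d W.1) := by
  have : IsAffine _ := hV
  have : IsAffine _ := hV'
  have : IsAffine _ := hW
  exact IsAffine.of_isIso (Scheme.Hom.isPullback_resLE h d.e W.2 rfl).isoPullback.hom

theorem psi_bijective_of_affine [M.IsQuasicoherent] (h : IsPullback g' f' f g) (d : Datum g)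
    (hV : IsAffineOpen d.V) (hV' : IsAffineOpen d.V') (W : Sub f d) (hW : IsAffineOpen W.1) :
    Function.Bijective (psi M h d W (pre g' f' d W.1) (pre_le_left g' f' d W.1)
      (pre_le_right g' f' d W.1)) := by
  have hW' : IsAffineOpen (pre g' f' d W.1) := isAffineOpen_pre h d hV hV' W hW
  letI algAB : Algebra Γ(S, d.V) Γ(X, W.1) := (f.appLE d.V W.1 W.2).hom.toAlgebra
  letI algBB' : Algebra Γ(X, W.1) Γ(X', pre g' f' d W.1) :=
    (g'.appLE W.1 (pre g' f' d W.1) (pre_le_left g' f' d W.1)).hom.toAlgebra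
  letI algA'B' : Algebra Γ(S', d.V') Γ(X', pre g' f' d W.1) :=
    (f'.appLE d.V' (pre g' f' d W.1) (pre_le_right g' f' d W.1)).hom.toAlgebra
  letI algAB' : Algebra Γ(S, d.V) Γ(X', pre g' f' d W.1) :=
    ((f.appLE d.V W.1 W.2) ≫
      (g'.appLE W.1 (pre g' f' d W.1) (pre_le_left g' f' d W.1))).hom.toAlgebra
  have hcomm : f.appLE d.V W.1 W.2 ≫
      g'.appLE W.1 (pre g' f' d W.1) (pre_le_left g' f' d W.1) =
      g.appLE d.V d.V' d.e ≫
        f'.appLE d.V' (pre g' f' d W.1) (pre_le_right g' f' d W.1) := by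
    simp only [Scheme.Hom.appLE_comp_appLE, h.w]
  haveI t1 : IsScalarTower Γ(S, d.V) Γ(X, W.1) Γ(X', pre g' f' d W.1) :=
    IsScalarTower.of_algebraMap_eq (fun _ => rfl)
  haveI t2 : IsScalarTower Γ(S, d.V) Γ(S', d.V') Γ(X', pre g' f' d W.1) :=
    IsScalarTower.of_algebraMap_eq (fun a => congrArg (fun φ => φ.hom a) hcomm)
  have hpo : IsPushout (f.appLE d.V W.1 W.2) (g.appLE d.V d.V' d.e)
      (g'.appLE W.1 (pre g' f' d W.1) (pre_le_left g' f' d W.1))
      (f'.appLE d.V' (pre g' f' d W.1) (pre_le_right g' f' d W.1)) :=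
    (AlgebraicGeometry.isIso_pushoutSection_iff h d.e W.2 rfl).mp
      (AlgebraicGeometry.isIso_pushoutSection_of_isAffineOpen h d.e W.2 rfl hV hV' hW)
  have hpo1 : Algebra.IsPushout Γ(S, d.V) Γ(X, W.1) Γ(S', d.V') Γ(X', pre g' f' d W.1) :=
    CommRingCat.isPushout_iff_isPushout.mp hpo
  haveI hpo2 : Algebra.IsPushout Γ(S, d.V) Γ(S', d.V') Γ(X, W.1) Γ(X', pre g' f' d W.1) :=
    Algebra.IsPushout.symm hpo1
  let θ : SecV f M d W ≃+ Γ(M, W.1) := AddEquiv.refl _
  have hθ : ∀ (a : Γ(S, d.V)) (m : SecV f M d W),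
      θ (a • m) = algebraMap Γ(S, d.V) Γ(X, W.1) a • θ m := fun a m => rfl
  let E1 : (Γ(S', d.V') ⊗[Γ(S, d.V)] SecV f M d W) ≃ₗ[Γ(S', d.V')]
      (Γ(S', d.V') ⊗[Γ(S, d.V)] SecV f M d W) := LinearEquiv.refl _ _
  let E2 := sectionsPullbackEquiv g' M hW' hW (pre_le_left g' f' d W.1)
  have hφ : ∀ (a : Γ(S', d.V')) (p : Γ(S', d.V') ⊗[Γ(S, d.V)] SecV f M d W),
      psi M h d W (pre g' f' d W.1) (pre_le_left g' f' d W.1) (pre_le_right g' f' d W.1) (a • p) =
      algebraMap Γ(S', d.V') Γ(X', pre g' f' d W.1) a •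
        psi M h d W (pre g' f' d W.1) (pre_le_left g' f' d W.1) (pre_le_right g' f' d W.1) p := by
    intro a p
    induction p using TensorProduct.induction_on with
    | zero => rw [smul_zero, map_zero, smul_zero]
    | tmul a' t =>
      rw [TensorProduct.smul_tmul', psi_tmul, psi_tmul, smul_eq_mul, map_mul, mul_smul]
      rfl
    | add x y hx hy => rw [smul_add, map_add, map_add, hx, hy, smul_add]
  have hone : ∀ t : SecV f M d W,
      psi M h d W (pre g' f' d W.1) (pre_le_left g' f' d W.1) (pre_le_right g' f' d W.1)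
        (E1.symm ((1 : Γ(S', d.V')) ⊗ₜ[Γ(S, d.V)] t)) =
        E2.symm ((1 : Γ(X', pre g' f' d W.1)) ⊗ₜ[Γ(X, W.1)] θ t) := by
    intro t
    have q2 := sectionsPullbackEquiv_pullRes g' M hW' hW (pre_le_left g' f' d W.1) t.out
    have r2 : E2.symm ((1 : Γ(X', pre g' f' d W.1)) ⊗ₜ[Γ(X, W.1)] θ t) = _ :=
      (LinearEquiv.symm_apply_eq E2).mpr q2.symm
    rw [r2]
    change psi M h d W (pre g' f' d W.1) (pre_le_left g' f' d W.1) (pre_le_right g' f' d W.1)
      ((1 : Γ(S', d.V')) ⊗ₜ[Γ(S, d.V)] t) = _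
    rw [psi_tmul, map_one, one_smul]
  exact Groth.Agent.Helper28.AffBC.bijective_of_tensor θ hθ E1 E2
    (psi M h d W (pre g' f' d W.1) (pre_le_left g' f' d W.1) (pre_le_right g' f' d W.1)) hφ hone

/-- the top element of `Sub f d` -/
def topSub (f : X ⟶ S) (d : Datum g) : Sub f d := ⟨f ⁻¹ᵁ d.V, le_rfl⟩

theorem psi_top_bijective (h : IsPullback g' f' f g) (d : Datum g)
    [Module.Flat (RA d) (RA' d)]
    {I T : Type u} [Finite I] [Finite T]
    (U : I → Sub f d) (a b : T → I) (Ut : T → Sub f d)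
    (hta : ∀ t, (Ut t).1 ≤ (U (a t)).1) (htb : ∀ t, (Ut t).1 ≤ (U (b t)).1)
    (hcovU : f ⁻¹ᵁ d.V ≤ ⨆ i, (U i).1)
    (hcovT : ∀ i j, (U i).1 ⊓ (U j).1 ≤ ⨆ (t : {t : T // a t = i ∧ b t = j}), (Ut t.1).1)
    (hψi : ∀ i, Function.Bijective (psi M h d (U i) (pre g' f' d (U i).1)
      (pre_le_left g' f' d (U i).1) (pre_le_right g' f' d (U i).1)))
    (hψt : ∀ t, Function.Injective (psi M h d (Ut t) (pre g' f' d (Ut t).1)
      (pre_le_left g' f' d (Ut t).1) (pre_le_right g' f' d (Ut t).1)))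
    (e' : f' ⁻¹ᵁ d.V' ≤ g' ⁻¹ᵁ (f ⁻¹ᵁ d.V)) :
    Function.Bijective (psi M h d (topSub f d) (f' ⁻¹ᵁ d.V') e' le_rfl) := by
  classical
  haveI := Fintype.ofFinite I
  haveI := Fintype.ofFinite T
  let G' := (Scheme.Modules.pullback g').obj M
  refine bijective_glue (A := RA d) (A' := RA' d) (N := SecV f M d (topSub f d))
    (Ni := fun i => SecV f M d (U i)) (Nt := fun t => SecV f M d (Ut t))
    (r := fun i => resLin M d (W₁ := topSub f d) (W₂ := U i) (U i).2)
    (a := a) (b := b)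
    (ρ := fun t => resLin M d (W₁ := U (a t)) (W₂ := Ut t) (hta t))
    (σ := fun t => resLin M d (W₁ := U (b t)) (W₂ := Ut t) (htb t))
    ?_ ?_ ?_
    (P := Γ(G', f' ⁻¹ᵁ d.V')) (Pi := fun i => Γ(G', pre g' f' d (U i).1))
    (Pt := fun t => Γ(G', pre g' f' d (Ut t).1))
    (fun i => res G' (pre_le_right g' f' d (U i).1))
    (fun t => res G' (pre_mono g' f' d (hta t)))
    (fun t => res G' (pre_mono g' f' d (htb t)))
    ?_ ?_
    (psi M h d (topSub f d) (f' ⁻¹ᵁ d.V') e' le_rfl)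
    (fun i => psi M h d (U i) (pre g' f' d (U i).1)
      (pre_le_left g' f' d (U i).1) (pre_le_right g' f' d (U i).1))
    (fun t => psi M h d (Ut t) (pre g' f' d (Ut t).1)
      (pre_le_left g' f' d (Ut t).1) (pre_le_right g' f' d (Ut t).1))
    hψi hψt ?_ ?_ ?_
  · -- hcomp
    intro t m
    apply SecV.out_injective
    change res M (hta t) (res M (U (a t)).2 m.out) = res M (htb t) (res M (U (b t)).2 m.out)
    rw [Qcqs.res_res, Qcqs.res_res]
  · -- hsep
    intro n hn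
    apply SecV.out_injective
    refine eq_of_res_eq M (fun i => (U i).1) (f ⁻¹ᵁ d.V) (fun i => (U i).2) hcovU n.out 0
      (fun i => ?_)
    rw [map_zero]
    exact congrArg SecV.out (hn i)
  · -- hglue
    intro n hn
    have hc : ∀ i j, res M (inf_le_left : (U i).1 ⊓ (U j).1 ≤ (U i).1) (n i).out =
        res M (inf_le_right : (U i).1 ⊓ (U j).1 ≤ (U j).1) (n j).out := by
      intro i j
      have hle : ∀ t : {t : T // a t = i ∧ b t = j}, (Ut t.1).1 ≤ (U i).1 ⊓ (U j).1 := by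
        rintro ⟨t, rfl, rfl⟩
        exact le_inf (hta t) (htb t)
      refine eq_of_res_eq M (fun t : {t : T // a t = i ∧ b t = j} => (Ut t.1).1)
        ((U i).1 ⊓ (U j).1) hle (hcovT i j) _ _ ?_
      rintro ⟨t, rfl, rfl⟩
      rw [Qcqs.res_res, Qcqs.res_res]
      exact congrArg SecV.out (hn t)
    obtain ⟨m, hm⟩ := exists_glue M (fun i => (U i).1) (f ⁻¹ᵁ d.V) (fun i => (U i).2) hcovU
      (fun i => (n i).out) hc
    exact ⟨m, fun i => SecV.out_injective (hm i)⟩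
  · -- hcomp'
    intro t p
    exact (Qcqs.res_res G' _ _ p).trans (Qcqs.res_res G' _ _ p).symm
  · -- hsep'
    intro p hp
    refine eq_of_res_eq G' (fun i => pre g' f' d (U i).1) (f' ⁻¹ᵁ d.V')
      (fun i => pre_le_right g' f' d (U i).1) ?_ p 0 (fun i => ?_)
    · intro x hx
      have hx1 : x ∈ g' ⁻¹ᵁ (f ⁻¹ᵁ d.V) := e' hx
      have hx2 : g' x ∈ ⨆ i, (U i).1 := hcovU hx1
      obtain ⟨i, hi⟩ := Opens.mem_iSup.mp hx2
      exact Opens.mem_iSup.mpr ⟨i, ⟨hi, hx⟩⟩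
    · rw [map_zero]
      exact hp i
  · -- c1
    intro i z
    exact psi_res M h d (W₁ := topSub f d) (W₂ := U i) (U i).2 (f' ⁻¹ᵁ d.V')
      (pre g' f' d (U i).1) (pre_le_right g' f' d (U i).1) e' le_rfl
      (pre_le_left g' f' d (U i).1) (pre_le_right g' f' d (U i).1) z
  · -- c2
    intro t w
    exact psi_res M h d (W₁ := U (a t)) (W₂ := Ut t) (hta t) (pre g' f' d (U (a t)).1)
      (pre g' f' d (Ut t).1) (pre_mono g' f' d (hta t)) _ _ _ _ w
  · -- c3
    intro t w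
    exact psi_res M h d (W₁ := U (b t)) (W₂ := Ut t) (htb t) (pre g' f' d (U (b t)).1)
      (pre g' f' d (Ut t).1) (pre_mono g' f' d (htb t)) _ _ _ _ w

end Groth.Agent.Helper13.FlatBC
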