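import Mathlib
import Groth.Agent.Lib.Helper13.FlatBC3
import Groth.Agent.Lib.Helper13.PullbackLocal

/-!
# Flat base change for qcqs morphisms: the main theorem
-/

set_option autoImplicit false
set_option maxRecDepth 8000
universe u
open CategoryTheory AlgebraicGeometry Opposite TopologicalSpace TensorProduct
open Groth.Agent.Helper13.QCoh Groth.Agent.Helper13.Pullback Groth.Agent.Helper18.PbCompat
open Groth.Agent.Helper18.Rec Groth.Agent.Helper13.Qcqs OmegaSh Groth.Agent.Helper28.AffBC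

namespace Groth.Agent.Helper13.FlatBC

variable {X S X' S' : Scheme.{u}} (f : X ⟶ S) (g : S' ⟶ S) (g' : X' ⟶ X) (f' : X' ⟶ S')
  (h : IsPullback g' f' f g) (M : X.Modules)

variable {g} in
/-- finite affine covers of `f⁻¹V` and of the pairwise intersections -/
theorem exists_covers [QuasiCompact f] [QuasiSeparated f] (d : Datum g) (hV : IsAffineOpen d.V) :
    ∃ (I T : Type u) (_ : Finite I) (_ : Finite T) (U : I → Sub f d) (a b : T → I)
      (Ut : T → Sub f d),
      (∀ i, IsAffineOpen (U i).1) ∧ (∀ t, IsAffineOpen (Ut t).1) ∧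
      (∀ t, (Ut t).1 ≤ (U (a t)).1) ∧ (∀ t, (Ut t).1 ≤ (U (b t)).1) ∧
      (f ⁻¹ᵁ d.V ≤ ⨆ i, (U i).1) ∧
      (∀ i j, (U i).1 ⊓ (U j).1 ≤ ⨆ (t : {t : T // a t = i ∧ b t = j}), (Ut t.1).1) := by
  have hc : IsCompact ((f ⁻¹ᵁ d.V : X.Opens) : Set X) := f.isCompact_preimage hV.isCompact
  have hqs : IsQuasiSeparated ((f ⁻¹ᵁ d.V : X.Opens) : Set X) :=
    f.isQuasiSeparated_preimage hV.isQuasiSeparated
  obtain ⟨s, hsfin, hs⟩ := isCompact_iff_finite_and_eq_biUnion_affineOpens.mp hc
  haveI : Finite s := hsfin.to_subtype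
  have hsle : ∀ i : s, (i.1 : X.Opens) ≤ f ⁻¹ᵁ d.V := fun i => by
    rw [hs]
    exact le_iSup₂ (f := fun (w : X.affineOpens) (_ : w ∈ s) => (w : X.Opens)) i.1 i.2
  have hpair : ∀ p : s × s, ∃ s' : Set X.affineOpens, s'.Finite ∧
      ((p.1.1 : X.Opens) ⊓ (p.2.1 : X.Opens)) = ⨆ w ∈ s', (w : X.Opens) := by
    intro p
    apply isCompact_iff_finite_and_eq_biUnion_affineOpens.mp
    exact hqs _ _ (SetLike.coe_subset_coe.mpr (hsle p.1)) p.1.1.1.isOpen p.1.1.2.isCompact
      (SetLike.coe_subset_coe.mpr (hsle p.2)) p.2.1.1.isOpen p.2.1.2.isCompact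
  choose s' hs'fin hs' using hpair
  haveI : ∀ p, Finite (s' p) := fun p => (hs'fin p).to_subtype
  have hle' : ∀ (p : s × s) (w : s' p), (w.1 : X.Opens) ≤ (p.1.1 : X.Opens) ⊓ (p.2.1 : X.Opens) :=
    fun p w => by
      rw [hs' p]
      exact le_iSup₂ (f := fun (w : X.affineOpens) (_ : w ∈ s' p) => (w : X.Opens)) w.1 w.2
  let U : s → Sub f d := fun i => ⟨i.1.1, hsle i⟩
  let Ut : (Σ p : s × s, s' p) → Sub f d := fun t =>
    ⟨t.2.1.1, ((hle' t.1 t.2).trans inf_le_left).trans (hsle t.1.1)⟩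
  refine ⟨s, Σ p : s × s, s' p, inferInstance, inferInstance, U, fun t => t.1.1, fun t => t.1.2,
    Ut, fun i => i.1.2, fun t => t.2.1.2, fun t => (hle' t.1 t.2).trans inf_le_left,
    fun t => (hle' t.1 t.2).trans inf_le_right, ?_, ?_⟩
  · refine hs.le.trans ?_
    exact iSup₂_le (fun w hw => le_iSup (fun i : s => (U i).1) ⟨w, hw⟩)
  · intro i j
    refine le_trans (hs' (i, j)).le ?_
    refine iSup₂_le (fun w hw => ?_)
    exact le_iSup (fun t : {t : (Σ p : s × s, s' p) // t.1.1 = i ∧ t.1.2 = j} => (Ut t.1).1)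
      ⟨⟨(i, j), ⟨w, hw⟩⟩, rfl, rfl⟩

variable {g} in
/-- the identity, as a linear equivalence between the two module structures on `Γ(f⁻¹V, M)` -/
noncomputable def idLin (d : Datum g) :
    SecV f M d (topSub f d) ≃ₗ[Γ(S, d.V)] Γ((Scheme.Modules.pushforward f).obj M, d.V) where
  toFun t := t.out
  invFun t := t
  map_add' _ _ := rfl
  map_smul' a t := by
    have h1 : f.appLE d.V (f ⁻¹ᵁ d.V) le_rfl = f.app d.V := (Scheme.Hom.app_eq_appLE f).symm
    exact congrArg (fun φ : Γ(S, d.V) ⟶ Γ(X, f ⁻¹ᵁ d.V) =>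
      (φ.hom a • (show Γ(M, f ⁻¹ᵁ d.V) from t) : Γ(M, f ⁻¹ᵁ d.V))) h1
  left_inv _ := rfl
  right_inv _ := rfl

variable {g} in
theorem bcMap_app_eq [QuasiCompact f] [QuasiSeparated f] [M.IsQuasicoherent] (d : Datum g)
    (hV : IsAffineOpen d.V) (hV' : IsAffineOpen d.V')
    (e' : f' ⁻¹ᵁ d.V' ≤ g' ⁻¹ᵁ (f ⁻¹ᵁ d.V))
    (z : Γ(S', d.V') ⊗[Γ(S, d.V)] SecV f M d (topSub f d)) :
    haveI : ((Scheme.Modules.pushforward f).obj M).IsQuasicoherent :=
      Groth.Agent.Helper13.Qcqs.isQuasicoherent_pushforward_of_qcqs f M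
    (bcMap f g g' f' h M).app d.V'
      ((sectionsPullbackEquiv g ((Scheme.Modules.pushforward f).obj M) hV' hV d.e).symm
        ((idLin f M d).toLinearMap.lTensor Γ(S', d.V') z)) =
      psi M h d (topSub f d) (f' ⁻¹ᵁ d.V') e' le_rfl z := by
  haveI : ((Scheme.Modules.pushforward f).obj M).IsQuasicoherent :=
    Groth.Agent.Helper13.Qcqs.isQuasicoherent_pushforward_of_qcqs f M
  induction z using TensorProduct.induction_on with
  | zero =>
    simp only [map_zero]
    rfl
  | tmul a' t =>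
    let E1 := sectionsPullbackEquiv g ((Scheme.Modules.pushforward f).obj M) hV' hV d.e
    let t0 : Γ((Scheme.Modules.pushforward f).obj M, d.V) := t.out
    have hκ : (idLin f M d).toLinearMap.lTensor Γ(S', d.V') (a' ⊗ₜ[Γ(S, d.V)] t) =
        a' • ((1 : Γ(S', d.V')) ⊗ₜ[Γ(S, d.V)] t0) := by
      rw [TensorProduct.smul_tmul', smul_eq_mul, mul_one]
      rfl
    have q1 : E1.symm ((1 : Γ(S', d.V')) ⊗ₜ[Γ(S, d.V)] t0) =
        pullRes g ((Scheme.Modules.pushforward f).obj M) d.e t0 :=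
      (LinearEquiv.symm_apply_eq E1).mpr
        (sectionsPullbackEquiv_pullRes g ((Scheme.Modules.pushforward f).obj M) hV' hV d.e t0).symm
    have q2 : (bcMap f g g' f' h M).app d.V'
        (pullRes g ((Scheme.Modules.pushforward f).obj M) d.e t0) = pullRes g' M e' t.out :=
      bcMap_app_pullRes f g g' f' h M d.e e' t.out
    have q3 := Scheme.Modules.Hom.app_smul (bcMap f g g' f' h M) a'
      (pullRes g ((Scheme.Modules.pushforward f).obj M) d.e t0)
    change (bcMap f g g' f' h M).app d.V'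
      (E1.symm ((idLin f M d).toLinearMap.lTensor Γ(S', d.V') (a' ⊗ₜ[Γ(S, d.V)] t))) = _
    rw [hκ, map_smul, q1, q3, q2, psi_tmul, ← Scheme.Hom.app_eq_appLE]
    rfl
  | add x y hx hy =>
    simp only [map_add, hx, hy]
    rfl

theorem bijective_app [QuasiCompact f] [QuasiSeparated f] [Flat g] [M.IsQuasicoherent]
    {V : S.Opens} (hV : IsAffineOpen V) {V' : S'.Opens} (hV' : IsAffineOpen V')
    (e : V' ≤ g ⁻¹ᵁ V) : Function.Bijective ((bcMap f g g' f' h M).app V') := by
  haveI : ((Scheme.Modules.pushforward f).obj M).IsQuasicoherent :=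
    Groth.Agent.Helper13.Qcqs.isQuasicoherent_pushforward_of_qcqs f M
  obtain ⟨d, rfl, rfl⟩ : ∃ d : Datum g, d.V = V ∧ d.V' = V' := ⟨⟨V, V', e⟩, rfl, rfl⟩
  haveI : Module.Flat (RA d) (RA' d) := g.flat_appLE hV hV' d.e
  have e' : f' ⁻¹ᵁ d.V' ≤ g' ⁻¹ᵁ (f ⁻¹ᵁ d.V) := by
    rw [← preimage_eq f g g' f' h d.V]
    exact f'.preimage_mono d.e
  obtain ⟨I, T, hI, hT, U, a, b, Ut, hUaff, hUtaff, hta, htb, hcovU, hcovT⟩ :=
    exists_covers f d hV
  have key : Function.Bijective (psi M h d (topSub f d) (f' ⁻¹ᵁ d.V') e' le_rfl) :=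
    psi_top_bijective M h d U a b Ut hta htb hcovU hcovT
      (fun i => psi_bijective_of_affine M h d hV hV' (U i) (hUaff i))
      (fun t => (psi_bijective_of_affine M h d hV hV' (Ut t) (hUtaff t)).1) e'
  let E1 := sectionsPullbackEquiv g ((Scheme.Modules.pushforward f).obj M) hV' hV d.e
  let κ := (idLin f M d).lTensor Γ(S', d.V')
  have hfun : ∀ p, (bcMap f g g' f' h M).app d.V' p =
      psi M h d (topSub f d) (f' ⁻¹ᵁ d.V') e' le_rfl (κ.symm (E1 p)) := by
    intro p
    have h1 := bcMap_app_eq f g' f' h M d hV hV' e' (κ.symm (E1 p))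
    rw [← h1]
    congr 1
    have h2 : (idLin f M d).toLinearMap.lTensor Γ(S', d.V') (κ.symm (E1 p)) = E1 p :=
      κ.apply_symm_apply (E1 p)
    rw [h2, LinearEquiv.symm_apply_apply]
  have hfun' : ((bcMap f g g' f' h M).app d.V' : _ → _) =
      (psi M h d (topSub f d) (f' ⁻¹ᵁ d.V') e' le_rfl) ∘ κ.symm ∘ E1 := funext hfun
  rw [hfun']
  exact key.comp (κ.symm.bijective.comp E1.bijective)

theorem isIso_bcMap [QuasiCompact f] [QuasiSeparated f] [Flat g] [M.IsQuasicoherent] :
    IsIso (bcMap f g g' f' h M) := by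
  haveI : QuasiCompact f' := MorphismProperty.of_isPullback (P := @QuasiCompact) h inferInstance
  haveI : QuasiSeparated f' :=
    MorphismProperty.of_isPullback (P := @QuasiSeparated) h inferInstance
  haveI : ((Scheme.Modules.pushforward f).obj M).IsQuasicoherent :=
    Groth.Agent.Helper13.Qcqs.isQuasicoherent_pushforward_of_qcqs f M
  haveI : ((Scheme.Modules.pullback g').obj M).IsQuasicoherent :=
    Groth.Agent.Helper13.Pullback.isQuasicoherent_pullback g' M
  haveI : ((Scheme.Modules.pullback g).obj ((Scheme.Modules.pushforward f).obj M)).IsQuasicoherent :=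
    Groth.Agent.Helper13.Pullback.isQuasicoherent_pullback g _
  haveI : ((Scheme.Modules.pushforward f').obj
      ((Scheme.Modules.pullback g').obj M)).IsQuasicoherent :=
    Groth.Agent.Helper13.Qcqs.isQuasicoherent_pushforward_of_qcqs f' _
  apply Groth.Agent.Helper28.AffIso.isIso_of_app_bijective_affine
  intro x
  obtain ⟨_, ⟨V, hV, rfl⟩, hxV, -⟩ :=
    S.isBasis_affineOpens.exists_subset_of_mem_open (Set.mem_univ (g x)) isOpen_univ
  obtain ⟨_, ⟨V', hV', rfl⟩, hxV', hV'V⟩ :=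
    S'.isBasis_affineOpens.exists_subset_of_mem_open (show x ∈ g ⁻¹ᵁ V from hxV) (g ⁻¹ᵁ V).isOpen
  exact ⟨V', hV', hxV', bijective_app f g g' f' h M hV hV' hV'V⟩

/-- flat base change, in the form with the counit -/
theorem isIso_counit_form [QuasiCompact f] [QuasiSeparated f] [Flat g] [M.IsQuasicoherent] :
    IsIso ((Scheme.Modules.pullback g).map ((Scheme.Modules.pushforward f).map
        ((Scheme.Modules.pullbackPushforwardAdjunction g').unit.app M)) ≫
      (Scheme.Modules.pullback g).map ((Scheme.Modules.pushforwardComp g' f ≪≫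
          Scheme.Modules.pushforwardCongr h.w ≪≫ (Scheme.Modules.pushforwardComp f' g).symm).hom.app
        ((Scheme.Modules.pullback g').obj M)) ≫
      (Scheme.Modules.pullbackPushforwardAdjunction g).counit.app
        ((Scheme.Modules.pushforward f').obj ((Scheme.Modules.pullback g').obj M))) := by
  have heq : ((Scheme.Modules.pullback g).map ((Scheme.Modules.pushforward f).map
        ((Scheme.Modules.pullbackPushforwardAdjunction g').unit.app M)) ≫
      (Scheme.Modules.pullback g).map ((Scheme.Modules.pushforwardComp g' f ≪≫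
          Scheme.Modules.pushforwardCongr h.w ≪≫ (Scheme.Modules.pushforwardComp f' g).symm).hom.app
        ((Scheme.Modules.pullback g').obj M)) ≫
      (Scheme.Modules.pullbackPushforwardAdjunction g).counit.app
        ((Scheme.Modules.pushforward f').obj ((Scheme.Modules.pullback g').obj M))) =
      bcMap f g g' f' h M := by
    unfold bcMap bcArg
    rw [Adjunction.homEquiv_counit]
    simp only [Functor.map_comp, Category.assoc, Iso.trans_hom, Iso.symm_hom, NatTrans.comp_app]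
  rw [heq]
  exact isIso_bcMap f g g' f' h M

end Groth.Agent.Helper13.FlatBC
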