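import Mathlib
import Groth.Prelude.Def_Pic
import Groth.Agent.Lib.Helper28.FpqcDescent
import Groth.Agent.Lib.Helper13.LocFree4
import Groth.Agent.Lib.Helper13.PbUnit

/-!
# fpqc descent of invertibility (helper13)

A quasi-coherent module whose pullback along an fpqc morphism is trivial is invertible.
-/

set_option autoImplicit false
universe u
open CategoryTheory CategoryTheory.Limits AlgebraicGeometry Opposite TopologicalSpace TensorProduct
open Groth.Agent.Helper13.QCoh Groth.Agent.Helper13.FinType Groth.Agent.Helper13.LocFree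

namespace Groth.Agent.Helper13.PushInv

/-- `O_X^1 ≅ O_X`. -/
noncomputable def freeModOneIso (X : Scheme.{u}) :
    FlatMod.freeMod X 1 ≅ Coh.structureModule X where
  hom := π 1 0
  inv := ι 1 0
  hom_inv_id := by
    have h := total (X := X) 1
    rw [Fin.sum_univ_one] at h
    exact h
  inv_hom_id := ι_π_self 1 0

theorem isFinLocFree_structureModule (X : Scheme.{u}) :
    FlatMod.IsFinLocFree (Coh.structureModule X) :=
  isFinLocFree_of_iso (freeModOneIso X) (isFinLocFree_freeMod 1)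

variable {S S' : Scheme.{u}} (g : S' ⟶ S) [Flat g] [Surjective g] [QuasiCompact g]

/-- **fpqc descent of invertibility** (trivial after pullback ⇒ invertible). -/
theorem isInvertible_of_pullback_iso_unit (F : S.Modules) [F.IsQuasicoherent]
    (e : (Scheme.Modules.pullback g).obj F ≅ Coh.structureModule S') : PicF.IsInvertible F := by
  have hflf : FlatMod.IsFinLocFree F :=
    Groth.Agent.Helper28.FpqcDescent.isFinLocFree_of_pullback g F
      (isFinLocFree_of_iso e.symm (isFinLocFree_structureModule S'))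
  intro x
  obtain ⟨U, n, hU, hxU, ⟨b⟩⟩ := (isFinLocFree_iff_of_isQuasicoherent F).1 hflf x
  obtain ⟨V, hV, k, eV, hff⟩ := Groth.Agent.Helper28.FpqcDescent.exists_affine_faithfullyFlat g hU
  letI alg : Algebra Γ(S, U) Γ(V, ⊤) := ((k ≫ g).appLE U ⊤ eV).hom.toAlgebra
  haveI : Module.FaithfullyFlat Γ(S, U) Γ(V, ⊤) := hff
  -- the pullback of `F` to `V` is trivial
  have e0 : (Scheme.Modules.pullback (k ≫ g)).obj F ≅ Coh.structureModule V :=
    ((Scheme.Modules.pullbackComp k g).app F).symm ≪≫ (Scheme.Modules.pullback k).mapIso e ≪≫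
      Groth.Agent.Helper13.PbUnit.pullbackUnitIso k
  let E1 : Γ((Scheme.Modules.pullback (k ≫ g)).obj F, ⊤) ≃ₗ[Γ(V, ⊤)] Γ(V, ⊤) ⊗[Γ(S, U)] Γ(F, U) :=
    Groth.Agent.Helper13.Pullback.sectionsPullbackEquiv (k ≫ g) F (isAffineOpen_top V) hU eV
  let E2 : Γ((Scheme.Modules.pullback (k ≫ g)).obj F, ⊤) ≃ₗ[Γ(V, ⊤)] Γ(Coh.structureModule V, ⊤) :=
    Groth.Agent.Helper28.FpqcDescent.appLinEquiv e0 ⊤
  haveI : Nontrivial Γ(S, U) := by
    haveI : Nonempty (U : Scheme.{u}) := ⟨⟨x, hxU⟩⟩
    infer_instance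
  haveI : Nontrivial Γ(V, ⊤) := by
    by_contra hnt
    rw [not_nontrivial_iff_subsingleton] at hnt
    obtain ⟨m, hm⟩ := Ideal.exists_maximal Γ(S, U)
    exact Module.FaithfullyFlat.submodule_ne_top (R := Γ(S, U)) (M := Γ(V, ⊤)) hm
      (Subsingleton.elim _ _)
  haveI : Module.Free Γ(S, U) Γ(F, U) := Module.Free.of_basis b
  have h1 : Module.finrank Γ(V, ⊤) (Γ(V, ⊤) ⊗[Γ(S, U)] Γ(F, U)) = n := by
    rw [Module.finrank_baseChange, Module.finrank_eq_card_basis b, Fintype.card_fin]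
  have h2 : Module.finrank Γ(V, ⊤) Γ(Coh.structureModule V, ⊤) = 1 :=
    Module.finrank_self Γ(V, ⊤)
  have hn : n = 1 := by
    rw [← h1, ← h2]
    exact (E1.symm.trans E2).finrank_eq
  subst hn
  obtain ⟨e1⟩ := restrict_iso_freeMod_of_basis F hU b
  exact ⟨U, hxU, ⟨e1 ≪≫ freeModOneIso _⟩⟩

end Groth.Agent.Helper13.PushInv
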