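import Mathlib
import Groth.Agent.Lib.Helper13.PushInv1
import Groth.Agent.Lib.Helper13.ProjFormula
import Groth.Agent.Lib.Helper13.FlatBC4
import Groth.Agent.Lib.Helper13.InvQCoh

/-!
# Pushforward of a module which becomes trivial after a flat base change (helper13)
-/

set_option autoImplicit false
universe u
open CategoryTheory CategoryTheory.Limits AlgebraicGeometry Opposite TopologicalSpace TensorProduct
open Groth.Agent.Helper13.QCoh Groth.Agent.Helper13.FinType Groth.Agent.Helper13.LocFree
open Groth.Agent.Helper13.ProjFormula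

namespace Groth.Agent.Helper13.PushInv

section ToPushO

variable {X Y : Scheme.{u}} (f : X ⟶ Y)

/-- the canonical map `O_Y ⟶ f_* O_X`. -/
noncomputable def toPushO : Coh.structureModule Y ⟶ pushO f :=
  homOfSec (pushO f) (show Γ(pushO f, ⊤) from (1 : Γ(X, f ⁻¹ᵁ ⊤)))

lemma toPushO_app (U : Y.Opens) (c : Γ(Y, U)) :
    (show Γ(X, f ⁻¹ᵁ U) from (toPushO f).app U (toO U c)) = f.app U c := by
  have h := homOfSec_app (pushO f) (show Γ(pushO f, ⊤) from (1 : Γ(X, f ⁻¹ᵁ ⊤))) U c
  have h1 : (pushO f).presheaf.map (homOfLE (le_top : U ≤ ⊤)).op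
      (show Γ(pushO f, ⊤) from (1 : Γ(X, f ⁻¹ᵁ ⊤))) =
      (show Γ(pushO f, U) from (1 : Γ(X, f ⁻¹ᵁ U))) :=
    map_one (X.presheaf.map ((Opens.map f.base).map (homOfLE (le_top : U ≤ ⊤))).op).hom
  change (toPushO f).app U (toO U c) = _
  unfold toPushO
  rw [h, h1]
  change f.app U c * 1 = _
  rw [mul_one]

theorem isIso_toPushO (hf : ∀ V : Y.Opens, Function.Bijective (f.app V)) : IsIso (toPushO f) := by
  rw [Scheme.Modules.Hom.isIso_iff_isIso_app]
  intro U
  rw [ConcreteCategory.isIso_iff_bijective]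
  have h : ⇑(ConcreteCategory.hom ((toPushO f).app U)) = fun c => f.app U c := by
    funext c
    exact toPushO_app f U c
  rw [h]
  exact hf U

end ToPushO

section Chain

variable {X Y Y' X' : Scheme.{u}} (f : X ⟶ Y) (g : Y' ⟶ Y) (g' : X' ⟶ X) (f' : X' ⟶ Y')
  (h : IsPullback g' f' f g)

include h in
/-- if `f_* O_X = O_Y`, `g` is flat and `g'^* L` is trivial, then `g^* f_* L` is trivial. -/
theorem nonempty_pullback_push_iso_unit [QuasiCompact f] [QuasiSeparated f] [Flat g]
    (hf : ∀ V : Y.Opens, Function.Bijective (f.app V)) (L : X.Modules) [L.IsQuasicoherent]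
    (htriv : (Scheme.Modules.pullback g').obj L ≅ Coh.structureModule X') :
    Nonempty ((Scheme.Modules.pullback g).obj ((Scheme.Modules.pushforward f).obj L) ≅
      Coh.structureModule Y') := by
  haveI : (Coh.structureModule X).IsQuasicoherent :=
    Groth.Agent.Helper13.Inv.isQuasicoherent_of_isInvertible _
      Groth.Agent.Helper13.Inv.isInvertible_structureModule
  haveI i1 := Groth.Agent.Helper13.FlatBC.isIso_bcMap f g g' f' h L
  haveI i2 := Groth.Agent.Helper13.FlatBC.isIso_bcMap f g g' f' h (Coh.structureModule X)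
  haveI i3 := isIso_toPushO f hf
  exact ⟨asIso (Groth.Agent.Helper28.AffBC.bcMap f g g' f' h L) ≪≫
    (Scheme.Modules.pushforward f').mapIso htriv ≪≫
    (Scheme.Modules.pushforward f').mapIso (Groth.Agent.Helper13.PbUnit.pullbackUnitIso g').symm ≪≫
    (asIso (Groth.Agent.Helper28.AffBC.bcMap f g g' f' h (Coh.structureModule X))).symm ≪≫
    (Scheme.Modules.pullback g).mapIso (asIso (toPushO f)).symm ≪≫
    Groth.Agent.Helper13.PbUnit.pullbackUnitIso g⟩

end Chain

end Groth.Agent.Helper13.PushInv
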