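import Mathlib

/-!
# Descent of finite generation along a finite jointly surjective family of flat algebras
-/

set_option autoImplicit false
universe u
open TensorProduct

namespace Groth.Agent.Helper13.FpqcFin

variable {A : Type u} [CommRing A]

/-- if `B ⊗ Q = 0` for a flat `A`-algebra `B`, then the annihilator of each element of `Q` extends
to the unit ideal of `B`. -/
theorem map_ker_toSpanSingleton_eq_top (B : Type u) [CommRing B] [Algebra A B] [Module.Flat A B]
    (Q : Type u) [AddCommGroup Q] [Module A Q] [Subsingleton (B ⊗[A] Q)] (x : Q) :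
    Ideal.map (algebraMap A B) (LinearMap.ker (LinearMap.toSpanSingleton A Q x)) = ⊤ := by
  set g := LinearMap.toSpanSingleton A Q x with hg
  set I : Submodule A A := LinearMap.ker g with hI
  have hex : Function.Exact (I.subtype.lTensor B) (g.lTensor B) :=
    Module.Flat.lTensor_exact B g.exact_subtype_ker_map
  have h0 : (g.lTensor B) ((1 : B) ⊗ₜ[A] (1 : A)) = 0 := Subsingleton.elim _ _
  obtain ⟨w, hw⟩ := (hex _).1 h0
  have key : ∀ w : B ⊗[A] I, (TensorProduct.rid A B) ((I.subtype.lTensor B) w) ∈
      Ideal.map (algebraMap A B) I := by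
    intro w
    induction w using TensorProduct.induction_on with
    | zero => rw [map_zero, map_zero]; exact Submodule.zero_mem _
    | tmul b a =>
      rw [LinearMap.lTensor_tmul, TensorProduct.rid_tmul, Submodule.subtype_apply,
        Algebra.smul_def]
      exact Ideal.mul_mem_right _ _ (Ideal.mem_map_of_mem _ a.2)
    | add a b ha hb => rw [map_add, map_add]; exact Submodule.add_mem _ ha hb
  have h1 := key w
  rw [hw, TensorProduct.rid_tmul, one_smul] at h1
  exact (Ideal.eq_top_iff_one _).2 h1

variable {N : Type u} [AddCommGroup N] [Module A N]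

/-- the base change is spanned by the pure tensors `1 ⊗ n`. -/
theorem span_one_tmul_eq_top (B : Type u) [CommRing B] [Algebra A B] :
    Submodule.span B (Set.range fun n : N => (1 : B) ⊗ₜ[A] n) = ⊤ := by
  rw [Submodule.eq_top_iff']
  intro w
  induction w using TensorProduct.induction_on with
  | zero => exact Submodule.zero_mem _
  | tmul b n =>
    have : b ⊗ₜ[A] n = b • ((1 : B) ⊗ₜ[A] n) := by
      rw [TensorProduct.smul_tmul', smul_eq_mul, mul_one]
    rw [this]
    exact Submodule.smul_mem _ _ (Submodule.subset_span ⟨n, rfl⟩)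
  | add a b ha hb => exact Submodule.add_mem _ ha hb

/-- **Descent of finite generation** along a finite family of flat algebras which is jointly
surjective on spectra (in the ideal form). -/
theorem finite_of_tensor_finite {ι : Type*} [Finite ι] (B : ι → Type u) [∀ i, CommRing (B i)]
    [∀ i, Algebra A (B i)] [∀ i, Module.Flat A (B i)]
    (hfin : ∀ i, Module.Finite (B i) (B i ⊗[A] N))
    (hsurj : ∀ I : Ideal A, (∀ i, I.map (algebraMap A (B i)) = ⊤) → I = ⊤) :
    Module.Finite A N := by
  classical
  haveI := Fintype.ofFinite ι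
  -- finite generating sets of pure tensors
  have h1 : ∀ i, ∃ T : Finset N, Submodule.span (B i)
      ((fun n : N => (1 : B i) ⊗ₜ[A] n) '' (T : Set N)) = ⊤ := by
    intro i
    have hfg : (Submodule.span (B i) (Set.range fun n : N => (1 : B i) ⊗ₜ[A] n)).FG := by
      rw [span_one_tmul_eq_top]
      exact (hfin i).fg_top
    obtain ⟨s', hs', hspan⟩ := (Submodule.fg_span_iff_fg_span_finset_subset _).1 hfg
    rw [span_one_tmul_eq_top] at hspan
    have hs'' : ∀ w : B i ⊗[A] N, w ∈ (s' : Set (B i ⊗[A] N)) → ∃ n : N, (1 : B i) ⊗ₜ[A] n = w :=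
      fun w hw => hs' hw
    choose! pre hpre using hs''
    refine ⟨s'.image pre, ?_⟩
    rw [hspan]
    apply le_antisymm
    · apply Submodule.span_le.2
      rintro _ ⟨n, hn, rfl⟩
      obtain ⟨w, hw, rfl⟩ := Finset.mem_image.1 (Finset.mem_coe.1 hn)
      apply Submodule.subset_span
      have : (1 : B i) ⊗ₜ[A] pre w = w := hpre w (Finset.mem_coe.2 hw)
      change (1 : B i) ⊗ₜ[A] pre w ∈ _
      rw [this]
      exact Finset.mem_coe.2 hw
    · apply Submodule.span_le.2
      intro w hw
      apply Submodule.subset_span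
      exact ⟨pre w, Finset.mem_coe.2 (Finset.mem_image_of_mem pre (Finset.mem_coe.1 hw)), hpre w hw⟩
  choose T hT using h1
  let TT : Finset N := Finset.univ.biUnion T
  let N' : Submodule A N := Submodule.span A (TT : Set N)
  -- the quotient dies after every base change
  have h2 : ∀ i, Subsingleton (B i ⊗[A] (N ⧸ N')) := by
    intro i
    have hker : LinearMap.ker (N'.mkQ.baseChange (B i)) = ⊤ := by
      rw [eq_top_iff, ← hT i]
      apply Submodule.span_le.2
      rintro _ ⟨n, hn, rfl⟩
      have hnN : n ∈ N' := Submodule.subset_span (by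
        rw [Finset.coe_biUnion]
        exact Set.mem_iUnion₂.2 ⟨i, Finset.mem_coe.2 (Finset.mem_univ i), hn⟩)
      rw [SetLike.mem_coe, LinearMap.mem_ker, LinearMap.baseChange_tmul, Submodule.mkQ_apply,
        (Submodule.Quotient.mk_eq_zero N').2 hnN, TensorProduct.tmul_zero]
    have hsj : Function.Surjective (N'.mkQ.baseChange (B i)) :=
      LinearMap.lTensor_surjective (B i) (Submodule.mkQ_surjective N')
    refine ⟨fun a b => ?_⟩
    obtain ⟨a', rfl⟩ := hsj a
    obtain ⟨b', rfl⟩ := hsj b
    have ha : a' ∈ LinearMap.ker (N'.mkQ.baseChange (B i)) := hker ▸ Submodule.mem_top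
    have hb : b' ∈ LinearMap.ker (N'.mkQ.baseChange (B i)) := hker ▸ Submodule.mem_top
    rw [LinearMap.mem_ker.1 ha, LinearMap.mem_ker.1 hb]
  -- hence the quotient is zero
  have h3 : Subsingleton (N ⧸ N') := by
    refine ⟨fun a b => ?_⟩
    have hz : ∀ x : N ⧸ N', x = 0 := by
      intro x
      haveI := h2
      have hI := hsurj (LinearMap.ker (LinearMap.toSpanSingleton A (N ⧸ N') x))
        (fun i => map_ker_toSpanSingleton_eq_top (B i) (N ⧸ N') x)
      have h1mem : (1 : A) ∈ LinearMap.ker (LinearMap.toSpanSingleton A (N ⧸ N') x) := by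
        rw [hI]; exact Submodule.mem_top
      rw [LinearMap.mem_ker, LinearMap.toSpanSingleton_apply, one_smul] at h1mem
      exact h1mem
    rw [hz a, hz b]
  have h4 : N' = ⊤ := Submodule.Quotient.subsingleton_iff.1 h3
  refine ⟨?_⟩
  rw [← h4]
  exact Submodule.fg_span (Finset.finite_toSet TT)

end Groth.Agent.Helper13.FpqcFin
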