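import Mathlib
import Groth.Agent.Lib.Helper13.FpqcFin1
import Groth.Agent.Lib.Helper13.PullbackSections
import Groth.Agent.Lib.Helper13.FinAffine2

/-!
# Finite type descends along flat surjective quasi-compact morphisms (quasi-coherent modules)
-/

set_option autoImplicit false
universe u
open CategoryTheory CategoryTheory.Limits AlgebraicGeometry Opposite TopologicalSpace TensorProduct

namespace Groth.Agent.Helper13.FpqcFin

open Groth.Agent.Helper13.FinType Groth.Agent.Helper13.Pullback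

variable {X Y : Scheme.{u}}

/-- joint surjectivity on spectra in the ideal form, for an affine cover of `f ⁻¹ U`. -/
theorem ideal_eq_top_of_map_eq_top (f : Y ⟶ X) [Surjective f] {U : X.Opens} (hU : IsAffineOpen U)
    {I : Type*} (V : I → Y.Opens) (hV : ∀ i, IsAffineOpen (V i)) (hle : ∀ i, V i ≤ f ⁻¹ᵁ U)
    (hcov : f ⁻¹ᵁ U ≤ ⨆ i, V i) (J : Ideal Γ(X, U))
    (hJ : ∀ i, J.map (f.appLE U (V i) (hle i)).hom = ⊤) : J = ⊤ := by
  by_contra hne
  obtain ⟨M, hM, hJM⟩ := Ideal.exists_le_maximal J hne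
  let p : Spec Γ(X, U) := ⟨M, hM.isPrime⟩
  have hxU : hU.fromSpec p ∈ U := by
    have : hU.fromSpec p ∈ Set.range hU.fromSpec := ⟨p, rfl⟩
    rw [hU.range_fromSpec] at this
    exact this
  obtain ⟨y, hy⟩ := f.surjective (hU.fromSpec p)
  have hyU : y ∈ f ⁻¹ᵁ U := by
    change f y ∈ U
    rw [hy]; exact hxU
  obtain ⟨i, hyi⟩ := Opens.mem_iSup.1 (hcov hyU)
  have hyr : y ∈ Set.range (hV i).fromSpec := by
    rw [(hV i).range_fromSpec]; exact hyi
  obtain ⟨q, hq⟩ := hyr
  have h1 := IsAffineOpen.SpecMap_appLE_fromSpec f hU (hV i) (hle i)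
  have h2 : hU.fromSpec (Spec.map (f.appLE U (V i) (hle i)) q) = hU.fromSpec p := by
    rw [← Scheme.Hom.comp_apply, h1, Scheme.Hom.comp_apply, hq, hy]
  have h3 : Spec.map (f.appLE U (V i) (hle i)) q = p :=
    hU.fromSpec.isOpenEmbedding.injective h2
  have h4 : Ideal.comap (f.appLE U (V i) (hle i)).hom q.asIdeal = M :=
    congrArg PrimeSpectrum.asIdeal h3
  have h5 : J.map (f.appLE U (V i) (hle i)).hom ≤ q.asIdeal := by
    rw [Ideal.map_le_iff_le_comap, h4]
    exact hJM
  rw [hJ i, top_le_iff] at h5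
  exact q.2.ne_top h5

/-- **Descent of finite type**: for a flat surjective quasi-compact morphism `f : Y ⟶ X` and a
quasi-coherent module `P` on `X`, if `f^* P` is of finite type then so is `P`. -/
theorem isFiniteType_of_pullback (f : Y ⟶ X) [Flat f] [Surjective f] [QuasiCompact f]
    (P : X.Modules) [P.IsQuasicoherent]
    [SheafOfModules.IsFiniteType (R := Y.ringCatSheaf) ((Scheme.Modules.pullback f).obj P)] :
    SheafOfModules.IsFiniteType (R := X.ringCatSheaf) P := by
  rw [isFiniteType_iff_finite_sections]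
  intro U hU
  have hc : IsCompact ((f ⁻¹ᵁ U : Y.Opens) : Set Y) := f.isCompact_preimage hU.isCompact
  obtain ⟨I, hI, e⟩ := isCompact_iff_finite_and_eq_biUnion_affineOpens.mp hc
  haveI := hI.to_subtype
  have hle : ∀ i : I, (i.1 : Y.Opens) ≤ f ⁻¹ᵁ U := by
    intro i
    rw [e]
    exact le_iSup₂ (f := fun (j : Y.affineOpens) (_ : j ∈ I) => (j : Y.Opens)) i.1 i.2
  letI alg : ∀ i : I, Algebra Γ(X, U) Γ(Y, (i.1 : Y.Opens)) :=
    fun i => (f.appLE U i.1 (hle i)).hom.toAlgebra
  haveI : ∀ i : I, Module.Flat Γ(X, U) Γ(Y, (i.1 : Y.Opens)) :=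
    fun i => f.flat_appLE hU i.1.2 (hle i)
  haveI : (Scheme.Modules.pullback f).obj P |>.IsQuasicoherent := inferInstance
  refine finite_of_tensor_finite (A := Γ(X, U)) (N := Γ(P, U))
    (fun i : I => Γ(Y, (i.1 : Y.Opens))) ?_ ?_
  · intro i
    haveI := finite_sections_of_isFiniteType ((Scheme.Modules.pullback f).obj P) i.1.2
    exact Module.Finite.equiv (sectionsPullbackEquiv f P i.1.2 hU (hle i))
  · intro J hJ
    refine ideal_eq_top_of_map_eq_top f hU (fun i : I => (i.1 : Y.Opens)) (fun i => i.1.2) hle ?_ J hJ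
    rw [e]
    exact iSup₂_le fun j hj => le_iSup (fun i : I => ((i.1 : Y.affineOpens) : Y.Opens)) ⟨j, hj⟩

end Groth.Agent.Helper13.FpqcFin
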