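import Mathlib

open TensorProduct

universe u

namespace Groth.Agent.Helper13.Pullback

section

variable {C A B M : Type u} [CommRing C] [CommRing A] [CommRing B]
  [Algebra C A] [Algebra A B] [Algebra C B] [IsScalarTower C A B]
  [AddCommGroup M] [Module A M] [Module C M] [IsScalarTower C A M]

/-- compatibility of `lTensor` with the associator. -/
lemma assoc_lTensor {P P' : Type u} [AddCommMonoid P] [Module C P] [AddCommMonoid P'] [Module C P']
    (j : P' →ₗ[C] P) (z : (B ⊗[A] M) ⊗[C] P') :
    TensorProduct.AlgebraTensorModule.assoc C A B B M P (j.lTensor (B ⊗[A] M) z) =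
      (TensorProduct.AlgebraTensorModule.lTensor A M j).lTensor B
        (TensorProduct.AlgebraTensorModule.assoc C A B B M P' z) := by
  induction z using TensorProduct.induction_on with
  | zero => simp
  | tmul x n =>
    induction x using TensorProduct.induction_on with
    | zero => simp
    | tmul b m => simp
    | add x y hx hy =>
      simp only [TensorProduct.add_tmul, map_add] at hx hy ⊢
      rw [hx, hy]
  | add x y hx hy =>
    simp only [map_add]
    rw [hx, hy]

theorem flat_tensor_of_flat [Module.Flat A B] [Module.Flat C M] : Module.Flat C (B ⊗[A] M) := by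
  rw [Module.Flat.iff_lTensor_injectiveₛ]
  intro P _ _ N
  have h1 : Function.Injective (TensorProduct.AlgebraTensorModule.lTensor A M N.subtype) :=
    Module.Flat.lTensor_preserves_injective_linearMap (M := M) N.subtype N.injective_subtype
  have h2 := Module.Flat.lTensor_preserves_injective_linearMap (M := B)
    (TensorProduct.AlgebraTensorModule.lTensor A M N.subtype) h1
  intro z w hzw
  have := congrArg (TensorProduct.AlgebraTensorModule.assoc C A B B M P) hzw
  rw [assoc_lTensor, assoc_lTensor] at this
  exact (TensorProduct.AlgebraTensorModule.assoc C A B B M N).injective (h2 this)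

theorem flat_of_flat_tensor [Module.FaithfullyFlat A B] (h : Module.Flat C (B ⊗[A] M)) :
    Module.Flat C M := by
  rw [Module.Flat.iff_lTensor_injectiveₛ]
  intro P _ _ N
  have h0 := Module.Flat.lTensor_preserves_injective_linearMap (M := B ⊗[A] M) N.subtype
    N.injective_subtype
  have h2 : Function.Injective ((TensorProduct.AlgebraTensorModule.lTensor A M N.subtype).lTensor B) := by
    intro z w hzw
    obtain ⟨z, rfl⟩ := (TensorProduct.AlgebraTensorModule.assoc C A B B M N).surjective z
    obtain ⟨w, rfl⟩ := (TensorProduct.AlgebraTensorModule.assoc C A B B M N).surjective w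
    rw [← assoc_lTensor, ← assoc_lTensor] at hzw
    rw [h0 ((TensorProduct.AlgebraTensorModule.assoc C A B B M P).injective hzw)]
  exact (Module.FaithfullyFlat.lTensor_injective_iff_injective A B _).1 h2

theorem flat_tensor_iff_of_faithfullyFlat [Module.FaithfullyFlat A B] :
    Module.Flat C (B ⊗[A] M) ↔ Module.Flat C M :=
  ⟨flat_of_flat_tensor, fun _ => flat_tensor_of_flat⟩

end

end Groth.Agent.Helper13.Pullback
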