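import Mathlib
import Groth.Prelude.Def_FlatMod2
import Groth.Agent.Lib.Helper13.QCohLoc
import Groth.Agent.Lib.Helper13.FlatTensor

open CategoryTheory AlgebraicGeometry Limits Opposite TopologicalSpace TensorProduct

universe u

namespace Groth.Agent.Helper13.FlatOver

open Groth.Agent.Helper13.QCoh Groth.Agent.Helper13.QCohLoc Groth.Agent.Helper13.Pullback

variable {X S : Scheme.{u}} (f : X ⟶ S) (F : X.Modules) [F.IsQuasicoherent]
  {U : X.Opens} (hU : IsAffineOpen U) {V : S.Opens} (hV : IsAffineOpen V) (hUV : U ≤ f ⁻¹ᵁ V)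

include hU hV in
/-- flatness of the sections over an affine open implies flatness of the stalks. -/
theorem isFlatOverAt_of_flat_sections
    (h : @Module.Flat Γ(S, V) Γ(F, U) _ _ (Module.compHom Γ(F, U) (f.appLE V U hUV).hom))
    (x : X) (hxU : x ∈ U) : FlatMod.IsFlatOverAt f F x := by
  have hxV : f x ∈ V := hUV hxU
  unfold FlatMod.IsFlatOverAt
  letI algBBp : Algebra Γ(X, U) (X.presheaf.stalk x) :=
    X.presheaf.algebra_section_stalk ⟨x, hxU⟩
  letI algAAq : Algebra Γ(S, V) (S.presheaf.stalk (f x)) :=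
    S.presheaf.algebra_section_stalk ⟨f x, hxV⟩
  letI algAB : Algebra Γ(S, V) Γ(X, U) := (f.appLE V U hUV).hom.toAlgebra
  letI algAqBp : Algebra (S.presheaf.stalk (f x)) (X.presheaf.stalk x) :=
    (f.stalkMap x).hom.toAlgebra
  letI algABp : Algebra Γ(S, V) (X.presheaf.stalk x) :=
    ((algebraMap Γ(X, U) (X.presheaf.stalk x)).comp (algebraMap Γ(S, V) Γ(X, U))).toAlgebra
  haveI : IsScalarTower Γ(S, V) Γ(X, U) (X.presheaf.stalk x) :=
    IsScalarTower.of_algebraMap_eq (fun _ => rfl)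
  haveI : IsScalarTower Γ(S, V) (S.presheaf.stalk (f x)) (X.presheaf.stalk x) := by
    refine IsScalarTower.of_algebraMap_eq (fun r => ?_)
    change X.presheaf.germ U x hxU (f.appLE V U hUV r) =
      f.stalkMap x (S.presheaf.germ V (f x) hxV r)
    rw [Scheme.Hom.germ_stalkMap_apply, Scheme.Hom.appLE, CommRingCat.comp_apply,
      TopCat.Presheaf.germ_res_apply]
  -- modules
  letI modAN : Module Γ(S, V) Γ(F, U) := Module.compHom Γ(F, U) (f.appLE V U hUV).hom
  haveI : IsScalarTower Γ(S, V) Γ(X, U) Γ(F, U) := IsScalarTower.of_algebraMap_smul (fun _ _ => rfl)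
  letI modBN' : Module Γ(X, U) (F.presheaf.stalk x) := modStalk F (⟨x, hxU⟩ : U)
  haveI : IsScalarTower Γ(X, U) (X.presheaf.stalk x) (F.presheaf.stalk x) :=
    isScalarTower_stalk F (⟨x, hxU⟩ : U)
  letI modAqN' : Module (S.presheaf.stalk (f x)) (F.presheaf.stalk x) :=
    Module.compHom (F.presheaf.stalk x) (f.stalkMap x).hom
  haveI : IsScalarTower (S.presheaf.stalk (f x)) (X.presheaf.stalk x) (F.presheaf.stalk x) :=
    IsScalarTower.of_algebraMap_smul (fun _ _ => rfl)
  letI modAN' : Module Γ(S, V) (F.presheaf.stalk x) :=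
    Module.compHom (F.presheaf.stalk x) (algebraMap Γ(S, V) (X.presheaf.stalk x))
  haveI : IsScalarTower Γ(S, V) (X.presheaf.stalk x) (F.presheaf.stalk x) :=
    IsScalarTower.of_algebraMap_smul (fun _ _ => rfl)
  haveI : IsScalarTower Γ(S, V) (S.presheaf.stalk (f x)) (F.presheaf.stalk x) := by
    refine IsScalarTower.of_algebraMap_smul (fun r m => ?_)
    change (f.stalkMap x).hom (algebraMap Γ(S, V) (S.presheaf.stalk (f x)) r) • m =
      algebraMap Γ(S, V) (X.presheaf.stalk x) r • m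
    rw [IsScalarTower.algebraMap_apply Γ(S, V) (S.presheaf.stalk (f x)) (X.presheaf.stalk x)]
    rfl
  haveI h2 := isLocalizedModule_germ F hU (⟨x, hxU⟩ : U)
  haveI h3 : IsLocalization.AtPrime (S.presheaf.stalk (f x))
      (hV.primeIdealOf (⟨f x, hxV⟩ : V)).asIdeal := hV.isLocalization_stalk ⟨f x, hxV⟩
  haveI h4 : IsLocalization.AtPrime (X.presheaf.stalk x)
      (hU.primeIdealOf (⟨x, hxU⟩ : U)).asIdeal := hU.isLocalization_stalk ⟨x, hxU⟩
  haveI : Module.Flat Γ(X, U) (X.presheaf.stalk x) :=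
    IsLocalization.flat _ (hU.primeIdealOf (⟨x, hxU⟩ : U)).asIdeal.primeCompl
  haveI : Module.Flat Γ(S, V) Γ(F, U) := h
  have hflat1 : Module.Flat Γ(S, V) ((X.presheaf.stalk x) ⊗[Γ(X, U)] Γ(F, U)) :=
    flat_tensor_of_flat
  have e := (IsLocalizedModule.isBaseChange (hU.primeIdealOf (⟨x, hxU⟩ : U)).asIdeal.primeCompl
    (X.presheaf.stalk x) (germLin F (⟨x, hxU⟩ : U))).equiv
  have hflat2 : Module.Flat Γ(S, V) (F.presheaf.stalk x) :=
    (Module.Flat.equiv_iff (e.restrictScalars Γ(S, V))).1 hflat1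
  exact (Module.flat_iff_of_isLocalization (S.presheaf.stalk (f x))
    (hV.primeIdealOf (⟨f x, hxV⟩ : V)).asIdeal.primeCompl (F.presheaf.stalk x)).2 hflat2

end Groth.Agent.Helper13.FlatOver

namespace Groth.Agent.Helper13.FlatOver

open Groth.Agent.Helper13.QCoh Groth.Agent.Helper13.QCohLoc Groth.Agent.Helper13.Pullback

variable {X S : Scheme.{u}} (f : X ⟶ S) (F : X.Modules) [F.IsQuasicoherent]
  {U : X.Opens} (hU : IsAffineOpen U) {V : S.Opens} (hV : IsAffineOpen V) (hUV : U ≤ f ⁻¹ᵁ V)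

lemma primeIdealOf_fromSpec' (y : PrimeSpectrum Γ(X, U)) (hy : hU.fromSpec y ∈ U) :
    hU.primeIdealOf ⟨hU.fromSpec y, hy⟩ = y := by
  apply hU.fromSpec.isOpenEmbedding.injective
  exact hU.fromSpec_primeIdealOf ⟨hU.fromSpec y, hy⟩

include hU hV in
/-- flatness of the stalks at the points of an affine open implies flatness of the sections. -/
theorem flat_sections_of_isFlatOverAt
    (h : ∀ x : X, x ∈ U → FlatMod.IsFlatOverAt f F x) :
    @Module.Flat Γ(S, V) Γ(F, U) _ _ (Module.compHom Γ(F, U) (f.appLE V U hUV).hom) := by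
  letI algAB : Algebra Γ(S, V) Γ(X, U) := (f.appLE V U hUV).hom.toAlgebra
  letI modAN : Module Γ(S, V) Γ(F, U) := Module.compHom Γ(F, U) (f.appLE V U hUV).hom
  haveI : IsScalarTower Γ(S, V) Γ(X, U) Γ(F, U) := IsScalarTower.of_algebraMap_smul (fun _ _ => rfl)
  -- points attached to the maximal ideals
  have hmem : ∀ (P : Ideal Γ(X, U)) [P.IsMaximal], hU.fromSpec ⟨P, inferInstance⟩ ∈ U := by
    intro P _
    have : hU.fromSpec ⟨P, inferInstance⟩ ∈ hU.fromSpec.opensRange := ⟨_, rfl⟩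
    rwa [hU.opensRange_fromSpec] at this
  let pt : ∀ (P : Ideal Γ(X, U)) [P.IsMaximal], U := fun P _ => ⟨hU.fromSpec ⟨P, inferInstance⟩, hmem P⟩
  letI modB : ∀ (P : Ideal Γ(X, U)) [P.IsMaximal],
      Module Γ(X, U) (F.presheaf.stalk (pt P : X)) := fun P _ => modStalk F (pt P)
  letI modA : ∀ (P : Ideal Γ(X, U)) [P.IsMaximal],
      Module Γ(S, V) (F.presheaf.stalk (pt P : X)) := fun P _ =>
    Module.compHom (F.presheaf.stalk (pt P : X)) (algebraMap Γ(S, V) Γ(X, U))
  haveI : ∀ (P : Ideal Γ(X, U)) [P.IsMaximal],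
      IsScalarTower Γ(S, V) Γ(X, U) (F.presheaf.stalk (pt P : X)) := fun P _ =>
    IsScalarTower.of_algebraMap_smul (fun _ _ => rfl)
  haveI hloc : ∀ (P : Ideal Γ(X, U)) [P.IsMaximal],
      IsLocalizedModule.AtPrime P (germLin F (pt P)) := by
    intro P _
    have h1 := isLocalizedModule_germ F hU (pt P)
    have h2 : hU.primeIdealOf (pt P) = ⟨P, inferInstance⟩ := primeIdealOf_fromSpec' hU _ _
    rw [h2] at h1
    exact h1
  have hsc : ∀ (P : Ideal Γ(X, U)) [P.IsMaximal],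
      IsScalarTower Γ(S, V) Γ(X, U) (F.presheaf.stalk (pt P : X)) := fun P _ =>
    IsScalarTower.of_algebraMap_smul (fun _ _ => rfl)
  refine @Module.flat_of_isLocalized_maximal Γ(S, V) Γ(X, U) _ _ _ Γ(F, U) _ _ _ _
    (fun P _ => F.presheaf.stalk (pt P : X)) (fun P _ => inferInstance) (fun P _ => modA P)
    (fun P _ => modB P) hsc (fun P _ => germLin F (pt P)) hloc ?_
  intro P _
  have hxU : (pt P : X) ∈ U := (pt P).2
  have hxV : f (pt P : X) ∈ V := hUV hxU
  have hfl := h (pt P : X) hxU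
  unfold FlatMod.IsFlatOverAt at hfl
  letI algAAq : Algebra Γ(S, V) (S.presheaf.stalk (f (pt P : X))) :=
    S.presheaf.algebra_section_stalk ⟨f (pt P : X), hxV⟩
  letI modAqN' : Module (S.presheaf.stalk (f (pt P : X))) (F.presheaf.stalk (pt P : X)) :=
    Module.compHom (F.presheaf.stalk (pt P : X)) (f.stalkMap (pt P : X)).hom
  haveI : IsScalarTower Γ(S, V) (S.presheaf.stalk (f (pt P : X))) (F.presheaf.stalk (pt P : X)) := by
    refine IsScalarTower.of_algebraMap_smul (fun r m => ?_)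
    change (f.stalkMap (pt P : X)).hom (S.presheaf.germ V (f (pt P : X)) hxV r) • m =
      X.presheaf.germ U (pt P : X) hxU (f.appLE V U hUV r) • m
    congr 1
    change f.stalkMap (pt P : X) (S.presheaf.germ V (f (pt P : X)) hxV r) = _
    rw [Scheme.Hom.germ_stalkMap_apply, Scheme.Hom.appLE, CommRingCat.comp_apply,
      TopCat.Presheaf.germ_res_apply]
  haveI h3 : IsLocalization.AtPrime (S.presheaf.stalk (f (pt P : X)))
      (hV.primeIdealOf (⟨f (pt P : X), hxV⟩ : V)).asIdeal := hV.isLocalization_stalk ⟨f (pt P : X), hxV⟩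
  exact (Module.flat_iff_of_isLocalization (S.presheaf.stalk (f (pt P : X)))
    (hV.primeIdealOf (⟨f (pt P : X), hxV⟩ : V)).asIdeal.primeCompl (F.presheaf.stalk (pt P : X))).1 hfl

end Groth.Agent.Helper13.FlatOver
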