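import Mathlib
import Groth.Agent.Lib.Helper13.PushInv2
import Groth.Agent.Lib.Helper13.PushInv3
import Groth.Agent.Lib.Helper13.PbInv
import Groth.Agent.Lib.Helper13.EpiGen
import Groth.Agent.Lib.Lead.NormalExt

/-!
# `f_* L` is invertible and `f^* f_* L ≅ L` when `L` is trivial after an fpqc base change (helper13)
-/

set_option autoImplicit false
universe u
open CategoryTheory CategoryTheory.Limits AlgebraicGeometry Opposite TopologicalSpace TensorProduct
open Groth.Agent.Helper13.QCoh Groth.Agent.Helper13.FinType Groth.Agent.Helper13.LocFree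
open Groth.Agent.Helper13.GlobGen

namespace Groth.Agent.Helper13.PushInv

section EpiIso

variable {X : Scheme.{u}}

/-- an epimorphism between invertible modules is an isomorphism. -/
theorem isIso_of_epi_of_isInvertible {N L : X.Modules} (hN : PicF.IsInvertible N)
    (hL : PicF.IsInvertible L) (φ : N ⟶ L) [Epi φ] : IsIso φ := by
  apply isIso_of_stalk_bijective
  intro x
  have hsurj : Function.Surjective (stalkMap φ x) := stalkMap_surjective_of_epi φ x
  refine ⟨?_, hsurj⟩
  obtain ⟨eN⟩ := Groth.Agent.Lead.NormalExt.exists_stalk_equiv N hN x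
  obtain ⟨eL⟩ := Groth.Agent.Lead.NormalExt.exists_stalk_equiv L hL x
  let θ : X.presheaf.stalk x →ₗ[X.presheaf.stalk x] X.presheaf.stalk x :=
    eL.symm.toLinearMap ∘ₗ (stalkLinearMap φ x) ∘ₗ eN.toLinearMap
  have hθ : Function.Surjective θ := by
    intro c
    obtain ⟨m, hm⟩ := hsurj (eL c)
    refine ⟨eN.symm m, ?_⟩
    change eL.symm (stalkMap φ x (eN (eN.symm m))) = c
    rw [eN.apply_symm_apply, hm, eL.symm_apply_apply]
  have hinj : Function.Injective θ := OrzechProperty.injective_of_surjective_endomorphism θ hθ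
  intro a b hab
  have h1 : θ (eN.symm a) = θ (eN.symm b) := by
    change eL.symm (stalkMap φ x (eN (eN.symm a))) = eL.symm (stalkMap φ x (eN (eN.symm b)))
    rw [eN.apply_symm_apply, eN.apply_symm_apply, hab]
  exact eN.symm.injective (hinj h1)

end EpiIso

section Main

variable {X Y Y' X' : Scheme.{u}} (f : X ⟶ Y) (g : Y' ⟶ Y) (g' : X' ⟶ X) (f' : X' ⟶ Y')
  (h : IsPullback g' f' f g)

include h in
/-- **main**: `f` qcqs with `f_* O_X = O_Y`, `g` fpqc, `L` invertible on `X` with `g'^* L` trivial:
then `f_* L` is invertible, `f^* f_* L ⟶ L` is an isomorphism and `g^* f_* L` is trivial. -/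
theorem main [QuasiCompact f] [QuasiSeparated f]
    (hf : ∀ V : Y.Opens, Function.Bijective (f.app V))
    [Flat g] [Surjective g] [QuasiCompact g] (L : X.Modules) (hL : PicF.IsInvertible L)
    (htriv : (Scheme.Modules.pullback g').obj L ≅ Coh.structureModule X') :
    PicF.IsInvertible ((Scheme.Modules.pushforward f).obj L) ∧
      IsIso ((Scheme.Modules.pullbackPushforwardAdjunction f).counit.app L) ∧
      Nonempty ((Scheme.Modules.pullback g).obj ((Scheme.Modules.pushforward f).obj L) ≅
        Coh.structureModule Y') := by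
  haveI : L.IsQuasicoherent := Groth.Agent.Helper13.Inv.isQuasicoherent_of_isInvertible L hL
  haveI : ((Scheme.Modules.pushforward f).obj L).IsQuasicoherent :=
    Groth.Agent.Helper13.Qcqs.isQuasicoherent_pushforward_of_qcqs f L
  obtain ⟨e⟩ := nonempty_pullback_push_iso_unit f g g' f' h hf L htriv
  have hinv : PicF.IsInvertible ((Scheme.Modules.pushforward f).obj L) :=
    isInvertible_of_pullback_iso_unit g _ e
  refine ⟨hinv, ?_, ⟨e⟩⟩
  have hG : ∀ z : X', GGAt ((Scheme.Modules.pullback g').obj L) z := fun z =>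
    GGAt.of_iso htriv.symm ((isGloballyGenerated_iff _).1 isGloballyGenerated_structureModule z)
  haveI := epi_counit h L hG
  exact isIso_of_epi_of_isInvertible
    (Groth.Agent.Helper13.PbInv.isInvertible_pullback f _ hinv) hL _

end Main

end Groth.Agent.Helper13.PushInv
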