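import Mathlib
import Groth.Agent.Lib.Helper13.PushInv4
import Groth.Agent.Lib.Helper13.InvGen

/-!
# Variants of the `PushInv` lemmas for locally trivial data (helper13)
-/

set_option autoImplicit false
set_option maxRecDepth 8000
universe u
open CategoryTheory CategoryTheory.Limits AlgebraicGeometry Opposite TopologicalSpace TensorProduct
open Groth.Agent.Helper13.QCoh Groth.Agent.Helper13.Pullback Groth.Agent.Helper18.PbCompat
open Groth.Agent.Helper18.Rec Groth.Agent.Helper13.Qcqs OmegaSh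
open Groth.Agent.Helper13.FlatBC Groth.Agent.Helper13.FinType Groth.Agent.Helper13.GlobGen
open Groth.Agent.Helper13.FpqcFin Groth.Agent.Helper28.AffBC Groth.Agent.Helper13.Inv
open Groth.Agent.Helper13.LocFree

namespace Groth.Agent.Helper13.PushInv

section Gen

variable {X : Scheme.{u}}

/-- a module trivial over `U` has a section over `U` generating all stalks on `U`. -/
theorem exists_isGen_of_restrict_iso (L : X.Modules) (U : X.Opens)
    (e : L.restrict U.ι ≅ Coh.structureModule (↑U)) :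
    ∃ s : Γ(L, U), ∀ (y : X) (hy : y ∈ U), IsGen L s y hy := by
  obtain ⟨s', hs'⟩ := exists_isGen_of_iso (L.restrict U.ι) e.symm
  let s₀ : Γ(L, U.ι ''ᵁ ⊤) := s'
  refine ⟨L.presheaf.map (eqToHom (ι_image_top U).symm).op s₀, fun y hy => ?_⟩
  rw [isGen_res]
  exact (isGen_restrict_iff U.ι L (U := ⊤) s₀ ⟨y, hy⟩ trivial).1 (hs' ⟨y, hy⟩)

/-- a module trivial over `U` is generated on `U` by its sections over `U`. -/
theorem genOn_of_restrict_iso (L : X.Modules) (U : X.Opens)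
    (e : L.restrict U.ι ≅ Coh.structureModule (↑U)) :
    GenOn L U (fun τ : Γ(L, U) => τ) := by
  obtain ⟨s, hs⟩ := exists_isGen_of_restrict_iso L U e
  intro y hy
  rw [eq_top_iff]
  intro m _
  obtain ⟨r, rfl⟩ := (hs y hy).2 m
  exact Submodule.smul_mem _ _ (Submodule.subset_span ⟨s, rfl⟩)

theorem isFinLocFree_of_isInvertible (L : X.Modules) (hL : PicF.IsInvertible L) :
    FlatMod.IsFinLocFree L := by
  intro x
  obtain ⟨U, hxU, ⟨e⟩⟩ := hL x
  exact ⟨U, 1, hxU, ⟨e ≪≫ (freeModOneIso _).symm⟩⟩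

end Gen

section Descent

variable {S S' : Scheme.{u}} (g : S' ⟶ S) [Flat g] [Surjective g] [QuasiCompact g]

/-- **fpqc descent of invertibility**. -/
theorem isInvertible_of_isInvertible_pullback (F : S.Modules) [F.IsQuasicoherent]
    (hinv : PicF.IsInvertible ((Scheme.Modules.pullback g).obj F)) : PicF.IsInvertible F := by
  have hflf : FlatMod.IsFinLocFree F :=
    Groth.Agent.Helper28.FpqcDescent.isFinLocFree_of_pullback g F
      (isFinLocFree_of_isInvertible _ hinv)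
  intro x
  obtain ⟨U, n, hU, hxU, ⟨b⟩⟩ := (isFinLocFree_iff_of_isQuasicoherent F).1 hflf x
  obtain ⟨x', rfl⟩ := ‹Surjective g›.surj x
  obtain ⟨W', hx'W', ⟨e⟩⟩ := hinv x'
  obtain ⟨_, ⟨V', hV', rfl⟩, hx'V', hV'le⟩ :=
    S'.isBasis_affineOpens.exists_subset_of_mem_open
      (show x' ∈ ((W' ⊓ g ⁻¹ᵁ U : S'.Opens) : Set S') from ⟨hx'W', hxU⟩) (W' ⊓ g ⁻¹ᵁ U).2
  have hle1 : V' ≤ W' := fun z hz => (hV'le hz).1
  have hle2 : V' ≤ g ⁻¹ᵁ U := fun z hz => (hV'le hz).2
  obtain ⟨b'⟩ := nonempty_basis_of_restrict_iso ((Scheme.Modules.pullback g).obj F)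
    (e ≪≫ (freeModOneIso _).symm) hle1
  letI alg : Algebra Γ(S, U) Γ(S', V') := (g.appLE U V' hle2).hom.toAlgebra
  let E1 : Γ((Scheme.Modules.pullback g).obj F, V') ≃ₗ[Γ(S', V')] Γ(S', V') ⊗[Γ(S, U)] Γ(F, U) :=
    Groth.Agent.Helper13.Pullback.sectionsPullbackEquiv g F hV' hU hle2
  haveI : Nontrivial Γ(S', V') := by
    haveI : Nonempty (V' : Scheme.{u}) := ⟨⟨x', hx'V'⟩⟩
    infer_instance
  haveI : Nontrivial Γ(S, U) := by
    haveI : Nonempty (U : Scheme.{u}) := ⟨⟨g x', hxU⟩⟩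
    infer_instance
  haveI : Module.Free Γ(S, U) Γ(F, U) := Module.Free.of_basis b
  have h1 : Module.finrank Γ(S', V') (Γ(S', V') ⊗[Γ(S, U)] Γ(F, U)) = n := by
    rw [Module.finrank_baseChange, Module.finrank_eq_card_basis b, Fintype.card_fin]
  have h2 : Module.finrank Γ(S', V') Γ((Scheme.Modules.pullback g).obj F, V') = 1 := by
    rw [Module.finrank_eq_card_basis b', Fintype.card_fin]
  have hn : n = 1 := by
    rw [← h1, ← h2]
    exact E1.symm.finrank_eq
  subst hn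
  obtain ⟨e1⟩ := restrict_iso_freeMod_of_basis F hU b
  exact ⟨U, hxU, ⟨e1 ≪≫ freeModOneIso _⟩⟩

end Descent

section RelGen

variable {X S X' S' : Scheme.{u}} {f : X ⟶ S} {g : S' ⟶ S} {g' : X' ⟶ X} {f' : X' ⟶ S'}

/-- variant of `subsingleton_tensor_quot` assuming only generation over `f'⁻¹V'`. -/
theorem subsingleton_tensor_quot' (h : IsPullback g' f' f g)
    [QuasiCompact f] [QuasiSeparated f] [Flat g]
    (F : X.Modules) [F.IsQuasicoherent]
    (d : Datum g) (hV : IsAffineOpen d.V) (hV' : IsAffineOpen d.V')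
    (hG : GenOn ((Scheme.Modules.pullback g').obj F) (f' ⁻¹ᵁ d.V')
      (fun τ : Γ((Scheme.Modules.pullback g').obj F, f' ⁻¹ᵁ d.V') => τ))
    (U : X.Opens) (hUV : U ≤ f ⁻¹ᵁ d.V) (hU : IsAffineOpen U) :
    letI alg : Algebra Γ(X, U) Γ(X', pre g' f' d U) :=
      (g'.appLE U (pre g' f' d U) (pre_le_left g' f' d U)).hom.toAlgebra
    Subsingleton (Γ(X', pre g' f' d U) ⊗[Γ(X, U)] (Γ(F, U) ⧸
      Submodule.span Γ(X, U) (Set.range fun t : Γ(F, f ⁻¹ᵁ d.V) => res F hUV t))) := by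
  letI alg : Algebra Γ(X, U) Γ(X', pre g' f' d U) :=
    (g'.appLE U (pre g' f' d U) (pre_le_left g' f' d U)).hom.toAlgebra
  let W : Sub f d := ⟨U, hUV⟩
  haveI : Flat g' := MorphismProperty.of_isPullback (P := @Flat) h.flip inferInstance
  haveI : ((Scheme.Modules.pullback g').obj F).IsQuasicoherent :=
    Groth.Agent.Helper13.Pullback.isQuasicoherent_pullback g' F
  have e' : f' ⁻¹ᵁ d.V' ≤ g' ⁻¹ᵁ (f ⁻¹ᵁ d.V) := by
    rw [← preimage_eq f g g' f' h d.V]
    exact f'.preimage_mono d.e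
  have keyX := Groth.Agent.Helper6.GGDesc.key_top F h d hV hV' e'
  have hU' : IsAffineOpen (pre g' f' d U) := isAffineOpen_pre h d hV hV' W hU
  have e1 : pre g' f' d U ≤ g' ⁻¹ᵁ U := pre_le_left g' f' d U
  let s : Γ(F, f ⁻¹ᵁ d.V) → Γ(F, U) := fun t => res F W.2 t
  -- Step A
  have hA : Submodule.span Γ(X', pre g' f' d U)
      (Set.range fun t : Γ(F, f ⁻¹ᵁ d.V) => pullRes g' F e1 (s t)) = ⊤ := by
    have hgen := GenOn.mono hG (pre_le_right g' f' d U)
    have h2 := span_eq_top_of_genOn ((Scheme.Modules.pullback g').obj F) hU' _ hgen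
    rw [eq_top_iff, ← h2, Submodule.span_le]
    rintro _ ⟨τ, rfl⟩
    obtain ⟨ξ, hξ⟩ := keyX.2 τ
    have h3 := psi_res F h d (W₁ := topSub f d) (W₂ := W) W.2 (f' ⁻¹ᵁ d.V') (pre g' f' d U)
      (pre_le_right g' f' d U) e' le_rfl e1 (pre_le_right g' f' d U) ξ
    rw [hξ] at h3
    change res ((Scheme.Modules.pullback g').obj F) (pre_le_right g' f' d U) τ ∈ _
    rw [h3]
    clear h3 hξ
    induction ξ using TensorProduct.induction_on with
    | zero =>
      rw [map_zero, map_zero]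
      exact Submodule.zero_mem _
    | tmul a' t =>
      rw [LinearMap.lTensor_tmul, psi_tmul]
      apply Submodule.smul_mem
      apply Submodule.subset_span
      exact ⟨t.out, rfl⟩
    | add y y' hy hy' =>
      rw [map_add, map_add]
      exact Submodule.add_mem _ hy hy'
  -- Step B
  haveI : Module.Flat Γ(X, U) Γ(X', pre g' f' d U) := g'.flat_appLE hU hU' e1
  let E2 := sectionsPullbackEquiv g' F hU' hU e1
  have hE2 : ∀ m : Γ(F, U), E2 (pullRes g' F e1 m) = (1 : Γ(X', pre g' f' d U)) ⊗ₜ[Γ(X, U)] m :=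
    fun m => sectionsPullbackEquiv_pullRes g' F hU' hU e1 m
  set P : Submodule Γ(X, U) Γ(F, U) := Submodule.span Γ(X, U) (Set.range s) with hP
  have hzero : ∀ y : Γ(X', pre g' f' d U) ⊗[Γ(X, U)] Γ(F, U),
      (P.mkQ.baseChange Γ(X', pre g' f' d U)) y = 0 := by
    intro y
    obtain ⟨w, rfl⟩ := E2.surjective y
    have hw : w ∈ Submodule.span Γ(X', pre g' f' d U)
        (Set.range fun t : Γ(F, f ⁻¹ᵁ d.V) => pullRes g' F e1 (s t)) := by
      rw [hA]; trivial
    induction hw using Submodule.span_induction with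
    | mem w hw =>
      obtain ⟨t, rfl⟩ := hw
      rw [hE2, LinearMap.baseChange_tmul]
      have : P.mkQ (s t) = 0 :=
        (Submodule.Quotient.mk_eq_zero _).2 (Submodule.subset_span ⟨t, rfl⟩)
      rw [this, TensorProduct.tmul_zero]
    | zero => rw [map_zero, map_zero]
    | add a b _ _ ha hb => rw [map_add, map_add, ha, hb, add_zero]
    | smul c a _ ha => rw [map_smul, map_smul, ha, smul_zero]
  refine subsingleton_of_forall_eq 0 (fun z => ?_)
  induction z using TensorProduct.induction_on with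
  | zero => rfl
  | tmul b q =>
    obtain ⟨m, rfl⟩ := P.mkQ_surjective q
    have := hzero (b ⊗ₜ[Γ(X, U)] m)
    rwa [LinearMap.baseChange_tmul] at this
  | add a b ha hb => rw [ha, hb, add_zero]

/-- variant of `span_res_eq_top`: it suffices that every point of `S'` has an open neighbourhood
`V'` such that `g'^* F` is generated over `f'⁻¹V'` by its sections over `f'⁻¹V'`. -/
theorem span_res_eq_top' (h : IsPullback g' f' f g)
    [QuasiCompact f] [QuasiSeparated f] [Flat g] [Surjective g]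
    (F : X.Modules) [F.IsQuasicoherent]
    (hG : ∀ z : S', ∃ V' : S'.Opens, z ∈ V' ∧
      GenOn ((Scheme.Modules.pullback g').obj F) (f' ⁻¹ᵁ V')
        (fun τ : Γ((Scheme.Modules.pullback g').obj F, f' ⁻¹ᵁ V') => τ))
    {V : S.Opens} (hV : IsAffineOpen V) {U : X.Opens} (hUV : U ≤ f ⁻¹ᵁ V) (hU : IsAffineOpen U) :
    Submodule.span Γ(X, U) (Set.range fun t : Γ(F, f ⁻¹ᵁ V) => res F hUV t) = ⊤ := by
  haveI : Surjective g' := MorphismProperty.of_isPullback (P := @Surjective) h.flip inferInstance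
  haveI : Flat g' := MorphismProperty.of_isPullback (P := @Flat) h.flip inferInstance
  haveI : ((Scheme.Modules.pullback g').obj F).IsQuasicoherent :=
    Groth.Agent.Helper13.Pullback.isQuasicoherent_pullback g' F
  set P : Submodule Γ(X, U) Γ(F, U) :=
    Submodule.span Γ(X, U) (Set.range fun t : Γ(F, f ⁻¹ᵁ V) => res F hUV t) with hP
  rw [eq_top_iff]
  intro m _
  let J := {V' : S'.affineOpens // V'.1.1 ≤ g ⁻¹ᵁ V ∧
    GenOn ((Scheme.Modules.pullback g').obj F) (f' ⁻¹ᵁ V'.1)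
      (fun τ : Γ((Scheme.Modules.pullback g').obj F, f' ⁻¹ᵁ V'.1) => τ)}
  let dj : J → Datum g := fun j => ⟨V, j.1.1, j.2.1⟩
  have hcov : g' ⁻¹ᵁ U ≤ ⨆ j, pre g' f' (dj j) U := by
    intro z hz
    have hz1 : f' z ∈ g ⁻¹ᵁ V := by
      change g (f' z) ∈ V
      have h2 : f (g' z) = g (f' z) := by
        rw [← Scheme.Hom.comp_apply, ← Scheme.Hom.comp_apply, h.w]
      rw [← h2]
      exact hUV hz
    obtain ⟨V₀, hzV₀, hgen₀⟩ := hG (f' z)
    obtain ⟨_, ⟨V', hV'aff, rfl⟩, hzV', hV'le⟩ :=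
      S'.isBasis_affineOpens.exists_subset_of_mem_open
        (show f' z ∈ ((V₀ ⊓ g ⁻¹ᵁ V : S'.Opens) : Set S') from ⟨hzV₀, hz1⟩) (V₀ ⊓ g ⁻¹ᵁ V).2
    have hle0 : V' ≤ V₀ := fun w hw => (hV'le hw).1
    have hgen' : GenOn ((Scheme.Modules.pullback g').obj F) (f' ⁻¹ᵁ V')
        (fun τ : Γ((Scheme.Modules.pullback g').obj F, f' ⁻¹ᵁ V') => τ) := by
      have hm := GenOn.mono hgen₀ (f'.preimage_mono hle0)
      intro y hy
      rw [eq_top_iff, ← hm y hy]
      apply Submodule.span_mono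
      rintro _ ⟨τ, rfl⟩
      exact ⟨_, rfl⟩
    exact Opens.mem_iSup.2 ⟨⟨⟨V', hV'aff⟩, fun w hw => (hV'le hw).2, hgen'⟩, ⟨hz, hzV'⟩⟩
  have h6 : LinearMap.ker (LinearMap.toSpanSingleton Γ(X, U) (Γ(F, U) ⧸ P) (P.mkQ m)) = ⊤ := by
    refine ideal_eq_top_of_map_eq_top g' hU (fun j => pre g' f' (dj j) U)
      (fun j => isAffineOpen_pre h (dj j) hV j.1.2 ⟨U, hUV⟩ hU)
      (fun j => pre_le_left g' f' (dj j) U) hcov _ (fun j => ?_)
    letI alg : Algebra Γ(X, U) Γ(X', pre g' f' (dj j) U) :=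
      (g'.appLE U (pre g' f' (dj j) U) (pre_le_left g' f' (dj j) U)).hom.toAlgebra
    haveI : Module.Flat Γ(X, U) Γ(X', pre g' f' (dj j) U) :=
      g'.flat_appLE hU (isAffineOpen_pre h (dj j) hV j.1.2 ⟨U, hUV⟩ hU) (pre_le_left g' f' (dj j) U)
    haveI : Subsingleton (Γ(X', pre g' f' (dj j) U) ⊗[Γ(X, U)] (Γ(F, U) ⧸ P)) :=
      subsingleton_tensor_quot' h F (dj j) hV j.1.2 j.2.2 U hUV hU
    exact map_ker_toSpanSingleton_eq_top (A := Γ(X, U)) Γ(X', pre g' f' (dj j) U)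
      (Γ(F, U) ⧸ P) (P.mkQ m)
  have h7 : (1 : Γ(X, U)) ∈
      LinearMap.ker (LinearMap.toSpanSingleton Γ(X, U) (Γ(F, U) ⧸ P) (P.mkQ m)) := by
    rw [h6]; trivial
  rw [LinearMap.mem_ker, LinearMap.toSpanSingleton_apply, one_smul] at h7
  exact (Submodule.Quotient.mk_eq_zero _).1 h7

/-- variant of `epi_counit`. -/
theorem epi_counit' (h : IsPullback g' f' f g)
    [QuasiCompact f] [QuasiSeparated f] [Flat g] [Surjective g]
    (F : X.Modules) [F.IsQuasicoherent]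
    (hG : ∀ z : S', ∃ V' : S'.Opens, z ∈ V' ∧
      GenOn ((Scheme.Modules.pullback g').obj F) (f' ⁻¹ᵁ V')
        (fun τ : Γ((Scheme.Modules.pullback g').obj F, f' ⁻¹ᵁ V') => τ)) :
    Epi ((Scheme.Modules.pullbackPushforwardAdjunction f).counit.app F) := by
  change Epi (Groth.Agent.Helper13.CounitGen.ε f F)
  rw [Groth.Agent.Helper13.CounitGen.epi_ε_iff]
  intro x
  obtain ⟨_, ⟨V, hV, rfl⟩, hxV, -⟩ :=
    S.isBasis_affineOpens.exists_subset_of_mem_open (Set.mem_univ (f x)) isOpen_univ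
  have hx : x ∈ f ⁻¹ᵁ V := hxV
  obtain ⟨_, ⟨U, hU, rfl⟩, hxU, hUV⟩ :=
    X.isBasis_affineOpens.exists_subset_of_mem_open hx (f ⁻¹ᵁ V).2
  have hspan := span_res_eq_top' h F hG hV hUV hU
  have h1 := genOn_of_span_eq_top F hU _ hspan x hxU
  rw [eq_top_iff]
  refine le_trans ?_ (Groth.Agent.Helper13.CounitGen.secSpan_le_relSpan f F V x hxV)
  rw [← h1]
  apply Submodule.span_mono
  rintro _ ⟨t, rfl⟩
  exact ⟨t, (TopCat.Presheaf.germ_res_apply F.presheaf (homOfLE hUV) x hxU t).symm⟩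

end RelGen

end Groth.Agent.Helper13.PushInv
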