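import Mathlib
import Groth.Agent.S0028
import Groth.Agent.Lib.Helper13.PnSerre
import Groth.Agent.Lib.Helper13.ProjFormulaLF
import Groth.Agent.Lib.Helper13.PushEdgeSch
import Groth.Agent.Lib.Helper13.PushFinite
import Groth.Agent.Lib.Helper13.PbInv
import Groth.Agent.Lib.Helper13.PushInv5

/-!
# Serre vanishing for closed subschemes of projective space over a Noetherian ring (helper13)
-/

set_option autoImplicit false
set_option linter.unusedSectionVars false
set_option linter.style.haveILetI false
universe u
open CategoryTheory CategoryTheory.Limits AlgebraicGeometry Opposite TopologicalSpace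

namespace Groth.Agent.Helper13.PnSerre

variable (n : ℕ) (R : Type u) [CommRing R] [IsNoetherianRing R]

/-- Serre vanishing for a closed subscheme `i : X → P^n_R`: `H^p(X, F ⊗ i^*O(d)) = 0` for `p > 0`,
`d ≫ 0`. -/
theorem serre_vanishing_closed {X : Scheme.{u}} (i : X ⟶ CohB1.ProjSpace n R) [IsClosedImmersion i]
    (F : X.Modules) (hF : Coh.IsCoh F) :
    ∃ N₀ : ℤ, ∀ d : ℤ, N₀ ≤ d → ∀ p : ℕ, 0 < p →
      Subsingleton (Coh.HH X (CohB1.tensorMod F
        ((Scheme.Modules.pullback i).obj (Twist.twistProjSpace n R d))) p) := by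
  haveI : F.IsQuasicoherent := hF.1
  haveI : SheafOfModules.IsFiniteType (R := X.ringCatSheaf) F := hF.2
  have hpush : Coh.IsCoh ((Scheme.Modules.pushforward i).obj F) :=
    ⟨Groth.Agent.Helper13.QCohPush.isQuasicoherent_pushforward i F,
      (Groth.Agent.Helper13.PushFinite.isFiniteType_pushforward_iff i F).1 inferInstance⟩
  obtain ⟨N₀, h⟩ := serre_vanishing n R _ hpush
  refine ⟨N₀, fun d hd p hp => ?_⟩
  have hinv := Groth.Agent.Helper26.PnTwist.isInvertible_twist n R d
  have hE : FlatMod.IsFinLocFree (Twist.twistProjSpace n R d) :=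
    Groth.Agent.Helper13.PushInv.isFinLocFree_of_isInvertible _ hinv
  have e := (Groth.Agent.Helper13.ProjFormulaLF.νIso i (Twist.twistProjSpace n R d) hE).app F
  have h1 : Subsingleton (Coh.HH (CohB1.ProjSpace n R) ((Scheme.Modules.pushforward i).obj
      (CohB1.tensorMod F ((Scheme.Modules.pullback i).obj (Twist.twistProjSpace n R d)))) p) :=
    Groth.Agent.Helper9.AffStrat.HH_subsingleton_of_iso e.symm p (h d hd p hp)
  haveI : ((Scheme.Modules.pullback i).obj (Twist.twistProjSpace n R d)).IsQuasicoherent :=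
    Groth.Agent.Helper13.Inv.isQuasicoherent_of_isInvertible _
      (Groth.Agent.Helper13.PbInv.isInvertible_pullback i _ hinv)
  haveI : Coh.IsQCoh (CohB1.tensorMod F
      ((Scheme.Modules.pullback i).obj (Twist.twistProjSpace n R d))) :=
    Groth.Agent.Helper13.Tensor.isQuasicoherent_tensorMod _ _
  have hb := Groth.Agent.Helper13.PushEdgeSch.pushEdge_bijective i
    (CohB1.tensorMod F ((Scheme.Modules.pullback i).obj (Twist.twistProjSpace n R d))) p
    (fun q => Groth.Agent.S0028.result i _ (q + 1) (Nat.succ_pos q))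
  exact hb.surjective.subsingleton

/-- a rational polynomial with nonnegative values at all large integers has nonnegative leading
coefficient. -/
theorem leadingCoeff_nonneg_of_eval_nonneg (P : Polynomial ℚ) (N : ℤ)
    (h : ∀ m : ℤ, N ≤ m → 0 ≤ P.eval (m : ℚ)) : 0 ≤ P.leadingCoeff := by
  by_contra hneg
  push Not at hneg
  by_cases hdeg : 0 < P.degree
  · have ht := (Polynomial.tendsto_atBot_of_leadingCoeff_nonpos P hdeg hneg.le).comp
      (tendsto_intCast_atTop_atTop (R := ℚ))
    have hev := (ht.eventually (Filter.eventually_lt_atBot (0 : ℚ))).and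
      (Filter.eventually_ge_atTop N)
    obtain ⟨m, hm1, hm2⟩ := hev.exists
    exact absurd (h m hm2) (not_le.2 hm1)
  · have hP : P = Polynomial.C (P.coeff 0) :=
      Polynomial.eq_C_of_degree_le_zero (not_lt.1 hdeg)
    have h0 := h N le_rfl
    rw [hP, Polynomial.eval_C] at h0
    rw [hP, Polynomial.leadingCoeff_C] at hneg
    exact absurd h0 (not_le.2 hneg)

end Groth.Agent.Helper13.PnSerre
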