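import Mathlib
import Groth.Agent.Lib.Helper13.PnSerre
import Groth.Agent.Lib.Helper13.PullbackLocal
import Groth.Agent.Lib.Helper24.FlatPull

/-!
# Uniform Serre vanishing on projective space (helper13)

For a coherent module `M` on `P^n_R` (`R` Noetherian) there is `N₀` such that for all `d ≥ N₀`,
all `p > 0` and all twist-compatible open immersions `g : P^n_B → P^n_R`,
`H^p(P^n_B, g^*(M(d))) = 0`.
-/

set_option autoImplicit false
set_option linter.unusedSectionVars false
set_option linter.style.haveILetI false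
universe u
open CategoryTheory CategoryTheory.Limits AlgebraicGeometry Opposite TopologicalSpace

namespace Groth.Agent.Helper13.PnSerreUnif

open Groth.Agent.Helper13.PnFin Groth.Agent.Helper13.PnSerre

section General

variable {X X' : Scheme.{u}}

/-- cohomology of the image of a finite coproduct under an additive functor vanishes as soon as
the cohomology of the images of the summands does. -/
theorem subsingleton_sigma' (A : Type u) [CommRing A] [X'.Over (Spec (CommRingCat.of A))] {m : ℕ}
    (E : Fin m → X.Modules) (T : X.Modules ⥤ X'.Modules)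
    [T.Additive] (p : ℕ) (h : ∀ j, Subsingleton (Coh.HH X' (T.obj (E j)) p)) :
    Subsingleton (Coh.HH X' (T.obj (∐ E)) p) := by
  classical
  let e : (⨁ E) ≅ ∐ E := biproduct.isoCoproduct E
  let inc : ∀ j, E j ⟶ ∐ E := fun j => biproduct.ι E j ≫ e.hom
  let prj : ∀ j, (∐ E) ⟶ E j := fun j => e.inv ≫ biproduct.π E j
  have htot : ∑ j : Fin m, prj j ≫ inc j = 𝟙 (∐ E) := by
    have h1 : ∀ j, prj j ≫ inc j = e.inv ≫ (biproduct.π E j ≫ biproduct.ι E j) ≫ e.hom := by
      intro j
      simp only [prj, inc, Category.assoc]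
    simp only [h1]
    rw [← Preadditive.comp_sum, ← Preadditive.sum_comp, biproduct.total, Category.id_comp,
      e.inv_hom_id]
  have hT : ∑ j : Fin m, T.map (prj j) ≫ T.map (inc j) = 𝟙 (T.obj (∐ E)) := by
    simp only [← T.map_comp]
    rw [← Functor.map_sum, htot, T.map_id]
  refine subsingleton_of_forall_eq 0 (fun y => ?_)
  have hy : y = ∑ j : Fin m, hstar A (T.map (inc j)) p (hstar A (T.map (prj j)) p y) := by
    have h2 := congrArg (fun φ => hstar A φ p y) hT
    simp only [hstar_sum, hstar_comp, hstar_id, LinearMap.sum_apply, LinearMap.comp_apply,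
      LinearMap.id_apply] at h2
    exact h2.symm
  rw [hy]
  refine Finset.sum_eq_zero (fun j _ => ?_)
  haveI := h j
  rw [Subsingleton.elim (hstar A (T.map (prj j)) p y) 0, map_zero]

end General

section Pn

variable (n : ℕ) (R : Type u) [CommRing R]

open Groth.Agent.Helper13 Groth.Agent.Helper13.Tensor

/-- `H^p(P^n_B, g^*((O^m ⊗ O(-N)) ⊗ O(d))) = 0` for `p > 0`, `d ≥ N`. -/
theorem subsingleton_HH_pull_Etw (B : Type u) [CommRing B]
    (g : CohB1.ProjSpace n B ⟶ CohB1.ProjSpace n R)
    (hg : ∀ e : ℤ, Nonempty ((Scheme.Modules.pullback g).obj (Twist.twistProjSpace n R e) ≅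
      Twist.twistProjSpace n B e))
    (m N : ℕ) (d : ℤ) (hd : (N : ℤ) ≤ d) (p : ℕ) (hp : 0 < p) :
    Subsingleton (Coh.HH (CohB1.ProjSpace n B) ((Scheme.Modules.pullback g).obj
      (CohB1.tensorMod (Etw n R m N) (Twist.twistProjSpace n R d))) p) := by
  obtain ⟨e1⟩ := Groth.Agent.Helper26.PnTwist.twist_tensor_iso n R (-(N : ℤ)) d
  let ε : CohB1.tensorMod (Etw n R m N) (Twist.twistProjSpace n R d) ≅
      CohB1.tensorMod (FlatMod.freeMod (CohB1.ProjSpace n R) m)
        (Twist.twistProjSpace n R (-(N : ℤ) + d)) :=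
    Tensor.assoc _ _ _ ≪≫ Tensor.mapIso (Iso.refl _) e1
  refine Groth.Agent.Helper9.AffStrat.HH_subsingleton_of_iso
    ((Scheme.Modules.pullback g).mapIso ε) p ?_
  refine subsingleton_sigma' B (fun _ : Fin m => Coh.structureModule (CohB1.ProjSpace n R))
    (Groth.Agent.Helper13.TensorFunctor.tensorRight (Twist.twistProjSpace n R (-(N : ℤ) + d)) ⋙
      Scheme.Modules.pullback g)
    p (fun _ => ?_)
  obtain ⟨e2⟩ := hg (-(N : ℤ) + d)
  exact Groth.Agent.Helper9.AffStrat.HH_subsingleton_of_iso
    ((Scheme.Modules.pullback g).mapIso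
      (Tensor.lid (Twist.twistProjSpace n R (-(N : ℤ) + d))) ≪≫ e2) p
    (subsingleton_HH_twist n B _ (by omega) p hp)

variable [IsNoetherianRing R]

/-- **Uniform Serre vanishing** on `P^n_R`, `R` Noetherian. -/
theorem serre_vanishing_unif (M : (CohB1.ProjSpace n R).Modules) (hM : Coh.IsCoh M) :
    ∃ N₀ : ℤ, ∀ d : ℤ, N₀ ≤ d → ∀ p : ℕ, 0 < p →
      ∀ (B : Type u) [CommRing B] (g : CohB1.ProjSpace n B ⟶ CohB1.ProjSpace n R)
        [IsOpenImmersion g],
        (∀ e : ℤ, Nonempty ((Scheme.Modules.pullback g).obj (Twist.twistProjSpace n R e) ≅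
          Twist.twistProjSpace n B e)) →
        Subsingleton (Coh.HH (CohB1.ProjSpace n B) ((Scheme.Modules.pullback g).obj
          (CohB1.tensorMod M (Twist.twistProjSpace n R d))) p) := by
  haveI := isNoetherian_projSpace n R
  have key : ∀ a : ℕ, ∀ G : (CohB1.ProjSpace n R).Modules, Coh.IsCoh G →
      ∃ N₀ : ℤ, ∀ d : ℤ, N₀ ≤ d → ∀ p : ℕ, 0 < p → n < p + a →
        ∀ (B : Type u) [CommRing B] (g : CohB1.ProjSpace n B ⟶ CohB1.ProjSpace n R)
          [IsOpenImmersion g],
          (∀ e : ℤ, Nonempty ((Scheme.Modules.pullback g).obj (Twist.twistProjSpace n R e) ≅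
            Twist.twistProjSpace n B e)) →
          Subsingleton (Coh.HH (CohB1.ProjSpace n B) ((Scheme.Modules.pullback g).obj
            (CohB1.tensorMod G (Twist.twistProjSpace n R d))) p) := by
    intro a
    induction a with
    | zero =>
      intro G hG
      refine ⟨0, fun d _ p _ hpn B _ g _ _ => ?_⟩
      haveI : G.IsQuasicoherent := hG.1
      haveI : (Twist.twistProjSpace n R d).IsQuasicoherent :=
        Groth.Agent.Helper13.Inv.isQuasicoherent_of_isInvertible _
          (Groth.Agent.Helper26.PnTwist.isInvertible_twist n R d)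
      haveI : (CohB1.tensorMod G (Twist.twistProjSpace n R d)).IsQuasicoherent :=
        Groth.Agent.Helper13.Tensor.isQuasicoherent_tensorMod _ _
      haveI : Coh.IsQCoh ((Scheme.Modules.pullback g).obj
          (CohB1.tensorMod G (Twist.twistProjSpace n R d))) :=
        Groth.Agent.Helper13.Pullback.isQuasicoherent_pullback g _
      exact Groth.Agent.S0022.result n B _ p (by omega)
    | succ a ih =>
      intro G hG
      obtain ⟨m, N, π, hπ⟩ := exists_epi_twist n R G hG
      haveI := hπ
      have hLN := Groth.Agent.Helper26.PnTwist.isInvertible_twist n R (-(N : ℤ))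
      have hEcoh : Coh.IsCoh (Etw n R m N) := by
        have hlf : FlatMod.IsFinLocFree (Etw n R m N) :=
          Groth.Agent.Helper13.InvTwist.isFinLocFree_tensor_invertible _ _
            (Groth.Agent.Helper13.LocFree.isFinLocFree_freeMod m) hLN
        exact Groth.Agent.Helper9.ResVan.isCoh_of_isFinLocFree _ hlf
      have hK : Coh.IsCoh (kernel π) := Groth.Agent.Lead.KerFree.isCoh_kernel hEcoh hG π
      haveI : Epi (ShortComplex.mk (kernel.ι π) π (kernel.condition π)).g := hπ
      have hS : (ShortComplex.mk (kernel.ι π) π (kernel.condition π)).ShortExact :=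
        { exact := ShortComplex.exact_of_f_is_kernel _ (kernelIsKernel π) }
      obtain ⟨N₁, hN₁⟩ := ih (kernel π) hK
      refine ⟨max N₁ N, fun d hd p hp hpn B _ g _ hg => ?_⟩
      have hS' := Groth.Agent.Helper13.TwistSES.tensorSC_shortExact _ hS
        (Twist.twistProjSpace n R d) (Groth.Agent.Helper26.PnTwist.isInvertible_twist n R d)
      haveI : PreservesFiniteLimits (Scheme.Modules.pullback g) :=
        Groth.Agent.Helper24.FlatPull.preservesFiniteLimits_pullback g
      have hS'' := hS'.map_of_exact (Scheme.Modules.pullback g)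
      exact Groth.Agent.Helper13.QAffAcyc.HH_right _ hS'' p
        (subsingleton_HH_pull_Etw n R B g hg m N d (le_trans (le_max_right _ _) hd) p hp)
        (hN₁ d (le_trans (le_max_left _ _) hd) (p + 1) (by omega) (by omega) B g hg)
  obtain ⟨N₀, h⟩ := key (n + 1) M hM
  exact ⟨N₀, fun d hd p hp B _ g _ hg => h d hd p hp (by omega) B g hg⟩

end Pn

end Groth.Agent.Helper13.PnSerreUnif
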