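import Mathlib
import Groth.Agent.Lib.Helper13.PnSerreUnif
import Groth.Agent.Lib.Helper13.PnSerreSub
import Groth.Agent.Lib.Helper28.AffBC

/-!
# Uniform Serre vanishing for closed subschemes of projective space (helper13)
-/

set_option autoImplicit false
set_option linter.unusedSectionVars false
set_option linter.style.haveILetI false
universe u
open CategoryTheory CategoryTheory.Limits AlgebraicGeometry Opposite TopologicalSpace

namespace Groth.Agent.Helper13.PnSerreUnif

variable (n : ℕ) (R : Type u) [CommRing R] [IsNoetherianRing R]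

/-- Uniform Serre vanishing for a closed subscheme `i : X → P^n_R`: for `d ≫ 0`, all `p > 0` and all
twist-compatible open immersions `g : P^n_B → P^n_R`, `H^p(X ×_{P^n_R} P^n_B, (F ⊗ i^*O(d))|) = 0`. -/
theorem serre_vanishing_closed_unif {X : Scheme.{u}} (i : X ⟶ CohB1.ProjSpace n R)
    [IsClosedImmersion i] (F : X.Modules) (hF : Coh.IsCoh F) :
    ∃ N₀ : ℤ, ∀ d : ℤ, N₀ ≤ d → ∀ p : ℕ, 0 < p →
      ∀ (B : Type u) [CommRing B] (g : CohB1.ProjSpace n B ⟶ CohB1.ProjSpace n R)
        [IsOpenImmersion g],
        (∀ e : ℤ, Nonempty ((Scheme.Modules.pullback g).obj (Twist.twistProjSpace n R e) ≅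
          Twist.twistProjSpace n B e)) →
        Subsingleton (Coh.HH (pullback i g) ((Scheme.Modules.pullback (pullback.fst i g)).obj
          (CohB1.tensorMod F
            ((Scheme.Modules.pullback i).obj (Twist.twistProjSpace n R d)))) p) := by
  haveI : F.IsQuasicoherent := hF.1
  haveI : SheafOfModules.IsFiniteType (R := X.ringCatSheaf) F := hF.2
  have hpush : Coh.IsCoh ((Scheme.Modules.pushforward i).obj F) :=
    ⟨Groth.Agent.Helper13.QCohPush.isQuasicoherent_pushforward i F,
      (Groth.Agent.Helper13.PushFinite.isFiniteType_pushforward_iff i F).1 inferInstance⟩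
  obtain ⟨N₀, h⟩ := serre_vanishing_unif n R _ hpush
  refine ⟨N₀, fun d hd p hp B _ g _ hg => ?_⟩
  have hinv := Groth.Agent.Helper26.PnTwist.isInvertible_twist n R d
  have hE : FlatMod.IsFinLocFree (Twist.twistProjSpace n R d) :=
    Groth.Agent.Helper13.PushInv.isFinLocFree_of_isInvertible _ hinv
  have e := (Groth.Agent.Helper13.ProjFormulaLF.νIso i (Twist.twistProjSpace n R d) hE).app F
  haveI : ((Scheme.Modules.pullback i).obj (Twist.twistProjSpace n R d)).IsQuasicoherent :=
    Groth.Agent.Helper13.Inv.isQuasicoherent_of_isInvertible _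
      (Groth.Agent.Helper13.PbInv.isInvertible_pullback i _ hinv)
  haveI hGq : (CohB1.tensorMod F
      ((Scheme.Modules.pullback i).obj (Twist.twistProjSpace n R d))).IsQuasicoherent :=
    Groth.Agent.Helper13.Tensor.isQuasicoherent_tensorMod _ _
  have h1 : Subsingleton (Coh.HH (CohB1.ProjSpace n B) ((Scheme.Modules.pullback g).obj
      ((Scheme.Modules.pushforward i).obj
      (CohB1.tensorMod F ((Scheme.Modules.pullback i).obj (Twist.twistProjSpace n R d))))) p) :=
    Groth.Agent.Helper9.AffStrat.HH_subsingleton_of_iso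
      ((Scheme.Modules.pullback g).mapIso e.symm) p (h d hd p hp B g hg)
  have hsq : IsPullback (pullback.fst i g) (pullback.snd i g) i g := IsPullback.of_hasPullback i g
  haveI := Groth.Agent.Helper28.AffBC.isIso_bcMap i g (pullback.fst i g) (pullback.snd i g) hsq
    (CohB1.tensorMod F ((Scheme.Modules.pullback i).obj (Twist.twistProjSpace n R d)))
  let β := asIso (Groth.Agent.Helper28.AffBC.bcMap i g (pullback.fst i g) (pullback.snd i g) hsq
    (CohB1.tensorMod F ((Scheme.Modules.pullback i).obj (Twist.twistProjSpace n R d))))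
  have h2 : Subsingleton (Coh.HH (CohB1.ProjSpace n B)
      ((Scheme.Modules.pushforward (pullback.snd i g)).obj
        ((Scheme.Modules.pullback (pullback.fst i g)).obj
          (CohB1.tensorMod F
            ((Scheme.Modules.pullback i).obj (Twist.twistProjSpace n R d))))) p) :=
    Groth.Agent.Helper9.AffStrat.HH_subsingleton_of_iso β.symm p h1
  haveI : Coh.IsQCoh ((Scheme.Modules.pullback (pullback.fst i g)).obj
      (CohB1.tensorMod F ((Scheme.Modules.pullback i).obj (Twist.twistProjSpace n R d)))) :=
    Groth.Agent.Helper13.Pullback.isQuasicoherent_pullback _ _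
  have hb := Groth.Agent.Helper13.PushEdgeSch.pushEdge_bijective (pullback.snd i g)
    ((Scheme.Modules.pullback (pullback.fst i g)).obj
      (CohB1.tensorMod F ((Scheme.Modules.pullback i).obj (Twist.twistProjSpace n R d)))) p
    (fun q => Groth.Agent.S0028.result (pullback.snd i g) _ (q + 1) (Nat.succ_pos q))
  exact hb.surjective.subsingleton

end Groth.Agent.Helper13.PnSerreUnif
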