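import Mathlib
import Groth.Agent.Lib.Helper13.PnSerreUnifSub
import Groth.Agent.Lib.Helper13.TensorPow
import Groth.Agent.Lib.Helper13.PbTensor
import Groth.Agent.Lib.Helper13.GlobGen

/-!
# Uniform Serre vanishing for powers of a module some power of which is `i^*O(1)` (helper13)
-/

set_option autoImplicit false
set_option linter.unusedSectionVars false
set_option linter.style.haveILetI false
universe u
open CategoryTheory CategoryTheory.Limits AlgebraicGeometry Opposite TopologicalSpace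

namespace Groth.Agent.Helper13.PnSerreUnif

open Groth.Agent.Helper13

variable (n : ℕ) (R : Type u) [CommRing R] [IsNoetherianRing R]

/-- `M ⊗ L^c` is coherent for coherent `M` and invertible `L`. -/
theorem isCoh_tensor_pow {X : Scheme.{u}} (L : X.Modules) (hL : PicF.IsInvertible L)
    (M : X.Modules) (hM : Coh.IsCoh M) (c : ℕ) :
    Coh.IsCoh (CohB1.tensorMod M (CohB1.tensorPow L c)) := by
  have hLc := Inv.isInvertible_tensorPow L hL c
  haveI : M.IsQuasicoherent := hM.1
  haveI : SheafOfModules.IsFiniteType (R := X.ringCatSheaf) M := hM.2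
  haveI : (CohB1.tensorPow L c).IsQuasicoherent := Inv.isQuasicoherent_of_isInvertible _ hLc
  haveI : SheafOfModules.IsFiniteType (R := X.ringCatSheaf) (CohB1.tensorPow L c) :=
    GlobGen.isFiniteType_of_isInvertible _ hLc
  exact ⟨Tensor.isQuasicoherent_tensorMod _ _, Tensor.isFiniteType_tensorMod _ _⟩

/-- the decomposition `M ⊗ L^(c + m d) ≅ (M ⊗ L^c) ⊗ i^*O(d)` when `L^m ≅ i^*O(1)`. -/
theorem nonempty_decomp {X : Scheme.{u}} (i : X ⟶ CohB1.ProjSpace n R)
    (L : X.Modules) (m : ℕ)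
    (τ : CohB1.tensorPow L m ≅ (Scheme.Modules.pullback i).obj (Twist.twistProjSpace n R 1))
    (M : X.Modules) (c d : ℕ) :
    Nonempty (CohB1.tensorMod M (CohB1.tensorPow L (c + m * d)) ≅
      CohB1.tensorMod (CohB1.tensorMod M (CohB1.tensorPow L c))
        ((Scheme.Modules.pullback i).obj (Twist.twistProjSpace n R (d : ℤ)))) := by
  obtain ⟨e⟩ : Nonempty (Twist.twistProjSpace n R (d : ℤ) ≅
      CohB1.tensorPow (Twist.twistProjSpace n R 1) d) :=
    (Groth.Agent.Helper28.TwistMul.twist_all_of_degree_one (CohB1.polyGrading n R)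
      (Groth.Agent.Helper26.PnTwist.hcov n R)).2.2 d
  have hinv := Groth.Agent.Helper26.PnTwist.isInvertible_twist n R 1
  let ε : CohB1.tensorPow L (c + m * d) ≅ CohB1.tensorMod (CohB1.tensorPow L c)
      ((Scheme.Modules.pullback i).obj (Twist.twistProjSpace n R (d : ℤ))) :=
    Tensor.powAdd L c (m * d) ≪≫
      Tensor.mapIso (Iso.refl _)
        ((Tensor.powMul L m d).symm ≪≫ Tensor.powIso τ d ≪≫
          (PbTensor.pullbackPowIso i (Twist.twistProjSpace n R 1) hinv d).symm ≪≫
          (Scheme.Modules.pullback i).mapIso e.symm)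
  exact ⟨Tensor.mapIso (Iso.refl M) ε ≪≫ (Tensor.assoc _ _ _).symm⟩

/-- uniform Serre vanishing for the powers of `L` when `L^m ≅ i^*O(1)`, `m > 0`. -/
theorem ample_vanishing_unif {X : Scheme.{u}} (i : X ⟶ CohB1.ProjSpace n R) [IsClosedImmersion i]
    (L : X.Modules) (hL : PicF.IsInvertible L) (m : ℕ) (hm : 0 < m)
    (τ : CohB1.tensorPow L m ≅ (Scheme.Modules.pullback i).obj (Twist.twistProjSpace n R 1))
    (M : X.Modules) (hM : Coh.IsCoh M) :
    ∃ n₁ : ℕ, ∀ k : ℕ, n₁ ≤ k → ∀ p : ℕ, 0 < p →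
      ∀ (B : Type u) [CommRing B] (g : CohB1.ProjSpace n B ⟶ CohB1.ProjSpace n R)
        [IsOpenImmersion g],
        (∀ e : ℤ, Nonempty ((Scheme.Modules.pullback g).obj (Twist.twistProjSpace n R e) ≅
          Twist.twistProjSpace n B e)) →
        Subsingleton (Coh.HH (pullback i g) ((Scheme.Modules.pullback (pullback.fst i g)).obj
          (CohB1.tensorMod M (CohB1.tensorPow L k))) p) := by
  have hex : ∀ c : ℕ, ∃ N₀ : ℤ, ∀ d : ℤ, N₀ ≤ d → ∀ p : ℕ, 0 < p →
      ∀ (B : Type u) [CommRing B] (g : CohB1.ProjSpace n B ⟶ CohB1.ProjSpace n R)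
        [IsOpenImmersion g],
        (∀ e : ℤ, Nonempty ((Scheme.Modules.pullback g).obj (Twist.twistProjSpace n R e) ≅
          Twist.twistProjSpace n B e)) →
        Subsingleton (Coh.HH (pullback i g) ((Scheme.Modules.pullback (pullback.fst i g)).obj
          (CohB1.tensorMod (CohB1.tensorMod M (CohB1.tensorPow L c))
            ((Scheme.Modules.pullback i).obj (Twist.twistProjSpace n R d)))) p) :=
    fun c => serre_vanishing_closed_unif n R i _ (isCoh_tensor_pow L hL M hM c)
  choose Nf hNf using hex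
  obtain ⟨Nmax, hNmax⟩ := ((Finset.range m).image Nf).exists_le
  refine ⟨m * Nmax.toNat, fun k hk p hp B _ g _ hg => ?_⟩
  have hk' : k % m + m * (k / m) = k := Nat.mod_add_div k m
  have hd : Nmax.toNat ≤ k / m := by
    rw [Nat.le_div_iff_mul_le hm, Nat.mul_comm]
    exact hk
  have hc : k % m < m := Nat.mod_lt k hm
  have hNc : Nf (k % m) ≤ ((k / m : ℕ) : ℤ) := by
    have h1 : Nf (k % m) ≤ Nmax :=
      hNmax _ (Finset.mem_image_of_mem Nf (Finset.mem_range.2 hc))
    have h2 : Nmax ≤ (Nmax.toNat : ℤ) := Int.self_le_toNat Nmax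
    have h3 : ((Nmax.toNat : ℕ) : ℤ) ≤ ((k / m : ℕ) : ℤ) := by exact_mod_cast hd
    omega
  obtain ⟨ε⟩ := nonempty_decomp n R i L m τ M (k % m) (k / m)
  have hvan := hNf (k % m) _ hNc p hp B g hg
  rw [hk'] at ε
  exact Groth.Agent.Helper9.AffStrat.HH_subsingleton_of_iso
    ((Scheme.Modules.pullback (pullback.fst i g)).mapIso ε) p hvan

end Groth.Agent.Helper13.PnSerreUnif
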