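import Mathlib
import Groth.Agent.S2330
import Groth.Agent.Lib.Helper13.PnSerreUnifAmple
import Groth.Agent.Lib.Helper13.PnOverMap

/-!
# Uniform Serre vanishing for an ample module on a proper scheme over an affine Noetherian base
(helper13)
-/

set_option autoImplicit false
set_option linter.unusedSectionVars false
set_option linter.style.haveILetI false
universe u
open CategoryTheory CategoryTheory.Limits AlgebraicGeometry Opposite TopologicalSpace

namespace Groth.Agent.Helper13.RelSerre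

open Groth.Agent.Helper13 Groth.Agent.Helper13.PnOverMap Groth.Agent.Helper13.PnOverLoc
  Groth.Agent.Helper13.PnSerreUnif

/-- Local form: `q : X' ⟶ Y` proper, `Y` affine Noetherian, `L` ample, `M` coherent.  There is `n₁`
such that for `k ≥ n₁`, `p > 0` and every affine open `V` of `Y`, `q⁻¹V` is the range of an open
immersion `j` with `H^p(j^*(M ⊗ L^k)) = 0`. -/
theorem local_affine {X' Y : Scheme.{u}} [IsAffine Y] [IsLocallyNoetherian Y] (q : X' ⟶ Y)
    [IsProper q] (L : X'.Modules) (hL : CohB1.IsAmple L) (M : X'.Modules) (hM : Coh.IsCoh M) :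
    ∃ n₁ : ℕ, ∀ k : ℕ, n₁ ≤ k → ∀ p : ℕ, 0 < p → ∀ V : Y.Opens, IsAffineOpen V →
      ∃ (X'' : Scheme.{u}) (j : X'' ⟶ X') (_ : IsOpenImmersion j), Set.range j = q ⁻¹' V ∧
        Subsingleton (Coh.HH X'' ((Scheme.Modules.pullback j).obj
          (CohB1.tensorMod M (CohB1.tensorPow L k))) p) := by
  have hLinv : PicF.IsInvertible L := hL.1
  obtain ⟨m, hm, N, i, hi_imm, hi_comp, ⟨τ₀⟩⟩ := ((Groth.Agent.S2330.result q L hLinv).1).1 hL
  haveI := hi_imm
  have hi_comp' : i ≫ CohB1.ProjSpaceOver.toBase N Y = q := hi_comp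
  haveI : IsProper (i ≫ CohB1.ProjSpaceOver.toBase N Y) := by rw [hi_comp']; infer_instance
  haveI : IsProper i := IsProper.of_comp i (CohB1.ProjSpaceOver.toBase N Y)
  haveI : IsClosedImmersion i := IsClosedImmersion.of_isPreimmersion i i.isClosedMap.isClosed_range
  let A : Type u := Γ(Y, ⊤)
  haveI : IsNoetherianRing A :=
    IsLocallyNoetherian.component_noetherian ⟨⊤, isAffineOpen_top Y⟩
  let φ₀ : Spec (CommRingCat.of A) ⟶ Y := Y.isoSpec.inv
  haveI : IsIso φ₀ := inferInstanceAs (IsIso Y.isoSpec.inv)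
  let j₀ : CohB1.ProjSpace N A ⟶ CohB1.ProjSpaceOver N Y := jmap N A φ₀
  haveI : IsIso j₀ := isIso_jmap N A φ₀
  let i' : X' ⟶ CohB1.ProjSpace N A := i ≫ inv j₀
  haveI : IsClosedImmersion i' := inferInstanceAs (IsClosedImmersion (i ≫ inv j₀))
  have hi : i' ≫ j₀ = i := by simp [i']
  obtain ⟨θ⟩ := jmap_pullback_twist N A φ₀ 1
  let τ' : CohB1.tensorPow L m ≅
      (Scheme.Modules.pullback i').obj (Twist.twistProjSpace N A 1) :=
    τ₀ ≪≫ (Scheme.Modules.pullbackCongr hi.symm).app _ ≪≫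
      ((Scheme.Modules.pullbackComp i' j₀).app _).symm ≪≫ (Scheme.Modules.pullback i').mapIso θ
  obtain ⟨n₁, hn₁⟩ := ample_vanishing_unif N A i' L hLinv m hm τ' M hM
  refine ⟨n₁, fun k hk p hp V hV => ?_⟩
  let B : Type u := Γ(Y, V)
  let φV : Spec (CommRingCat.of B) ⟶ Y := hV.fromSpec
  haveI : IsOpenImmersion φV := inferInstanceAs (IsOpenImmersion hV.fromSpec)
  let jV : CohB1.ProjSpace N B ⟶ CohB1.ProjSpaceOver N Y := jmap N B φV
  haveI : IsOpenImmersion jV := isOpenImmersion_jmap N B φV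
  let g : CohB1.ProjSpace N B ⟶ CohB1.ProjSpace N A := jV ≫ inv j₀
  haveI : IsOpenImmersion g := inferInstanceAs (IsOpenImmersion (jV ≫ inv j₀))
  have hgj : g ≫ j₀ = jV := by simp [g]
  have hg : ∀ e : ℤ, Nonempty ((Scheme.Modules.pullback g).obj (Twist.twistProjSpace N A e) ≅
      Twist.twistProjSpace N B e) := by
    intro e
    obtain ⟨θe⟩ := jmap_pullback_twist N A φ₀ e
    obtain ⟨θV⟩ := jmap_pullback_twist N B φV e
    exact ⟨(Scheme.Modules.pullback g).mapIso θe.symm ≪≫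
      (Scheme.Modules.pullbackComp g j₀).app _ ≪≫
      (Scheme.Modules.pullbackCongr hgj).app _ ≪≫ θV⟩
  refine ⟨pullback i' g, pullback.fst i' g, inferInstance, ?_, hn₁ k hk p hp B g hg⟩
  rw [Scheme.Pullback.range_fst]
  have hrV : Set.range jV = (CohB1.ProjSpaceOver.toBase N Y) ⁻¹' (V : Set Y) := by
    have h1 := range_jmap N B φV
    have h2 : Set.range φV = (V : Set Y) := hV.range_fromSpec
    rw [h2] at h1
    exact h1
  ext x
  have hqx : q x = CohB1.ProjSpaceOver.toBase N Y (i x) :=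
    (congrArg (fun k : X' ⟶ Y => k x) hi_comp').symm
  have hix : j₀ (i' x) = i x := congrArg (fun k : X' ⟶ CohB1.ProjSpaceOver N Y => k x) hi
  constructor
  · rintro ⟨z, hz⟩
    have h1 : jV z = i x := by
      have h2 : j₀ (g z) = jV z :=
        congrArg (fun k : CohB1.ProjSpace N B ⟶ CohB1.ProjSpaceOver N Y => k z) hgj
      rw [← h2, ← hix]
      exact congrArg j₀ hz
    have h3 : i x ∈ Set.range jV := ⟨z, h1⟩
    rw [hrV] at h3
    change q x ∈ (V : Set Y)
    rw [hqx]
    exact h3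
  · intro hx
    change q x ∈ (V : Set Y) at hx
    rw [hqx] at hx
    have h3 : i x ∈ Set.range jV := by rw [hrV]; exact hx
    obtain ⟨z, hz⟩ := h3
    refine ⟨z, ?_⟩
    change (inv j₀) (jV z) = (inv j₀) (i x)
    rw [hz]

end Groth.Agent.Helper13.RelSerre
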