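import Mathlib
import Groth.Prelude.Def_Coh
import Groth.Prelude.Def_CohTop
import Groth.Agent.Lib.Helper13.ColimCoh
import Groth.Agent.Lib.Helper13.ColimCrit
import Groth.Agent.Lib.Helper13.Qcqs
import Groth.Agent.Lib.Helper13.LerayZero
import Groth.Agent.Lib.Helper13.HUTop
import Groth.Agent.S0028

universe u
set_option linter.unusedSectionVars false
open CategoryTheory CategoryTheory.Limits Opposite TopologicalSpace AlgebraicGeometry

namespace Groth.Agent.Helper13.BasicOpenCoh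

variable {X : Scheme.{u}} (f : Γ(X, ⊤)) (M : X.Modules)

/-- the restriction of `M` to `X_f` -/
noncomputable abbrev N : (X.basicOpen f : Scheme.{u}).Modules := M.restrict (X.basicOpen f).ι

/-- `f` as a global function on `X_f` -/
noncomputable def fU : Coh.Γtop (X.basicOpen f : Scheme.{u}) := (X.basicOpen f).ι.appTop f

lemma isUnit_fU : IsUnit (fU f) := by
  have h1 := X.toRingedSpace.isUnit_res_basicOpen f
  have hle : (X.basicOpen f).ι ''ᵁ ⊤ ≤ X.basicOpen f := (X.basicOpen f).ι_image_top.le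
  have h2 := h1.map (X.presheaf.map (homOfLE hle).op).hom
  have h3 : (X.presheaf.map (homOfLE hle).op).hom
      ((X.presheaf.map (homOfLE (X.toRingedSpace.basicOpen_le f)).op).hom f) = fU f := by
    have : X.presheaf.map (homOfLE (X.toRingedSpace.basicOpen_le f)).op ≫
        X.presheaf.map (homOfLE hle).op =
        X.presheaf.map (homOfLE (x := (X.basicOpen f).ι ''ᵁ ⊤) le_top).op := by
      rw [← X.presheaf.map_comp]; rfl
    exact congr($this f)
  rw [← h3]
  exact h2

/-- the inverse of `f` on `X_f` -/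
noncomputable def gU : Coh.Γtop (X.basicOpen f : Scheme.{u}) := ((isUnit_fU f).unit⁻¹ : _ˣ)

lemma fU_mul_gU : fU f * gU f = 1 := (isUnit_fU f).mul_val_inv

lemma gU_mul_fU : gU f * fU f = 1 := (isUnit_fU f).val_inv_mul

/-- `j_*(M|_{X_f})` as an abelian sheaf -/
noncomputable abbrev G : CohTop.Ab X.toTopCat := (Coh.pushAb (X.basicOpen f).ι).obj (Coh.toAb (N f M))

/-- the restriction map -/
noncomputable def ρ : Coh.toAb M ⟶ G f M :=
  (SheafOfModules.toSheaf X.ringCatSheaf).map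
    ((Scheme.Modules.restrictAdjunction (X.basicOpen f).ι).unit.app M)

/-- multiplication by `f` on `G` -/
noncomputable def μG : G f M ⟶ G f M := (Coh.pushAb (X.basicOpen f).ι).map (Coh.smulAb (N f M) (fU f))

/-- multiplication by `1/f` on `G` -/
noncomputable def ν : G f M ⟶ G f M := (Coh.pushAb (X.basicOpen f).ι).map (Coh.smulAb (N f M) (gU f))

lemma μG_ν : μG f M ≫ ν f M = 𝟙 _ := by
  unfold μG ν
  rw [← Functor.map_comp, ← Coh.smulAb_mul, gU_mul_fU, Coh.smulAb_one, CategoryTheory.Functor.map_id]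

lemma ν_μG : ν f M ≫ μG f M = 𝟙 _ := by
  unfold μG ν
  rw [← Functor.map_comp, ← Coh.smulAb_mul, fU_mul_gU, Coh.smulAb_one, CategoryTheory.Functor.map_id]

lemma ρ_app (V : (Opens X)ᵒᵖ) (s : (Coh.toAb M).obj.obj V) :
    (ρ f M).hom.app V s =
      (M.val.map (homOfLE ((X.basicOpen f).ι.image_preimage_le V.unop)).op).hom s := rfl

lemma ρ_μG : Coh.smulAb M f ≫ ρ f M = ρ f M ≫ μG f M := by
  ext V s
  change (ρ f M).hom.app V ((Coh.smulAb M f).hom.app V s) =
    (μG f M).hom.app V ((ρ f M).hom.app V s)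
  rw [ρ_app, ρ_app, Coh.smulAb_app]
  refine (M.val.map_smul _ _ _).trans ?_
  change _ = (Coh.smulAb (N f M) (fU f)).hom.app (op ((X.basicOpen f).ι ⁻¹ᵁ V.unop)) _
  rw [Coh.smulAb_app]
  congr 1
  rw [Coh.resTop_comp]
  change _ = (Scheme.Hom.appIso (X.basicOpen f).ι ((X.basicOpen f).ι ⁻¹ᵁ V.unop)).inv.hom
    ((Coh.resTop (↑(X.basicOpen f)) (op ((X.basicOpen f).ι ⁻¹ᵁ unop V))) (fU f))
  rw [Scheme.Opens.ι_appIso]
  change (X.presheaf.map _).hom f = (X.presheaf.map _ ≫ X.presheaf.map _).hom f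
  rw [← X.presheaf.map_comp]
  rfl

open Groth.Agent.Helper13.Qcqs in
lemma ρ_app' (V : X.Opens) (s : Γ(M, V)) :
    (ρ f M).hom.app (op V) s = Qcqs.res M ((X.basicOpen f).ι.image_preimage_le V) s := rfl

/-- the open `V ∩ X_f` -/
abbrev W (V : X.Opens) : X.Opens := (X.basicOpen f).ι ''ᵁ (X.basicOpen f).ι ⁻¹ᵁ V

lemma W_eq (V : X.Opens) : W f V = V ⊓ X.basicOpen f := by
  rw [W, Scheme.Hom.image_preimage_eq_opensRange_inf, Scheme.Opens.opensRange_ι, inf_comm]

lemma μG_app' (V : X.Opens) (t : Γ(M, W f V)) :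
    (μG f M).hom.app (op V) t = Qcqs.resO (le_top : W f V ≤ ⊤) f • t := by
  change (Coh.smulAb (N f M) (fU f)).hom.app (op ((X.basicOpen f).ι ⁻¹ᵁ V)) t = _
  rw [Coh.smulAb_app]
  change @HSMul.hSMul Γ(X, W f V) Γ(M, W f V) Γ(M, W f V) _
    ((Scheme.Hom.appIso (X.basicOpen f).ι ((X.basicOpen f).ι ⁻¹ᵁ V)).inv.hom
      ((Coh.resTop (↑(X.basicOpen f)) (op ((X.basicOpen f).ι ⁻¹ᵁ V))) (fU f))) t = _
  congr 1
  rw [Scheme.Opens.ι_appIso]
  change (X.presheaf.map _ ≫ X.presheaf.map _).hom f = (X.presheaf.map _).hom f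
  rw [← X.presheaf.map_comp]
  rfl

/-- the legs `s ↦ s|_{X_f} / f^n` -/
noncomputable def leg : ℕ → (Coh.toAb M ⟶ G f M)
  | 0 => ρ f M
  | n + 1 => leg n ≫ ν f M

/-- iterated multiplication by `f` on `G` -/
noncomputable def μGn : ℕ → (G f M ⟶ G f M)
  | 0 => 𝟙 _
  | n + 1 => μG f M ≫ μGn n

lemma leg_μGn : ∀ n : ℕ, leg f M n ≫ μGn f M n = ρ f M
  | 0 => Category.comp_id _
  | n + 1 => by
    show (leg f M n ≫ ν f M) ≫ μG f M ≫ μGn f M n = _
    rw [Category.assoc, ← Category.assoc (ν f M), ν_μG, Category.id_comp, leg_μGn n]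

lemma leg_μG : ∀ n : ℕ, Coh.smulAb M f ≫ leg f M n = leg f M n ≫ μG f M
  | 0 => ρ_μG f M
  | n + 1 => by
    show Coh.smulAb M f ≫ leg f M n ≫ ν f M = (leg f M n ≫ ν f M) ≫ μG f M
    rw [← Category.assoc, leg_μG n, Category.assoc, Category.assoc, μG_ν, ν_μG]

lemma smul_leg_succ (n : ℕ) : Coh.smulAb M f ≫ leg f M (n + 1) = leg f M n := by
  show Coh.smulAb M f ≫ leg f M n ≫ ν f M = _
  rw [← Category.assoc, leg_μG, Category.assoc, μG_ν, Category.comp_id]

lemma μGn_app' (V : X.Opens) : ∀ (n : ℕ) (t : Γ(M, W f V)),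
    (μGn f M n).hom.app (op V) t = Qcqs.resO (le_top : W f V ≤ ⊤) f ^ n • t
  | 0, t => by rw [pow_zero, one_smul]; rfl
  | n + 1, t => by
    show (μGn f M n).hom.app (op V) ((μG f M).hom.app (op V) t) = _
    rw [μGn_app' V n, μG_app', smul_smul, ← pow_succ]

/-- the sequence `M --f--> M --f--> ...` -/
noncomputable def D : ℕ ⥤ CohTop.Ab X.toTopCat := Functor.ofSequence (fun _ : ℕ => Coh.smulAb M f)

/-- the cocone with point `j_*(M|_{X_f})` -/
noncomputable def cc : Cocone (D f M) where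
  pt := G f M
  ι := NatTrans.ofSequence (fun n => leg f M n) (by
    intro n
    have h : (D f M).map (homOfLE (Nat.le_add_right n 1)) = Coh.smulAb M f :=
      Functor.ofSequence_map_homOfLE_succ _ n
    rw [h]
    exact (smul_leg_succ f M n).trans (Category.comp_id _).symm)

lemma D_map_add (n : ℕ) : ∀ k : ℕ,
    (D f M).map (homOfLE (Nat.le_add_right n k)) = Coh.smulAb M ((show Coh.Γtop X from f) ^ k)
  | 0 => by
    rw [pow_zero, Coh.smulAb_one]
    exact (D f M).map_id n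
  | k + 1 => by
    have h1 : (homOfLE (Nat.le_add_right n (k + 1)) : n ⟶ n + (k + 1)) =
        homOfLE (Nat.le_add_right n k) ≫ homOfLE (Nat.le_add_right (n + k) 1) := rfl
    have h2 : (D f M).map (homOfLE (Nat.le_add_right (n + k) 1)) = Coh.smulAb M f :=
      Functor.ofSequence_map_homOfLE_succ _ (n + k)
    rw [h1, Functor.map_comp, D_map_add n k, h2, pow_succ', Coh.smulAb_mul]
    rfl

lemma isUnit_resO_W (V : X.Opens) : IsUnit (Qcqs.resO (le_top : W f V ≤ ⊤) f) := by
  have h1 := X.toRingedSpace.isUnit_res_basicOpen f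
  have hle : W f V ≤ X.basicOpen f := by rw [W_eq]; exact inf_le_right
  have h2 := h1.map (Qcqs.resO hle)
  have h3 : Qcqs.resO hle ((X.presheaf.map (homOfLE (X.toRingedSpace.basicOpen_le f)).op).hom f) =
      Qcqs.resO (le_top : W f V ≤ ⊤) f :=
    Qcqs.resO_resO (X.toRingedSpace.basicOpen_le f) hle f
  rw [← h3]
  exact h2

lemma μGn_app_injective (V : X.Opens) (n : ℕ) :
    Function.Injective ((μGn f M n).hom.app (op V)).hom := by
  intro x y hxy
  have hx := μGn_app' f M V n x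
  have hy := μGn_app' f M V n y
  have h : Qcqs.resO (le_top : W f V ≤ ⊤) f ^ n • (show Γ(M, W f V) from x) =
      Qcqs.resO (le_top : W f V ≤ ⊤) f ^ n • (show Γ(M, W f V) from y) := by
    rw [← hx, ← hy]; exact hxy
  exact (IsUnit.smul_left_cancel (β := Γ(M, W f V)) ((isUnit_resO_W f V).pow n)).1 h

lemma W_eq_basicOpen (V : X.Opens) :
    W f V = X.basicOpen (Qcqs.resO (le_top : V ≤ ⊤) f) := by
  rw [W_eq]
  exact (X.basicOpen_res f (homOfLE (le_top : V ≤ ⊤)).op).symm

lemma W_le (V : X.Opens) : W f V ≤ V := (X.basicOpen f).ι.image_preimage_le V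

lemma cc_ι_app (n : ℕ) : (cc f M).ι.app n = leg f M n := rfl

/-- the small index category -/
abbrev JJ : Type u := AsSmall.{u} ℕ

/-- the diagram over the small index category -/
noncomputable abbrev D' : JJ.{u} ⥤ CohTop.Ab X.toTopCat :=
  (AsSmall.down : AsSmall.{u} ℕ ⥤ ℕ) ⋙ D f M

/-- the cocone over the small index category -/
noncomputable abbrev cc' : Cocone (D' f M) :=
  (cc f M).whisker (AsSmall.down : AsSmall.{u} ℕ ⥤ ℕ)

theorem isColimit_cc' [CompactSpace X] [QuasiSeparatedSpace X] [M.IsQuasicoherent] :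
    Nonempty (IsColimit (cc' f M)) := by
  haveI : PrespectralSpace X.toTopCat := inferInstanceAs (PrespectralSpace X)
  haveI : QuasiSeparatedSpace X.toTopCat := inferInstanceAs (QuasiSeparatedSpace X)
  refine ColimCrit.isColimit_of_basis (D' f M) (cc' f M) X.affineOpens X.isBasis_affineOpens
    (fun V hV => ⟨IsAffineOpen.isCompact hV, ColimSec.qSep_of_quasiSeparatedSpace V⟩) ?_ ?_
  · intro V hV t
    obtain ⟨n, t', ht'⟩ := Qcqs.exists_pow_smul_eq_res_of_qcqs M (IsAffineOpen.isCompact hV)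
      (IsAffineOpen.isQuasiSeparated hV) (Qcqs.resO (le_top : V ≤ ⊤) f) (W f V)
      (W_eq_basicOpen f V) (W_le f V) t
    refine ⟨AsSmall.up.obj n, t', ?_⟩
    apply μGn_app_injective f M V n
    have h1 : (μGn f M n).hom.app (op V) ((leg f M n).hom.app (op V) t') =
        (ρ f M).hom.app (op V) t' := by
      rw [← leg_μGn f M n]; rfl
    show (μGn f M n).hom.app (op V) ((leg f M n).hom.app (op V) t') = (μGn f M n).hom.app (op V) t
    refine h1.trans ?_
    rw [ρ_app', μGn_app']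
    rw [Qcqs.resO_resO] at ht'
    exact ht'
  · intro V hV j s hs
    obtain ⟨n⟩ := j
    have hs' : (leg f M n).hom.app (op V) s = 0 := hs
    have h1 : (ρ f M).hom.app (op V) s = 0 := by
      have : (μGn f M n).hom.app (op V) ((leg f M n).hom.app (op V) s) =
          (ρ f M).hom.app (op V) s := by
        rw [← leg_μGn f M n]; rfl
      rw [← this, hs', map_zero]
    rw [ρ_app'] at h1
    obtain ⟨k, hk⟩ := Qcqs.exists_pow_smul_eq_zero_of_isCompact M (IsAffineOpen.isCompact hV)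
      (Qcqs.resO (le_top : V ≤ ⊤) f) (W f V) (W_eq_basicOpen f V) (W_le f V) s h1
    refine ⟨AsSmall.up.obj (n + k), AsSmall.up.map (homOfLE (Nat.le_add_right n k)), ?_⟩
    show ((D f M).map (homOfLE (Nat.le_add_right n k))).hom.app (op V) s = 0
    rw [D_map_add]
    have h2 : (Coh.smulAb M ((show Coh.Γtop X from f) ^ k)).hom.app (op V) s =
        Qcqs.resO (le_top : V ≤ ⊤) f ^ k • (show Γ(M, V) from s) := by
      refine (Coh.smulAb_app M _ (op V) s).trans ?_
      congr 1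
      exact map_pow (Qcqs.resO (le_top : V ≤ ⊤)) f k
    exact h2.trans hk

end Groth.Agent.Helper13.BasicOpenCoh
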