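import Mathlib
import Groth.Agent.Lib.Helper13.BasicOpenCoh

universe u
set_option linter.unusedSectionVars false
open CategoryTheory CategoryTheory.Limits Opposite TopologicalSpace AlgebraicGeometry

namespace Groth.Agent.Helper13.BasicOpenCoh

variable {X : Scheme.{u}} (f : Γ(X, ⊤)) (M : X.Modules)

/-- `H^q(X, -)` as a functor -/
noncomputable abbrev Hq (X : Scheme.{u}) (q : ℕ) : CohTop.Ab X.toTopCat ⥤ AddCommGrpCat.{u} :=
  Sheaf.functorH (Opens.grothendieckTopology X.toTopCat) q

/-- comparison with cohomology over the top open -/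
noncomputable def HqIso (X : Scheme.{u}) (q : ℕ) :
    Hq X q ≅ (ColimCoh.TU (⊤ : Opens X.toTopCat)).F q :=
  (Abelian.extFunctor q).mapIso
    (HUTop.freeSheafIsoConst (Opens.grothendieckTopology X.toTopCat)
      (T := (⊤ : Opens X.toTopCat)) isTerminalTop).op

theorem preservesColimitsOfShape_Hq [CompactSpace X] [QuasiSeparatedSpace X] (q : ℕ) :
    PreservesColimitsOfShape JJ.{u} (Hq X q) := by
  haveI : PrespectralSpace X.toTopCat := inferInstanceAs (PrespectralSpace X)
  haveI : QuasiSeparatedSpace X.toTopCat := inferInstanceAs (QuasiSeparatedSpace X)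
  haveI := ColimCoh.preservesColimitsOfShape_TU (J := JJ.{u}) (⊤ : Opens X.toTopCat)
    (by simpa using (isCompact_univ : IsCompact (Set.univ : Set X)))
    (ColimSec.qSep_of_quasiSeparatedSpace _) q
  exact preservesColimitsOfShape_of_natIso (HqIso X q).symm

/-- the cocone `H^q(X, M) --f--> H^q(X, M) --f--> ... ⟶ H^q(X, j_*(M|_{X_f}))` is a colimit -/
theorem isColimit_Hq_cc [CompactSpace X] [QuasiSeparatedSpace X] [M.IsQuasicoherent] (q : ℕ) :
    Nonempty (IsColimit ((Hq X q).mapCocone (cc f M))) := by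
  obtain ⟨h⟩ := isColimit_cc' f M
  haveI := preservesColimitsOfShape_Hq (X := X) q
  have h2 : IsColimit ((Hq X q).mapCocone (cc' f M)) := isColimitOfPreserves (Hq X q) h
  have h3 : IsColimit (((Hq X q).mapCocone (cc f M)).whisker (AsSmall.down : AsSmall.{u} ℕ ⥤ ℕ)) :=
    IsColimit.ofIsoColimit h2 (Functor.mapCoconeWhisker (Hq X q))
  let e : AsSmall.{u} ℕ ≌ ℕ := (AsSmall.equiv (C := ℕ)).symm
  exact ⟨(IsColimit.whiskerEquivalenceEquiv e).symm h3⟩

section Loc

variable (q : ℕ)

/-- the diagram `H^q(X, M) --f--> H^q(X, M) --f--> ...` -/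
noncomputable abbrev E : ℕ ⥤ AddCommGrpCat.{u} := D f M ⋙ Hq X q

lemma E_map_add (n k : ℕ) (x : Coh.HH X M q) :
    ((E f M q).map (homOfLE (Nat.le_add_right n k))).hom x = f ^ k • x := by
  show Sheaf.H.map ((D f M).map (homOfLE (Nat.le_add_right n k))) q x = _
  rw [D_map_add]
  rfl

/-- the submonoid of powers of `f` -/
abbrev S : Submonoid Γ(X, ⊤) := Submonoid.powers f

/-- `f^n` as an element of the submonoid -/
def fpow (n : ℕ) : S f := ⟨f ^ n, n, rfl⟩

/-- the legs `x ↦ x / f^n` -/
noncomputable def lam (n : ℕ) : Coh.HH X M q →+ LocalizedModule (S f) (Coh.HH X M q) :=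
  ((LocalizedModule.divBy (fpow f n)).comp
    (LocalizedModule.mkLinearMap (S f) (Coh.HH X M q))).toAddMonoidHom

lemma lam_apply (n : ℕ) (x : Coh.HH X M q) :
    lam f M q n x = LocalizedModule.mk x (fpow f n) := by
  show LocalizedModule.divBy (fpow f n) (LocalizedModule.mk x 1) = _
  rw [LocalizedModule.divBy_apply, LocalizedModule.liftOn_mk]
  show LocalizedModule.mk x (1 * fpow f n) = _
  rw [one_mul]

lemma E_map_le {n m : ℕ} (h : n ≤ m) (x : Coh.HH X M q) :
    ((E f M q).map (homOfLE h)).hom x = f ^ (m - n) • x := by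
  obtain ⟨k, rfl⟩ := Nat.exists_eq_add_of_le h
  rw [Nat.add_sub_cancel_left]
  exact E_map_add f M q n k x

/-- the cocone with point the localization -/
noncomputable def cL : Cocone (E f M q) where
  pt := AddCommGrpCat.of (LocalizedModule (S f) (Coh.HH X M q))
  ι := NatTrans.ofSequence (fun n => AddCommGrpCat.ofHom (lam f M q n)) (by
    intro n
    ext x'
    obtain ⟨x, rfl⟩ : ∃ x : Coh.HH X M q, x = x' := ⟨x', rfl⟩
    show lam f M q (n + 1) (((E f M q).map (homOfLE (Nat.le_add_right n 1))).hom x) = lam f M q n x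
    rw [E_map_add, lam_apply, lam_apply, pow_one]
    have h1 : fpow f (n + 1) = fpow f 1 * fpow f n := Subtype.ext (by
      show f ^ (n + 1) = f ^ 1 * f ^ n
      rw [pow_one, pow_succ'])
    have h2 : f • x = fpow f 1 • x := by
      show f • x = f ^ 1 • x
      rw [pow_one]
    rw [h1, h2]
    exact LocalizedModule.mk_cancel_common_left _ _ _)

lemma cL_ι_app (n : ℕ) (x : Coh.HH X M q) : ((cL f M q).ι.app n).hom x = lam f M q n x := rfl

theorem isColimit_cL : Nonempty (IsColimit (cL f M q)) := by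
  haveI : ReflectsColimit (E f M q) (forget AddCommGrpCat.{u}) :=
    reflectsColimit_of_reflectsIsomorphisms _ _
  refine ⟨isColimitOfReflects (forget AddCommGrpCat.{u}) ?_⟩
  apply Types.FilteredColimit.isColimitOf
  · intro y
    have hy : ∀ y : LocalizedModule (S f) (Coh.HH X M q), ∃ (n : ℕ) (x : Coh.HH X M q),
        y = lam f M q n x := by
      intro y
      induction y using LocalizedModule.induction_on with
      | h m s =>
        obtain ⟨n, hn⟩ := s.2
        refine ⟨n, m, ?_⟩
        rw [lam_apply]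
        congr 1
        exact Subtype.ext hn.symm
    obtain ⟨n, x, hx⟩ := hy y
    exact ⟨n, x, hx⟩
  · intro i j xi' xj' h
    obtain ⟨xi, rfl⟩ : ∃ x : Coh.HH X M q, x = xi' := ⟨xi', rfl⟩
    obtain ⟨xj, rfl⟩ : ∃ x : Coh.HH X M q, x = xj' := ⟨xj', rfl⟩
    have h' : lam f M q i xi = lam f M q j xj := h
    rw [lam_apply, lam_apply, LocalizedModule.mk_eq] at h'
    obtain ⟨⟨u, l, rfl⟩, hu⟩ := h'
    have hu' : f ^ l • f ^ j • xi = f ^ l • f ^ i • xj := hu
    refine ⟨i + j + l, homOfLE (by omega), homOfLE (by omega), ?_⟩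
    show ((E f M q).map (homOfLE _)).hom xi = ((E f M q).map (homOfLE _)).hom xj
    rw [E_map_le, E_map_le]
    have e1 : i + j + l - i = l + j := by omega
    have e2 : i + j + l - j = l + i := by omega
    rw [e1, e2, pow_add, pow_add, mul_smul, mul_smul]
    exact hu'

end Loc

/-- cohomology over `X_f` is the localization of the cohomology at `f` (`X` qcqs, `M` quasi-coherent) -/
theorem main [CompactSpace X] [QuasiSeparatedSpace X] [M.IsQuasicoherent] (q : ℕ) :
    Nonempty (Coh.HHon X M (X.basicOpen f) q ≃+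
      LocalizedModule (Submonoid.powers f) (Coh.HH X M q)) := by
  obtain ⟨h1⟩ := isColimit_Hq_cc f M q
  obtain ⟨h2⟩ := isColimit_cL f M q
  let e := h1.coconePointUniqueUpToIso h2
  haveI hG : (N f M).IsQuasicoherent := inferInstance
  obtain ⟨e3⟩ := LerayZero.main (X.basicOpen f).ι.base q (Coh.toAb (N f M))
    (fun k => Groth.Agent.S0028.result (X.basicOpen f).ι (N f M) (k + 1) (Nat.succ_pos k))
  exact ⟨e3.trans e.addCommGroupIsoToAddEquiv⟩

end Groth.Agent.Helper13.BasicOpenCoh
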