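import Mathlib
import Groth.Prelude.Def_CohTop
import Groth.Prelude.Def_RDerDelta
import Groth.Agent.Lib.Helper13.DeltaPsh
import Groth.Agent.Lib.Helper13.LerayZero
import Groth.Agent.Lib.Helper13.RpushShf

universe w v u v' u'
set_option linter.unusedSectionVars false
open CategoryTheory CategoryTheory.Limits Opposite

namespace Groth.Agent.Helper13.ResBij

open Groth.Agent.Helper24.CechH Groth.Agent.Helper13.DeltaPsh

section Generic
open Abelian
variable {A : Type u} [Category.{v} A] [Abelian A] [HasExt.{w} A] {D : Type u'} [Category.{v'} D]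
  (E : D ⥤ A) {d d' : D} (i : d' ⟶ d)

/-- the restriction map `Ext^n(E d, G) ⟶ Ext^n(E d', G)` -/
noncomputable abbrev r (n : ℕ) (G : A) :
    ((extDelta (E.obj d)).F n).obj G ⟶ ((extDelta (E.obj d')).F n).obj G :=
  (((extPsh E).F n).obj G).map i.op

lemma r_natural (n : ℕ) {G G' : A} (φ : G ⟶ G') (x : ((extDelta (E.obj d)).F n).obj G) :
    (r E i n G').hom ((((extDelta (E.obj d)).F n).map φ).hom x) =
      (((extDelta (E.obj d')).F n).map φ).hom ((r E i n G).hom x) :=
  (congrArg (fun m => m.hom x) ((((extPsh E).F n).map φ).naturality i.op)).symm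

lemma r_δ (S : ShortComplex A) (hS : S.ShortExact) (n : ℕ)
    (x : ((extDelta (E.obj d)).F n).obj S.X₃) :
    (r E i (n + 1) S.X₁).hom (((extDelta (E.obj d)).δ S hS n (n + 1) rfl).hom x) =
      ((extDelta (E.obj d')).δ S hS n (n + 1) rfl).hom ((r E i n S.X₃).hom x) :=
  (congrArg (fun m => m.hom x) (((extPsh E).δ S hS n (n + 1) rfl).naturality i.op)).symm

theorem r_bijective {ι : Type*} (obj : ι → A) (𝒜 : ι → Prop)
    (h0 : ∀ N, Function.Bijective (r E i 0 (obj N)).hom)
    (hstep : ∀ N, 𝒜 N → ∃ (N' N'' : ι) (a : obj N ⟶ obj N') (b : obj N' ⟶ obj N'') (w : a ≫ b = 0),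
      (ShortComplex.mk a b w).ShortExact ∧ 𝒜 N'' ∧
      (∀ k, Subsingleton (((extDelta (E.obj d)).F (k + 1)).obj (obj N'))) ∧
      (∀ k, Subsingleton (((extDelta (E.obj d')).F (k + 1)).obj (obj N')))) :
    ∀ (n : ℕ) (N : ι), 𝒜 N → Function.Bijective (r E i n (obj N)).hom
  | 0, N, _ => h0 N
  | 1, N, hN => by
    obtain ⟨N', N'', a, b, w, hS, -, hd, hd'⟩ := hstep N hN
    let S := ShortComplex.mk a b w
    have s1 := LerayZero.δ_surjective (extDelta (E.obj d)) S hS 0 (hd 0)
    have s2 := LerayZero.δ_surjective (extDelta (E.obj d')) S hS 0 (hd' 0)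
    have k1 := LerayZero.δ_ker (extDelta (E.obj d)) S hS 0
    have k2 := LerayZero.δ_ker (extDelta (E.obj d')) S hS 0
    constructor
    · rw [injective_iff_map_eq_zero]
      intro z hz
      obtain ⟨y, rfl⟩ := s1 z
      have h1 := r_δ E i S hS 0 y
      rw [hz] at h1
      obtain ⟨x', hx'⟩ := (k2 _).1 h1.symm
      obtain ⟨x, rfl⟩ := (h0 N').2 x'
      have h2 := r_natural E i 0 b x
      have h3 : y = (((extDelta (E.obj d)).F 0).map S.g).hom x := by
        apply (h0 N'').1
        rw [h2]
        exact hx'.symm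
      exact (k1 y).2 ⟨x, h3.symm⟩
    · intro z'
      obtain ⟨y', rfl⟩ := s2 z'
      obtain ⟨y, rfl⟩ := (h0 N'').2 y'
      exact ⟨_, r_δ E i S hS 0 y⟩
  | n + 2, N, hN => by
    obtain ⟨N', N'', a, b, w, hS, hN'', hd, hd'⟩ := hstep N hN
    let S := ShortComplex.mk a b w
    have b1 := LerayZero.δ_bijective (extDelta (E.obj d)) S hS (n + 1) (hd n) (hd (n + 1))
    have b2 := LerayZero.δ_bijective (extDelta (E.obj d')) S hS (n + 1) (hd' n) (hd' (n + 1))
    have ih := r_bijective obj 𝒜 h0 hstep (n + 1) N'' hN''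
    constructor
    · rw [injective_iff_map_eq_zero]
      intro z hz
      obtain ⟨y, rfl⟩ := b1.2 z
      have h1 := r_δ E i S hS (n + 1) y
      rw [hz] at h1
      have h2 : (r E i (n + 1) S.X₃).hom y = 0 := by
        apply b2.1
        rw [← h1, map_zero]
      have h3 : y = 0 := by
        apply ih.1
        rw [map_zero]
        exact h2
      rw [h3, map_zero]
    · intro z'
      obtain ⟨y', rfl⟩ := b2.2 z'
      obtain ⟨y, rfl⟩ := ih.2 y'
      exact ⟨_, r_δ E i S hS (n + 1) y⟩

end Generic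

section Top
open TopologicalSpace Groth.Agent.Helper24.CechInj Groth.Agent.Helper24.Flasque
  Groth.Agent.Helper24.KillClass Groth.Agent.Helper24.CechEdgeLib

/-- `V ↦ ℤ_V` on a space -/
noncomputable abbrev EX (X : TopCat.{u}) : Opens X ⥤ CohTop.Ab X :=
  RpushShf.Yfree (Opens.grothendieckTopology X)

variable {X Y : TopCat.{u}}

/-- in degree zero the restriction is the restriction of sections -/
lemma r0_bijective (G : CohTop.Ab X) {U V : Opens X} (i : U ⟶ V)
    (h : Function.Bijective (G.obj.map i.op).hom) :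
    Function.Bijective (r (EX X) i 0 G).hom := by
  have key : ∀ s : G.obj.obj (op V),
      (r (EX X) i 0 G).hom (CechEdge.sectH0 (Opens.grothendieckTopology X) V G s) =
        CechEdge.sectH0 (Opens.grothendieckTopology X) U G ((G.obj.map i.op).hom s) :=
    fun s => res_sectH0 (Opens.grothendieckTopology X) G i s
  constructor
  · intro x y hxy
    obtain ⟨s, rfl⟩ := (CechEdge.sectH0 (Opens.grothendieckTopology X) V G).surjective x
    obtain ⟨t, rfl⟩ := (CechEdge.sectH0 (Opens.grothendieckTopology X) V G).surjective y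
    rw [key, key] at hxy
    rw [h.1 ((CechEdge.sectH0 (Opens.grothendieckTopology X) U G).injective hxy)]
  · intro y
    obtain ⟨t, rfl⟩ := (CechEdge.sectH0 (Opens.grothendieckTopology X) U G).surjective y
    obtain ⟨s, rfl⟩ := h.2 t
    exact ⟨_, key s⟩

variable (j : Y ⟶ X) (U : Opens X) (hU : (Opens.map j).obj U = ⊤)

include hU in
/-- if `j` factors through `U` and `R^k j_* N = 0` for `k > 0` then
`H^n(X, j_* N) → H^n(U, j_* N)` is bijective -/
theorem res_push_bijective (n : ℕ) (N : CohTop.Ab Y)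
    (hN : ∀ k : ℕ, IsZero ((CohTop.Rpush j (k + 1)).obj N)) :
    Function.Bijective (r (EX X) (homOfLE (le_top : U ≤ ⊤)) n ((CohTop.push j).obj N)).hom := by
  refine r_bijective (EX X) (homOfLE (le_top : U ≤ ⊤)) (fun N => (CohTop.push j).obj N)
    (fun N => ∀ k : ℕ, IsZero ((CohTop.Rpush j (k + 1)).obj N)) ?_ ?_ n N hN
  · intro N
    apply r0_bijective
    haveI : IsIso ((Opens.map j).map (homOfLE (le_top : U ≤ ⊤))) :=
      ⟨homOfLE (by rw [hU]; exact le_top), Subsingleton.elim _ _, Subsingleton.elim _ _⟩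
    show Function.Bijective (N.obj.map ((Opens.map j).map (homOfLE (le_top : U ≤ ⊤))).op).hom
    exact ConcreteCategory.bijective_of_isIso _
  · intro N hN
    haveI hinj : Injective (Injective.under N) := Injective.injective_under N
    haveI hfl : TopCat.Sheaf.IsFlasque (Injective.under N) :=
      @isFlasque_of_injective _ _ (Injective.injective_under N)
    have hfl' : TopCat.Sheaf.IsFlasque ((CohTop.push j).obj (Injective.under N)) :=
      @TopCat.Sheaf.IsFlasque.pushforward_isFlasque Y AddCommGrpCat.{u} _ X (Injective.under N) hfl j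
    refine ⟨Injective.under N, cokernel (Injective.ι N), (CohTop.push j).map (Injective.ι N),
      (CohTop.push j).map (cokernel.π (Injective.ι N)), ?_, ?_, ?_, ?_, ?_⟩
    · rw [← Functor.map_comp, cokernel.condition, Functor.map_zero]
    · exact LerayZero.push_shortExact j N (hN 0)
    · exact LerayZero.isZero_Rpush_coker j N hN
    · intro k
      exact HU_succ_subsingleton k _ hfl' ⊤
    · intro k
      exact HU_succ_subsingleton k _ hfl' U

end Top

end Groth.Agent.Helper13.ResBij
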