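import Mathlib
import Groth.Agent.Lib.Helper13.BasicOpenCoh2
import Groth.Agent.Lib.Helper13.ResBij
import Groth.Agent.Lib.Helper13.RestrCoh

universe u
set_option linter.unusedSectionVars false
open CategoryTheory CategoryTheory.Limits Opposite TopologicalSpace AlgebraicGeometry

namespace Groth.Agent.Helper13.BasicOpenRes

open Groth.Agent.Helper24.CechH Groth.Agent.Helper13.DeltaPsh Groth.Agent.Helper13.BasicOpenCoh
  Groth.Agent.Helper13.ResBij

section Top
variable {X : TopCat.{u}}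

/-- `F ↦ H^q(V, F)` as a functor -/
noncomputable abbrev HUq (q : ℕ) (V : Opens X) : CohTop.Ab X ⥤ AddCommGrpCat.{u} :=
  (extDelta ((EX X).obj V)).F q

lemma isIso_restr_map (U : Opens X) {F F' : CohTop.Ab X} (φ : F ⟶ F')
    (h : ∀ V : Opens X, V ≤ U → IsIso (φ.hom.app (op V))) :
    IsIso ((CohTop.restrFunctor U).map φ) := by
  haveI : IsIso ((sheafToPresheaf _ _).map ((CohTop.restrFunctor U).map φ)) := by
    haveI : ∀ V, IsIso (((sheafToPresheaf _ _).map ((CohTop.restrFunctor U).map φ)).app V) := by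
      intro V
      refine h _ ?_
      rintro _ ⟨x, -, rfl⟩
      exact x.2
    exact NatIso.isIso_of_isIso_app _
  exact isIso_of_reflects_iso _ (sheafToPresheaf _ _)

/-- a morphism which is an isomorphism over `U` induces a bijection on `H^q(U, -)` -/
theorem HUq_map_bijective (U : Opens X) {F F' : CohTop.Ab X} (φ : F ⟶ F')
    (h : ∀ V : Opens X, V ≤ U → IsIso (φ.hom.app (op V))) (q : ℕ) :
    Function.Bijective ((HUq q U).map φ).hom := by
  obtain ⟨e⟩ := iso_of_universal (RestrCoh.TU U) (RestrCoh.TR U) (RestrCoh.TU_universal U)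
    (RestrCoh.TR_universal U) (RestrCoh.e0 U) q
  have h1 := e.hom.naturality φ
  haveI := isIso_restr_map U φ h
  haveI : IsIso (((RestrCoh.TR U).F q).map φ) := by
    show IsIso (((extDelta (RestrCoh.constZ U)).F q).map ((CohTop.restrFunctor U).map φ))
    infer_instance
  have h2 : ((RestrCoh.TU U).F q).map φ =
      e.hom.app F ≫ ((RestrCoh.TR U).F q).map φ ≫ e.inv.app F' := by
    rw [← Category.assoc, ← h1, Category.assoc, Iso.hom_inv_id_app, Category.comp_id]
  haveI : IsIso (((RestrCoh.TU U).F q).map φ) := by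
    rw [h2]
    infer_instance
  exact ConcreteCategory.bijective_of_isIso (((RestrCoh.TU U).F q).map φ)

end Top

section Sch
variable {X : Scheme.{u}} (f : Γ(X, ⊤)) (M : X.Modules)

lemma isUnit_resO_of_le {V : X.Opens} (hV : V ≤ X.basicOpen f) :
    IsUnit (Qcqs.resO (le_top : V ≤ ⊤) f) := by
  have h1 := X.toRingedSpace.isUnit_res_basicOpen f
  have h2 := h1.map (Qcqs.resO hV)
  have h3 : Qcqs.resO hV ((X.presheaf.map (homOfLE (X.toRingedSpace.basicOpen_le f)).op).hom f) =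
      Qcqs.resO (le_top : V ≤ ⊤) f :=
    Qcqs.resO_resO (X.toRingedSpace.basicOpen_le f) hV f
  rw [← h3]
  exact h2

lemma smulAb_app' (a : Γ(X, ⊤)) (V : X.Opens) (m : Γ(M, V)) :
    (Coh.smulAb M a).hom.app (op V) m = Qcqs.resO (le_top : V ≤ ⊤) a • m := rfl

lemma isIso_smulAb_app {V : X.Opens} (hV : V ≤ X.basicOpen f) :
    IsIso ((Coh.smulAb M f).hom.app (op V)) := by
  rw [ConcreteCategory.isIso_iff_bijective]
  have hu := isUnit_resO_of_le f hV
  constructor
  · intro x y hxy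
    have h : Qcqs.resO (le_top : V ≤ ⊤) f • (show Γ(M, V) from x) =
        Qcqs.resO (le_top : V ≤ ⊤) f • (show Γ(M, V) from y) := hxy
    exact (IsUnit.smul_left_cancel (β := Γ(M, V)) hu).1 h
  · intro y
    obtain ⟨u, hu'⟩ := hu
    refine ⟨(↑u⁻¹ : Γ(X, V)) • (show Γ(M, V) from y), ?_⟩
    show Qcqs.resO (le_top : V ≤ ⊤) f • ((↑u⁻¹ : Γ(X, V)) • (show Γ(M, V) from y)) = y
    rw [← hu', smul_smul, Units.mul_inv, one_smul]

lemma isIso_ρ_app {V : X.Opens} (hV : V ≤ X.basicOpen f) :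
    IsIso ((ρ f M).hom.app (op V)) := by
  rw [ConcreteCategory.isIso_iff_bijective]
  have hW : V ≤ W f V := by rw [W_eq]; exact le_inf le_rfl hV
  have h1 : ∀ s : Γ(M, V), Qcqs.res M hW (Qcqs.res M (W_le f V) s) = s := fun s => by
    rw [Qcqs.res_res]; exact Qcqs.res_self M s
  have h2 : ∀ t : Γ(M, W f V), Qcqs.res M (W_le f V) (Qcqs.res M hW t) = t := fun t => by
    rw [Qcqs.res_res]; exact Qcqs.res_self M t
  constructor
  · intro x y hxy
    have h : Qcqs.res M (W_le f V) x = Qcqs.res M (W_le f V) y := hxy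
    rw [← h1 x, ← h1 y, h]
  · intro t
    exact ⟨Qcqs.res M hW t, h2 t⟩

lemma smul_pow_ρ : ∀ n : ℕ,
    Coh.smulAb M ((show Coh.Γtop X from f) ^ n) ≫ ρ f M = ρ f M ≫ μGn f M n
  | 0 => by
    rw [pow_zero, Coh.smulAb_one]
    exact (Category.id_comp _).trans (Category.comp_id _).symm
  | n + 1 => by
    have h0 : Coh.smulAb M f ≫ ρ f M = ρ f M ≫ μG f M := leg_μG f M 0
    show _ = ρ f M ≫ μG f M ≫ μGn f M n
    rw [pow_succ, Coh.smulAb_mul, Category.assoc, smul_pow_ρ n, ← Category.assoc, h0,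
      Category.assoc]

/-- the restriction `H^q(V, F) ⟶ H^q(U, F)` for `U ≤ V` -/
noncomputable abbrev rr (q : ℕ) {U V : X.Opens} (h : U ≤ V) (F : CohTop.Ab X.toTopCat) :
    (HUq (X := X.toTopCat) q V).obj F ⟶ (HUq (X := X.toTopCat) q U).obj F :=
  r (EX X.toTopCat) (homOfLE h) q F

variable (q : ℕ)

/-- (1): `f` acts bijectively on `H^q(X_f, M)` -/
theorem act_bijective {U : X.Opens} (hU : U ≤ X.basicOpen f) :
    Function.Bijective ((HUq (X := X.toTopCat) q U).map (Coh.smulAb M f)).hom :=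
  HUq_map_bijective (X := X.toTopCat) U (Coh.smulAb M f) (fun V hV => isIso_smulAb_app f M (hV.trans hU)) q

theorem isColimit_HUq_cc [CompactSpace X] [QuasiSeparatedSpace X] [M.IsQuasicoherent] :
    Nonempty (IsColimit ((HUq (X := X.toTopCat) q ⊤).mapCocone (cc f M))) := by
  obtain ⟨h⟩ := isColimit_Hq_cc f M q
  exact ⟨IsColimit.mapCoconeEquiv (HqIso X q) h⟩

/-- (2'): every class of `H^q(X, j_* j^* M)` is of the form `x / f^n` -/
theorem exists_rep [CompactSpace X] [QuasiSeparatedSpace X] [M.IsQuasicoherent]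
    (y : (HUq (X := X.toTopCat) q ⊤).obj (G f M)) :
    ∃ (n : ℕ) (x : (HUq (X := X.toTopCat) q ⊤).obj (Coh.toAb M)),
      ((HUq (X := X.toTopCat) q ⊤).map (μGn f M n)).hom y =
        ((HUq (X := X.toTopCat) q ⊤).map (ρ f M)).hom x := by
  obtain ⟨h⟩ := isColimit_HUq_cc f M q
  obtain ⟨n, x', hx⟩ := Concrete.isColimit_exists_rep _ h y
  obtain ⟨x, rfl⟩ : ∃ x : (HUq (X := X.toTopCat) q ⊤).obj (Coh.toAb M), x = x' := ⟨x', rfl⟩
  refine ⟨n, x, ?_⟩
  have h1 : ((HUq (X := X.toTopCat) q ⊤).map (leg f M n)).hom x = y := hx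
  rw [← h1]
  have h2 := congrArg (fun m => ((HUq (X := X.toTopCat) q ⊤).map m).hom x) (leg_μGn f M n)
  simp only [Functor.map_comp] at h2
  exact h2

/-- (3'): a class killed by `H^q(ρ)` is killed by a power of `f` -/
theorem exists_pow_of_ρ_eq_zero [CompactSpace X] [QuasiSeparatedSpace X] [M.IsQuasicoherent]
    (x : (HUq (X := X.toTopCat) q ⊤).obj (Coh.toAb M))
    (hx : ((HUq (X := X.toTopCat) q ⊤).map (ρ f M)).hom x = 0) :
    ∃ n : ℕ, ((HUq (X := X.toTopCat) q ⊤).map
      (Coh.smulAb M ((show Coh.Γtop X from f) ^ n))).hom x = 0 := by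
  obtain ⟨h⟩ := isColimit_HUq_cc f M q
  have h1 : (((HUq (X := X.toTopCat) q ⊤).mapCocone (cc f M)).ι.app 0) x =
      (((HUq (X := X.toTopCat) q ⊤).mapCocone (cc f M)).ι.app 0) 0 := by
    rw [map_zero]
    exact hx
  obtain ⟨k, a, b, hab⟩ := (Concrete.isColimit_rep_eq_iff_exists _ h
    (i := 0) (j := 0) x 0).1 h1
  obtain ⟨k, rfl⟩ : ∃ k', k = 0 + k' := ⟨k, (zero_add k).symm⟩
  refine ⟨k, ?_⟩
  have ha : a = homOfLE (Nat.le_add_right 0 k) := Subsingleton.elim _ _
  have h2 : ((HUq (X := X.toTopCat) q ⊤).map ((D f M).map a)).hom x = 0 := by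
    have h3 : ((HUq (X := X.toTopCat) q ⊤).map ((D f M).map b)).hom 0 = 0 := map_zero _
    exact hab.trans h3
  rw [ha, D_map_add] at h2
  exact h2

section Main
variable [CompactSpace X] [QuasiSeparatedSpace X] [M.IsQuasicoherent]

lemma rr_G_bijective :
    Function.Bijective (rr q (le_top : X.basicOpen f ≤ ⊤) (G f M)).hom :=
  res_push_bijective (X.basicOpen f).ι.base (X.basicOpen f) (Scheme.Opens.ι_preimage_self _) q
    (Coh.toAb (N f M))
    (fun k => Groth.Agent.S0028.result (X.basicOpen f).ι (N f M) (k + 1) (Nat.succ_pos k))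

lemma ρ_U_bijective :
    Function.Bijective ((HUq (X := X.toTopCat) q (X.basicOpen f)).map (ρ f M)).hom :=
  HUq_map_bijective (X := X.toTopCat) (X.basicOpen f) (ρ f M) (fun V hV => isIso_ρ_app f M hV) q

/-- (2): every class of `H^q(X_f, M)` becomes a restriction of a global class after multiplying by a
power of `f` -/
theorem exists_pow_smul_eq_res (y : (HUq (X := X.toTopCat) q (X.basicOpen f)).obj (Coh.toAb M)) :
    ∃ (n : ℕ) (x : (HUq (X := X.toTopCat) q ⊤).obj (Coh.toAb M)),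
      ((HUq (X := X.toTopCat) q (X.basicOpen f)).map
        (Coh.smulAb M ((show Coh.Γtop X from f) ^ n))).hom y =
      (rr q (le_top : X.basicOpen f ≤ ⊤) (Coh.toAb M)).hom x := by
  obtain ⟨z, hz⟩ := (rr_G_bijective f M q).2
    (((HUq (X := X.toTopCat) q (X.basicOpen f)).map (ρ f M)).hom y)
  obtain ⟨n, x, hx⟩ := exists_rep f M q z
  refine ⟨n, x, (ρ_U_bijective f M q).1 ?_⟩
  have e1 := r_natural (EX X.toTopCat) (homOfLE (le_top : X.basicOpen f ≤ ⊤)) q (μGn f M n) z
  have e2 := r_natural (EX X.toTopCat) (homOfLE (le_top : X.basicOpen f ≤ ⊤)) q (ρ f M) x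
  have e3 := congrArg (fun m => ((HUq (X := X.toTopCat) q (X.basicOpen f)).map m).hom y)
    (smul_pow_ρ f M n)
  simp only [Functor.map_comp] at e3
  refine e3.trans ?_
  show ((HUq (X := X.toTopCat) q (X.basicOpen f)).map (μGn f M n)).hom
    (((HUq (X := X.toTopCat) q (X.basicOpen f)).map (ρ f M)).hom y) = _
  rw [← hz]
  refine e1.symm.trans ?_
  rw [hx]
  exact e2

/-- (3): a global class restricting to zero on `X_f` is killed by a power of `f` -/
theorem exists_pow_smul_eq_zero (x : (HUq (X := X.toTopCat) q ⊤).obj (Coh.toAb M))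
    (hx : (rr q (le_top : X.basicOpen f ≤ ⊤) (Coh.toAb M)).hom x = 0) :
    ∃ n : ℕ, ((HUq (X := X.toTopCat) q ⊤).map
      (Coh.smulAb M ((show Coh.Γtop X from f) ^ n))).hom x = 0 := by
  apply exists_pow_of_ρ_eq_zero
  apply (rr_G_bijective f M q).1
  have e2 := r_natural (EX X.toTopCat) (homOfLE (le_top : X.basicOpen f ≤ ⊤)) q (ρ f M) x
  rw [map_zero]
  refine e2.trans ?_
  rw [hx, map_zero]

end Main

section Gen
variable [CompactSpace X] [QuasiSeparatedSpace X] [M.IsQuasicoherent]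

theorem exists_pow_smul_eq_res' {U T : X.Opens} (hU : U = X.basicOpen f) (hT : T = ⊤) (hUT : U ≤ T)
    (y : (HUq (X := X.toTopCat) q U).obj (Coh.toAb M)) :
    ∃ (n : ℕ) (x : (HUq (X := X.toTopCat) q T).obj (Coh.toAb M)),
      ((HUq (X := X.toTopCat) q U).map
        (Coh.smulAb M ((show Coh.Γtop X from f) ^ n))).hom y =
      (rr q hUT (Coh.toAb M)).hom x := by
  subst hU hT
  exact exists_pow_smul_eq_res f M q y

theorem exists_pow_smul_eq_zero' {U T : X.Opens} (hU : U = X.basicOpen f) (hT : T = ⊤) (hUT : U ≤ T)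
    (x : (HUq (X := X.toTopCat) q T).obj (Coh.toAb M))
    (hx : (rr q hUT (Coh.toAb M)).hom x = 0) :
    ∃ n : ℕ, ((HUq (X := X.toTopCat) q T).map
      (Coh.smulAb M ((show Coh.Γtop X from f) ^ n))).hom x = 0 := by
  subst hU hT
  exact exists_pow_smul_eq_zero f M q x hx

end Gen

end Sch

end Groth.Agent.Helper13.BasicOpenRes
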