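import Mathlib

set_option linter.unusedSectionVars false

namespace Groth.Agent.Helper13.GlueAlg

variable {A : Type*} [CommRing A] {N : Type*} [AddCommGroup N] [Module A N]

lemma pow_smul_eq_zero_of_le {a : A} {x : N} {m M : ℕ} (h : a ^ m • x = 0) (hm : m ≤ M) :
    a ^ M • x = 0 := by
  obtain ⟨k, rfl⟩ := Nat.exists_eq_add_of_le hm
  rw [pow_add, mul_comm, mul_smul, h, smul_zero]

/-- gluing of local data for the "tilde" of a module -/
theorem glue {ι : Type*} [Fintype ι] (g : ι → A) (hg : Ideal.span (Set.range g) = ⊤) (k : ℕ)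
    (n : ι → N)
    (h : ∀ i j, ∃ m : ℕ, (g i * g j) ^ m • (g j ^ k • n i - g i ^ k • n j) = 0) :
    ∃ x : N, ∀ j, ∃ m : ℕ, g j ^ m • (g j ^ k • x - n j) = 0 := by
  classical
  choose m hm using h
  let M : ℕ := Finset.univ.sup (fun p : ι × ι => m p.1 p.2)
  have hM : ∀ i j, (g i * g j) ^ M • (g j ^ k • n i - g i ^ k • n j) = 0 := fun i j =>
    pow_smul_eq_zero_of_le (hm i j) (Finset.le_sup (f := fun p : ι × ι => m p.1 p.2)
      (Finset.mem_univ (i, j)))
  let K := k + M
  let n' : ι → N := fun i => g i ^ M • n i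
  have hn' : ∀ i j, g j ^ K • n' i = g i ^ K • n' j := by
    intro i j
    have := hM i j
    rw [smul_sub, sub_eq_zero] at this
    show g j ^ (k + M) • g i ^ M • n i = g i ^ (k + M) • g j ^ M • n j
    rw [smul_smul, smul_smul] at this ⊢
    have e1 : g j ^ (k + M) * g i ^ M = (g i * g j) ^ M * g j ^ k := by ring
    have e2 : g i ^ (k + M) * g j ^ M = (g i * g j) ^ M * g i ^ k := by ring
    rw [e1, e2]
    exact this
  have hspan : Ideal.span (Set.range fun i => g i ^ K) = ⊤ := by
    have := Ideal.span_pow_eq_top (Set.range g) hg K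
    rwa [← Set.range_comp] at this
  have h1 : (1 : A) ∈ Ideal.span (Set.range fun i => g i ^ K) := by rw [hspan]; trivial
  obtain ⟨c, hc⟩ := (Ideal.mem_span_range_iff_exists_fun).1 h1
  refine ⟨∑ i, c i • n' i, fun j => ⟨M, ?_⟩⟩
  have h2 : g j ^ K • ∑ i, c i • n' i = n' j := by
    rw [Finset.smul_sum]
    have : ∀ i, g j ^ K • c i • n' i = (c i * g i ^ K) • n' j := by
      intro i
      rw [smul_comm, hn' i j, smul_smul]
    simp only [this]
    rw [← Finset.sum_smul, hc, one_smul]
  rw [smul_sub, smul_smul]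
  have e3 : g j ^ M * g j ^ k = g j ^ K := by rw [← pow_add, add_comm]
  rw [e3, h2, sub_self]

end Groth.Agent.Helper13.GlueAlg
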