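import Mathlib
import Groth.Agent.Lib.Helper13.GlueAlg

universe u
set_option linter.unusedSectionVars false
open CategoryTheory CategoryTheory.Limits Opposite TopologicalSpace AlgebraicGeometry

namespace Groth.Agent.Helper13.BasisGlueRel

section Points
variable {S : Scheme.{u}} {V : S.Opens} (hV : IsAffineOpen V)

include hV in
lemma exists_point (p : Ideal Γ(S, V)) [hp : p.IsPrime] :
    ∃ x : S, x ∈ V ∧ ∀ h : Γ(S, V), x ∈ S.basicOpen h ↔ h ∉ p := by
  refine ⟨hV.fromSpec.base ⟨p, hp⟩, ?_, fun h => ?_⟩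
  · have := hV.range_fromSpec
    rw [← SetLike.mem_coe, ← this]
    exact ⟨_, rfl⟩
  · have h1 := hV.fromSpec_preimage_basicOpen h
    have h2 : hV.fromSpec.base ⟨p, hp⟩ ∈ S.basicOpen h ↔
        (⟨p, hp⟩ : PrimeSpectrum Γ(S, V)) ∈ hV.fromSpec ⁻¹ᵁ S.basicOpen h := Iff.rfl
    rw [h2, h1]
    exact PrimeSpectrum.mem_basicOpen _ _

include hV in
lemma span_eq_top_of_cover {ι : Type*} (g : ι → Γ(S, V))
    (hcov : ∀ x ∈ V, ∃ i, x ∈ S.basicOpen (g i)) : Ideal.span (Set.range g) = ⊤ := by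
  by_contra hne
  obtain ⟨p, hp, hle⟩ := Ideal.exists_le_maximal _ hne
  haveI := hp.isPrime
  obtain ⟨x, hxV, hx⟩ := exists_point hV p
  obtain ⟨i, hi⟩ := hcov x hxV
  exact (hx (g i)).1 hi (hle (Ideal.subset_span ⟨i, rfl⟩))

variable {N : Type*} [AddCommGroup N] [Module Γ(S, V) N]

include hV in
lemma pow_smul_eq_zero_of_cover (x : N) (g : Γ(S, V))
    (hcov : ∀ y ∈ S.basicOpen g, ∃ h : Γ(S, V), y ∈ S.basicOpen h ∧ ∃ m : ℕ, h ^ m • x = 0) :
    ∃ m : ℕ, g ^ m • x = 0 := by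
  have hg : g ∈ (Ideal.torsionOf Γ(S, V) N x).radical := by
    rw [Ideal.radical_eq_sInf, Ideal.mem_sInf]
    rintro p ⟨hle, hp⟩
    by_contra hgp
    obtain ⟨y, -, hy⟩ := exists_point hV p
    obtain ⟨h, hyh, m, hm⟩ := hcov y ((hy g).2 hgp)
    have : h ^ m ∈ p := hle ((Ideal.mem_torsionOf_iff _ _).2 hm)
    exact (hy h).1 hyh (hp.mem_of_pow_mem m this)
  obtain ⟨m, hm⟩ := hg
  exact ⟨m, (Ideal.mem_torsionOf_iff _ _).1 hm⟩

end Points

section Glue
variable {S : Scheme.{u}} (V : S.Opens) (P : S.Opensᵒᵖ ⥤ AddCommGrpCat.{u})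
  (act : Γ(S, V) → ∀ W : S.Opens, W ≤ V → (P.obj (op W) →+ P.obj (op W)))

/-- restriction -/
abbrev rs {W W' : S.Opens} (h : W' ≤ W) : P.obj (op W) →+ P.obj (op W') := (P.map (homOfLE h).op).hom

lemma rs_rs {W'' W' W : S.Opens} (h : W'' ≤ W') (h' : W' ≤ W) (x : P.obj (op W)) :
    rs P h (rs P h' x) = rs P (h.trans h') x := by
  show ((P.map (homOfLE h').op ≫ P.map (homOfLE h).op)).hom x = _
  rw [← P.map_comp]
  rfl

/-- the hypotheses: a ring action of `Γ(S, V)` on `P|_V` making `P(V) → P(D(h))` a localization -/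
structure Hyp : Prop where
  one : ∀ (W : S.Opens) (hW : W ≤ V) (x : P.obj (op W)), act 1 W hW x = x
  mul : ∀ (a b : Γ(S, V)) (W : S.Opens) (hW : W ≤ V) (x : P.obj (op W)),
    act (a * b) W hW x = act a W hW (act b W hW x)
  add : ∀ (a b : Γ(S, V)) (W : S.Opens) (hW : W ≤ V) (x : P.obj (op W)),
    act (a + b) W hW x = act a W hW x + act b W hW x
  nat : ∀ (a : Γ(S, V)) {W W' : S.Opens} (hW : W ≤ V) (h : W' ≤ W) (x : P.obj (op W)),
    rs P h (act a W hW x) = act a W' (h.trans hW) (rs P h x)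
  inj : ∀ h : Γ(S, V), Function.Injective (act h (S.basicOpen h) (S.basicOpen_le h))
  rep : ∀ (h : Γ(S, V)) (y : P.obj (op (S.basicOpen h))), ∃ (n : ℕ) (x : P.obj (op V)),
    act (h ^ n) (S.basicOpen h) (S.basicOpen_le h) y = rs P (S.basicOpen_le h) x
  ker : ∀ (h : Γ(S, V)) (x : P.obj (op V)), rs P (S.basicOpen_le h) x = 0 →
    ∃ n : ℕ, act (h ^ n) V le_rfl x = 0

variable {V P act} (H : Hyp V P act)

include H in
lemma ac_zero (W : S.Opens) (hW : W ≤ V) (x : P.obj (op W)) : act 0 W hW x = 0 := by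
  have := H.add 0 0 W hW x
  rw [add_zero] at this
  exact left_eq_add.1 this

/-- the module structure on sections -/
@[reducible] noncomputable def mod (W : S.Opens) (hW : W ≤ V) : Module Γ(S, V) (P.obj (op W)) where
  smul a x := act a W hW x
  one_smul x := H.one W hW x
  mul_smul a b x := H.mul a b W hW x
  smul_zero a := map_zero _
  smul_add a x y := map_add _ x y
  add_smul a b x := H.add a b W hW x
  zero_smul x := ac_zero H W hW x

include H in
lemma ac_pow_injective (h : Γ(S, V)) :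
    ∀ n : ℕ, Function.Injective (act (h ^ n) (S.basicOpen h) (S.basicOpen_le h))
  | 0 => by
    intro x y hxy
    rwa [pow_zero, H.one, H.one] at hxy
  | n + 1 => by
    intro x y hxy
    rw [pow_succ, H.mul, H.mul] at hxy
    exact H.inj h (ac_pow_injective h n hxy)

include H in
/-- a section over `V` which is locally zero on `D(g)` is killed by a power of `g` -/
lemma exists_pow_of_locally_zero (hV : IsAffineOpen V) (g : Γ(S, V)) (x : P.obj (op V))
    (hx : Presheaf.equalizerSieve (F := P) (X := op (S.basicOpen g))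
      (rs P (S.basicOpen_le g) x) 0 ∈ Opens.grothendieckTopology S (S.basicOpen g)) :
    ∃ m : ℕ, act (g ^ m) V le_rfl x = 0 := by
  letI := mod H V le_rfl
  apply pow_smul_eq_zero_of_cover hV x g
  intro y hy
  obtain ⟨W, f, hf, hyW⟩ := hx y hy
  obtain ⟨h, hle, hyh⟩ := hV.exists_basicOpen_le ⟨y, hyW⟩ (S.basicOpen_le g hy)
  refine ⟨h, hyh, H.ker h x ?_⟩
  have h1 : rs P (leOfHom f) (rs P (S.basicOpen_le g) x) = rs P (leOfHom f) 0 := hf
  have h2 := congrArg (rs P hle) h1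
  rw [rs_rs, rs_rs, map_zero, map_zero] at h2
  exact h2

variable (𝒢 : Sheaf (Opens.grothendieckTopology S) AddCommGrpCat.{u}) (η : P ⟶ 𝒢.obj)

/-- restriction in the sheaf -/
abbrev rg {W W' : S.Opens} (h : W' ≤ W) : 𝒢.obj.obj (op W) →+ 𝒢.obj.obj (op W') :=
  (𝒢.obj.map (homOfLE h).op).hom

lemma rg_rg {W'' W' W : S.Opens} (h : W'' ≤ W') (h' : W' ≤ W) (x : 𝒢.obj.obj (op W)) :
    rg 𝒢 h (rg 𝒢 h' x) = rg 𝒢 (h.trans h') x := by
  show ((𝒢.obj.map (homOfLE h').op ≫ 𝒢.obj.map (homOfLE h).op)).hom x = _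
  rw [← 𝒢.obj.map_comp]
  rfl

lemma η_rs {W W' : S.Opens} (h : W' ≤ W) (x : P.obj (op W)) :
    (η.app (op W')).hom (rs P h x) = rg 𝒢 h ((η.app (op W)).hom x) :=
  congrArg (fun m => m.hom x) (η.naturality (homOfLE h).op)

include H in
theorem injective_of_hyp (hV : IsAffineOpen V)
    [Presheaf.IsLocallyInjective (Opens.grothendieckTopology S) η] :
    Function.Injective (η.app (op V)).hom := by
  rw [injective_iff_map_eq_zero]
  intro x hx
  have h0 : (η.app (op V)).hom x = (η.app (op V)).hom 0 := by rw [hx, map_zero]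
  have h1 := Presheaf.equalizerSieve_mem (Opens.grothendieckTopology S) η (X := op V) x 0 h0
  have hb : S.basicOpen (1 : Γ(S, V)) = V := Scheme.basicOpen_of_isUnit _ isUnit_one
  have h2 : Presheaf.equalizerSieve (F := P) (X := op (S.basicOpen (1 : Γ(S, V))))
      (rs P (S.basicOpen_le (1 : Γ(S, V))) x) 0 ∈
        Opens.grothendieckTopology S (S.basicOpen (1 : Γ(S, V))) := by
    intro y hy
    obtain ⟨W, f, hf, hyW⟩ := h1 y (S.basicOpen_le _ hy)
    refine ⟨W, homOfLE (by rw [hb]; exact leOfHom f), ?_, hyW⟩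
    have h3 : rs P (leOfHom f) x = rs P (leOfHom f) 0 := hf
    show rs P _ (rs P _ x) = rs P _ 0
    rw [rs_rs, map_zero]
    rw [map_zero] at h3
    exact h3
  obtain ⟨m, hm⟩ := exists_pow_of_locally_zero H hV 1 x h2
  rw [one_pow, H.one] at hm
  exact hm

include H in
theorem surjective_of_hyp (hV : IsAffineOpen V)
    [Presheaf.IsLocallyInjective (Opens.grothendieckTopology S) η]
    [Presheaf.IsLocallySurjective (Opens.grothendieckTopology S) η] :
    Function.Surjective (η.app (op V)).hom := by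
  classical
  intro t
  letI := mod H V le_rfl
  have hloc := Presheaf.imageSieve_mem (Opens.grothendieckTopology S) η (U := op V) t
  have hy : ∀ y : (V : Set S), ∃ (h : Γ(S, V)) (n : ℕ) (x : P.obj (op V))
      (s : P.obj (op (S.basicOpen h))),
      y.1 ∈ S.basicOpen h ∧ (η.app _).hom s = rg 𝒢 (S.basicOpen_le h) t ∧
        act (h ^ n) _ (S.basicOpen_le h) s = rs P (S.basicOpen_le h) x := by
    rintro ⟨y, hyV⟩
    obtain ⟨W, f, ⟨s, hs⟩, hyW⟩ := hloc y hyV
    obtain ⟨h, hle, hyh⟩ := hV.exists_basicOpen_le ⟨y, hyW⟩ hyV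
    obtain ⟨n, x, hx⟩ := H.rep h (rs P hle s)
    refine ⟨h, n, x, rs P hle s, hyh, ?_, hx⟩
    rw [η_rs]
    have hs' : (η.app (op W)).hom s = rg 𝒢 (leOfHom f) t := hs
    rw [hs', rg_rg]
  choose h n x s hyh hηs hx using hy
  obtain ⟨T, hT⟩ := hV.isCompact.elim_nhds_subcover' (fun y hy => (S.basicOpen (h ⟨y, hy⟩) : Set S))
    (fun y hy => (S.basicOpen (h ⟨y, hy⟩)).isOpen.mem_nhds (hyh ⟨y, hy⟩))
  let g : T → Γ(S, V) := fun i => h i.1
  have hcov : ∀ y ∈ V, ∃ i : T, y ∈ S.basicOpen (g i) := by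
    intro y hyV
    have := hT hyV
    simp only [Set.mem_iUnion] at this
    obtain ⟨z, hz, hyz⟩ := this
    exact ⟨⟨z, hz⟩, hyz⟩
  have hspan := span_eq_top_of_cover hV g hcov
  let K : ℕ := Finset.univ.sup (fun i : T => n i.1)
  have hK : ∀ i : T, n i.1 ≤ K := fun i =>
    Finset.le_sup (f := fun i : T => n i.1) (Finset.mem_univ i)
  obtain ⟨x', hx'def⟩ : ∃ x' : T → P.obj (op V),
      ∀ i, x' i = act (g i ^ (K - n i.1)) V le_rfl (x i.1) := ⟨_, fun _ => rfl⟩
  have hx' : ∀ i : T, act (g i ^ K) _ (S.basicOpen_le (g i)) (s i.1) =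
      rs P (S.basicOpen_le (g i)) (x' i) := by
    intro i
    have e : g i ^ K = g i ^ (K - n i.1) * g i ^ n i.1 := by
      rw [← pow_add, Nat.sub_add_cancel (hK i)]
    rw [e, H.mul, hx i.1, hx'def, H.nat]
  -- the overlaps
  have hov : ∀ i j : T, ∃ m : ℕ, (g i * g j) ^ m • (g j ^ K • x' i - g i ^ K • x' j) = 0 := by
    intro i j
    apply exists_pow_of_locally_zero H hV (g i * g j)
    have hle_i : S.basicOpen (g i * g j) ≤ S.basicOpen (g i) := by
      rw [Scheme.basicOpen_mul]; exact inf_le_left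
    have hle_j : S.basicOpen (g i * g j) ≤ S.basicOpen (g j) := by
      rw [Scheme.basicOpen_mul]; exact inf_le_right
    have heq : (η.app _).hom (rs P hle_i (s i.1)) = (η.app _).hom (rs P hle_j (s j.1)) := by
      rw [η_rs, η_rs, hηs, hηs, rg_rg, rg_rg]
    have hsv := Presheaf.equalizerSieve_mem (Opens.grothendieckTopology S) η
      (X := op (S.basicOpen (g i * g j))) _ _ heq
    refine (Opens.grothendieckTopology S).superset_covering ?_ hsv
    intro W f hf
    have hWV : W ≤ V := (leOfHom f).trans (S.basicOpen_le _)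
    have hf' : rs P (leOfHom f) (rs P hle_i (s i.1)) = rs P (leOfHom f) (rs P hle_j (s j.1)) := hf
    rw [rs_rs, rs_rs] at hf'
    show rs P (leOfHom f) (rs P (S.basicOpen_le _) (g j ^ K • x' i - g i ^ K • x' j)) =
      rs P (leOfHom f) 0
    rw [rs_rs, map_zero, map_sub, sub_eq_zero]
    show rs P _ (act (g j ^ K) V le_rfl (x' i)) = rs P _ (act (g i ^ K) V le_rfl (x' j))
    rw [H.nat, H.nat]
    have e1 : rs P ((leOfHom f).trans (S.basicOpen_le _)) (x' i) =
        rs P ((leOfHom f).trans hle_i) (rs P (S.basicOpen_le (g i)) (x' i)) := by rw [rs_rs]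
    have e2 : rs P ((leOfHom f).trans (S.basicOpen_le _)) (x' j) =
        rs P ((leOfHom f).trans hle_j) (rs P (S.basicOpen_le (g j)) (x' j)) := by rw [rs_rs]
    rw [e1, e2, ← hx', ← hx', H.nat, H.nat, hf', ← H.mul, ← H.mul, mul_comm]
  obtain ⟨z, hz⟩ := GlueAlg.glue g hspan K x' hov
  refine ⟨z, ?_⟩
  -- `η z` and `t` agree locally
  refine (Sheaf.isSeparated 𝒢) V (Presheaf.equalizerSieve (F := 𝒢.obj) (X := op V)
    ((η.app (op V)).hom z) t) ?_ _ _ (fun W f hf => hf)
  intro y hyV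
  obtain ⟨i, hi⟩ := hcov y hyV
  refine ⟨S.basicOpen (g i), homOfLE (S.basicOpen_le _), ?_, hi⟩
  show rg 𝒢 (S.basicOpen_le _) ((η.app (op V)).hom z) = rg 𝒢 (S.basicOpen_le _) t
  rw [← η_rs, ← hηs]
  congr 1
  obtain ⟨m, hm⟩ := hz i
  apply ac_pow_injective H (g i) K
  rw [hx' i]
  apply ac_pow_injective H (g i) m
  have hm' : act (g i ^ m) V le_rfl (act (g i ^ K) V le_rfl z - x' i) = 0 := hm
  have := congrArg (rs P (S.basicOpen_le (g i))) hm'
  rw [H.nat, map_sub, map_zero, H.nat, map_sub, sub_eq_zero] at this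
  exact this

include H in
theorem bijective_of_hyp (hV : IsAffineOpen V)
    [Presheaf.IsLocallyInjective (Opens.grothendieckTopology S) η]
    [Presheaf.IsLocallySurjective (Opens.grothendieckTopology S) η] :
    Function.Bijective (η.app (op V)).hom :=
  ⟨injective_of_hyp H 𝒢 η hV, surjective_of_hyp H 𝒢 η hV⟩

end Glue

end Groth.Agent.Helper13.BasisGlueRel
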