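import Mathlib
import Groth.Prelude.Def_CohTop
import Groth.Prelude.Def_RDerDelta
import Groth.Agent.Lib.Helper13.DeltaPsh
import Groth.Agent.Lib.Helper13.LerayZero
import Groth.Agent.Lib.Helper13.RpushShf
import Groth.Agent.Lib.Helper13.RestrCoh
import Groth.Agent.Lib.Helper13.ResBij

universe w v u v' u'
set_option linter.unusedSectionVars false
open CategoryTheory CategoryTheory.Limits Opposite

namespace Groth.Agent.Helper13.ResCompare

open Groth.Agent.Helper24.CechH Groth.Agent.Helper13.DeltaPsh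

section Generic
variable {A : Type u} [Category.{v} A] [Abelian A] [EnoughInjectives A]
  (T T' : DeltaF.CohDeltaFunctor A AddCommGrpCat.{w} ℕ) (τ : T ⟶ T')

/-- the short exact sequence `0 → F → I → I/F → 0` -/
noncomputable abbrev ses (F : A) : ShortComplex A :=
  ShortComplex.mk (Injective.ι F) (cokernel.π (Injective.ι F)) (cokernel.condition _)

lemma ses_shortExact (F : A) : (ses F).ShortExact :=
  { exact := ShortComplex.exact_cokernel (Injective.ι F)
    mono_f := inferInstanceAs (Mono (Injective.ι F))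
    epi_g := inferInstanceAs (Epi (cokernel.π (Injective.ι F))) }

lemma τ_nat (n : ℕ) {F G : A} (φ : F ⟶ G) (x : (T.F n).obj F) :
    ((τ.app n).app G).hom (((T.F n).map φ).hom x) =
      ((T'.F n).map φ).hom (((τ.app n).app F).hom x) :=
  congrArg (fun m => m.hom x) ((τ.app n).naturality φ)

lemma τ_δ (S : ShortComplex A) (hS : S.ShortExact) (n : ℕ) (x : (T.F n).obj S.X₃) :
    ((τ.app (n + 1)).app S.X₁).hom ((T.δ S hS n (n + 1) rfl).hom x) =
      (T'.δ S hS n (n + 1) rfl).hom (((τ.app n).app S.X₃).hom x) :=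
  congrArg (fun m => m.hom x) (τ.comm S hS n (n + 1) rfl)

/-- a morphism of effaceable δ-functors which is bijective in degree zero is bijective -/
theorem bijective_of_zero
    (hT : ∀ (n : ℕ) (I : A), Injective I → Subsingleton ((T.F (n + 1)).obj I))
    (hT' : ∀ (n : ℕ) (I : A), Injective I → Subsingleton ((T'.F (n + 1)).obj I))
    (h0 : ∀ F : A, Function.Bijective ((τ.app 0).app F).hom) :
    ∀ (n : ℕ) (F : A), Function.Bijective ((τ.app n).app F).hom
  | 0, F => h0 F
  | 1, F => by
    have hS := ses_shortExact F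
    let S := ses F
    have hI : Injective S.X₂ := Injective.injective_under F
    have s1 := LerayZero.δ_surjective T S hS 0 (hT 0 _ hI)
    have s2 := LerayZero.δ_surjective T' S hS 0 (hT' 0 _ hI)
    have k1 := LerayZero.δ_ker T S hS 0
    have k2 := LerayZero.δ_ker T' S hS 0
    constructor
    · rw [injective_iff_map_eq_zero]
      intro z hz
      obtain ⟨y, rfl⟩ := s1 z
      have h1 := τ_δ T T' τ S hS 0 y
      rw [hz] at h1
      obtain ⟨x', hx'⟩ := (k2 _).1 h1.symm
      obtain ⟨x, rfl⟩ := (h0 S.X₂).2 x'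
      have h2 := τ_nat T T' τ 0 S.g x
      have h3 : y = ((T.F 0).map S.g).hom x := by
        apply (h0 S.X₃).1
        rw [h2]
        exact hx'.symm
      exact (k1 y).2 ⟨x, h3.symm⟩
    · intro z'
      obtain ⟨y', rfl⟩ := s2 z'
      obtain ⟨y, rfl⟩ := (h0 S.X₃).2 y'
      exact ⟨_, τ_δ T T' τ S hS 0 y⟩
  | n + 2, F => by
    have hS := ses_shortExact F
    let S := ses F
    have hI : Injective S.X₂ := Injective.injective_under F
    have b1 := LerayZero.δ_bijective T S hS (n + 1) (hT n _ hI) (hT (n + 1) _ hI)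
    have b2 := LerayZero.δ_bijective T' S hS (n + 1) (hT' n _ hI) (hT' (n + 1) _ hI)
    have ih := bijective_of_zero hT hT' h0 (n + 1) S.X₃
    constructor
    · rw [injective_iff_map_eq_zero]
      intro z hz
      obtain ⟨y, rfl⟩ := b1.2 z
      have h1 := τ_δ T T' τ S hS (n + 1) y
      rw [hz] at h1
      have h2 : ((τ.app (n + 1)).app S.X₃).hom y = 0 := by
        apply b2.1
        rw [← h1, map_zero]
      have h3 : y = 0 := by
        apply ih.1
        rw [map_zero]
        exact h2
      rw [h3, map_zero]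
    · intro z'
      obtain ⟨y', rfl⟩ := b2.2 z'
      obtain ⟨y, rfl⟩ := ih.2 y'
      exact ⟨_, τ_δ T T' τ S hS (n + 1) y⟩

end Generic

section Eval
variable {A : Type u} [Category.{v} A] [Abelian A] [EnoughInjectives A] {D : Type u'} [Category.{v'} D]
  (T T' : DeltaF.CohDeltaFunctor A (Dᵒᵖ ⥤ AddCommGrpCat.{w}) ℕ) (τ : T ⟶ T') (d : Dᵒᵖ)

/-- evaluate a presheaf-valued δ-functor at an object -/
noncomputable abbrev evT : DeltaF.CohDeltaFunctor A AddCommGrpCat.{w} ℕ :=
  postcomp T ((evaluation Dᵒᵖ AddCommGrpCat.{w}).obj d)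

/-- evaluate a morphism of presheaf-valued δ-functors at an object -/
noncomputable def evHom : evT T d ⟶ evT T' d where
  app n := Functor.whiskerRight (τ.app n) ((evaluation Dᵒᵖ AddCommGrpCat.{w}).obj d)
  comm S hS n₀ n₁ h := by
    ext x
    exact congrArg (fun m => (m.app d).hom x) (τ.comm S hS n₀ n₁ h)

theorem bijective_of_zero_psh
    (hT : ∀ (n : ℕ) (I : A), Injective I → Subsingleton (((T.F (n + 1)).obj I).obj d))
    (hT' : ∀ (n : ℕ) (I : A), Injective I → Subsingleton (((T'.F (n + 1)).obj I).obj d))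
    (h0 : ∀ F : A, Function.Bijective (((τ.app 0).app F).app d).hom) :
    ∀ (n : ℕ) (F : A), Function.Bijective (((τ.app n).app F).app d).hom :=
  bijective_of_zero (evT T d) (evT T' d) (evHom T T' τ d) hT hT' h0

end Eval

section Top
open TopologicalSpace Groth.Agent.Helper24.Flasque
variable {X : TopCat.{u}} (U : Opens X)

/-- `F ↦ (W ↦ H^n(W, F))` -/
noncomputable abbrev T₁ (X : TopCat.{u}) :
    DeltaF.CohDeltaFunctor (CohTop.Ab X) ((Opens X)ᵒᵖ ⥤ AddCommGrpCat.{u}) ℕ :=
  RpushShf.Tpsh (Opens.grothendieckTopology X) (𝟭 (Opens X))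

/-- `F ↦ (W ↦ H^n(W ∩ U, F|_U))` -/
noncomputable abbrev T₂ :
    DeltaF.CohDeltaFunctor (CohTop.Ab X) ((Opens X)ᵒᵖ ⥤ AddCommGrpCat.{u}) ℕ :=
  comap (CohTop.restrFunctor U)
    (RpushShf.Tpsh (Opens.grothendieckTopology (TopCat.of U)) (Opens.map (RestrCoh.incl U)))

lemma T₁_universal : (T₁ X).IsUniversal := by
  apply Groth.Agent.S6773.result
  apply effaceable_of_injective
  intro n I hI
  apply Functor.isZero
  intro V
  have : Subsingleton (Abelian.Ext ((𝟭 (Opens X) ⋙ RpushShf.Yfree (Opens.grothendieckTopology X)).obj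
      V.unop) I (n + 1)) := Abelian.Ext.subsingleton_of_injective _ _ n
  exact AddCommGrpCat.isZero_of_subsingleton
    (AddCommGrpCat.of (Abelian.Ext ((𝟭 (Opens X) ⋙
      RpushShf.Yfree (Opens.grothendieckTopology X)).obj V.unop) I (n + 1)))

lemma image_preimage_le (W : Opens X) :
    (RestrCoh.jU U).obj ((Opens.map (RestrCoh.incl U)).obj W) ≤ W := by
  rintro _ ⟨x, hx, rfl⟩
  exact hx

lemma le_image_preimage {W : Opens X} (hW : W ≤ U) :
    W ≤ (RestrCoh.jU U).obj ((Opens.map (RestrCoh.incl U)).obj W) := by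
  intro x hx
  exact ⟨⟨x, hW hx⟩, hx, rfl⟩

/-- restriction of sections `F(W) → F(W ∩ U)` -/
noncomputable def ρ : sheafToPresheaf (Opens.grothendieckTopology X) AddCommGrpCat.{u} ⋙
      (Functor.whiskeringLeft _ _ _).obj (𝟭 (Opens X)).op ⟶
    CohTop.restrFunctor U ⋙ sheafToPresheaf (Opens.grothendieckTopology (TopCat.of U))
      AddCommGrpCat.{u} ⋙ (Functor.whiskeringLeft _ _ _).obj (Opens.map (RestrCoh.incl U)).op where
  app F :=
    { app := fun W => F.obj.map (homOfLE (image_preimage_le U W.unop)).op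
      naturality := fun W W' g => by
        show F.obj.map g ≫ F.obj.map _ = F.obj.map _ ≫ F.obj.map _
        rw [← F.obj.map_comp, ← F.obj.map_comp]
        congr 1 }
  naturality F G φ := by
    ext W x
    exact (congrArg (fun m => m.hom x)
      (φ.hom.naturality (homOfLE (image_preimage_le U W.unop)).op)).symm

/-- the degree zero comparison -/
noncomputable def τ₀ : (T₁ X).F 0 ⟶ (T₂ U).F 0 :=
  (RpushShf.β (Opens.grothendieckTopology X) (𝟭 (Opens X))).inv ≫ ρ U ≫
    Functor.whiskerLeft (CohTop.restrFunctor U)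
      (RpushShf.β (Opens.grothendieckTopology (TopCat.of U)) (Opens.map (RestrCoh.incl U))).hom

lemma τ₀_bijective (F : CohTop.Ab X) {W : Opens X} (hW : W ≤ U) :
    Function.Bijective (((τ₀ U).app F).app (op W)).hom := by
  haveI : IsIso (homOfLE (image_preimage_le U W)) :=
    ⟨homOfLE (le_image_preimage U hW), Subsingleton.elim _ _, Subsingleton.elim _ _⟩
  have h2 : IsIso (((ρ U).app F).app (op W)) := by
    show IsIso (F.obj.map (homOfLE (image_preimage_le U W)).op)
    infer_instance
  have h1 : IsIso (((RpushShf.β (Opens.grothendieckTopology X) (𝟭 (Opens X))).inv.app F).app (op W)) :=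
    (((RpushShf.β (Opens.grothendieckTopology X) (𝟭 (Opens X))).symm.app F).app (op W)).isIso_hom
  have h3 : IsIso ((((CohTop.restrFunctor U).whiskerLeft
      (RpushShf.β (Opens.grothendieckTopology (TopCat.of U))
        (Opens.map (RestrCoh.incl U))).hom).app F).app (op W)) :=
    (((RpushShf.β (Opens.grothendieckTopology (TopCat.of U))
      (Opens.map (RestrCoh.incl U))).app ((CohTop.restrFunctor U).obj F)).app (op W)).isIso_hom
  haveI : IsIso (((τ₀ U).app F).app (op W)) := by
    unfold τ₀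
    rw [NatTrans.comp_app, NatTrans.comp_app, NatTrans.comp_app, NatTrans.comp_app]
    exact @IsIso.comp_isIso _ _ _ _ _ _ _ h1 (@IsIso.comp_isIso _ _ _ _ _ _ _ h2 h3)
  exact ConcreteCategory.bijective_of_isIso _

/-- the comparison `H^n(W, F) → H^n(W ∩ U, F|_U)`, bijective for `W ≤ U` -/
theorem exists_compare : ∃ τ : T₁ X ⟶ T₂ U, ∀ (n : ℕ) (F : CohTop.Ab X) (W : Opens X), W ≤ U →
    Function.Bijective (((τ.app n).app F).app (op W)).hom := by
  obtain ⟨τ, hτ, -⟩ := T₁_universal (X := X) (T₂ U) (τ₀ U)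
  refine ⟨τ, fun n F W hW => ?_⟩
  refine bijective_of_zero_psh (T₁ X) (T₂ U) τ (op W) ?_ ?_ ?_ n F
  · intro n I hI
    exact Abelian.Ext.subsingleton_of_injective _ _ n
  · intro n I hI
    haveI := hI
    have h1 : TopCat.Sheaf.IsFlasque I := isFlasque_of_injective I
    have h2 := RestrCoh.isFlasque_restr U I
    exact HU_succ_subsingleton n _ h2 ((Opens.map (RestrCoh.incl U)).obj W)
  · intro F
    rw [hτ]
    exact τ₀_bijective U F hW

end Top

end Groth.Agent.Helper13.ResCompare
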