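import Mathlib
import Groth.Agent.Lib.Helper13.GlueAlg

universe u
set_option linter.unusedSectionVars false
open CategoryTheory CategoryTheory.Limits Opposite TopologicalSpace AlgebraicGeometry

namespace Groth.Agent.Helper13.BasisGlue

section Points
variable {S : Scheme.{u}} [IsAffine S]

lemma exists_point (p : Ideal Γ(S, ⊤)) [hp : p.IsPrime] :
    ∃ x : S, ∀ h : Γ(S, ⊤), x ∈ S.basicOpen h ↔ h ∉ p := by
  have hS := isAffineOpen_top S
  refine ⟨hS.fromSpec.base ⟨p, hp⟩, fun h => ?_⟩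
  have h1 := hS.fromSpec_preimage_basicOpen h
  have h2 : hS.fromSpec.base ⟨p, hp⟩ ∈ S.basicOpen h ↔
      (⟨p, hp⟩ : PrimeSpectrum Γ(S, ⊤)) ∈ hS.fromSpec ⁻¹ᵁ S.basicOpen h := Iff.rfl
  rw [h2, h1]
  exact PrimeSpectrum.mem_basicOpen _ _

lemma span_eq_top_of_cover {ι : Type*} (g : ι → Γ(S, ⊤))
    (hcov : ∀ x : S, ∃ i, x ∈ S.basicOpen (g i)) : Ideal.span (Set.range g) = ⊤ := by
  by_contra hne
  obtain ⟨p, hp, hle⟩ := Ideal.exists_le_maximal _ hne
  haveI := hp.isPrime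
  obtain ⟨x, hx⟩ := exists_point p
  obtain ⟨i, hi⟩ := hcov x
  exact (hx (g i)).1 hi (hle (Ideal.subset_span ⟨i, rfl⟩))

variable {N : Type*} [AddCommGroup N] [Module Γ(S, ⊤) N]

lemma pow_smul_eq_zero_of_cover (x : N) (g : Γ(S, ⊤))
    (hcov : ∀ y ∈ S.basicOpen g, ∃ h : Γ(S, ⊤), y ∈ S.basicOpen h ∧ ∃ m : ℕ, h ^ m • x = 0) :
    ∃ m : ℕ, g ^ m • x = 0 := by
  have hg : g ∈ (Ideal.torsionOf Γ(S, ⊤) N x).radical := by
    rw [Ideal.radical_eq_sInf, Ideal.mem_sInf]
    rintro p ⟨hle, hp⟩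
    by_contra hgp
    obtain ⟨y, hy⟩ := exists_point p
    obtain ⟨h, hyh, m, hm⟩ := hcov y ((hy g).2 hgp)
    have : h ^ m ∈ p := hle ((Ideal.mem_torsionOf_iff _ _).2 hm)
    exact (hy h).1 hyh (hp.mem_of_pow_mem m this)
  obtain ⟨m, hm⟩ := hg
  exact ⟨m, (Ideal.mem_torsionOf_iff _ _).1 hm⟩

end Points

section Glue
variable {S : Scheme.{u}} (P : S.Opensᵒᵖ ⥤ AddCommGrpCat.{u}) (act : Γ(S, ⊤) → (P ⟶ P))

/-- restriction -/
abbrev rs {V W : S.Opens} (h : V ≤ W) : P.obj (op W) →+ P.obj (op V) := (P.map (homOfLE h).op).hom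

/-- action -/
abbrev ac (a : Γ(S, ⊤)) (V : S.Opens) : P.obj (op V) →+ P.obj (op V) := ((act a).app (op V)).hom

lemma rs_rs {V W Z : S.Opens} (h : V ≤ W) (h' : W ≤ Z) (x : P.obj (op Z)) :
    rs P h (rs P h' x) = rs P (h.trans h') x := by
  show ((P.map (homOfLE h').op ≫ P.map (homOfLE h).op)).hom x = _
  rw [← P.map_comp]
  rfl

lemma rs_ac (a : Γ(S, ⊤)) {V W : S.Opens} (h : V ≤ W) (x : P.obj (op W)) :
    rs P h (ac P act a W x) = ac P act a V (rs P h x) :=
  (congrArg (fun m => m.hom x) ((act a).naturality (homOfLE h).op)).symm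

/-- the hypotheses: a ring action making `P(⊤) → P(D(h))` a localization at `h` -/
structure Hyp : Prop where
  one : act 1 = 𝟙 P
  mul : ∀ a b, act (a * b) = act b ≫ act a
  add : ∀ a b, act (a + b) = act a + act b
  inj : ∀ h : Γ(S, ⊤), Function.Injective (ac P act h (S.basicOpen h))
  rep : ∀ (h : Γ(S, ⊤)) (y : P.obj (op (S.basicOpen h))), ∃ (n : ℕ) (x : P.obj (op ⊤)),
    ac P act (h ^ n) (S.basicOpen h) y = rs P le_top x
  ker : ∀ (h : Γ(S, ⊤)) (x : P.obj (op ⊤)), rs P (le_top : S.basicOpen h ≤ ⊤) x = 0 →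
    ∃ n : ℕ, ac P act (h ^ n) ⊤ x = 0

variable {P act} (H : Hyp P act)

include H in
lemma ac_zero (V : S.Opens) (x : P.obj (op V)) : ac P act 0 V x = 0 := by
  have h1 : act 0 = 0 := by
    have := H.add 0 0
    rw [add_zero] at this
    exact left_eq_add.1 this
  show ((act 0).app (op V)).hom x = 0
  rw [h1]
  rfl

/-- the module structure on sections -/
@[reducible] noncomputable def mod (V : S.Opens) : Module Γ(S, ⊤) (P.obj (op V)) where
  smul a x := ac P act a V x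
  one_smul x := by
    show ((act 1).app (op V)).hom x = x
    rw [H.one]
    rfl
  mul_smul a b x := by
    show ((act (a * b)).app (op V)).hom x = ((act a).app (op V)).hom (((act b).app (op V)).hom x)
    rw [H.mul]
    rfl
  smul_zero a := map_zero _
  smul_add a x y := map_add _ x y
  add_smul a b x := by
    show ((act (a + b)).app (op V)).hom x = _
    rw [H.add]
    rfl
  zero_smul x := ac_zero H V x

include H in
lemma ac_pow_injective (h : Γ(S, ⊤)) : ∀ n : ℕ, Function.Injective (ac P act (h ^ n) (S.basicOpen h))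
  | 0 => by
    intro x y hxy
    have e : ∀ z, ac P act (h ^ 0) (S.basicOpen h) z = z := fun z => by
      show ((act (h ^ 0)).app _).hom z = z
      rw [pow_zero, H.one]
      rfl
    rwa [e, e] at hxy
  | n + 1 => by
    intro x y hxy
    have e : ∀ z, ac P act (h ^ (n + 1)) (S.basicOpen h) z =
        ac P act (h ^ n) (S.basicOpen h) (ac P act h (S.basicOpen h) z) := fun z => by
      show ((act (h ^ (n + 1))).app _).hom z = _
      rw [pow_succ, H.mul]
      rfl
    rw [e, e] at hxy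
    exact H.inj h (ac_pow_injective h n hxy)

include H in
/-- a global section which is locally zero on `D(g)` is killed by a power of `g` -/
lemma exists_pow_of_locally_zero [IsAffine S] (g : Γ(S, ⊤)) (x : P.obj (op ⊤))
    (hx : Presheaf.equalizerSieve (F := P) (X := op (S.basicOpen g))
      (rs P (le_top : S.basicOpen g ≤ ⊤) x) 0 ∈ Opens.grothendieckTopology S (S.basicOpen g)) :
    ∃ m : ℕ, ac P act (g ^ m) ⊤ x = 0 := by
  letI := mod H ⊤
  apply pow_smul_eq_zero_of_cover x g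
  intro y hy
  obtain ⟨V, f, hf, hyV⟩ := hx y hy
  obtain ⟨h, hle, hyh⟩ := (isAffineOpen_top S).exists_basicOpen_le ⟨y, hyV⟩ (trivial : y ∈ (⊤ : S.Opens))
  refine ⟨h, hyh, H.ker h x ?_⟩
  have h1 : rs P (leOfHom f) (rs P (le_top : S.basicOpen g ≤ ⊤) x) = rs P (leOfHom f) 0 := hf
  have h2 := congrArg (rs P hle) h1
  rw [rs_rs, rs_rs, map_zero, map_zero] at h2
  exact h2

variable [IsAffine S] (𝒢 : Sheaf (Opens.grothendieckTopology S) AddCommGrpCat.{u}) (η : P ⟶ 𝒢.obj)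

/-- restriction in the sheaf -/
abbrev rg {V W : S.Opens} (h : V ≤ W) : 𝒢.obj.obj (op W) →+ 𝒢.obj.obj (op V) :=
  (𝒢.obj.map (homOfLE h).op).hom

lemma rg_rg {V W Z : S.Opens} (h : V ≤ W) (h' : W ≤ Z) (x : 𝒢.obj.obj (op Z)) :
    rg 𝒢 h (rg 𝒢 h' x) = rg 𝒢 (h.trans h') x := by
  show ((𝒢.obj.map (homOfLE h').op ≫ 𝒢.obj.map (homOfLE h).op)).hom x = _
  rw [← 𝒢.obj.map_comp]
  rfl

lemma η_rs {V W : S.Opens} (h : V ≤ W) (x : P.obj (op W)) :
    (η.app (op V)).hom (rs P h x) = rg 𝒢 h ((η.app (op W)).hom x) :=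
  congrArg (fun m => m.hom x) (η.naturality (homOfLE h).op)

include H in
theorem injective_of_hyp [Presheaf.IsLocallyInjective (Opens.grothendieckTopology S) η] :
    Function.Injective (η.app (op ⊤)).hom := by
  rw [injective_iff_map_eq_zero]
  intro x hx
  have h0 : (η.app (op ⊤)).hom x = (η.app (op ⊤)).hom 0 := by rw [hx, map_zero]
  have h1 := Presheaf.equalizerSieve_mem (Opens.grothendieckTopology S) η (X := op ⊤) x 0 h0
  have hb : S.basicOpen (1 : Γ(S, ⊤)) = ⊤ := Scheme.basicOpen_of_isUnit _ isUnit_one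
  have h2 : Presheaf.equalizerSieve (F := P) (X := op (S.basicOpen (1 : Γ(S, ⊤))))
      (rs P (le_top : S.basicOpen (1 : Γ(S, ⊤)) ≤ ⊤) x) 0 ∈
        Opens.grothendieckTopology S (S.basicOpen (1 : Γ(S, ⊤))) := by
    intro y hy
    obtain ⟨V, f, hf, hyV⟩ := h1 y trivial
    refine ⟨V, homOfLE (by rw [hb]; exact le_top), ?_, hyV⟩
    have h3 : rs P (leOfHom f) x = rs P (leOfHom f) 0 := hf
    show rs P _ (rs P _ x) = rs P _ 0
    rw [rs_rs, map_zero]
    rw [map_zero] at h3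
    exact h3
  obtain ⟨m, hm⟩ := exists_pow_of_locally_zero H 1 x h2
  have e : ac P act ((1 : Γ(S, ⊤)) ^ m) ⊤ x = x := by
    show ((act ((1 : Γ(S, ⊤)) ^ m)).app _).hom x = x
    rw [one_pow, H.one]
    rfl
  rw [← e, hm]

include H in
lemma ac_mul_apply (a b : Γ(S, ⊤)) (V : S.Opens) (x : P.obj (op V)) :
    ac P act (a * b) V x = ac P act a V (ac P act b V x) := by
  show ((act (a * b)).app (op V)).hom x = _
  rw [H.mul]
  rfl

include H in
theorem surjective_of_hyp [Presheaf.IsLocallyInjective (Opens.grothendieckTopology S) η]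
    [Presheaf.IsLocallySurjective (Opens.grothendieckTopology S) η] :
    Function.Surjective (η.app (op ⊤)).hom := by
  classical
  intro t
  letI := mod H ⊤
  have hloc := Presheaf.imageSieve_mem (Opens.grothendieckTopology S) η (U := op ⊤) t
  have hy : ∀ y : S, ∃ (h : Γ(S, ⊤)) (n : ℕ) (x : P.obj (op ⊤)) (s : P.obj (op (S.basicOpen h))),
      y ∈ S.basicOpen h ∧ (η.app _).hom s = rg 𝒢 le_top t ∧
        ac P act (h ^ n) _ s = rs P le_top x := by
    intro y
    obtain ⟨V, f, ⟨s, hs⟩, hyV⟩ := hloc y trivial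
    obtain ⟨h, hle, hyh⟩ := (isAffineOpen_top S).exists_basicOpen_le ⟨y, hyV⟩
      (trivial : y ∈ (⊤ : S.Opens))
    obtain ⟨n, x, hx⟩ := H.rep h (rs P hle s)
    refine ⟨h, n, x, rs P hle s, hyh, ?_, hx⟩
    rw [η_rs]
    have hs' : (η.app (op V)).hom s = rg 𝒢 (leOfHom f) t := hs
    rw [hs', rg_rg]
  choose h n x s hyh hηs hx using hy
  obtain ⟨T, hT⟩ := CompactSpace.elim_nhds_subcover (fun y => (S.basicOpen (h y) : Set S))
    (fun y => (S.basicOpen (h y)).isOpen.mem_nhds (hyh y))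
  let g : T → Γ(S, ⊤) := fun i => h i
  have hcov : ∀ y : S, ∃ i : T, y ∈ S.basicOpen (g i) := by
    intro y
    have : y ∈ ⋃ z ∈ T, (S.basicOpen (h z) : Set S) := by rw [hT]; trivial
    simp only [Set.mem_iUnion] at this
    obtain ⟨z, hz, hyz⟩ := this
    exact ⟨⟨z, hz⟩, hyz⟩
  have hspan := span_eq_top_of_cover g hcov
  let K : ℕ := Finset.univ.sup (fun i : T => n i)
  have hK : ∀ i : T, n i ≤ K := fun i => Finset.le_sup (f := fun i : T => n i) (Finset.mem_univ i)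
  obtain ⟨x', hx'def⟩ : ∃ x' : T → P.obj (op ⊤),
      ∀ i, x' i = ac P act (g i ^ (K - n i)) ⊤ (x i) := ⟨_, fun _ => rfl⟩
  have hx' : ∀ i : T, ac P act (g i ^ K) _ (s i) = rs P le_top (x' i) := by
    intro i
    have e : g i ^ K = g i ^ (K - n i) * g i ^ n i := by rw [← pow_add, Nat.sub_add_cancel (hK i)]
    rw [e, ac_mul_apply H, hx i, hx'def, rs_ac]
  -- the overlaps
  have hov : ∀ i j : T, ∃ m : ℕ, (g i * g j) ^ m • (g j ^ K • x' i - g i ^ K • x' j) = 0 := by
    intro i j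
    apply exists_pow_of_locally_zero H (g i * g j)
    have hle_i : S.basicOpen (g i * g j) ≤ S.basicOpen (g i) := by
      rw [Scheme.basicOpen_mul]; exact inf_le_left
    have hle_j : S.basicOpen (g i * g j) ≤ S.basicOpen (g j) := by
      rw [Scheme.basicOpen_mul]; exact inf_le_right
    have heq : (η.app _).hom (rs P hle_i (s i)) = (η.app _).hom (rs P hle_j (s j)) := by
      rw [η_rs, η_rs, hηs, hηs, rg_rg, rg_rg]
    have hsv := Presheaf.equalizerSieve_mem (Opens.grothendieckTopology S) η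
      (X := op (S.basicOpen (g i * g j))) _ _ heq
    refine (Opens.grothendieckTopology S).superset_covering ?_ hsv
    intro V f hf
    have hf' : rs P (leOfHom f) (rs P hle_i (s i)) = rs P (leOfHom f) (rs P hle_j (s j)) := hf
    rw [rs_rs, rs_rs] at hf'
    show rs P (leOfHom f) (rs P le_top (g j ^ K • x' i - g i ^ K • x' j)) = rs P (leOfHom f) 0
    rw [rs_rs, map_zero, map_sub, sub_eq_zero]
    show rs P _ (ac P act (g j ^ K) ⊤ (x' i)) = rs P _ (ac P act (g i ^ K) ⊤ (x' j))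
    rw [rs_ac, rs_ac]
    have e1 : rs P ((leOfHom f).trans le_top) (x' i) =
        rs P ((leOfHom f).trans hle_i) (rs P le_top (x' i)) := by rw [rs_rs]
    have e2 : rs P ((leOfHom f).trans le_top) (x' j) =
        rs P ((leOfHom f).trans hle_j) (rs P le_top (x' j)) := by rw [rs_rs]
    rw [e1, e2, ← hx', ← hx', rs_ac, rs_ac, hf', ← ac_mul_apply H, ← ac_mul_apply H, mul_comm]
  obtain ⟨z, hz⟩ := GlueAlg.glue g hspan K x' hov
  refine ⟨z, ?_⟩
  -- `η z` and `t` agree locally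
  refine (Sheaf.isSeparated 𝒢) ⊤ (Presheaf.equalizerSieve (F := 𝒢.obj) (X := op ⊤)
    ((η.app (op ⊤)).hom z) t) ?_ _ _ (fun V f hf => hf)
  intro y _
  obtain ⟨i, hi⟩ := hcov y
  refine ⟨S.basicOpen (g i), homOfLE le_top, ?_, hi⟩
  show rg 𝒢 le_top ((η.app (op ⊤)).hom z) = rg 𝒢 le_top t
  rw [← η_rs, ← hηs]
  congr 1
  obtain ⟨m, hm⟩ := hz i
  apply ac_pow_injective H (g i) K
  rw [hx' i]
  apply ac_pow_injective H (g i) m
  have hm' : ac P act (g i ^ m) ⊤ (ac P act (g i ^ K) ⊤ z - x' i) = 0 := hm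
  have := congrArg (rs P (le_top : S.basicOpen (g i) ≤ ⊤)) hm'
  rw [rs_ac, map_sub, map_zero, rs_ac, map_sub, sub_eq_zero] at this
  exact this

include H in
theorem bijective_of_hyp [Presheaf.IsLocallyInjective (Opens.grothendieckTopology S) η]
    [Presheaf.IsLocallySurjective (Opens.grothendieckTopology S) η] :
    Function.Bijective (η.app (op ⊤)).hom :=
  ⟨injective_of_hyp H 𝒢 η, surjective_of_hyp H 𝒢 η⟩

end Glue

end Groth.Agent.Helper13.BasisGlue
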