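import Mathlib
import Groth.Prelude.Def_Coh
import Groth.Agent.Lib.Helper13.BasicOpenRes
import Groth.Agent.Lib.Helper13.BasisGlue
import Groth.Agent.Lib.Helper13.HUTop

universe u
set_option linter.unusedSectionVars false
open CategoryTheory CategoryTheory.Limits Opposite TopologicalSpace AlgebraicGeometry

namespace Groth.Agent.Helper13.RpushGlobal

open Groth.Agent.Helper24.CechH Groth.Agent.Helper13.DeltaPsh Groth.Agent.Helper13.BasicOpenCoh
  Groth.Agent.Helper13.ResBij Groth.Agent.Helper13.BasicOpenRes Groth.Agent.Helper13.BasisGlue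

variable {X S : Scheme.{u}} (f : X ⟶ S) (M : X.Modules) (q : ℕ)

/-- the presheaf `V ↦ H^q(f⁻¹ V, M)` on `S` -/
noncomputable abbrev P : S.Opensᵒᵖ ⥤ AddCommGrpCat.{u} :=
  (Opens.map f.base).op ⋙ (Coh.toAb M).cohomologyPresheaf q

/-- the action of `Γ(S, ⊤)` -/
noncomputable def act (a : Γ(S, ⊤)) : P f M q ⟶ P f M q :=
  Functor.whiskerLeft (Opens.map f.base).op
    ((Sheaf.cohomologyPresheafFunctor (Opens.grothendieckTopology X) q).map
      (Coh.smulAb M (f.appTop a)))

lemma act_app (a : Γ(S, ⊤)) (V : S.Opens) :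
    (act f M q a).app (op V) = (HUq (X := X.toTopCat) q (f ⁻¹ᵁ V)).map (Coh.smulAb M (f.appTop a)) :=
  rfl

lemma P_map {V W : S.Opens} (h : V ≤ W) :
    (P f M q).map (homOfLE h).op = rr q (f.preimage_mono h) (Coh.toAb M) := rfl

lemma act_one : act f M q 1 = 𝟙 _ := by
  unfold act
  rw [map_one]
  have : Coh.smulAb M (1 : Γ(X, ⊤)) = 𝟙 _ := Coh.smulAb_one M
  rw [this, CategoryTheory.Functor.map_id]
  rfl

lemma act_mul (a b : Γ(S, ⊤)) : act f M q (a * b) = act f M q b ≫ act f M q a := by
  unfold act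
  rw [map_mul]
  have : Coh.smulAb M (f.appTop a * f.appTop b) =
      Coh.smulAb M (f.appTop b) ≫ Coh.smulAb M (f.appTop a) := Coh.smulAb_mul M _ _
  rw [this, Functor.map_comp]
  rfl

lemma act_add (a b : Γ(S, ⊤)) : act f M q (a + b) = act f M q a + act f M q b := by
  ext V x
  obtain ⟨V⟩ := V
  rw [act_app, map_add]
  have : Coh.smulAb M (f.appTop a + f.appTop b) =
      Coh.smulAb M (f.appTop a) + Coh.smulAb M (f.appTop b) := Coh.smulAb_add M _ _
  rw [this, Functor.map_add]
  rfl

lemma act_pow_app (a : Γ(S, ⊤)) (n : ℕ) (V : S.Opens) :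
    (act f M q (a ^ n)).app (op V) = (HUq (X := X.toTopCat) q (f ⁻¹ᵁ V)).map
      (Coh.smulAb M ((show Coh.Γtop X from f.appTop a) ^ n)) := by
  rw [act_app, map_pow]
  rfl

theorem hyp [QuasiCompact f] [QuasiSeparated f] [IsAffine S] [M.IsQuasicoherent] :
    Hyp (P f M q) (act f M q) := by
  haveI : CompactSpace X := QuasiCompact.compactSpace_of_compactSpace f
  haveI : QuasiSeparatedSpace X := quasiSeparatedSpace_of_quasiSeparated f
  refine ⟨act_one f M q, act_mul f M q, act_add f M q, ?_, ?_, ?_⟩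
  · intro h
    exact (act_bijective (f.appTop h) M q (Scheme.preimage_basicOpen_top f h).le).1
  · intro h y
    obtain ⟨n, x, hx⟩ := exists_pow_smul_eq_res' (f.appTop h) M q
      (Scheme.preimage_basicOpen_top f h) rfl (f.preimage_mono le_top) y
    refine ⟨n, x, ?_⟩
    show ((act f M q (h ^ n)).app (op (S.basicOpen h))).hom y = _
    rw [act_pow_app]
    exact hx
  · intro h x hx
    obtain ⟨n, hn⟩ := exists_pow_smul_eq_zero' (f.appTop h) M q
      (Scheme.preimage_basicOpen_top f h) rfl (f.preimage_mono le_top) x hx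
    refine ⟨n, ?_⟩
    show ((act f M q (h ^ n)).app (op ⊤)).hom x = _
    rw [act_pow_app]
    exact hn

/-- `H^q(X, M) → Γ(S, R^q f_* M)` is bijective for affine `S` -/
theorem toSheafify_bijective [QuasiCompact f] [QuasiSeparated f] [IsAffine S] [M.IsQuasicoherent] :
    Function.Bijective ((toSheafify (Opens.grothendieckTopology S) (P f M q)).app (op ⊤)).hom :=
  bijective_of_hyp (hyp f M q)
    ((presheafToSheaf (Opens.grothendieckTopology S) AddCommGrpCat.{u}).obj (P f M q))
    (toSheafify (Opens.grothendieckTopology S) (P f M q))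

end Groth.Agent.Helper13.RpushGlobal
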