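import Mathlib
import Groth.Prelude.Def_Coh
import Groth.Agent.Lib.Helper13.RpushRelZ
import Groth.Agent.Lib.Helper13.ToAbExact

universe u
set_option linter.unusedSectionVars false
open CategoryTheory CategoryTheory.Limits Opposite TopologicalSpace AlgebraicGeometry

namespace Groth.Agent.Helper13.RpushAct

open Groth.Agent.Helper24.CechH Groth.Agent.Helper13.DeltaPsh Groth.Agent.Helper13.BasicOpenCoh
  Groth.Agent.Helper13.ResBij Groth.Agent.Helper13.BasicOpenRes Groth.Agent.Helper13.BasisGlueRel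
  Groth.Agent.Helper13.ResCompare Groth.Agent.Helper13.RpushRelZ Groth.Agent.Helper13.ToAbExact

section Open
variable {X : Scheme.{u}} (U : X.Opens)

lemma restr_toAb_map {M M' : X.Modules} (ψ : M ⟶ M') :
    (CohTop.restrFunctor (X := X.toTopCat) U).map ((toAbF X).map ψ) =
      (toAbF (U : Scheme.{u})).map ((Scheme.Modules.restrictFunctor U.ι).map ψ) := rfl

lemma σ_natural {M M' : X.Modules} (ψ : M ⟶ M') (a : Γ((U : Scheme.{u}), ⊤)) :
    (CohTop.restrFunctor (X := X.toTopCat) U).map ((toAbF X).map ψ) ≫ σ U M' a =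
      σ U M a ≫ (CohTop.restrFunctor (X := X.toTopCat) U).map ((toAbF X).map ψ) := by
  rw [restr_toAb_map]
  ext W m
  exact ((((Scheme.Modules.restrictFunctor U.ι).map ψ).val.app W).hom.map_smul
    (Coh.resTop (U : Scheme.{u}) W a) m).symm

variable (S : ShortComplex X.Modules)

/-- multiplication by `a` as an endomorphism of the restricted short complex -/
noncomputable def σS (a : Γ((U : Scheme.{u}), ⊤)) :
    (S.map (toAbF X)).map (CohTop.restrFunctor (X := X.toTopCat) U) ⟶
      (S.map (toAbF X)).map (CohTop.restrFunctor (X := X.toTopCat) U) where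
  τ₁ := σ U S.X₁ a
  τ₂ := σ U S.X₂ a
  τ₃ := σ U S.X₃ a
  comm₁₂ := (σ_natural U S.f a).symm
  comm₂₃ := (σ_natural U S.g a).symm

/-- the underlying short complex of abelian sheaves -/
noncomputable abbrev SA : ShortComplex (Sheaf (Opens.grothendieckTopology X) AddCommGrpCat.{u}) :=
  S.map (toAbF X)

lemma SA_shortExact (hS : S.ShortExact) : (SA S).ShortExact := hS.map_of_exact (toAbF X)

/-- the action on `Q` commutes with the connecting maps -/
lemma α_δ (hS : S.ShortExact) (n : ℕ) (a : Γ((U : Scheme.{u}), ⊤)) :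
    α U S.X₃ n a ≫ (T₂ (X := X.toTopCat) U).δ (SA S) (SA_shortExact S hS) n (n + 1) rfl =
      (T₂ (X := X.toTopCat) U).δ (SA S) (SA_shortExact S hS) n (n + 1) rfl ≫
        α U S.X₁ (n + 1) a :=
  (RpushShf.Tpsh (Opens.grothendieckTopology (TopCat.of U))
    (Opens.map (RestrCoh.incl U))).δ_natural
      ((hS.map_of_exact (toAbF X)).map_of_exact (CohTop.restrFunctor (X := X.toTopCat) U))
      ((hS.map_of_exact (toAbF X)).map_of_exact (CohTop.restrFunctor (X := X.toTopCat) U))
      (σS U S a) n (n + 1) rfl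

/-- the comparison commutes with the connecting maps -/
lemma θ_δ (hS : S.ShortExact) (n : ℕ) (W : X.Opens) (x : (PX S.X₃ n).obj (op W)) :
    ((θ U S.X₁ (n + 1)).app (op W)).hom
        ((((T₁ X.toTopCat).δ (SA S) (SA_shortExact S hS) n (n + 1) rfl).app (op W)).hom x) =
      (((T₂ (X := X.toTopCat) U).δ (SA S) (SA_shortExact S hS) n (n + 1) rfl).app (op W)).hom
        (((θ U S.X₃ n).app (op W)).hom x) :=
  congrArg (fun m => (m.app (op W)).hom x) ((τ U).comm (SA S) (SA_shortExact S hS) n (n + 1) rfl)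

lemma α_δ_apply (hS : S.ShortExact) (n : ℕ) (a : Γ((U : Scheme.{u}), ⊤)) (W : X.Opens)
    (y : (Q U S.X₃ n).obj (op W)) :
    (((T₂ (X := X.toTopCat) U).δ (SA S) (SA_shortExact S hS) n (n + 1) rfl).app (op W)).hom
        (((α U S.X₃ n a).app (op W)).hom y) =
      ((α U S.X₁ (n + 1) a).app (op W)).hom
        ((((T₂ (X := X.toTopCat) U).δ (SA S) (SA_shortExact S hS) n (n + 1) rfl).app (op W)).hom y) :=
  congrArg (fun m => (m.app (op W)).hom y) (α_δ U S hS n a)

/-- the transported action commutes with the connecting maps -/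
lemma actX_δ (hS : S.ShortExact) (n : ℕ) (a : Γ((U : Scheme.{u}), ⊤)) (W : X.Opens) (hW : W ≤ U)
    (x : (PX S.X₃ n).obj (op W)) :
    actX U S.X₁ (n + 1) a W hW
        ((((T₁ X.toTopCat).δ (SA S) (SA_shortExact S hS) n (n + 1) rfl).app (op W)).hom x) =
      (((T₁ X.toTopCat).δ (SA S) (SA_shortExact S hS) n (n + 1) rfl).app (op W)).hom
        (actX U S.X₃ n a W hW x) := by
  apply (eθ U S.X₁ (n + 1) W hW).injective
  rw [eθ_actX, eθ_apply, eθ_apply, θ_δ U S hS n W x, θ_δ U S hS n W, ← α_δ_apply U S hS n a W]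
  congr 1
  exact (eθ_actX U S.X₃ n a W hW x).symm

/-- degree zero: sections over opens of `X` -/
noncomputable abbrev βX := RpushShf.β (Opens.grothendieckTopology X.toTopCat) (𝟭 (Opens X.toTopCat))

/-- degree zero: sections over opens of `U` -/
noncomputable abbrev βU :=
  RpushShf.β (Opens.grothendieckTopology (TopCat.of U)) (Opens.map (RestrCoh.incl (X := X.toTopCat) U))

lemma θ_zero (M : X.Modules) : θ U M 0 = (τ₀ (X := X.toTopCat) U).app (Coh.toAb M) := by
  unfold θ
  rw [τ_zero]

lemma θ_zero_apply (M : X.Modules) (W : X.Opens) (s : (Coh.toAb M).obj.obj (op W)) :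
    ((θ U M 0).app (op W)).hom ((((βX (X := X)).hom.app (Coh.toAb M)).app (op W)).hom s) =
      (((βU U).hom.app ((CohTop.restrFunctor (X := X.toTopCat) U).obj (Coh.toAb M))).app (op W)).hom
        (((Coh.toAb M).obj.map (homOfLE (image_preimage_le (X := X.toTopCat) U W)).op).hom s) := by
  rw [θ_zero]
  unfold τ₀
  have h1 : (((βX (X := X)).inv.app (Coh.toAb M)).app (op W)).hom
      ((((βX (X := X)).hom.app (Coh.toAb M)).app (op W)).hom s) = s := by
    have := congrArg (fun m => (m.app (op W)).hom s) ((βX (X := X)).hom_inv_id_app (Coh.toAb M))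
    exact this
  show (((βU U).hom.app ((CohTop.restrFunctor (X := X.toTopCat) U).obj (Coh.toAb M))).app (op W)).hom
    (((Coh.toAb M).obj.map (homOfLE (image_preimage_le (X := X.toTopCat) U W)).op).hom
      ((((βX (X := X)).inv.app (Coh.toAb M)).app (op W)).hom
        ((((βX (X := X)).hom.app (Coh.toAb M)).app (op W)).hom s))) = _
  rw [h1]

lemma α_zero_apply (M : X.Modules) (a : Γ((U : Scheme.{u}), ⊤)) (W : X.Opens)
    (t : ((CohTop.restrFunctor (X := X.toTopCat) U).obj (Coh.toAb M)).obj.obj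
      (op ((Opens.map (RestrCoh.incl (X := X.toTopCat) U)).obj W))) :
    ((α U M 0 a).app (op W)).hom
        ((((βU U).hom.app ((CohTop.restrFunctor (X := X.toTopCat) U).obj (Coh.toAb M))).app (op W)).hom t) =
      (((βU U).hom.app ((CohTop.restrFunctor (X := X.toTopCat) U).obj (Coh.toAb M))).app (op W)).hom
        ((σ U M a).hom.app (op ((Opens.map (RestrCoh.incl (X := X.toTopCat) U)).obj W)) t) :=
  (congrArg (fun m => (m.app (op W)).hom t) ((βU U).hom.naturality (σ U M a))).symm

lemma res_aux (a : Γ((U : Scheme.{u}), ⊤)) (W : X.Opens) (hW : W ≤ U) :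
    (U.ι.appIso ((Opens.map (RestrCoh.incl (X := X.toTopCat) U)).obj W)).inv
        (Coh.resTop (U : Scheme.{u}) (op ((Opens.map (RestrCoh.incl (X := X.toTopCat) U)).obj W)) a) =
      X.presheaf.map (homOfLE (image_preimage_le (X := X.toTopCat) U W)).op
        (X.presheaf.map (homOfLE hW).op (U.topIso.hom a)) := by
  rw [Scheme.Opens.ι_appIso]
  show (X.presheaf.map _).hom a = (X.presheaf.map _ ≫ X.presheaf.map _ ≫ X.presheaf.map _).hom a
  rw [← X.presheaf.map_comp, ← X.presheaf.map_comp]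
  rfl

/-- the transported action in degree zero is multiplication of sections -/
lemma actX_zero (M : X.Modules) (a : Γ((U : Scheme.{u}), ⊤)) (W : X.Opens) (hW : W ≤ U)
    (s : Γ(M, W)) :
    actX U M 0 a W hW ((((βX (X := X)).hom.app (Coh.toAb M)).app (op W)).hom s) =
      (((βX (X := X)).hom.app (Coh.toAb M)).app (op W)).hom
        ((X.presheaf.map (homOfLE hW).op (U.topIso.hom a)) • s : Γ(M, W)) := by
  apply (eθ U M 0 W hW).injective
  rw [eθ_actX, eθ_apply, eθ_apply, θ_zero_apply, θ_zero_apply, α_zero_apply]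
  congr 1
  have e2 := M.val.map_smul (homOfLE (image_preimage_le (X := X.toTopCat) U W)).op
    (X.presheaf.map (homOfLE hW).op (U.topIso.hom a)) s
  refine Eq.trans ?_ e2.symm
  have e3 : (X.ringCatSheaf.obj.map (homOfLE (image_preimage_le (X := X.toTopCat) U W)).op).hom
      (X.presheaf.map (homOfLE hW).op (U.topIso.hom a)) =
      (U.ι.appIso ((Opens.map (RestrCoh.incl (X := X.toTopCat) U)).obj W)).inv
        (Coh.resTop (U : Scheme.{u}) (op ((Opens.map (RestrCoh.incl (X := X.toTopCat) U)).obj W)) a) :=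
    (res_aux U a W hW).symm
  rw [e3]
  rfl

end Open

section Rel
variable {X S : Scheme.{u}} (f : X ⟶ S) (V : S.Opens)

/-- the presheaf-valued δ-functor `A ↦ (W ↦ H^n(f⁻¹W, A))` -/
noncomputable abbrev Tp : DeltaF.CohDeltaFunctor (Sheaf (Opens.grothendieckTopology X) AddCommGrpCat.{u})
    (S.Opensᵒᵖ ⥤ AddCommGrpCat.{u}) ℕ :=
  RpushShf.Tpsh (Opens.grothendieckTopology X) (Opens.map f.base)

/-- degree zero: sections over preimages -/
noncomputable abbrev βf := RpushShf.β (Opens.grothendieckTopology X.toTopCat) (Opens.map f.base)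

/-- the partial action commutes with the connecting maps -/
lemma act_δ (T : ShortComplex X.Modules) (hT : T.ShortExact) (n : ℕ) (a : Γ(S, V)) (W : S.Opens)
    (hW : W ≤ V) (x : (RpushGlobal.P f T.X₃ n).obj (op W)) :
    act f V T.X₁ (n + 1) a W hW
        ((((Tp f).δ (SA T) (SA_shortExact T hT) n (n + 1) rfl).app (op W)).hom x) =
      (((Tp f).δ (SA T) (SA_shortExact T hT) n (n + 1) rfl).app (op W)).hom
        (act f V T.X₃ n a W hW x) :=
  actX_δ (f ⁻¹ᵁ V) T hT n (φ f V a) (f ⁻¹ᵁ W) (f.preimage_mono hW) x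

/-- the partial action in degree zero is multiplication of sections -/
lemma act_zero (M : X.Modules) (a : Γ(S, V)) (W : S.Opens) (hW : W ≤ V) (s : Γ(M, f ⁻¹ᵁ W)) :
    act f V M 0 a W hW ((((βf f).hom.app (Coh.toAb M)).app (op W)).hom s) =
      (((βf f).hom.app (Coh.toAb M)).app (op W)).hom
        ((f.app W (S.presheaf.map (homOfLE hW).op a)) • s : Γ(M, f ⁻¹ᵁ W)) := by
  have h := actX_zero (f ⁻¹ᵁ V) M (φ f V a) (f ⁻¹ᵁ W) (f.preimage_mono hW) s
  have e : X.presheaf.map (homOfLE (f.preimage_mono hW)).op ((f ⁻¹ᵁ V).topIso.hom (φ f V a)) =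
      f.app W (S.presheaf.map (homOfLE hW).op a) := by
    have h1 : (f ⁻¹ᵁ V).topIso.hom (φ f V a) = f.app V a := by
      show ((f ⁻¹ᵁ V).topIso.inv ≫ (f ⁻¹ᵁ V).topIso.hom) (f.app V a) = _
      rw [Iso.inv_hom_id]
      rfl
    rw [h1]
    have h2 := congrArg (fun m => m.hom a) (f.naturality (homOfLE hW).op)
    exact h2.symm
  rw [e] at h
  exact h

end Rel

end Groth.Agent.Helper13.RpushAct
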