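import Mathlib
import Groth.Prelude.Def_RDerDelta
import Groth.Agent.Lib.Helper13.ResCompare
import Groth.Agent.S6773

universe w v u
set_option linter.unusedSectionVars false
open CategoryTheory CategoryTheory.Limits Opposite

namespace Groth.Agent.Helper13.DeltaUniq

open Groth.Agent.Helper13.DeltaPsh Groth.Agent.Helper13.ResCompare

variable {A : Type u} [Category.{v} A] [Abelian A] [EnoughInjectives A]
  (T : DeltaF.CohDeltaFunctor A AddCommGrpCat.{w} ℕ)

/-- unbundled target data: groups `G n F`, connecting maps for the standard sequences,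
functoriality in degree zero -/
structure Target (A : Type u) [Category.{v} A] [Abelian A] [EnoughInjectives A] where
  G : ℕ → A → AddCommGrpCat.{w}
  δ : ∀ (n : ℕ) (F : A), G n (ses F).X₃ ⟶ G (n + 1) F
  map0 : ∀ {F F' : A}, (F ⟶ F') → (G 0 F ⟶ G 0 F')

/-- a family of maps from a δ-functor to target data, compatible with connecting maps of the
standard sequences, natural and bijective in degree zero -/
structure Mor (R : Target.{w} A) where
  a : ∀ (n : ℕ) (F : A), (T.F n).obj F ⟶ R.G n F
  comm : ∀ (n : ℕ) (F : A) (x : (T.F n).obj (ses F).X₃),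
    (a (n + 1) F).hom ((T.δ (ses F) (ses_shortExact F) n (n + 1) rfl).hom x) =
      (R.δ n F).hom ((a n (ses F).X₃).hom x)
  nat0 : ∀ {F F' : A} (φ : F ⟶ F') (x : (T.F 0).obj F),
    (a 0 F').hom (((T.F 0).map φ).hom x) = (R.map0 φ).hom ((a 0 F).hom x)
  bij0 : ∀ F : A, Function.Bijective (a 0 F).hom

variable {T} {R : Target.{w} A}

/-- the degree-zero comparison automorphism -/
noncomputable def u0 (a b : Mor T R) : T.F 0 ⟶ T.F 0 where
  app F := AddCommGrpCat.ofHom
    (((AddEquiv.ofBijective (a.a 0 F).hom (a.bij0 F)).symm : _ →+ _).comp (b.a 0 F).hom)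
  naturality {F F'} φ := by
    ext x
    apply (a.bij0 F').1
    show (a.a 0 F').hom ((AddEquiv.ofBijective (a.a 0 F').hom (a.bij0 F')).symm
        ((b.a 0 F').hom (((T.F 0).map φ).hom x))) =
      (a.a 0 F').hom (((T.F 0).map φ).hom ((AddEquiv.ofBijective (a.a 0 F).hom (a.bij0 F)).symm
        ((b.a 0 F).hom x)))
    have h1 : ∀ (F : A) (y : R.G 0 F), (a.a 0 F).hom ((AddEquiv.ofBijective (a.a 0 F).hom
        (a.bij0 F)).symm y) = y := fun F y =>
      (AddEquiv.ofBijective (a.a 0 F).hom (a.bij0 F)).apply_symm_apply y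
    rw [h1, a.nat0, h1, b.nat0]

lemma u0_app (a b : Mor T R) (F : A) (x : (T.F 0).obj F) :
    (a.a 0 F).hom (((u0 a b).app F).hom x) = (b.a 0 F).hom x :=
  (AddEquiv.ofBijective (a.a 0 F).hom (a.bij0 F)).apply_symm_apply _

theorem bijective_iff (hT : ∀ (n : ℕ) (I : A), Injective I → Subsingleton ((T.F (n + 1)).obj I))
    (a b : Mor T R) (n : ℕ) (F : A) :
    Function.Bijective (a.a n F).hom ↔ Function.Bijective (b.a n F).hom := by
  have hU : T.IsUniversal := by
    apply Groth.Agent.S6773.result
    apply effaceable_of_injective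
    intro k I hI
    haveI := hT k I hI
    exact AddCommGrpCat.isZero_of_subsingleton _
  obtain ⟨ũ, hũ, -⟩ := hU T (u0 a b)
  have key : ∀ (n : ℕ) (F : A) (x : (T.F n).obj F),
      (b.a n F).hom x = (a.a n F).hom (((ũ.app n).app F).hom x) := by
    intro n
    induction n with
    | zero =>
      intro F x
      rw [hũ, u0_app]
    | succ n ih =>
      intro F x
      have hI : Injective (ses F).X₂ := Injective.injective_under F
      obtain ⟨y, rfl⟩ := LerayZero.δ_surjective T (ses F) (ses_shortExact F) n (hT n _ hI) x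
      rw [b.comm, ih, τ_δ T T ũ (ses F) (ses_shortExact F) n y, a.comm]
  have hbij : Function.Bijective ((ũ.app n).app F).hom := by
    refine bijective_of_zero T T ũ hT hT (fun F => ?_) n F
    rw [hũ]
    have : (((u0 a b).app F).hom : _ → _) =
        (AddEquiv.ofBijective (a.a 0 F).hom (a.bij0 F)).symm ∘ (b.a 0 F).hom := rfl
    rw [this]
    exact (AddEquiv.bijective _).comp (b.bij0 F)
  have hcomp : ((b.a n F).hom : _ → _) = (a.a n F).hom ∘ ((ũ.app n).app F).hom := by
    funext x
    exact key n F x
  rw [hcomp]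
  constructor
  · intro h
    exact h.comp hbij
  · intro h
    exact (Function.Bijective.of_comp_iff _ hbij).1 h

end Groth.Agent.Helper13.DeltaUniq
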