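import Mathlib
import Groth.Prelude.Def_RDerDelta
import Groth.Agent.Lib.Helper13.DeltaUniq

universe w v u v' u' v'' u''
set_option linter.unusedSectionVars false
open CategoryTheory CategoryTheory.Limits Opposite

namespace Groth.Agent.Helper13.DeltaUniq

open Groth.Agent.Helper13.DeltaPsh Groth.Agent.Helper13.ResCompare Groth.Agent.Helper24.CechH
open DeltaF DeltaF.CohDeltaFunctor

section Iso
variable {A : Type u} [Category.{v} A] [Abelian A] {B : Type u'} [Category.{v'} B] [Abelian B]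

/-- universal δ-functors with isomorphic degree-zero parts are isomorphic, by a morphism of
δ-functors -/
lemma exists_hom_of_universal (T T' : CohDeltaFunctor A B ℕ) (hT : T.IsUniversal)
    (hT' : T'.IsUniversal) (e0 : T.F 0 ≅ T'.F 0) :
    ∃ τ : T ⟶ T', τ.app 0 = e0.hom ∧ ∀ n, IsIso (τ.app n) := by
  obtain ⟨τ, hτ, -⟩ := hT T' e0.hom
  obtain ⟨σ, hσ, -⟩ := hT' T e0.inv
  have h1 : τ ≫ σ = 𝟙 T := by
    obtain ⟨ρ, -, hρ⟩ := hT T (𝟙 _)
    rw [hρ (τ ≫ σ) (by show (τ ≫ σ).app 0 = _; rw [comp_app, hτ, hσ, Iso.hom_inv_id]),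
      hρ (𝟙 T) (by show (𝟙 T : T ⟶ T).app 0 = _; rw [id_app])]
  have h2 : σ ≫ τ = 𝟙 T' := by
    obtain ⟨ρ, -, hρ⟩ := hT' T' (𝟙 _)
    rw [hρ (σ ≫ τ) (by show (σ ≫ τ).app 0 = _; rw [comp_app, hτ, hσ, Iso.inv_hom_id]),
      hρ (𝟙 T') (by show (𝟙 T' : T' ⟶ T').app 0 = _; rw [id_app])]
  refine ⟨τ, hτ, fun n => ⟨σ.app n, ?_, ?_⟩⟩
  · rw [← comp_app, h1, id_app]
  · rw [← comp_app, h2, id_app]

end Iso

section Comap
variable {A' : Type u'} [Category.{v'} A'] [Abelian A'] {A : Type u} [Category.{v} A] [Abelian A]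
  {B : Type u''} [Category.{v''} B] [Abelian B]
  (G : A' ⥤ A) [G.Additive] [PreservesFiniteLimits G] [PreservesFiniteColimits G]
  {T T' : CohDeltaFunctor A B ℕ}

/-- whisker a morphism of δ-functors with an exact functor -/
noncomputable def comapHom (τ : T ⟶ T') : comap G T ⟶ comap G T' where
  app n := Functor.whiskerLeft G (τ.app n)
  comm S hS n₀ n₁ h := τ.comm (S.map G) (hS.map_of_exact G) n₀ n₁ h

end Comap

section Precomp
variable {A : Type u} [Category.{v} A] [Abelian A] [EnoughInjectives A]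
  {T T' : DeltaF.CohDeltaFunctor A AddCommGrpCat.{w} ℕ} {R : Target.{w} A}

/-- precompose a family with a morphism of δ-functors -/
noncomputable def Mor.precomp (m : Mor T R) (σ : T' ⟶ T)
    (h0 : ∀ F, Function.Bijective ((σ.app 0).app F).hom) : Mor T' R where
  a n F := (σ.app n).app F ≫ m.a n F
  comm n F x := by
    show (m.a (n + 1) F).hom (((σ.app (n + 1)).app F).hom
      ((T'.δ (ses F) (ses_shortExact F) n (n + 1) rfl).hom x)) = _
    rw [τ_δ T' T σ (ses F) (ses_shortExact F) n x, m.comm]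
    rfl
  nat0 φ x := by
    show (m.a 0 _).hom (((σ.app 0).app _).hom (((T'.F 0).map φ).hom x)) = _
    rw [τ_nat T' T σ 0 φ x, m.nat0]
    rfl
  bij0 F := (m.bij0 F).comp (h0 F)

lemma Mor.precomp_bijective_iff (m : Mor T R) (σ : T' ⟶ T)
    (h0 : ∀ F, Function.Bijective ((σ.app 0).app F).hom) (n : ℕ) (F : A)
    (hσ : Function.Bijective ((σ.app n).app F).hom) :
    Function.Bijective ((m.precomp σ h0).a n F).hom ↔ Function.Bijective (m.a n F).hom := by
  have : (((m.precomp σ h0).a n F).hom : _ → _) = (m.a n F).hom ∘ ((σ.app n).app F).hom := rfl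
  rw [this]
  exact Function.Bijective.of_comp_iff _ hσ

end Precomp

end Groth.Agent.Helper13.DeltaUniq
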