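import Mathlib
import Groth.Prelude.Def_CohCmp
import Groth.Agent.Lib.Helper13.DeltaUniq2
import Groth.Agent.Lib.Helper13.RpushCmp
import Groth.Agent.Lib.Helper13.RpushGlobal
import Groth.Agent.Lib.Helper13.RestrCoh

universe u
set_option linter.unusedSectionVars false


open CategoryTheory CategoryTheory.Limits Opposite TopologicalSpace AlgebraicGeometry
  AlgebraicGeometry.Scheme.Modules

namespace Groth.Agent.Helper13.SectCmpTop

open Groth.Agent.Helper24.CechH Groth.Agent.Helper13.DeltaPsh Groth.Agent.Helper13.ResCompare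
  Groth.Agent.Helper13.ToAbExact Groth.Agent.Helper13.DeltaUniq

variable {X S : Scheme.{u}} (f : X ⟶ S) [HasInjectiveResolutions X.Modules] (V : S.Opens)

noncomputable instance : EnoughInjectives X.Modules :=
  RpushCmp.enoughInjectives_of_hasInjectiveResolutions

/-- the presheaf-valued δ-functor `A ↦ (W ↦ H^n(f⁻¹W, A))` on abelian sheaves -/
noncomputable abbrev Tp : DeltaF.CohDeltaFunctor (Sheaf (Opens.grothendieckTopology X) AddCommGrpCat.{u})
    (S.Opensᵒᵖ ⥤ AddCommGrpCat.{u}) ℕ :=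
  RpushShf.Tpsh (Opens.grothendieckTopology X) (Opens.map f.base)

/-- `A ↦ H^n(f⁻¹V, A)` -/
noncomputable abbrev TpV : DeltaF.CohDeltaFunctor (Sheaf (Opens.grothendieckTopology X) AddCommGrpCat.{u}) AddCommGrpCat.{u} ℕ :=
  evT (Tp f) (op V)

lemma TpV_vanish (n : ℕ) (A : Sheaf (Opens.grothendieckTopology X) AddCommGrpCat.{u}) (hA : TopCat.Sheaf.IsFlasque A) :
    Subsingleton (((TpV f V).F (n + 1)).obj A) :=
  Groth.Agent.Helper24.Flasque.HU_succ_subsingleton n A hA ((Opens.map f.base).obj V)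

lemma TpV_universal : (TpV f V).IsUniversal := by
  apply Groth.Agent.S6773.result
  apply effaceable_of_injective
  intro n I hI
  haveI := TpV_vanish f V n I (Groth.Agent.Helper24.Flasque.isFlasque_of_injective I)
  exact AddCommGrpCat.isZero_of_subsingleton _

/-- degree zero: the two models of `H^0(f⁻¹V, A)` -/
noncomputable def e0V : (RestrCoh.TR (X := X.toTopCat) (f ⁻¹ᵁ V)).F 0 ≅ (TpV f V).F 0 :=
  (RestrCoh.e0 (X := X.toTopCat) (f ⁻¹ᵁ V)).symm ≪≫
    NatIso.ofComponents (fun A => Iso.refl _) (by intros; rfl)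


/-- comparison of the two models of `H^n(f⁻¹V, A)`, as a morphism of δ-functors -/
lemma exists_σ : ∃ σ : TpV f V ⟶ RestrCoh.TR (X := X.toTopCat) (f ⁻¹ᵁ V),
    ∀ n, IsIso (σ.app n) := by
  obtain ⟨σ, -, h⟩ := exists_hom_of_universal (TpV f V) (RestrCoh.TR (X := X.toTopCat) (f ⁻¹ᵁ V))
    (TpV_universal f V) (RestrCoh.TR_universal (X := X.toTopCat) (f ⁻¹ᵁ V)) (e0V f V).symm
  exact ⟨σ, h⟩

/-- the sheaf-valued δ-functor `F ↦ (W ↦ H^n(f⁻¹W, F))^#` on modules -/
noncomputable abbrev TS₂ : DeltaF.CohDeltaFunctor X.Modules (Sheaf (Opens.grothendieckTopology S) AddCommGrpCat.{u}) ℕ :=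
  comap (toAbF X) (RpushShf.Tshf (Opens.grothendieckTopology X) (Opens.grothendieckTopology S)
    (Opens.map f.base))

/-- the δ-functor `F ↦ R^n f_* F` (underlying abelian sheaves) -/
noncomputable abbrev TS₁ (Δ : RDer.DerivedLES (pushforward f)) : DeltaF.CohDeltaFunctor X.Modules (Sheaf (Opens.grothendieckTopology S) AddCommGrpCat.{u}) ℕ :=
  postcomp Δ.toCohDeltaFunctor (toAbF S)

lemma TS₁_universal (Δ : RDer.DerivedLES (pushforward f)) : (TS₁ f Δ).IsUniversal := by
  apply Groth.Agent.S6773.result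
  apply effaceable_of_injective
  intro k I hI
  exact Functor.map_isZero (toAbF S)
    (Functor.isZero_rightDerived_obj_injective_succ (Scheme.Modules.pushforward f) k I)

lemma TS₂_universal : (TS₂ f).IsUniversal := by
  apply Groth.Agent.S6773.result
  apply effaceable_of_injective
  intro n I hI
  have hfl : TopCat.Sheaf.IsFlasque (X := X.toTopCat) (Coh.toAb I) := ModFlasque.isFlasque_toAb I
  show IsZero ((presheafToSheaf (Opens.grothendieckTopology S) AddCommGrpCat.{u}).obj
    (((Tp f).F (n + 1)).obj (Coh.toAb I)))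
  refine Functor.map_isZero (presheafToSheaf _ AddCommGrpCat.{u}) ?_
  apply Functor.isZero
  intro W
  have := TpV_vanish f W.unop n (Coh.toAb I) hfl
  exact @AddCommGrpCat.isZero_of_subsingleton _ this

/-- degree zero -/
noncomputable def e0T (Δ : RDer.DerivedLES (pushforward f)) : (TS₂ f).F 0 ≅ (TS₁ f Δ).F 0 :=
  Functor.isoWhiskerLeft (toAbF X)
      (RpushShf.e0 (Opens.grothendieckTopology X) (Opens.grothendieckTopology S)
        (Opens.map f.base)).symm ≪≫
    (RpushCmp.pushToAb f).symm ≪≫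
    Functor.isoWhiskerRight (Scheme.Modules.pushforward f).rightDerivedZeroIsoSelf.symm (toAbF S)

lemma exists_τ (Δ : RDer.DerivedLES (pushforward f)) : ∃ τ : TS₂ f ⟶ TS₁ f Δ, ∀ n, IsIso (τ.app n) := by
  obtain ⟨τ, -, h⟩ := exists_hom_of_universal (TS₂ f) (TS₁ f Δ) (TS₂_universal f) (TS₁_universal f Δ)
    (e0T f Δ)
  exact ⟨τ, h⟩

/-- `F ↦ H^p(f⁻¹V, F|)` as a δ-functor on `X.Modules` -/
noncomputable abbrev T : DeltaF.CohDeltaFunctor X.Modules AddCommGrpCat.{u} ℕ :=
  comap (toAbF X) (RestrCoh.TR (X := X.toTopCat) (f ⁻¹ᵁ V))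

example (F : X.Modules) (n : ℕ) : ((T f V).F n).obj F = AddCommGrpCat.of (Coh.HHon X F (f ⁻¹ᵁ V) n) := rfl

/-- the target data `F ↦ Γ(V, R^p f_* F)` -/
noncomputable def R (Δ : RDer.DerivedLES (pushforward f)) : Target.{u} X.Modules where
  G n F := ((Coh.Rpush f n).obj F).presheaf.obj (op V)
  δ n F := (Δ.δ (ses F) (ses_shortExact F) n (n + 1) rfl).app V
  map0 φ := ((Coh.Rpush f 0).map φ).app V


lemma shortExact_toAbOn (U : X.Opens) (S : ShortComplex X.Modules) (hS : S.ShortExact) :
    (S.map (CohCmp.toAbOn X U)).ShortExact := by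
  have h1 : (S.map (restrictFunctor U.ι)).ShortExact := hS.map_of_exact _
  exact toAb_shortExact _ h1

lemma bijective_zero {Δ : RDer.DerivedLES (pushforward f)} (E : CohCmp.SectCmp f Δ) (F : X.Modules) : Function.Bijective (E.ε V F 0) := by
  have hφ : IsIso ((pushforward f).toRightDerivedZero.app F) := inferInstance
  have hb : Function.Bijective (((pushforward f).toRightDerivedZero.app F).app V) := by
    have h1 : IsIso (((pushforward f).toRightDerivedZero.app F).app V) := by
      have : ((pushforward f).toRightDerivedZero.app F).app V =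
          ((toPresheaf S).map ((pushforward f).toRightDerivedZero.app F)).app (op V) := rfl
      rw [this]
      haveI h2 : IsIso ((toPresheaf S).map ((pushforward f).toRightDerivedZero.app F)) :=
        Functor.map_isIso _ _
      exact @NatIso.isIso_app_of_isIso _ _ _ _ _ _ _ h2 (op V)
    exact (ConcreteCategory.isIso_iff_bijective _).1 h1
  have : (E.ε V F 0 : _ → _) = (((pushforward f).toRightDerivedZero.app F).app V) ∘
      (CohPull.sectH0 F (f ⁻¹ᵁ V)).symm := by
    funext x
    obtain ⟨s, rfl⟩ := (CohPull.sectH0 F (f ⁻¹ᵁ V)).surjective x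
    rw [E.zero]
    simp
  rw [this]
  exact hb.comp (AddEquiv.bijective _)

/-- the comparison maps `ε` as a morphism to the target data -/
noncomputable def a {Δ : RDer.DerivedLES (pushforward f)} (E : CohCmp.SectCmp f Δ) :
    Mor (T f V) (R f V Δ) where
  a n F := AddCommGrpCat.ofHom (E.ε V F n)
  comm n F x := E.delta V (ses F) (ses_shortExact F) (shortExact_toAbOn _ _ (ses_shortExact F)) n x
  nat0 φ x := E.natural V φ 0 x
  bij0 F := bijective_zero f V E F


/-- the HU-model `F ↦ H^n(f⁻¹V, F)` on modules -/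
noncomputable abbrev T₀ : DeltaF.CohDeltaFunctor X.Modules AddCommGrpCat.{u} ℕ :=
  comap (toAbF X) (TpV f V)

lemma T₀_vanish (n : ℕ) (I : X.Modules) (hI : Injective I) :
    Subsingleton (((T₀ f V).F (n + 1)).obj I) :=
  TpV_vanish f V n (Coh.toAb I) (ModFlasque.isFlasque_toAb I)


section Generic
variable (G : (S.Opensᵒᵖ ⥤ AddCommGrpCat.{u}) ⥤
    Sheaf (Opens.grothendieckTopology S) AddCommGrpCat.{u})
  [G.Additive] [PreservesFiniteLimits G] [PreservesFiniteColimits G]
  (η : 𝟭 (S.Opensᵒᵖ ⥤ AddCommGrpCat.{u}) ⟶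
    G ⋙ sheafToPresheaf (Opens.grothendieckTopology S) AddCommGrpCat.{u})

/-- the sheaf-valued δ-functor `F ↦ G (W ↦ H^n(f⁻¹W, F))` for an exact functor `G` -/
noncomputable abbrev TSg : DeltaF.CohDeltaFunctor X.Modules
    (Sheaf (Opens.grothendieckTopology S) AddCommGrpCat.{u}) ℕ :=
  comap (toAbF X) (postcomp (Tp f) G)

/-- the map `η` followed by the comparison `τ`, on sections over `V` -/
noncomputable def bMap (Δ : RDer.DerivedLES (pushforward f)) (τ : TSg f G ⟶ TS₁ f Δ) (n : ℕ)
    (F : X.Modules) : ((T₀ f V).F n).obj F ⟶ (R f V Δ).G n F :=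
  (η.app (((Tp f).F n).obj (Coh.toAb F))).app (op V) ≫ ((τ.app n).app F).hom.app (op V)

lemma bMap_comm (Δ : RDer.DerivedLES (pushforward f)) (τ : TSg f G ⟶ TS₁ f Δ) (n : ℕ)
    (F : X.Modules) (x : ((T₀ f V).F n).obj (ses F).X₃) :
    (bMap f V G η Δ τ (n + 1) F).hom
        (((T₀ f V).δ (ses F) (ses_shortExact F) n (n + 1) rfl).hom x) =
      ((R f V Δ).δ n F).hom ((bMap f V G η Δ τ n (ses F).X₃).hom x) := by
  have hS' := (ses_shortExact F).map_of_exact (toAbF X)
  have h1 := η.naturality ((Tp f).δ ((ses F).map (toAbF X)) hS' n (n + 1) rfl)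
  have h1' := congrArg (fun m => (m.app (op V)).hom x) h1
  have h2 := τ.comm (ses F) (ses_shortExact F) n (n + 1) rfl
  have h2' := congrArg (fun m => (m.hom.app (op V)).hom
    (((η.app (((Tp f).F n).obj (Coh.toAb (ses F).X₃))).app (op V)).hom x)) h2
  exact (congrArg (fun z => (((τ.app (n + 1)).app F).hom.app (op V)).hom z) h1').trans h2'

lemma bMap_nat0 (Δ : RDer.DerivedLES (pushforward f)) (τ : TSg f G ⟶ TS₁ f Δ)
    {F F' : X.Modules} (φ : F ⟶ F') (x : ((T₀ f V).F 0).obj F) :
    (bMap f V G η Δ τ 0 F').hom ((((T₀ f V).F 0).map φ).hom x) =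
      ((R f V Δ).map0 φ).hom ((bMap f V G η Δ τ 0 F).hom x) := by
  have h1 := η.naturality (((Tp f).F 0).map ((toAbF X).map φ))
  have h1' := congrArg (fun m => (m.app (op V)).hom x) h1
  have h2 := (τ.app 0).naturality φ
  have h2' := congrArg (fun m => (m.hom.app (op V)).hom
    (((η.app (((Tp f).F 0).obj (Coh.toAb F))).app (op V)).hom x)) h2
  exact (congrArg (fun z => (((τ.app 0).app F').hom.app (op V)).hom z) h1').trans h2'

lemma bijective_of_isIso {A B : AddCommGrpCat.{u}} (g : A ⟶ B) [IsIso g] :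
    Function.Bijective g.hom :=
  (ConcreteCategory.isIso_iff_bijective g).1 inferInstance

lemma τ_app_bijective (Δ : RDer.DerivedLES (pushforward f)) (τ : TSg f G ⟶ TS₁ f Δ)
    (hτ : ∀ n, IsIso (τ.app n)) (n : ℕ) (F : X.Modules) :
    Function.Bijective (((τ.app n).app F).hom.app (op V)).hom := by
  haveI := hτ n
  haveI h1 : IsIso ((τ.app n).app F) := inferInstance
  haveI h2 : IsIso ((sheafToPresheaf _ _).map ((τ.app n).app F)) := Functor.map_isIso _ _
  haveI h3 : IsIso (((τ.app n).app F).hom.app (op V)) :=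
    @NatIso.isIso_app_of_isIso _ _ _ _ _ _ _ h2 (op V)
  exact bijective_of_isIso _

lemma bMap_bijective_iff (Δ : RDer.DerivedLES (pushforward f)) (τ : TSg f G ⟶ TS₁ f Δ)
    (hτ : ∀ n, IsIso (τ.app n)) (n : ℕ) (F : X.Modules) :
    Function.Bijective (bMap f V G η Δ τ n F).hom ↔
      Function.Bijective ((η.app (((Tp f).F n).obj (Coh.toAb F))).app (op V)).hom := by
  have h4 := τ_app_bijective f V G Δ τ hτ n F
  have : ((bMap f V G η Δ τ n F).hom : _ → _) = (((τ.app n).app F).hom.app (op V)).hom ∘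
      ((η.app (((Tp f).F n).obj (Coh.toAb F))).app (op V)).hom := rfl
  rw [this]
  exact Function.Bijective.of_comp_iff' h4 _

/-- the second family of maps -/
noncomputable def b (Δ : RDer.DerivedLES (pushforward f)) (τ : TSg f G ⟶ TS₁ f Δ)
    (hτ : ∀ n, IsIso (τ.app n))
    (h0 : ∀ F : X.Modules, Function.Bijective
      ((η.app (((Tp f).F 0).obj (Coh.toAb F))).app (op V)).hom) : Mor (T₀ f V) (R f V Δ) where
  a := bMap f V G η Δ τ
  comm := bMap_comm f V G η Δ τ
  nat0 := bMap_nat0 f V G η Δ τ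
  bij0 F := (bMap_bijective_iff f V G η Δ τ hτ 0 F).2 (h0 F)

/-- generic form: `ε` is bijective iff `η` is bijective on sections over `V` -/
theorem ε_bijective_iff_gen {Δ : RDer.DerivedLES (pushforward f)} (E : CohCmp.SectCmp f Δ)
    (τ : TSg f G ⟶ TS₁ f Δ) (hτ : ∀ n, IsIso (τ.app n))
    (h0 : ∀ F : X.Modules, Function.Bijective
      ((η.app (((Tp f).F 0).obj (Coh.toAb F))).app (op V)).hom)
    (σ : TpV f V ⟶ RestrCoh.TR (X := X.toTopCat) (f ⁻¹ᵁ V)) (hσ : ∀ n, IsIso (σ.app n))
    (n : ℕ) (F : X.Modules) :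
    Function.Bijective (E.ε V F n) ↔
      Function.Bijective ((η.app (((Tp f).F n).obj (Coh.toAb F))).app (op V)).hom := by
  have hσb : ∀ (k : ℕ) (M : X.Modules),
      Function.Bijective (((comapHom (toAbF X) σ).app k).app M).hom := by
    intro k M
    haveI := hσ k
    haveI : IsIso ((σ.app k).app ((toAbF X).obj M)) := inferInstance
    exact bijective_of_isIso ((σ.app k).app ((toAbF X).obj M))
  have e1 := Mor.precomp_bijective_iff (a f V E) (comapHom (toAbF X) σ) (hσb 0) n F (hσb n F)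
  have e2 := bijective_iff (T₀_vanish f V) ((a f V E).precomp (comapHom (toAbF X) σ) (hσb 0))
    (b f V G η Δ τ hτ h0) n F
  have e3 := bMap_bijective_iff f V G η Δ τ hτ n F
  exact e1.symm.trans (e2.trans e3)

end Generic

lemma isSheaf_Tp_zero (A : Sheaf (Opens.grothendieckTopology X) AddCommGrpCat.{u}) :
    Presheaf.IsSheaf (Opens.grothendieckTopology S) (((Tp f).F 0).obj A) := by
  have e := (RpushShf.β (Opens.grothendieckTopology X) (Opens.map f.base)).app A
  refine (Presheaf.isSheaf_of_iso_iff e).1 ?_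
  exact ((CohSite.push (Opens.grothendieckTopology X) (Opens.grothendieckTopology S)
    (Opens.map f.base)).obj A).property

/-- the comparison map `ε` is bijective iff the sheafification map of `W ↦ H^n(f⁻¹W, F)` is
bijective on sections over `V` -/
theorem ε_bijective_iff {Δ : RDer.DerivedLES (pushforward f)} (E : CohCmp.SectCmp f Δ) (n : ℕ)
    (F : X.Modules) :
    Function.Bijective (E.ε V F n) ↔
      Function.Bijective ((toSheafify (Opens.grothendieckTopology S)
        (((Tp f).F n).obj (Coh.toAb F))).app (op V)).hom := by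
  obtain ⟨σ, hσ⟩ := exists_σ f V
  obtain ⟨τ, hτ⟩ := exists_τ f Δ
  refine ε_bijective_iff_gen f V
    (presheafToSheaf (Opens.grothendieckTopology S) AddCommGrpCat.{u})
    (sheafificationAdjunction (Opens.grothendieckTopology S) AddCommGrpCat.{u}).unit E τ hτ
    (fun M => ?_) σ hσ n F
  haveI := isIso_toSheafify (Opens.grothendieckTopology S) (isSheaf_Tp_zero f (Coh.toAb M))
  haveI h3 : IsIso ((toSheafify (Opens.grothendieckTopology S)
      (((Tp f).F 0).obj (Coh.toAb M))).app (op V)) := inferInstance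
  exact bijective_of_isIso _

end Groth.Agent.Helper13.SectCmpTop
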