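import Mathlib
import Groth.Agent.Lib.Helper13.SectCmpTop
import Groth.Agent.Lib.Helper13.RpushAct

universe u
set_option linter.unusedSectionVars false
open CategoryTheory CategoryTheory.Limits Opposite TopologicalSpace AlgebraicGeometry
  AlgebraicGeometry.Scheme.Modules

namespace Groth.Agent.Helper13.RpushLin

open Groth.Agent.Helper24.CechH Groth.Agent.Helper13.DeltaPsh Groth.Agent.Helper13.ResCompare
  Groth.Agent.Helper13.ToAbExact Groth.Agent.Helper13.DeltaUniq Groth.Agent.Helper13.SectCmpTop

section Site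
variable {C D : Type u} [SmallCategory C] [SmallCategory D]
  (J : GrothendieckTopology C) (K : GrothendieckTopology D) (u : D ⥤ C) [u.IsContinuous K J]

lemma β_toSheafify (A : Sheaf J AddCommGrpCat.{u}) :
    (RpushShf.β J u).hom.app A ≫ toSheafify K (((RpushShf.Tpsh J u).F 0).obj A) =
      ((RpushShf.e0 J K u).hom.app A).hom := by
  unfold RpushShf.e0
  simp
  rfl

lemma toSheafify_e0_inv (A : Sheaf J AddCommGrpCat.{u}) :
    toSheafify K (((RpushShf.Tpsh J u).F 0).obj A) ≫ ((RpushShf.e0 J K u).inv.app A).hom =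
      (RpushShf.β J u).inv.app A := by
  have h2 : ((RpushShf.e0 J K u).hom.app A).hom ≫ ((RpushShf.e0 J K u).inv.app A).hom = 𝟙 _ :=
    congrArg (fun m => (sheafToPresheaf K AddCommGrpCat.{u}).map m) ((RpushShf.e0 J K u).hom_inv_id_app A)
  have h3 : ((RpushShf.β J u).app A).hom ≫
      (toSheafify K (((RpushShf.Tpsh J u).F 0).obj A) ≫ ((RpushShf.e0 J K u).inv.app A).hom) = 𝟙 _ := by
    rw [← Category.assoc]
    exact (congrArg (fun m => m ≫ ((RpushShf.e0 J K u).inv.app A).hom) (β_toSheafify J K u A)).trans h2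
  exact (IsIso.inv_eq_of_hom_inv_id (f := ((RpushShf.β J u).app A).hom) h3).symm.trans (IsIso.Iso.inv_hom _).symm.symm

end Site

section Sch
variable {X S : Scheme.{u}} (f : X ⟶ S) [HasInjectiveResolutions X.Modules]
  (Δ : RDer.DerivedLES (pushforward f))

lemma exists_τ' : ∃ τ : TS₂ f ⟶ TS₁ f Δ, τ.app 0 = (e0T f Δ).hom ∧ ∀ n, IsIso (τ.app n) :=
  exists_hom_of_universal (TS₂ f) (TS₁ f Δ) (TS₂_universal f) (TS₁_universal f Δ) (e0T f Δ)

/-- the chosen comparison of sheaf-valued δ-functors -/
noncomputable def τΔ : TS₂ f ⟶ TS₁ f Δ := (exists_τ' f Δ).choose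

lemma τΔ_zero : (τΔ f Δ).app 0 = (e0T f Δ).hom := (exists_τ' f Δ).choose_spec.1

lemma τΔ_isIso (n : ℕ) : IsIso ((τΔ f Δ).app n) := (exists_τ' f Δ).choose_spec.2 n

/-- the canonical map `H^n(f⁻¹W, M) → Γ(W, R^n f_* M)` -/
noncomputable def b (W : S.Opens) (n : ℕ) (M : X.Modules) :
    ((T₀ f W).F n).obj M ⟶ (R f W Δ).G n M :=
  bMap f W (presheafToSheaf (Opens.grothendieckTopology S) AddCommGrpCat.{u})
    (sheafificationAdjunction (Opens.grothendieckTopology S) AddCommGrpCat.{u}).unit Δ (τΔ f Δ) n M

lemma b_zero (W : S.Opens) (M : X.Modules) (s : Γ(M, f ⁻¹ᵁ W)) :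
    (b f Δ W 0 M).hom ((((RpushAct.βf f).hom.app (Coh.toAb M)).app (op W)).hom s) =
      ((pushforward f).toRightDerivedZero.app M).app W s := by
  have key : toSheafify (Opens.grothendieckTopology S) (((Tp f).F 0).obj (Coh.toAb M)) ≫
      (((τΔ f Δ).app 0).app M).hom =
      (RpushAct.βf f).inv.app (Coh.toAb M) ≫
        ((toAbF S).map ((pushforward f).toRightDerivedZero.app M)).hom := by
    rw [τΔ_zero]
    have h1 := toSheafify_e0_inv (Opens.grothendieckTopology X) (Opens.grothendieckTopology S)
      (Opens.map f.base) (Coh.toAb M)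
    show toSheafify (Opens.grothendieckTopology S) (((Tp f).F 0).obj (Coh.toAb M)) ≫
      (((RpushShf.e0 (Opens.grothendieckTopology X) (Opens.grothendieckTopology S)
        (Opens.map f.base)).inv.app (Coh.toAb M)).hom ≫
        ((toAbF S).map ((pushforward f).toRightDerivedZero.app M)).hom) = _
    rw [← Category.assoc, h1]
    rfl
  have h2 := congrArg (fun m => (m.app (op W)).hom
    ((((RpushAct.βf f).hom.app (Coh.toAb M)).app (op W)).hom s)) key
  have h3 : (((RpushAct.βf f).inv.app (Coh.toAb M)).app (op W)).hom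
      ((((RpushAct.βf f).hom.app (Coh.toAb M)).app (op W)).hom s) = s :=
    congrArg (fun m => (m.app (op W)).hom s) ((RpushAct.βf f).hom_inv_id_app (Coh.toAb M))
  refine Eq.trans ?_ (h2.trans ?_)
  · rfl
  · show ((toAbF S).map ((pushforward f).toRightDerivedZero.app M)).hom.app (op W)
      ((((RpushAct.βf f).inv.app (Coh.toAb M)).app (op W)).hom
        ((((RpushAct.βf f).hom.app (Coh.toAb M)).app (op W)).hom s)) = _
    rw [h3]
    rfl

/-- the canonical map intertwines the partial action on cohomology with the module structure of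
the higher direct image -/
theorem b_act (V : S.Opens) (a : Γ(S, V)) (W : S.Opens) (hW : W ≤ V) :
    ∀ (n : ℕ) (M : X.Modules) (x : ((T₀ f W).F n).obj M),
      (b f Δ W n M).hom (RpushRelZ.act f V M n a W hW x) =
        ((S.presheaf.map (homOfLE hW).op a) •
          (show Γ((Coh.Rpush f n).obj M, W) from (b f Δ W n M).hom x) :
            Γ((Coh.Rpush f n).obj M, W))
  | 0, M, x => by
    have hsurj : Function.Surjective (((RpushAct.βf f).hom.app (Coh.toAb M)).app (op W)).hom := by
      have : IsIso (((RpushAct.βf f).hom.app (Coh.toAb M)).app (op W)) := inferInstance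
      exact (bijective_of_isIso _).2
    obtain ⟨s, rfl⟩ := hsurj x
    rw [RpushAct.act_zero, b_zero, b_zero]
    exact Hom.app_smul ((pushforward f).toRightDerivedZero.app M)
      (S.presheaf.map (homOfLE hW).op a) (s : Γ((pushforward f).obj M, W))
  | n + 1, M, x => by
    have hI : Injective (ses M).X₂ := Injective.injective_under M
    obtain ⟨y, rfl⟩ := LerayZero.δ_surjective (T₀ f W) (ses M) (ses_shortExact M) n
      (T₀_vanish f W n _ hI) x
    have ih := b_act V a W hW n (ses M).X₃ y
    have h1 : RpushRelZ.act f V M (n + 1) a W hW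
        (((T₀ f W).δ (ses M) (ses_shortExact M) n (n + 1) rfl).hom y) =
        ((T₀ f W).δ (ses M) (ses_shortExact M) n (n + 1) rfl).hom
          (RpushRelZ.act f V (ses M).X₃ n a W hW y) :=
      RpushAct.act_δ f V (ses M) (ses_shortExact M) n a W hW y
    have h2 := bMap_comm f W (presheafToSheaf (Opens.grothendieckTopology S) AddCommGrpCat.{u})
      (sheafificationAdjunction (Opens.grothendieckTopology S) AddCommGrpCat.{u}).unit Δ (τΔ f Δ) n M
    rw [h1]
    refine (h2 _).trans ?_
    refine (congrArg (fun z => ((R f W Δ).δ n M).hom z) ih).trans ?_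
    refine Eq.trans ?_ (congrArg (fun z => (S.presheaf.map (homOfLE hW).op a) •
      (show Γ((Coh.Rpush f (n + 1)).obj M, W) from z)) (h2 y)).symm
    exact Hom.app_smul (Δ.δ (ses M) (ses_shortExact M) n (n + 1) rfl)
      (S.presheaf.map (homOfLE hW).op a) _

/-- the canonical map is compatible with restrictions -/
lemma b_res {W W' : S.Opens} (h : W' ≤ W) (n : ℕ) (M : X.Modules) (x : ((T₀ f W).F n).obj M) :
    ((Coh.Rpush f n).obj M).presheaf.map (homOfLE h).op ((b f Δ W n M).hom x) =
      (b f Δ W' n M).hom (((((Tp f).F n).obj (Coh.toAb M)).map (homOfLE h).op).hom x) := by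
  have h1 := ((sheafificationAdjunction (Opens.grothendieckTopology S) AddCommGrpCat.{u}).unit.app
    (((Tp f).F n).obj (Coh.toAb M))).naturality (homOfLE h).op
  have h2 := (((τΔ f Δ).app n).app M).hom.naturality (homOfLE h).op
  have h1' := congrArg (fun m => m.hom x) h1
  have h2' := congrArg (fun m => m.hom
    ((((sheafificationAdjunction (Opens.grothendieckTopology S) AddCommGrpCat.{u}).unit.app
      (((Tp f).F n).obj (Coh.toAb M))).app (op W)).hom x)) h2
  exact h2'.symm.trans (congrArg (fun z => ((((τΔ f Δ).app n).app M).hom.app (op W')).hom z) h1'.symm)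

/-- the canonical map is bijective over affine opens -/
lemma b_bijective [QuasiCompact f] [QuasiSeparated f] {W : S.Opens} (hW : IsAffineOpen W) (n : ℕ)
    (M : X.Modules) [M.IsQuasicoherent] : Function.Bijective (b f Δ W n M).hom := by
  refine (bMap_bijective_iff f W (presheafToSheaf (Opens.grothendieckTopology S) AddCommGrpCat.{u})
    (sheafificationAdjunction (Opens.grothendieckTopology S) AddCommGrpCat.{u}).unit Δ (τΔ f Δ)
    (τΔ_isIso f Δ) n M).2 ?_
  exact RpushRelZ.toSheafify_bijective f W M n hW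

end Sch

end Groth.Agent.Helper13.RpushLin
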