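import Mathlib
import Groth.Agent.Lib.Helper13.RpushLin
import Groth.Agent.Lib.Helper6.QcohLocal

universe u
set_option linter.unusedSectionVars false
open CategoryTheory CategoryTheory.Limits Opposite TopologicalSpace AlgebraicGeometry
  AlgebraicGeometry.Scheme.Modules

namespace Groth.Agent.Helper13.RpushQCoh

open Groth.Agent.Helper13.SectCmpTop Groth.Agent.Helper13.RpushLin Groth.Agent.Helper13.BasisGlueRel

variable {X S : Scheme.{u}} (f : X ⟶ S) [QuasiCompact f] [QuasiSeparated f]
  [HasInjectiveResolutions X.Modules]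

/-- higher direct images of quasi-coherent modules along a qcqs morphism are quasi-coherent -/
theorem isQuasicoherent_Rpush (M : X.Modules) [M.IsQuasicoherent] (p : ℕ) :
    ((Coh.Rpush f p).obj M).IsQuasicoherent := by
  obtain ⟨Δ⟩ := Groth.Agent.S16463.result (pushforward f)
  refine Groth.Agent.Helper6.QcohLocal.isQuasicoherent_of_affineOpens _
    (fun V : S.affineOpens => V.1) (fun V => V.2) (fun x => ?_) ?_ ?_
  · obtain ⟨_, ⟨V, hV, rfl⟩, hxV, -⟩ := S.isBasis_affineOpens.exists_subset_of_mem_open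
      (Set.mem_univ x) isOpen_univ
    exact ⟨⟨V, hV⟩, hxV⟩
  · intro V' r W U' hU' hW hWr s
    obtain ⟨V, hV⟩ := V'
    dsimp only at r hU'
    subst hU' hWr
    have : CompactSpace (f ⁻¹ᵁ U' : Scheme.{u}) :=
      isCompact_iff_compactSpace.1 (f.isCompact_preimage hV.isCompact)
    have : IsAffine (U' : Scheme.{u}) := hV
    have : QuasiSeparatedSpace (f ⁻¹ᵁ U' : Scheme.{u}) :=
      quasiSeparatedSpace_of_quasiSeparated (f ∣_ U')
    have H := RpushRelZ.hyp f U' M p
    have hD : IsAffineOpen (S.basicOpen r) := IsAffineOpen.basicOpen hV r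
    obtain ⟨y, rfl⟩ := (b_bijective f Δ hD p M).2 s
    obtain ⟨n, x, hx⟩ := H.rep r y
    refine ⟨n, (b f Δ U' p M).hom x, ?_⟩
    have h1 := b_act f Δ U' (r ^ n) (S.basicOpen r) (S.basicOpen_le r) p M y
    rw [hx] at h1
    have h2 := b_res f Δ (S.basicOpen_le r) p M x
    rw [map_pow] at h1
    exact h1.symm.trans h2.symm
  · intro V' r W U' hU' hW hWr t ht
    obtain ⟨V, hV⟩ := V'
    dsimp only at r hU'
    subst hU' hWr
    have : CompactSpace (f ⁻¹ᵁ U' : Scheme.{u}) :=
      isCompact_iff_compactSpace.1 (f.isCompact_preimage hV.isCompact)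
    have : IsAffine (U' : Scheme.{u}) := hV
    have : QuasiSeparatedSpace (f ⁻¹ᵁ U' : Scheme.{u}) :=
      quasiSeparatedSpace_of_quasiSeparated (f ∣_ U')
    have H := RpushRelZ.hyp f U' M p
    have hD : IsAffineOpen (S.basicOpen r) := IsAffineOpen.basicOpen hV r
    obtain ⟨x, rfl⟩ := (b_bijective f Δ hV p M).2 t
    have h2 := b_res f Δ (S.basicOpen_le r) p M x
    have h3 : rs (RpushGlobal.P f M p) (S.basicOpen_le r) x = 0 := by
      apply (b_bijective f Δ hD p M).1
      exact (h2.symm.trans ht).trans (map_zero (b f Δ (S.basicOpen r) p M).hom).symm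
    obtain ⟨n, hn⟩ := H.ker r x h3
    refine ⟨n, ?_⟩
    have h1 := b_act f Δ U' (r ^ n) U' le_rfl p M x
    have h4 : (b f Δ U' p M).hom (RpushRelZ.act f U' M p (r ^ n) U' le_rfl x) = 0 :=
      (congrArg (fun z => (b f Δ U' p M).hom z) hn).trans (map_zero (b f Δ U' p M).hom)
    rw [map_pow] at h1
    exact h1.symm.trans h4

end Groth.Agent.Helper13.RpushQCoh
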