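import Mathlib
import Groth.Agent.Lib.Helper13.RelSerreLoc
import Groth.Agent.Lib.Helper24.CohExt2

/-!
# Relative Serre vanishing for a proper morphism to a Noetherian scheme (helper13)
-/

set_option autoImplicit false
set_option linter.unusedSectionVars false
set_option linter.style.haveILetI false
universe u
open CategoryTheory CategoryTheory.Limits AlgebraicGeometry Opposite TopologicalSpace

namespace Groth.Agent.Helper13.RelSerre

open Groth.Agent.Helper13 Groth.Agent.Helper13.PnOverLoc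

variable {X S : Scheme.{u}} (f : X ⟶ S) [IsProper f] [IsLocallyNoetherian S] (L : X.Modules)
  (hL : PicF.IsInvertible L)
  (ha : ∀ W : S.Opens, IsAffineOpen W → CohB1.IsAmple (L.restrict (f ⁻¹ᵁ W).ι))
  (M : X.Modules) (hM : Coh.IsCoh M)

include hL ha hM in
/-- over an affine open `W` of `S`: uniform vanishing of `H^p(f⁻¹V, M ⊗ L^k)` for affine `V ≤ W`. -/
theorem local_on_affine (W : S.Opens) (hW : IsAffineOpen W) :
    ∃ n₁ : ℕ, ∀ k : ℕ, n₁ ≤ k → ∀ p : ℕ, 0 < p → ∀ V : S.Opens, IsAffineOpen V → V ≤ W →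
      Subsingleton (CohTop.HU (X := X.toTopCat)
        (Coh.toAb (CohB1.tensorMod M (CohB1.tensorPow L k))) p (f ⁻¹ᵁ V)) := by
  haveI : IsAffine (W : Scheme.{u}) := hW
  haveI : IsProper (f ∣_ W) := IsZariskiLocalAtTarget.restrict ‹IsProper f› W
  obtain ⟨n₁, h⟩ := local_affine (f ∣_ W) (L.restrict (f ⁻¹ᵁ W).ι) (ha W hW)
    (M.restrict (f ⁻¹ᵁ W).ι) (Groth.Agent.Helper24.CohExt.isCoh_restrict M hM (f ⁻¹ᵁ W))
  refine ⟨n₁, fun k hk p hp V hV hVW => ?_⟩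
  have hV' : IsAffineOpen (W.ι ⁻¹ᵁ V) :=
    hV.preimage_of_isOpenImmersion W.ι (by rw [W.opensRange_ι]; exact hVW)
  obtain ⟨X'', j, hj, hrange, hvan⟩ := h k hk p hp (W.ι ⁻¹ᵁ V) hV'
  haveI := hj
  have hres : ∀ y : ((f ⁻¹ᵁ W : X.Opens) : Scheme.{u}), W.ι ((f ∣_ W) y) = f ((f ⁻¹ᵁ W).ι y) :=
    fun y => congrArg (fun k : ((f ⁻¹ᵁ W : X.Opens) : Scheme.{u}) ⟶ S => k y)
      (morphismRestrict_ι f W)
  have hrangeX : Set.range (j ≫ (f ⁻¹ᵁ W).ι) = ((f ⁻¹ᵁ V : X.Opens) : Set X) := by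
    ext x
    constructor
    · rintro ⟨z, rfl⟩
      have h1 : j z ∈ Set.range j := ⟨z, rfl⟩
      rw [hrange] at h1
      have h2 : W.ι ((f ∣_ W) (j z)) ∈ V := h1
      rw [hres] at h2
      exact h2
    · intro hx
      have hxV : f x ∈ V := hx
      have hxU : x ∈ f ⁻¹ᵁ W := hVW hxV
      let y : ((f ⁻¹ᵁ W : X.Opens) : Scheme.{u}) := ⟨x, hxU⟩
      have hy : (f ⁻¹ᵁ W).ι y = x := rfl
      have h1 : y ∈ (f ∣_ W) ⁻¹' ((W.ι ⁻¹ᵁ V : (W : Scheme.{u}).Opens) : Set (W : Scheme.{u})) := by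
        change W.ι ((f ∣_ W) y) ∈ V
        rw [hres, hy]
        exact hxV
      rw [← hrange] at h1
      obtain ⟨z, hz⟩ := h1
      refine ⟨z, ?_⟩
      change (f ⁻¹ᵁ W).ι (j z) = x
      rw [hz]
      exact hy
  let G := CohB1.tensorMod M (CohB1.tensorPow L k)
  let ψ : (Scheme.Modules.pullback (j ≫ (f ⁻¹ᵁ W).ι)).obj G ≅
      (Scheme.Modules.pullback j).obj (CohB1.tensorMod (M.restrict (f ⁻¹ᵁ W).ι)
        (CohB1.tensorPow (L.restrict (f ⁻¹ᵁ W).ι) k)) :=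
    ((Scheme.Modules.pullbackComp j (f ⁻¹ᵁ W).ι).app G).symm ≪≫
      (Scheme.Modules.pullback j).mapIso
        (((Scheme.Modules.restrictFunctorIsoPullback (f ⁻¹ᵁ W).ι).app G).symm ≪≫
          Tensor.restrictIso (f ⁻¹ᵁ W).ι M (CohB1.tensorPow L k) ≪≫
          Tensor.mapIso (Iso.refl _) (Tensor.powRestrict (f ⁻¹ᵁ W).ι L k))
  haveI : M.IsQuasicoherent := hM.1
  haveI : (CohB1.tensorPow L k).IsQuasicoherent :=
    Inv.isQuasicoherent_of_isInvertible _ (Inv.isInvertible_tensorPow L hL k)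
  haveI : G.IsQuasicoherent := Tensor.isQuasicoherent_tensorMod _ _
  exact HU_subsingleton_of_openImmersion (j ≫ (f ⁻¹ᵁ W).ι) G p (f ⁻¹ᵁ V) hrangeX
    (Groth.Agent.Helper9.AffStrat.HH_subsingleton_of_iso ψ p hvan)

include hL ha hM in
/-- **Relative Serre vanishing.** -/
theorem rel_serre_vanishing [CompactSpace S] :
    ∃ n₀ : ℕ, ∀ n : ℕ, n₀ ≤ n → ∀ p : ℕ, 0 < p →
      IsZero ((Coh.RpushAb f p).obj
        (Coh.toAb (CohB1.tensorMod M (CohB1.tensorPow L n)))) := by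
  have hex : ∀ s : S, ∃ W : S.Opens, IsAffineOpen W ∧ s ∈ W := by
    intro s
    obtain ⟨_, ⟨W, hW, rfl⟩, hsW, -⟩ :=
      S.isBasis_affineOpens.exists_subset_of_mem_open (Set.mem_univ s) isOpen_univ
    exact ⟨W, hW, hsW⟩
  choose Wf hWf hsWf using hex
  have hloc := fun s => local_on_affine f L hL ha M hM (Wf s) (hWf s)
  choose nf hnf using hloc
  obtain ⟨t, ht⟩ := isCompact_univ.elim_finite_subcover (fun s => ((Wf s : S.Opens) : Set S))
    (fun s => (Wf s).isOpen) (fun x _ => Set.mem_iUnion.2 ⟨x, hsWf x⟩)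
  refine ⟨t.sup nf, fun n hn p hp => ?_⟩
  obtain ⟨e⟩ := Groth.Agent.Helper13.RpushShf.main
    (Opens.grothendieckTopology X)
    (Opens.grothendieckTopology S)
    (TopologicalSpace.Opens.map f.base)
    (Coh.toAb (CohB1.tensorMod M (CohB1.tensorPow L n))) p
  refine IsZero.of_iso ?_ e
  refine Groth.Agent.Helper13.ShfZero.isZero_presheafToSheaf_of_basis (Y := S.toTopCat) _
    {V | IsAffineOpen V ∧ ∃ s ∈ t, V ≤ Wf s} ?_ ?_
  · rw [Opens.isBasis_iff_nbhd]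
    intro U x hxU
    obtain ⟨s, hst, hxs⟩ : ∃ s ∈ t, x ∈ Wf s := by
      have h1 := ht (Set.mem_univ x)
      simp only [Set.mem_iUnion] at h1
      obtain ⟨s, hst, hxs⟩ := h1
      exact ⟨s, hst, hxs⟩
    obtain ⟨_, ⟨V, hV, rfl⟩, hxV, hVsub⟩ :=
      S.isBasis_affineOpens.exists_subset_of_mem_open
        (show x ∈ ((U ⊓ Wf s : S.Opens) : Set S) from ⟨hxU, hxs⟩) (U ⊓ Wf s).isOpen
    exact ⟨V, ⟨hV, s, hst, fun y hy => (hVsub hy).2⟩, hxV, fun y hy => (hVsub hy).1⟩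
  · rintro V ⟨hV, s, hst, hVs⟩
    exact hnf s n (le_trans (Finset.le_sup hst) hn) p hp V hV hVs

end Groth.Agent.Helper13.RelSerre
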