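import Mathlib
import Groth.Agent.Lib.Helper13.SemiLocal6

set_option autoImplicit false
universe u
open CategoryTheory CategoryTheory.Limits AlgebraicGeometry Opposite TopologicalSpace TensorProduct

namespace Groth.Agent.Helper13.Sep

/-- criterion for closed immersions via an affine open cover of the target. -/
theorem isClosedImmersion_of_affine_cover {X Y : Scheme.{u}} (f : X ⟶ Y) {ι : Type*}
    (U : ι → Y.Opens) (hU : ∀ i, IsAffineOpen (U i)) (hcov : ⨆ i, U i = ⊤)
    (h1 : ∀ i, IsAffineOpen (f ⁻¹ᵁ U i)) (h2 : ∀ i, Function.Surjective (f.app (U i))) :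
    IsClosedImmersion f := by
  apply HasAffineProperty.of_iSup_eq_top (P := @IsClosedImmersion) (fun i => ⟨U i, hU i⟩) hcov
  intro i
  refine ⟨h1 i, ?_⟩
  change Function.Surjective ((f ∣_ U i).app ⊤)
  rw [morphismRestrict_app]
  have h3 : Function.Surjective (f.app ((U i).ι ''ᵁ ⊤)) := by
    rw [Scheme.Opens.ι_image_top]
    exact h2 i
  have h4 : Function.Surjective (X.presheaf.map
      (eqToHom (image_morphismRestrict_preimage f (U i) ⊤)).op) :=
    (ConcreteCategory.bijective_of_isIso _).surjective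
  exact h4.comp h3

variable {X S : Scheme.{u}} (f : X ⟶ S)

/-- the "box" `U × V` inside `X ×_S X`. -/
noncomputable def box (U V : X.Opens) : (pullback f f).Opens :=
  pullback.fst f f ⁻¹ᵁ U ⊓ pullback.snd f f ⁻¹ᵁ V

lemma diagonal_preimage_box (U V : X.Opens) : pullback.diagonal f ⁻¹ᵁ box f U V = U ⊓ V := by
  ext x
  change (pullback.fst f f (pullback.diagonal f x) ∈ U ∧ pullback.snd f f (pullback.diagonal f x) ∈ V) ↔ _
  rw [← Scheme.Hom.comp_apply, ← Scheme.Hom.comp_apply, pullback.diagonal_fst, pullback.diagonal_snd]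
  rfl

lemma isAffineOpen_box [IsAffine S] (U V : X.Opens) (hU : IsAffineOpen U) (hV : IsAffineOpen V) :
    IsAffineOpen (box f U V) := by
  haveI : IsAffine (↑U : Scheme.{u}) := hU
  haveI : IsAffine (↑V : Scheme.{u}) := hV
  let j := pullback.map (U.ι ≫ f) (V.ι ≫ f) f f U.ι V.ι (𝟙 S) (by simp) (by simp)
  have hj : box f U V = j.opensRange := by
    ext z
    change z ∈ (pullback.fst f f ⁻¹' (U : Set X) ∩ pullback.snd f f ⁻¹' (V : Set X)) ↔ z ∈ Set.range j
    rw [Scheme.Pullback.range_map]
    simp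
  rw [hj]
  exact isAffineOpen_opensRange j


/-- `Γ(O')` is generated as a ring by the restrictions from `U` and `V`. -/
def GenBy (U V O' : X.Opens) (hU : O' ≤ U) (hV : O' ≤ V) : Prop :=
  Subring.closure (Set.range (X.presheaf.map (homOfLE hU).op).hom ∪
    Set.range (X.presheaf.map (homOfLE hV).op).hom) = ⊤

lemma res_mem_range_left (U V : X.Opens) (hle : pullback.diagonal f ⁻¹ᵁ box f U V ≤ U)
    (a : Γ(X, U)) :
    (X.presheaf.map (homOfLE hle).op).hom a ∈
      Set.range (Scheme.Hom.app (pullback.diagonal f) (box f U V)).hom := by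
  have hW : box f U V ≤ pullback.fst f f ⁻¹ᵁ U := inf_le_left
  refine ⟨((pullback.fst f f).appLE U (box f U V) hW).hom a, ?_⟩
  have h1 : (pullback.fst f f).appLE U (box f U V) hW ≫
      (pullback.diagonal f).appLE (box f U V) (pullback.diagonal f ⁻¹ᵁ box f U V) le_rfl =
      X.presheaf.map (homOfLE hle).op := by
    rw [Scheme.Hom.appLE_comp_appLE]
    simp only [pullback.diagonal_fst]
    simp only [Scheme.Hom.appLE, Scheme.Hom.id_app]
    exact Category.id_comp _
  rw [Scheme.Hom.app_eq_appLE]
  exact congr($h1 a)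

lemma res_mem_range_right (U V : X.Opens) (hle : pullback.diagonal f ⁻¹ᵁ box f U V ≤ V)
    (a : Γ(X, V)) :
    (X.presheaf.map (homOfLE hle).op).hom a ∈
      Set.range (Scheme.Hom.app (pullback.diagonal f) (box f U V)).hom := by
  have hW : box f U V ≤ pullback.snd f f ⁻¹ᵁ V := inf_le_right
  refine ⟨((pullback.snd f f).appLE V (box f U V) hW).hom a, ?_⟩
  have h1 : (pullback.snd f f).appLE V (box f U V) hW ≫
      (pullback.diagonal f).appLE (box f U V) (pullback.diagonal f ⁻¹ᵁ box f U V) le_rfl =
      X.presheaf.map (homOfLE hle).op := by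
    rw [Scheme.Hom.appLE_comp_appLE]
    simp only [pullback.diagonal_snd]
    simp only [Scheme.Hom.appLE, Scheme.Hom.id_app]
    exact Category.id_comp _
  rw [Scheme.Hom.app_eq_appLE]
  exact congr($h1 a)

theorem diagonal_app_box_surjective (U V : X.Opens)
    (hg : GenBy U V (U ⊓ V) inf_le_left inf_le_right) :
    Function.Surjective (Scheme.Hom.app (pullback.diagonal f) (box f U V)).hom := by
  have key : ∀ (O' : X.Opens) (h : O' = U ⊓ V),
      GenBy U V O' (h.le.trans inf_le_left) (h.le.trans inf_le_right) := by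
    rintro _ rfl; exact hg
  have hg' := key _ (diagonal_preimage_box f U V)
  unfold GenBy at hg'
  rw [← RingHom.range_eq_top, eq_top_iff, ← hg', Subring.closure_le]
  rintro _ (⟨a, rfl⟩ | ⟨a, rfl⟩)
  · exact res_mem_range_left f U V _ a
  · exact res_mem_range_right f U V _ a

end Groth.Agent.Helper13.Sep
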