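import Mathlib
import Groth.Agent.Lib.Helper13.SepCrit

set_option autoImplicit false
universe u
open CategoryTheory CategoryTheory.Limits AlgebraicGeometry Opposite TopologicalSpace TensorProduct
open Groth.Agent.Helper13.QCoh Groth.Agent.Helper13.FinType Groth.Agent.Helper13.Tensor
open Groth.Agent.Helper13.Inv Groth.Agent.Helper13.GenLoc Groth.Agent.Helper13.Qcqs
open Groth.Agent.Helper13.Twist Groth.Agent.Helper13.GlobGen Groth.Agent.Helper13.Ample
open Groth.Agent.Helper13.SemiLocal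

namespace Groth.Agent.Helper13.Sep

variable {X : Scheme.{u}}

/-- for two sections of an invertible module with `X_{t₁}` affine, the functions on
`X_{t₁} ∩ X_{t₂}` are generated by those on `X_{t₁}` and on `X_{t₂}`. -/
theorem genBy_genLocus (N : X.Modules) (t₁ t₂ : Γ(N, ⊤))
    (h₁ : IsAffineOpen (CohB1.genLocus N (LocFree.homOfSec N t₁))) :
    GenBy (CohB1.genLocus N (LocFree.homOfSec N t₁)) (CohB1.genLocus N (LocFree.homOfSec N t₂))
      (CohB1.genLocus N (LocFree.homOfSec N t₁) ⊓ CohB1.genLocus N (LocFree.homOfSec N t₂))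
      inf_le_left inf_le_right := by
  set U := CohB1.genLocus N (LocFree.homOfSec N t₁) with hU
  set V := CohB1.genLocus N (LocFree.homOfSec N t₂) with hV
  have hbU := bijective_smul_of_le_genLocus N t₁ U le_rfl
  have hbV := bijective_smul_of_le_genLocus N t₂ V le_rfl
  obtain ⟨g, hg⟩ := hbU.2 (res N (le_top : U ≤ ⊤) t₂)
  obtain ⟨h, hh⟩ := hbV.2 (res N (le_top : V ≤ ⊤) t₁)
  have hg : g • res N (le_top : U ≤ ⊤) t₁ = res N (le_top : U ≤ ⊤) t₂ := hg
  have hh : h • res N (le_top : V ≤ ⊤) t₂ = res N (le_top : V ≤ ⊤) t₁ := hh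
  have hgenU : ∀ (y : X) (hy : y ∈ U), IsGen N (res N (le_top : U ≤ ⊤) t₁) y hy := by
    intro y hy
    have h := isGen_of_mem_genLocus N _ hy
    rw [sec_homOfSec] at h
    exact (isGen_res N (homOfLE (le_top : U ≤ ⊤)) t₁ y hy).2 h
  have hO : V ⊓ U = X.basicOpen g :=
    genLocus_inf_eq_basicOpen N (LocFree.homOfSec N t₂) (res N (le_top : U ≤ ⊤) t₁) hgenU g (by
      rw [sec_homOfSec]; exact hg.symm)
  suffices H : ∀ (O' : X.Opens) (hOU : O' ≤ U) (hOV : O' ≤ V), O' = X.basicOpen g →
      GenBy U V O' hOU hOV by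
    exact H (U ⊓ V) _ _ (by rw [inf_comm]; exact hO)
  rintro O' hOU hOV rfl
  have hbO := bijective_smul_of_le_genLocus N t₂ (X.basicOpen g) hOV
  have hone : resO hOU g * resO hOV h = 1 := by
    apply hbO.1
    change (resO hOU g * resO hOV h) • res N (le_top : X.basicOpen g ≤ ⊤) t₂ =
      (1 : Γ(X, X.basicOpen g)) • res N (le_top : X.basicOpen g ≤ ⊤) t₂
    rw [one_smul, mul_smul]
    have e1 : resO hOV h • res N (le_top : X.basicOpen g ≤ ⊤) t₂ =
        res N (le_top : X.basicOpen g ≤ ⊤) t₁ := by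
      rw [← res_res N (le_top : V ≤ ⊤) hOV t₂, ← res_smul, hh, res_res]
    have e2 : resO hOU g • res N (le_top : X.basicOpen g ≤ ⊤) t₁ =
        res N (le_top : X.basicOpen g ≤ ⊤) t₂ := by
      rw [← res_res N (le_top : U ≤ ⊤) hOU t₁, ← res_smul, hg, res_res]
    rw [e1, e2]
  unfold GenBy
  rw [eq_top_iff]
  intro x _
  have hloc : IsLocalization.Away g Γ(X, X.basicOpen g) := h₁.isLocalization_basicOpen g
  obtain ⟨⟨a, ⟨_, n, rfl⟩⟩, hx⟩ := IsLocalization.surj (Submonoid.powers g) x
  have hx : x * resO hOU g ^ n = resO hOU a := by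
    have := hx
    simp only [map_pow] at this
    exact this
  have hx2 : x = resO hOU a * resO hOV h ^ n := by
    rw [← hx, mul_assoc, ← mul_pow, hone, one_pow, mul_one]
  rw [hx2]
  have ha : resO hOU a ∈ Subring.closure (Set.range (resO hOU) ∪ Set.range (resO hOV)) :=
    Subring.subset_closure (Or.inl ⟨a, rfl⟩)
  have hh' : resO hOV h ∈ Subring.closure (Set.range (resO hOU) ∪ Set.range (resO hOV)) :=
    Subring.subset_closure (Or.inr ⟨h, rfl⟩)
  exact Subring.mul_mem _ ha (Subring.pow_mem _ hh' n)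


/-- the same for sections of two different powers of `L`. -/
theorem genBy_genLocus_pow (L : X.Modules) (hL : PicF.IsInvertible L) (a b : ℕ)
    (s₁ : Coh.structureModule X ⟶ CohB1.tensorPow L (a + 1))
    (s₂ : Coh.structureModule X ⟶ CohB1.tensorPow L (b + 1))
    (h₁ : IsAffineOpen (CohB1.genLocus _ s₁)) :
    GenBy (CohB1.genLocus _ s₁) (CohB1.genLocus _ s₂)
      (CohB1.genLocus _ s₁ ⊓ CohB1.genLocus _ s₂) inf_le_left inf_le_right := by
  let N := CohB1.tensorPow L ((a + 1) * (b + 1))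
  let p₁ : Coh.structureModule X ⟶ N :=
    SecTwist.powHom s₁ (b + 1) ≫ (powMul L (a + 1) (b + 1)).hom
  let p₂ : Coh.structureModule X ⟶ N :=
    SecTwist.powHom s₂ (a + 1) ≫
      (powMul L (b + 1) (a + 1) ≪≫ powCast L (Nat.mul_comm (b + 1) (a + 1))).hom
  have hp₁ : CohB1.genLocus N p₁ = CohB1.genLocus _ s₁ := by
    rw [genLocus_comp_iso, genLocus_powHom _ (isInvertible_tensorPow L hL _)]
  have hp₂ : CohB1.genLocus N p₂ = CohB1.genLocus _ s₂ := by
    rw [genLocus_comp_iso, genLocus_powHom _ (isInvertible_tensorPow L hL _)]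
  have ht₁ : LocFree.homOfSec N (sec N p₁) = p₁ := homOfSec_sec N p₁
  have ht₂ : LocFree.homOfSec N (sec N p₂) = p₂ := homOfSec_sec N p₂
  have key := genBy_genLocus N (sec N p₁) (sec N p₂) (by rw [ht₁, hp₁]; exact h₁)
  rw [ht₁, ht₂] at key
  have aux : ∀ (U V U' V' : X.Opens) (hU : U = U') (hV : V = V'),
      GenBy U V (U ⊓ V) inf_le_left inf_le_right → GenBy U' V' (U' ⊓ V') inf_le_left inf_le_right := by
    rintro U V _ _ rfl rfl h; exact h
  exact aux _ _ _ _ hp₁ hp₂ key

/-- **EGA II 4.5.x**: a scheme covered by affine opens `X_s`, `s` sections of positive powers of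
one invertible module, is separated. -/
theorem isSeparated_of_cover_genLocus (L : X.Modules) (hL : PicF.IsInvertible L)
    (h : ∀ x : X, ∃ (n : ℕ) (s : Coh.structureModule X ⟶ CohB1.tensorPow L (n + 1)),
      x ∈ CohB1.genLocus _ s ∧ IsAffineOpen (CohB1.genLocus _ s)) :
    X.IsSeparated := by
  choose n s hx hs using h
  let f := terminal.from X
  have hΔ : IsClosedImmersion (pullback.diagonal f) := by
    refine isClosedImmersion_of_affine_cover (pullback.diagonal f)
      (fun p : X × X => box f (CohB1.genLocus _ (s p.1)) (CohB1.genLocus _ (s p.2)))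
      (fun p => isAffineOpen_box f _ _ (hs p.1) (hs p.2)) ?_ (fun p => ?_) (fun p => ?_)
    · rw [eq_top_iff]
      intro z _
      exact Opens.mem_iSup.2 ⟨(pullback.fst f f z, pullback.snd f f z), hx _, hx _⟩
    · rw [diagonal_preimage_box]
      exact isAffineOpen_genLocus_inf _ (isInvertible_tensorPow L hL _) (s p.1) (hs p.2)
    · exact diagonal_app_box_surjective f _ _
        (genBy_genLocus_pow L hL (n p.1) (n p.2) (s p.1) (s p.2) (hs p.1))
  exact ⟨⟨hΔ⟩⟩

end Groth.Agent.Helper13.Sep
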