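import Mathlib
import Groth.Agent.Lib.Helper13.IdealTwist
import Groth.Agent.Lib.Helper13.IntInv
import Groth.Agent.Lib.Helper13.ProjFormulaLF
import Groth.Agent.Lib.Helper13.PushInv5
import Groth.Agent.Lib.Helper13.PbInv
import Groth.Agent.Lib.Helper13.SerreCrit1
import Groth.Agent.Lib.Helper13.SerreCrit3
import Groth.Agent.Lib.Helper13.TwistSES
import Groth.Agent.Lib.Helper13.ToAbExact
import Groth.Agent.Lib.Helper13.PushFinite
import Groth.Agent.Lib.Helper13.GenLocusAffine
import Groth.Agent.Lib.Lead.KerFree2

/-!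
# Towards Serre's cohomological criterion of ampleness: local lemmas (helper13)
-/

set_option autoImplicit false
set_option linter.unusedSectionVars false
set_option linter.style.haveILetI false
universe u
open CategoryTheory CategoryTheory.Limits AlgebraicGeometry Opposite TopologicalSpace
open Groth.Agent.Helper13.QCoh Groth.Agent.Helper13.FinType Groth.Agent.Helper13.Inv
open Groth.Agent.Helper13.Tensor Groth.Agent.Helper13.GenLoc Groth.Agent.Helper13.VanishIdeal
open Groth.Agent.Helper13.SerreCrit Groth.Agent.Helper13.ToAbExact Groth.Agent.Helper13.TwistSES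

namespace Groth.Agent.Helper13.SerreAmple

variable {X : Scheme.{u}}

/-- an invertible module on a one-point scheme is trivial. -/
theorem nonempty_iso_structureModule_of_subsingleton (S : Scheme.{u}) [Subsingleton S]
    (N : S.Modules) (hN : PicF.IsInvertible N) : Nonempty (N ≅ Coh.structureModule S) := by
  by_cases hne : Nonempty S
  · obtain ⟨y₀⟩ := hne
    obtain ⟨U, hyU, e, he⟩ := (isInvertible_iff_exists_isGen N).1 hN y₀
    have hU : U = ⊤ := by
      ext y
      simp only [Opens.coe_top, Set.mem_univ, iff_true]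
      rw [Subsingleton.elim y y₀]
      exact hyU
    subst hU
    have hgl : CohB1.genLocus N (LocFree.homOfSec N e) = ⊤ := by
      ext y
      simp only [Opens.coe_top, Set.mem_univ, iff_true]
      change y ∈ CohB1.genLocus N (LocFree.homOfSec N e)
      rw [mem_genLocus_iff_isGen N _ hN, sec_homOfSec]
      exact he y trivial
    exact Groth.Agent.Helper13.IntInv.nonempty_iso_of_genLocus_eq_top N hN _ hgl
  · haveI : IsEmpty S := not_nonempty_iff.1 hne
    have hgl : CohB1.genLocus N (0 : Coh.structureModule S ⟶ N) = ⊤ := by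
      ext y
      exact isEmptyElim y
    exact Groth.Agent.Helper13.IntInv.nonempty_iso_of_genLocus_eq_top N hN _ hgl


/-- `κ(P)_* O ⊗ N ≅ κ(P)_* O` for an invertible module `N`. -/
theorem nonempty_iso_tensor_residue (P : X) (N : X.Modules) (hN : PicF.IsInvertible N) :
    Nonempty (CohB1.tensorMod ((Scheme.Modules.pushforward (X.fromSpecResidueField P)).obj
        (Coh.structureModule (Spec (X.residueField P)))) N ≅
      (Scheme.Modules.pushforward (X.fromSpecResidueField P)).obj
        (Coh.structureModule (Spec (X.residueField P)))) := by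
  have hE : FlatMod.IsFinLocFree N :=
    Groth.Agent.Helper13.PushInv.isFinLocFree_of_isInvertible _ hN
  have hN' := Groth.Agent.Helper13.PbInv.isInvertible_pullback (X.fromSpecResidueField P) N hN
  obtain ⟨triv⟩ := nonempty_iso_structureModule_of_subsingleton _ _ hN'
  exact ⟨(Groth.Agent.Helper13.ProjFormulaLF.νIso (X.fromSpecResidueField P) N hE).app
      (Coh.structureModule (Spec (X.residueField P))) ≪≫
    (Scheme.Modules.pushforward (X.fromSpecResidueField P)).mapIso (Tensor.lid _ ≪≫ triv)⟩


/-- a global section of an invertible module `N` mapped to `1` by some `ρ : N ⟶ κ(P)_* O`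
generates `N` at `P`. -/
theorem isGen_of_map_one (P : X) (N : X.Modules) (hN : PicF.IsInvertible N) (sN : Γ(N, ⊤))
    (ρ : N ⟶ (Scheme.Modules.pushforward (X.fromSpecResidueField P)).obj
      (Coh.structureModule (Spec (X.residueField P))))
    (hρ : ρ.app ⊤ sN = (1 : Γ(Spec (X.residueField P), X.fromSpecResidueField P ⁻¹ᵁ ⊤))) :
    IsGen N sN P trivial := by
  obtain ⟨U, hPU, e, he⟩ := (isInvertible_iff_exists_isGen N).1 hN P
  obtain ⟨W, hPW, hWU, hWtop, a, ha⟩ :=
    exists_eq_smul_of_isGen N e P hPU (he P hPU) (V := ⊤) trivial sN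
  let j := X.fromSpecResidueField P
  let E := (Scheme.Modules.pushforward j).obj (Coh.structureModule (Spec (X.residueField P)))
  -- apply `ρ` over `W`
  have hnat : ρ.app W (N.presheaf.map (homOfLE hWtop).op sN) =
      E.presheaf.map (homOfLE hWtop).op (ρ.app ⊤ sN) := by
    have h := ρ.mapPresheaf.naturality (homOfLE hWtop).op
    exact congr($h sN)
  have h1 : ρ.app W (N.presheaf.map (homOfLE hWtop).op sN) = (1 : Γ(Spec (X.residueField P), j ⁻¹ᵁ W)) := by
    rw [hnat, hρ]
    exact map_one ((Spec (X.residueField P)).presheaf.map (homOfLE (show j ⁻¹ᵁ W ≤ j ⁻¹ᵁ ⊤ from fun _ _ => trivial)).op).hom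
  rw [ha, Scheme.Modules.Hom.app_smul] at h1
  have h2 : j.app W a * (show Γ(Spec (X.residueField P), j ⁻¹ᵁ W) from
      ρ.app W (N.presheaf.map (homOfLE hWU).op e)) = 1 := h1
  have hunit : IsUnit (j.app W a) := IsUnit.of_mul_eq_one _ h2
  have hPa : P ∈ X.basicOpen a := by
    have h3 : j ⁻¹ᵁ X.basicOpen a = j ⁻¹ᵁ W := by
      rw [Scheme.preimage_basicOpen]
      exact Scheme.basicOpen_of_isUnit _ hunit
    have h4 : j default = P := Scheme.fromSpecResidueField_apply P default
    have h5 : (default : Spec (X.residueField P)) ∈ j ⁻¹ᵁ X.basicOpen a := by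
      rw [h3]
      change j default ∈ W
      rw [h4]
      exact hPW
    have h6 : j default ∈ X.basicOpen a := h5
    rwa [h4] at h6
  have hu : IsUnit (X.presheaf.germ W P hPW a) := (X.mem_basicOpen a P hPW).1 hPa
  have he' : IsGen N (N.presheaf.map (homOfLE hWU).op e) P hPW :=
    (isGen_res N (homOfLE hWU) e P hPW).2 (he P hPU)
  have hc : N.presheaf.germ ⊤ P trivial sN = X.presheaf.germ W P hPW a •
      N.presheaf.germ W P hPW (N.presheaf.map (homOfLE hWU).op e) := by
    rw [← Tensor.germ_smul, ← ha, TopCat.Presheaf.germ_res_apply]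
  exact (isGen_smul_germ_iff (N.presheaf.map (homOfLE hWU).op e) P hPW he'
    (U := ⊤) trivial sN _ hc).2 hu


/-- sections of `N` coming from `I_Z ⊗ N` generate nowhere on `Z`. -/
theorem not_isGen_mulHom {Zs : Scheme.{u}} (i : Zs ⟶ X) (N : X.Modules) (hN : PicF.IsInvertible N)
    (t : Γ(CohB1.tensorMod (idealMod i) N, ⊤)) (z : X) (hzi : z ∈ Set.range i) :
    ¬ IsGen N ((mulHom i (𝟙 (idealMod i)) N).app ⊤ t) z trivial := by
  intro hgen
  obtain ⟨W, hzW, e, he⟩ := (isInvertible_iff_exists_isGen N).1 hN z
  obtain ⟨c, hc, hce⟩ := stalkMap_mulHom_mem i (𝟙 _) e z hzW (he z hzW) hzi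
    ((CohB1.tensorMod (idealMod i) N).presheaf.germ ⊤ z trivial t)
  rw [stalkMap_germ] at hce
  have hu := (isGen_smul_germ_iff e z hzW (he z hzW) (U := ⊤) trivial _ c hce).1 hgen
  rw [IsLocalRing.mem_maximalIdeal, mem_nonunits_iff] at hc
  exact hc hu

/-- the structure module of a locally Noetherian scheme is coherent. -/
theorem isCoh_structureModule (X : Scheme.{u}) : Coh.IsCoh (Coh.structureModule X) :=
  ⟨isQuasicoherent_unit X, Groth.Agent.Helper13.GlobGen.isFiniteType_of_isInvertible _
    isInvertible_structureModule⟩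

/-- the pushforward of the structure module along a closed immersion is coherent. -/
theorem isCoh_pushforward_unit {Z : Scheme.{u}} (i : Z ⟶ X) [IsClosedImmersion i] :
    Coh.IsCoh ((Scheme.Modules.pushforward i).obj (Coh.structureModule Z)) := by
  have h := isCoh_structureModule Z
  haveI : (Coh.structureModule Z).IsQuasicoherent := h.1
  haveI : SheafOfModules.IsFiniteType (R := Z.ringCatSheaf) (Coh.structureModule Z) := h.2
  exact ⟨Groth.Agent.Helper13.QCohPush.isQuasicoherent_pushforward i _,
    (Groth.Agent.Helper13.PushFinite.isFiniteType_pushforward_iff i _).1 inferInstance⟩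

end Groth.Agent.Helper13.SerreAmple
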