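import Mathlib
import Groth.Agent.Lib.Helper13.FinProj5
import Groth.Agent.Lib.Helper13.GenLocus
import Groth.Agent.Lib.Helper13.Chow4
import Groth.Agent.Lib.Helper13.RelSerre
import Groth.Agent.Lib.Helper13.PnSerreUnifAmple
import Groth.Agent.Lib.Helper13.SepRing
import Groth.Agent.Lib.Helper13.SerreAmple1

universe u
open CategoryTheory CategoryTheory.Limits AlgebraicGeometry Opposite TopologicalSpace

namespace Groth.Agent.Helper13.FinProj

open Groth.Agent.Helper13.GenLoc Groth.Agent.Helper13.Inv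

theorem nontrivial_stalk_push {Z' Z : Scheme.{u}} (g : Z' ⟶ Z) (G : Z'.Modules) (t : Γ(G, ⊤))
    (η' : Z') (hgen : IsGen G t η' trivial) :
    Nontrivial (((Scheme.Modules.pushforward g).obj G).presheaf.stalk (g η')) := by
  let H := (Scheme.Modules.pushforward g).obj G
  let t' : H.presheaf.obj (op ⊤) := t
  refine ⟨⟨H.presheaf.germ ⊤ (g η') trivial t', 0, fun h0 => ?_⟩⟩
  have h1 : H.presheaf.germ ⊤ (g η') trivial t' = H.presheaf.germ ⊤ (g η') trivial 0 := by
    rw [h0, map_zero]
  obtain ⟨W, hW, iU, iV, hres⟩ := TopCat.Presheaf.germ_eq H.presheaf (U := ⊤) (V := ⊤) (g η') trivial trivial t' 0 h1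
  rw [map_zero] at hres
  have hres' : G.presheaf.map (homOfLE (le_top : g ⁻¹ᵁ W ≤ ⊤)).op t = 0 := hres
  have hg0 : G.presheaf.germ ⊤ η' trivial t = 0 := by
    have := TopCat.Presheaf.germ_res_apply G.presheaf (homOfLE (le_top : g ⁻¹ᵁ W ≤ ⊤)) η' hW t
    rw [← this, hres', map_zero]
  have hinj := hgen.1
  have : (1 : Z'.presheaf.stalk η') = 0 := by
    apply hinj
    show (1 : Z'.presheaf.stalk η') • G.presheaf.germ ⊤ η' trivial t =
      (0 : Z'.presheaf.stalk η') • G.presheaf.germ ⊤ η' trivial t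
    rw [hg0, smul_zero, smul_zero]
  exact one_ne_zero this

open Groth.Agent.Helper13.Tensor Groth.Agent.Helper13.Ample in
set_option maxHeartbeats 1600000 in
theorem hgen (A : Type u) [CommRing A] [IsNoetherianRing A] (X : Scheme.{u})
    [X.Over (Spec (CommRingCat.of A))] [IsProper (X ↘ Spec (CommRingCat.of A))]
    (Z : Scheme.{u}) (i : Z ⟶ X) [IsClosedImmersion i] [IsIntegral Z] :
    ∃ H : Z.Modules, Coh.IsCoh H ∧ Nontrivial (H.presheaf.stalk (genericPoint Z)) ∧
      ∀ n, Module.Finite A (Coh.HH X ((Scheme.Modules.pushforward i).obj H) n) := by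
  let S : Scheme.{u} := Spec (CommRingCat.of A)
  let fX : X ⟶ S := X ↘ Spec (CommRingCat.of A)
  let fZ : Z ⟶ S := i ≫ fX
  have hS := exists_isAmple_of_isAffine S
  haveI : IsProper fX := ‹IsProper (X ↘ Spec (CommRingCat.of A))›
  haveI : IsProper fZ := by show IsProper (i ≫ fX); infer_instance
  haveI : IsLocallyNoetherian S := inferInstanceAs (IsLocallyNoetherian (Spec (CommRingCat.of A)))
  haveI : IsLocallyNoetherian X := LocallyOfFiniteType.isLocallyNoetherian fX
  haveI : IsLocallyNoetherian Z := LocallyOfFiniteType.isLocallyNoetherian fZ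
  haveI : CompactSpace X := QuasiCompact.compactSpace_of_compactSpace fX
  haveI : CompactSpace Z := QuasiCompact.compactSpace_of_compactSpace fZ
  haveI : IsNoetherian Z := {}
  obtain ⟨Z', hZ', g, hg, N, α, hα, U, hU, s, hαeq, hs⟩ := Chow.weak_chow hS fZ
  haveI := hZ'
  haveI := hg
  haveI := hα
  haveI : IsProper (g ≫ fZ) := inferInstance
  haveI : IsProper α := by
    haveI : IsProper (α ≫ CohB1.ProjSpaceOver.toBase N S) := by rw [hαeq]; infer_instance
    exact IsProper.of_comp α (CohB1.ProjSpaceOver.toBase N S)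
  haveI : IsClosedImmersion α := IsClosedImmersion.of_isPreimmersion α α.isClosedMap.isClosed_range
  obtain ⟨-, L, hL⟩ := ((Groth.Agent.S1496.result hS (g ≫ fZ)).1).mp ⟨N, α, inferInstance, hαeq⟩
  have hLinv : PicF.IsInvertible L := hL.1
  letI : Z'.Over (Spec (CommRingCat.of A)) := ⟨g ≫ fZ⟩
  haveI : IsProper (Z' ↘ Spec (CommRingCat.of A)) := ‹IsProper (g ≫ fZ)›
  let h : Z' ⟶ X := g ≫ i
  haveI : IsProper h := by show IsProper (g ≫ i); infer_instance
  have haX : ∀ W : X.Opens, IsAffineOpen W → CohB1.IsAmple (L.restrict (h ⁻¹ᵁ W).ι) := by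
    intro W hW
    haveI := isAffineHom_ι_of_isSeparated fX W hW
    exact isAmple_restrict_preimage h L hL W hW
  have haZ : ∀ W : Z.Opens, IsAffineOpen W → CohB1.IsAmple (L.restrict (g ⁻¹ᵁ W).ι) := by
    intro W hW
    haveI := isAffineHom_ι_of_isSeparated fZ W hW
    exact isAmple_restrict_preimage g L hL W hW
  have hO' : Coh.IsCoh (Coh.structureModule Z') :=
    Groth.Agent.Helper13.SerreAmple.isCoh_structureModule Z'
  obtain ⟨n₀, hn₀⟩ := Groth.Agent.Helper13.RelSerre.rel_serre_vanishing h L hLinv haX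
    (Coh.structureModule Z') hO'
  obtain ⟨k, s₁, hs₁, -⟩ := hL.2.2 (genericPoint Z')
  let m : ℕ := (k + 1) * (n₀ + 1)
  have hm : n₀ ≤ m := by
    show n₀ ≤ (k + 1) * (n₀ + 1)
    nlinarith
  let p : Coh.structureModule Z' ⟶ CohB1.tensorPow L m :=
    SecTwist.powHom s₁ (n₀ + 1) ≫ (powMul L (k + 1) (n₀ + 1)).hom
  have hp : CohB1.genLocus _ p = CohB1.genLocus _ s₁ := by
    rw [genLocus_comp_iso, genLocus_powHom _ (isInvertible_tensorPow L hLinv _)]
  let G : Z'.Modules := CohB1.tensorMod (Coh.structureModule Z') (CohB1.tensorPow L m)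
  let p' : Coh.structureModule Z' ⟶ G := p ≫ (lid (CohB1.tensorPow L m)).inv
  have hp' : genericPoint Z' ∈ CohB1.genLocus G p' := by
    show genericPoint Z' ∈ CohB1.genLocus _ (p ≫ (lid (CohB1.tensorPow L m)).symm.hom)
    rw [genLocus_comp_iso, hp]
    exact hs₁
  have hG : Coh.IsCoh G :=
    Groth.Agent.Helper13.PnSerreUnif.isCoh_tensor_pow L hLinv _ hO' m
  refine ⟨(Scheme.Modules.pushforward g).obj G, isCoh_pushforward_of_isAmple g L haZ G hG, ?_, ?_⟩
  · -- generic stalk
    have hdom : DenseRange g := by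
      have hUd : Dense ((U : Z.Opens) : Set Z) := by
        obtain ⟨u⟩ := hU
        exact U.isOpen.dense ⟨u.1, u.2⟩
      refine hUd.mono ?_
      intro z hz
      refine ⟨s ⟨z, hz⟩, ?_⟩
      have := congrArg (fun k : (U : Scheme.{u}) ⟶ Z => k ⟨z, hz⟩) hs
      simpa using this
    have hη : g (genericPoint Z') = genericPoint Z := by
      have h1 := (genericPoint_spec Z').image g.continuous
      rw [Set.image_univ, hdom.closure_range] at h1
      exact h1.eq (genericPoint_spec Z)
    rw [← hη]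
    exact nontrivial_stalk_push g G (sec G p') (genericPoint Z') (isGen_of_mem_genLocus G p' hp')
  · intro n
    haveI : Module.Finite A (Coh.HH Z' G n) := finite_HH_of_isAmple A Z' L hL G hG n
    have hh : h ≫ (X ↘ Spec (CommRingCat.of A)) = Z' ↘ Spec (CommRingCat.of A) :=
      Category.assoc g i fX
    have h1 : Module.Finite A (Coh.HH X ((Scheme.Modules.pushforward h).obj G) n) :=
      finite_push_of_finite h A hh G n (fun q => hn₀ m hm (q + 1) (Nat.succ_pos q))
    exact Groth.Agent.Helper13.PnFin.finite_of_iso A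
      ((Scheme.Modules.pushforwardComp g i).app G).symm n h1

end Groth.Agent.Helper13.FinProj
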