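import Mathlib
import Groth.Agent.Lib.Helper13.ExtMain2
import Groth.Agent.Lib.Helper13.Qcqs

set_option autoImplicit false
universe v u
open CategoryTheory CategoryTheory.Limits AlgebraicGeometry Opposite TopologicalSpace Groth.Agent.Helper13.QCoh
open Groth.Agent.Helper13.FinType

namespace Groth.Agent.Helper13.Ext

variable {X : Scheme.{u}}

/-- an open immersion is quasi-compact if the intersections with affine opens are quasi-compact. -/
lemma quasiCompact_ι_of_forall (U : X.Opens)
    (h : ∀ V : X.Opens, IsAffineOpen V → IsCompact ((U ⊓ V : X.Opens) : Set X)) :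
    QuasiCompact U.ι := by
  rw [quasiCompact_iff_forall_isAffineOpen]
  intro V hV
  have h1 : (((U.ι ⁻¹ᵁ V : (U : Scheme.{u}).Opens)) : Set (U : Scheme.{u})) =
      U.ι ⁻¹' ((U ⊓ V : X.Opens) : Set X) := by
    ext y
    constructor
    · intro hy
      exact ⟨y.2, hy⟩
    · intro hy
      exact hy.2
  rw [h1]
  refine (U.ι.isOpenEmbedding.isInducing.isCompact_preimage_iff ?_).2 (h V hV)
  rw [Scheme.Opens.range_ι]
  exact fun y hy => hy.1

/-- in a locally Noetherian space, every subset of a quasi-compact open is quasi-compact. -/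
lemma isCompact_of_subset_of_locallyNoetherianSpace
    (hX : ∀ x : X, ∃ U : X.Opens, x ∈ U ∧ TopologicalSpace.NoetherianSpace (U : Set X))
    (W : Set X) (hW : IsCompact W) (t : Set X) (ht : t ⊆ W) : IsCompact t := by
  choose U hxU hU using hX
  obtain ⟨E, hE⟩ := hW.elim_finite_subcover (fun x : X => ((U x : X.Opens) : Set X))
    (fun x => (U x).2) (fun x _ => Set.mem_iUnion.2 ⟨x, hxU x⟩)
  have h1 : t = ⋃ x ∈ E, t ∩ (U x : Set X) := by
    ext y
    simp only [Set.mem_iUnion, Set.mem_inter_iff, exists_and_left, exists_prop]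
    constructor
    · intro hy
      have := hE (ht hy)
      simp only [Set.mem_iUnion, exists_prop] at this
      exact ⟨hy, this⟩
    · exact fun h => h.1
  rw [h1]
  refine E.finite_toSet.isCompact_biUnion (fun x _ => ?_)
  exact (noetherianSpace_set_iff (U x : Set X)).1 (hU x) _ Set.inter_subset_right

/-- **extension of finite type quasi-coherent modules**. -/
theorem exists_extension_of_module {L : Type v} [LinearOrder L] [WellFoundedLT L]
    (V : L → X.Opens) (hV : GoodCover V) (U : X.Opens)
    (hUV : ∀ l, IsCompact ((U ⊓ V l : X.Opens) : Set X)) [QuasiCompact U.ι]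
    (G : (U : Scheme.{u}).Modules) [G.IsQuasicoherent]
    [SheafOfModules.IsFiniteType (R := (U : Scheme.{u}).ringCatSheaf) G] :
    ∃ (G' : X.Modules), G'.IsQuasicoherent ∧
      SheafOfModules.IsFiniteType (R := X.ringCatSheaf) G' ∧ Nonempty (G'.restrict U.ι ≅ G) := by
  let F : X.Modules := (Scheme.Modules.pushforward U.ι).obj G
  haveI : F.IsQuasicoherent := Qcqs.isQuasicoherent_pushforward_of_qcqs U.ι G
  let e₀ : F.restrict U.ι ≅ G := asIso ((Scheme.Modules.restrictAdjunction U.ι).counit.app G)
  obtain ⟨G'', i', e, -, h2, h3, -⟩ := exists_extension_of_wellOrdered_cover V hV.1 hV.2.1 hV.2.2 U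
    hUV F e₀.inv
  exact ⟨G'', h2, h3, ⟨e⟩⟩

end Groth.Agent.Helper13.Ext
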