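import Mathlib
import Groth.Agent.Lib.Helper13.FinProj6
import Groth.Agent.Lib.Helper13.FinProj3
import Groth.Agent.Lib.Helper26.DevI
import Groth.Agent.Lib.Helper9.LocCohQC2
import Groth.Agent.Lib.Helper13.AcycEmbed

universe u
open CategoryTheory CategoryTheory.Limits AlgebraicGeometry Opposite TopologicalSpace

namespace Groth.Agent.Helper13.FinProj

set_option maxHeartbeats 800000 in
/-- **Finiteness of cohomology of coherent sheaves on a proper scheme over a Noetherian ring.** -/
theorem finite_HH_of_isProper (A : Type u) [CommRing A] [IsNoetherianRing A] (X : Scheme.{u})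
    [X.Over (Spec (CommRingCat.of A))] [IsProper (X ↘ Spec (CommRingCat.of A))]
    (M : X.Modules) (hM : Coh.IsCoh M) (n : ℕ) : Module.Finite A (Coh.HH X M n) := by
  by_cases hne : Nonempty X
  · haveI := hne
    haveI : IsLocallyNoetherian (Spec (CommRingCat.of A)) := inferInstance
    haveI : IsLocallyNoetherian X :=
      LocallyOfFiniteType.isLocallyNoetherian (X ↘ Spec (CommRingCat.of A))
    haveI : CompactSpace X :=
      QuasiCompact.compactSpace_of_compactSpace (X ↘ Spec (CommRingCat.of A))
    haveI : IsNoetherian X := {}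
    let K : ObjectProperty X.Modules := fun M => ∀ n, Module.Finite A (Coh.HH X M n)
    haveI : K.IsClosedUnderIsomorphisms :=
      ⟨fun {M M'} e h n => Groth.Agent.Helper13.PnFin.finite_of_iso A e n (h n)⟩
    refine Groth.Agent.Helper26.DevI.main10865 X K ?_ ?_ ?_ M hM n
    · intro S hS _ _ _
      refine ⟨fun h2 h3 => finite_HH_X₁ A S hS h2 h3, fun h1 h3 i => ?_⟩
      haveI := h1 i
      haveI := h3 i
      exact finite_HH_X₂ A S hS i
    · intro F d hd _ hK i
      haveI := hK i
      have hι : Sigma.ι (fun _ : Fin d => F) ⟨0, hd⟩ ≫ Sigma.desc (fun _ : Fin d => 𝟙 F) = 𝟙 F :=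
        Sigma.ι_desc _ _
      exact finite_of_retract A _ _ hι i
    · intro Z i _ _
      exact hgen A X Z i
  · haveI : IsEmpty X := not_nonempty_iff.mp hne
    haveI := Groth.Agent.Helper13.AcycEmbed.subsingleton_HH_of_isZero M
      (Groth.Agent.Helper9.LocCohQC.isZero_of_isEmpty M) n
    infer_instance

end Groth.Agent.Helper13.FinProj
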