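import Mathlib
import Groth.Prelude.Def_Coh
import Groth.Prelude.Def_CurvBase
import Groth.Agent.Lib.Helper26.LesDim
import Groth.Agent.Lib.Helper13.FinProj7
import Groth.Agent.Lib.Helper13.EulerAdd1

universe u
open CategoryTheory CategoryTheory.Limits AlgebraicGeometry Opposite TopologicalSpace

namespace Groth.Agent.Helper13.EulerAdd

open Groth.Agent.Helper26.LesDim Groth.Agent.Helper26.PnFin

variable (k : Type u) [Field k] {X : Scheme.{u}} [X.Over (Spec (CommRingCat.of k))]
variable (S : ShortComplex X.Modules) (hS : S.ShortExact)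

/-- dimension of the kernel of `H^i(X₁) → H^i(X₂)` -/
noncomputable def kerDim (i : ℕ) : ℕ :=
  Module.finrank k (LinearMap.ker (Canon.HHlin k S.f i))

include hS in
theorem degree_identity (i : ℕ) [FiniteDimensional k (Coh.HH X S.X₁ i)]
    [FiniteDimensional k (Coh.HH X S.X₂ i)] [FiniteDimensional k (Coh.HH X S.X₃ i)] :
    Module.finrank k (Coh.HH X S.X₁ i) + Module.finrank k (Coh.HH X S.X₃ i) =
      Module.finrank k (Coh.HH X S.X₂ i) + kerDim k S i + kerDim k S (i + 1) := by
  have h1 : LinearMap.range (Canon.HHlin k S.f i) = LinearMap.ker (Canon.HHlin k S.g i) := by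
    ext y
    constructor
    · rintro ⟨x, rfl⟩
      exact HHlin_g_f k S i x
    · intro hy
      exact exact₂ k S hS i y hy
  have h2 : LinearMap.range (Canon.HHlin k S.g i) = LinearMap.ker (deltaLin k S hS i) := by
    ext z
    constructor
    · rintro ⟨y, rfl⟩
      exact deltaLin_g k S hS i y
    · intro hz
      exact deltaLin_exact k S hS i z hz
  have h3 : LinearMap.range (deltaLin k S hS i) = LinearMap.ker (Canon.HHlin k S.f (i + 1)) := by
    ext x
    constructor
    · rintro ⟨z, rfl⟩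
      exact f_deltaLin k S hS i z
    · intro hx
      exact exact₁ k S hS i x hx
  have e1 := LinearMap.finrank_range_add_finrank_ker (Canon.HHlin k S.f i)
  have e2 := LinearMap.finrank_range_add_finrank_ker (Canon.HHlin k S.g i)
  have e3 := LinearMap.finrank_range_add_finrank_ker (deltaLin k S hS i)
  rw [h3, ← h2] at e3
  rw [← h1] at e2
  unfold kerDim
  omega

theorem euler_eq_sum (M : X.Modules) (N : ℕ) (hN : ∀ p, N ≤ p → Subsingleton (Coh.HH X M p)) :
    Curv2.euler k X M =
      ∑ i ∈ Finset.range N, (-1 : ℤ) ^ i * (Module.finrank k (Coh.HH X M i) : ℤ) := by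
  unfold Curv2.euler
  apply finsum_eq_sum_of_support_subset
  intro i hi
  simp only [Function.mem_support] at hi
  by_contra hlt
  simp only [Finset.coe_range, Set.mem_Iio, not_lt] at hlt
  haveI := hN i hlt
  exact hi (by rw [Module.finrank_zero_of_subsingleton]; simp)

theorem telescope (a : ℕ → ℤ) (N : ℕ) :
    ∑ i ∈ Finset.range N, (-1 : ℤ) ^ i * (a i + a (i + 1)) = a 0 - (-1) ^ N * a N := by
  induction N with
  | zero => simp
  | succ n ih =>
    rw [Finset.sum_range_succ, ih, pow_succ]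
    ring

include hS in
theorem euler_additive [IsProper (X ↘ Spec (CommRingCat.of k))]
    (h₁ : Coh.IsCoh S.X₁) (h₂ : Coh.IsCoh S.X₂) (h₃ : Coh.IsCoh S.X₃) :
    Curv2.euler k X S.X₂ = Curv2.euler k X S.X₁ + Curv2.euler k X S.X₃ := by
  haveI : CompactSpace X :=
    QuasiCompact.compactSpace_of_compactSpace (X ↘ Spec (CommRingCat.of k))
  obtain ⟨N, hN⟩ := exists_bound (X ↘ Spec (CommRingCat.of k))
  haveI := h₁.1
  haveI := h₂.1
  haveI := h₃.1
  rw [euler_eq_sum k S.X₁ N (fun p hp => hN S.X₁ p hp),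
    euler_eq_sum k S.X₂ N (fun p hp => hN S.X₂ p hp),
    euler_eq_sum k S.X₃ N (fun p hp => hN S.X₃ p hp)]
  have key : ∀ i : ℕ, (Module.finrank k (Coh.HH X S.X₁ i) : ℤ) +
      (Module.finrank k (Coh.HH X S.X₃ i) : ℤ) =
      (Module.finrank k (Coh.HH X S.X₂ i) : ℤ) +
        ((kerDim k S i : ℤ) + (kerDim k S (i + 1) : ℤ)) := by
    intro i
    haveI : FiniteDimensional k (Coh.HH X S.X₁ i) :=
      Groth.Agent.Helper13.FinProj.finite_HH_of_isProper k X S.X₁ h₁ i
    haveI : FiniteDimensional k (Coh.HH X S.X₂ i) :=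
      Groth.Agent.Helper13.FinProj.finite_HH_of_isProper k X S.X₂ h₂ i
    haveI : FiniteDimensional k (Coh.HH X S.X₃ i) :=
      Groth.Agent.Helper13.FinProj.finite_HH_of_isProper k X S.X₃ h₃ i
    have := degree_identity k S hS i
    omega
  have hsum : ∑ i ∈ Finset.range N, (-1 : ℤ) ^ i * (Module.finrank k (Coh.HH X S.X₁ i) : ℤ) +
      ∑ i ∈ Finset.range N, (-1 : ℤ) ^ i * (Module.finrank k (Coh.HH X S.X₃ i) : ℤ) =
      ∑ i ∈ Finset.range N, (-1 : ℤ) ^ i * (Module.finrank k (Coh.HH X S.X₂ i) : ℤ) +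
      ∑ i ∈ Finset.range N, (-1 : ℤ) ^ i * ((kerDim k S i : ℤ) + (kerDim k S (i + 1) : ℤ)) := by
    rw [← Finset.sum_add_distrib, ← Finset.sum_add_distrib]
    apply Finset.sum_congr rfl
    intro i _
    rw [← mul_add, ← mul_add, key i]
  rw [telescope (fun i => (kerDim k S i : ℤ)) N] at hsum
  have ha0 : kerDim k S 0 = 0 := by
    unfold kerDim
    rw [LinearMap.ker_eq_bot.mpr (HHlin_f_injective_zero k S hS), finrank_bot]
  have haN : kerDim k S N = 0 := by
    unfold kerDim
    haveI := hN S.X₁ N le_rfl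
    exact Module.finrank_zero_of_subsingleton
  simp only [ha0, haN, Nat.cast_zero, mul_zero, sub_zero, add_zero] at hsum
  linarith

end Groth.Agent.Helper13.EulerAdd
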