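import Mathlib
import Groth.Prelude.Def_Coh
import Groth.Prelude.Def_CohB1
import Groth.Prelude.Def_CohTop
import Groth.Agent.Lib.Helper13.ProfiniteAcyc
import Groth.Agent.Lib.Helper13.ColimSec
import Groth.Agent.Lib.Helper24.Flasque
import Groth.Agent.S0020

universe u
set_option linter.unusedSectionVars false
open CategoryTheory CategoryTheory.Limits Opposite TopologicalSpace AlgebraicGeometry

namespace Groth.Agent.Helper13.DiscSupp

open Groth.Agent.Helper13.ProfiniteAcyc Groth.Agent.Helper13.ColimSec

variable {X : Scheme.{u}} (M : X.Modules)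

/-- sections over an open disjoint from the support vanish -/
lemma subsingleton_of_disjoint_support (W : X.Opens) (hW : ∀ x ∈ W, x ∉ CohB1.support M) :
    Subsingleton ((Coh.toAb M).obj.obj (op W)) := by
  refine ⟨fun a b => ?_⟩
  apply TopCat.Presheaf.section_ext ⟨M.presheaf, M.isSheaf⟩ W
  intro x hx
  have hs : Subsingleton (M.presheaf.stalk x) := by
    have := hW x hx
    simpa [CohB1.support] using this
  exact Subsingleton.elim _ _

/-- in a Noetherian quasi-sober space, a closed set all of whose points are closed is finite -/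
lemma finite_of_closed_points {α : Type*} [TopologicalSpace α] [NoetherianSpace α] [QuasiSober α]
    (Y : Set α) (hY : IsClosed Y) (h0 : ∀ y ∈ Y, IsClosed ({y} : Set α)) : Y.Finite := by
  obtain ⟨S, hSf, hSc, hSi, hSU⟩ := NoetherianSpace.exists_finite_set_isClosed_irreducible hY
  rw [hSU]
  refine hSf.sUnion fun t ht => ?_
  obtain ⟨η, hη⟩ := QuasiSober.sober (hSi t ht) (hSc t ht)
  have hmem : η ∈ t := hη.mem
  have hcl : IsClosed ({η} : Set α) := h0 _ (hSU ▸ Set.mem_sUnion_of_mem hmem ht)
  have : t = {η} := by
    have h := hη.def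
    rw [hcl.closure_eq] at h
    exact h.symm
  rw [this]
  exact Set.finite_singleton _

lemma isClosed_preimage_val_of_subset {α : Type*} [TopologicalSpace α] (S : Set α)
    [NoetherianSpace S] [QuasiSober S] (T A : Set α) (hT : IsClosed T)
    (h0 : ∀ x ∈ T, IsClosed ({x} : Set α)) (hA : A ⊆ T) :
    IsClosed ((Subtype.val : S → α) ⁻¹' A) := by
  have hpt : ∀ y : S, y.1 ∈ T → IsClosed ({y} : Set S) := by
    intro y hy
    have h1 := (h0 y.1 hy).preimage (continuous_subtype_val (p := fun x => x ∈ S))
    have h2 : ({y} : Set S) = (Subtype.val : S → α) ⁻¹' {y.1} := by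
      ext z
      rw [Set.mem_preimage, Set.mem_singleton_iff, Set.mem_singleton_iff, Subtype.ext_iff]
    rw [h2]
    exact h1
  have hfin : ((Subtype.val : S → α) ⁻¹' T).Finite := by
    apply finite_of_closed_points _ (hT.preimage continuous_subtype_val)
    intro y hy
    exact hpt y hy
  have hfinA : ((Subtype.val : S → α) ⁻¹' A).Finite :=
    hfin.subset (Set.preimage_mono hA)
  have h3 : ((Subtype.val : S → α) ⁻¹' A) =
      ⋃ a ∈ ((Subtype.val : S → α) ⁻¹' A), {a} := by
    ext z
    simp
  rw [h3]
  apply hfinA.isClosed_biUnion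
  intro y hy
  exact hpt y (hA hy)

/-- every subset of the support is closed -/
lemma isClosed_of_subset_support [IsLocallyNoetherian X] (hM : CohB1.IsFT M)
    (h0 : ∀ x ∈ CohB1.support M, IsClosed ({x} : Set X)) (A : Set X) (hA : A ⊆ CohB1.support M) :
    IsClosed A := by
  have hT : IsClosed (CohB1.support M) := Groth.Agent.S0020.result X M hM
  rw [(IsOpenCover.mk (iSup_affineOpens_eq_top X)).isClosed_iff_coe_preimage]
  intro U
  obtain ⟨V, hV⟩ := U
  haveI : IsNoetherianRing Γ(X, V) := IsLocallyNoetherian.component_noetherian ⟨V, hV⟩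
  have hN : NoetherianSpace (V : Set X) := noetherianSpace_of_isAffineOpen V hV
  have hQ : QuasiSober (V : Set X) := inferInstanceAs (QuasiSober (V : Scheme.{u}))
  exact @isClosed_preimage_val_of_subset X _ (V : Set X) hN hQ _ A hT h0 hA

/-- a finite type module on a locally Noetherian scheme whose support consists of closed points is flasque -/
theorem isFlasque_of_discrete_support [IsLocallyNoetherian X] (hM : CohB1.IsFT M)
    (h0 : ∀ x ∈ CohB1.support M, IsClosed ({x} : Set X)) :
    TopCat.Sheaf.IsFlasque (X := X.toTopCat) (Coh.toAb M) where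
  epi {U V} i := by
    rw [AddCommGrpCat.epi_iff_surjective]
    intro s
    have hAcl : IsClosed (CohB1.support M ∩ (V.unop).1) :=
      isClosed_of_subset_support M hM h0 _ Set.inter_subset_left
    let W' : Opens X.toTopCat :=
      ⟨(U.unop).1 \ (CohB1.support M ∩ (V.unop).1), U.unop.2.sdiff hAcl⟩
    have hle : V.unop ≤ U.unop := i.unop.le
    have hW'le : W' ≤ U.unop := fun x hx => hx.1
    have hcov : U.unop ≤ V.unop ⊔ W' := by
      intro x hx
      by_cases hxV : x ∈ V.unop
      · exact Or.inl hxV
      · exact Or.inr ⟨hx, fun h => hxV h.2⟩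
    have hsub : Subsingleton ((Coh.toAb M).obj.obj (op (V.unop ⊓ W'))) := by
      apply subsingleton_of_disjoint_support
      intro x hx hxT
      exact hx.2.2 ⟨hxT, hx.1⟩
    obtain ⟨t, ht, -⟩ := exists_glue₂ (X := X.toTopCat) (Coh.toAb M) hle hW'le hcov s 0
      (Subsingleton.elim _ _)
    refine ⟨t, ?_⟩
    have hi : i = (homOfLE hle).op := Subsingleton.elim _ _
    rw [hi]
    exact ht

end Groth.Agent.Helper13.DiscSupp
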