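import Mathlib
import Groth.Prelude.Def_Curv2
import Groth.Agent.Lib.Helper13.CurveDeg1
import Groth.Agent.Lib.Helper13.EulerAdd2
import Groth.Agent.Lib.Helper13.QCohKer
import Groth.Agent.Lib.Helper13.FinTypeEpi
import Groth.Agent.Lib.Helper13.InvQCoh
import Groth.Agent.Lib.Helper13.GlobGen
import Groth.Agent.S0020
import Groth.Agent.S1526
import Groth.Agent.S1527

set_option autoImplicit false
universe u
open CategoryTheory CategoryTheory.Limits AlgebraicGeometry Opposite TopologicalSpace

namespace Groth.Agent.Helper13.CurveDeg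

/-- a proper closed subset of an irreducible space of dimension at most one has dimension at most
zero. -/
theorem dim_le_zero_of_closed_ne_univ {T : Type*} [TopologicalSpace T] [IrreducibleSpace T]
    (hdim : topologicalKrullDim T ≤ 1) (Z : Set T) (hZ : IsClosed Z) (hne : Z ≠ Set.univ) :
    topologicalKrullDim Z ≤ 0 := by
  unfold topologicalKrullDim at hdim ⊢
  rw [Order.krullDim_nonpos_iff_forall_isMin]
  intro B A hAB
  have hind : Topology.IsInducing (Subtype.val : Z → T) := Topology.IsInducing.subtypeVal
  have hmono := IrreducibleCloseds.map_strictMono_of_isInducing hind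
  have hX := Order.krullDim_le_one_iff.mp hdim
    (IrreducibleCloseds.map (Subtype.val : Z → T) hind.continuous B)
  let Top : IrreducibleCloseds T :=
    ⟨Set.univ, IrreducibleSpace.isIrreducible_univ T, isClosed_univ⟩
  have hsub : (IrreducibleCloseds.map (Subtype.val : Z → T) hind.continuous B : Set T) ⊆ Z := by
    rw [IrreducibleCloseds.coe_map]
    apply closure_minimal _ hZ
    rintro _ ⟨z, -, rfl⟩
    exact z.2
  have hle : IrreducibleCloseds.map (Subtype.val : Z → T) hind.continuous B ≤ Top :=
    fun x _ => Set.mem_univ x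
  have hnle : ¬ Top ≤ IrreducibleCloseds.map (Subtype.val : Z → T) hind.continuous B := by
    intro h
    apply hne
    apply Set.eq_univ_of_univ_subset
    exact fun x hx => hsub (h hx)
  rcases hX with hmin | hmax
  · have h1 := hmono.monotone hAB
    have h2 := hmin h1
    have h3 : A = B := IrreducibleCloseds.map_injective_of_isInducing hind (le_antisymm h1 h2)
    rw [h3]
  · exact absurd (hmax hle) hnle

section Curve

open Groth.Agent.Helper13.QCoh

variable (k : Type u) [Field k] (X : Scheme.{u}) [X.Over (Spec (CommRingCat.of k))]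
  [IsIntegral X] [IsProper (X ↘ Spec (CommRingCat.of k))]
  (N L : X.Modules) (hN : PicF.IsInvertible N) (hL : PicF.IsInvertible L) (φ : N ⟶ L)

theorem isCoh_of_isInvertible {Y : Scheme.{u}} (M : Y.Modules) (hM : PicF.IsInvertible M) :
    Coh.IsCoh M :=
  ⟨Groth.Agent.Helper13.Inv.isQuasicoherent_of_isInvertible M hM,
    Groth.Agent.Helper13.GlobGen.isFiniteType_of_isInvertible M hM⟩

include hN hL in
theorem isCoh_cokernel : Coh.IsCoh (cokernel φ) := by
  haveI := (isCoh_of_isInvertible N hN).1
  haveI := (isCoh_of_isInvertible L hL).1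
  haveI := (isCoh_of_isInvertible L hL).2
  exact ⟨Groth.Agent.Helper13.QCohLocal.isQuasicoherent_cokernel φ,
    Groth.Agent.Helper13.FinType.isFiniteType_of_epi (cokernel.π φ)⟩

include hN hL in
theorem dim_support_cokernel (hdim : topologicalKrullDim X = 1) (hφ : φ ≠ 0) :
    topologicalKrullDim (CohB1.support (cokernel φ)) ≤ 0 := by
  haveI : IrreducibleSpace X := inferInstance
  refine dim_le_zero_of_closed_ne_univ hdim.le _
    (Groth.Agent.S0020.result X _ (isCoh_cokernel X N L hN hL φ).2) ?_
  intro h
  apply genericPoint_notMem_support_cokernel N L hN hL φ hφ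
  rw [h]
  trivial

include hN hL in
theorem euler_eq (hdim : topologicalKrullDim X = 1) (hφ : φ ≠ 0) :
    Curv2.euler k X L =
      Curv2.euler k X N + (Module.finrank k (Coh.HH X (cokernel φ) 0) : ℤ) := by
  haveI := mono_of_ne_zero N L hN hL φ hφ
  let S : ShortComplex X.Modules := ShortComplex.mk φ (cokernel.π φ) (cokernel.condition φ)
  have hS : S.ShortExact :=
    ShortComplex.ShortExact.mk' (ShortComplex.exact_of_g_is_cokernel _ (cokernelIsCokernel φ))
      (inferInstanceAs (Mono φ)) (inferInstanceAs (Epi (cokernel.π φ)))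
  have hQ := isCoh_cokernel X N L hN hL φ
  have hQd := dim_support_cokernel X N L hN hL φ hdim hφ
  have h1 := Groth.Agent.Helper13.EulerAdd.euler_additive k S hS (isCoh_of_isInvertible N hN)
    (isCoh_of_isInvertible L hL) hQ
  have h2 := Groth.Agent.Helper13.EulerAdd.euler_eq_sum k (cokernel φ) 1
    (fun p hp => Groth.Agent.S1526.result k X (cokernel φ) hQ hQd p hp)
  rw [Finset.sum_range_one, pow_zero, one_mul] at h2
  have h1' : Curv2.euler k X L = Curv2.euler k X N + Curv2.euler k X (cokernel φ) := h1
  rw [h1', h2]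

include hN hL in
theorem deg_eq (hdim : topologicalKrullDim X = 1) (hφ : φ ≠ 0) :
    Curv2.deg k X L 1 =
      Curv2.deg k X N 1 + (Module.finrank k (Coh.HH X (cokernel φ) 0) : ℤ) := by
  unfold Curv2.deg
  rw [euler_eq k X N L hN hL φ hdim hφ]
  ring

include hN hL in
theorem isIso_of_finrank_zero (hdim : topologicalKrullDim X = 1) (hφ : φ ≠ 0)
    (h0 : Module.finrank k (Coh.HH X (cokernel φ) 0) = 0) : IsIso φ := by
  haveI := mono_of_ne_zero N L hN hL φ hφ
  have hQ := isCoh_cokernel X N L hN hL φ
  have hQd := dim_support_cokernel X N L hN hL φ hdim hφ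
  haveI : Module.Finite k (Coh.HH X (cokernel φ) 0) :=
    Groth.Agent.Helper13.FinProj.finite_HH_of_isProper k X _ hQ 0
  haveI hsub : Subsingleton (Coh.HH X (cokernel φ) 0) := Module.finrank_zero_iff.mp h0
  have hΓ : Subsingleton Γ(cokernel φ, ⊤) :=
    (Sheaf.H.equiv₀ (Coh.toAb (cokernel φ)) (T := (⊤ : Opens X))
      isTerminalTop).symm.injective.subsingleton
  have hgg := (Groth.Agent.Helper13.GlobGen.isGloballyGenerated_iff (cokernel φ)).1
    (Groth.Agent.S1527.result k X (cokernel φ) hQ hQd)
  have hz : IsZero (cokernel φ) := by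
    rw [isZero_iff_stalk]
    intro y
    have h1 := hgg y
    unfold Groth.Agent.Helper13.GlobGen.GGAt at h1
    have h2 : (Set.range fun t : Γ(cokernel φ, ⊤) =>
        (cokernel φ).presheaf.germ ⊤ y trivial t) ⊆ {0} := by
      rintro _ ⟨t, rfl⟩
      have ht : t = 0 := Subsingleton.elim t 0
      show (cokernel φ).presheaf.germ ⊤ y trivial t ∈ ({0} : Set _)
      rw [ht, map_zero]
      rfl
    have h3 : (⊤ : Submodule (X.presheaf.stalk y) ((cokernel φ).presheaf.stalk y)) ≤ ⊥ := by
      rw [← h1, Submodule.span_le]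
      intro m hm
      have := h2 hm
      simpa using this
    refine ⟨fun a b => ?_⟩
    have ha : a ∈ (⊥ : Submodule (X.presheaf.stalk y) ((cokernel φ).presheaf.stalk y)) :=
      h3 trivial
    have hb : b ∈ (⊥ : Submodule (X.presheaf.stalk y) ((cokernel φ).presheaf.stalk y)) :=
      h3 trivial
    rw [Submodule.mem_bot] at ha hb
    rw [ha, hb]
  haveI : Epi φ := Abelian.epi_of_cokernel_π_eq_zero φ (hz.eq_of_tgt _ _)
  exact isIso_of_mono_of_epi φ

end Curve

end Groth.Agent.Helper13.CurveDeg
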