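import Mathlib
import Groth.Prelude.Def_Curv2
import Groth.Agent.Lib.Helper13.CurveDeg2

set_option autoImplicit false
universe u
open CategoryTheory CategoryTheory.Limits AlgebraicGeometry Opposite TopologicalSpace

namespace Groth.Agent.Helper13.CurveDeg

variable (k : Type u) [Field k] (X : Scheme.{u}) [X.Over (Spec (CommRingCat.of k))]
  [IsIntegral X] [IsProper (X ↘ Spec (CommRingCat.of k))]

theorem deg_structureModule : Curv2.deg k X (Coh.structureModule X) 1 = 0 := by
  unfold Curv2.deg
  simp

theorem main1521 (hdim : topologicalKrullDim X = 1)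
    (N L : X.Modules) (hN : PicF.IsInvertible N) (hL : PicF.IsInvertible L) (φ : N ⟶ L)
    (hφ : φ ≠ 0) :
    Curv2.deg k X N 1 ≤ Curv2.deg k X L 1 ∧
      (Curv2.deg k X N 1 = Curv2.deg k X L 1 → IsIso φ) := by
  have h := deg_eq k X N L hN hL φ hdim hφ
  refine ⟨by rw [h]; exact le_add_of_nonneg_right (Int.natCast_nonneg _), fun heq => ?_⟩
  apply isIso_of_finrank_zero k X N L hN hL φ hdim hφ
  have : (Module.finrank k (Coh.HH X (cokernel φ) 0) : ℤ) = 0 := by linarith
  exact_mod_cast this

theorem main1518 (hdim : topologicalKrullDim X = 1)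
    (L : X.Modules) (hL : PicF.IsInvertible L) (s : Coh.structureModule X ⟶ L) (hs : s ≠ 0) :
    0 ≤ Curv2.deg k X L 1 := by
  have h := (main1521 k X hdim (Coh.structureModule X) L
    Groth.Agent.Helper13.Inv.isInvertible_structureModule hL s hs).1
  rwa [deg_structureModule] at h

theorem main1520 (hdim : topologicalKrullDim X = 1)
    (L : X.Modules) (hL : PicF.IsInvertible L) (s : Coh.structureModule X ⟶ L) (hs : s ≠ 0)
    (hdeg : Curv2.deg k X L 1 ≤ 0) :
    Nonempty (L ≅ Coh.structureModule X) := by
  have h0 := main1518 k X hdim L hL s hs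
  have h := (main1521 k X hdim (Coh.structureModule X) L
    Groth.Agent.Helper13.Inv.isInvertible_structureModule hL s hs).2
  rw [deg_structureModule] at h
  haveI := h (le_antisymm h0 hdeg)
  exact ⟨(asIso s).symm⟩

theorem main1519 (hdim : topologicalKrullDim X = 1)
    (L : X.Modules) (hL : PicF.IsInvertible L) (s : Coh.structureModule X ⟶ L) (hs : s ≠ 0)
    (x : X) (hx : x ∉ CohB1.genLocus L s) :
    0 < Curv2.deg k X L 1 := by
  have h0 := main1518 k X hdim L hL s hs
  rcases h0.lt_or_eq with h | h
  · exact h
  · exfalso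
    have h' := (main1521 k X hdim (Coh.structureModule X) L
      Groth.Agent.Helper13.Inv.isInvertible_structureModule hL s hs).2
    rw [deg_structureModule] at h'
    haveI := h' h
    apply hx
    have htop : (⊤ : X.Opens) ≤ CohB1.genLocus L s := by
      unfold CohB1.genLocus
      apply le_sSup
      show IsIso ((Scheme.Modules.restrictFunctor (⊤ : X.Opens).ι).map s)
      infer_instance
    exact htop trivial

end Groth.Agent.Helper13.CurveDeg
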