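import Mathlib
import Groth.Prelude.Def_Curv2
import Groth.Agent.Lib.Helper13.CurveDeg3
import Groth.Agent.Lib.Helper13.DiscSupp
import Groth.Agent.Lib.Helper13.EulerAdd2
import Groth.Agent.Lib.Helper9.AffStrat
import Groth.Agent.Lib.Helper9.DiscFlasque
import Groth.Agent.Lib.Helper24.Flasque

set_option autoImplicit false
universe u
open CategoryTheory CategoryTheory.Limits AlgebraicGeometry Opposite TopologicalSpace

namespace Groth.Agent.Helper13.CurveVan

/-- a quasi-compact locally noetherian scheme all of whose points are closed has vanishing higher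
cohomology (its space is finite discrete, so all sheaves are flasque). -/
theorem HH_subsingleton_of_closed_points (Y : Scheme.{u}) [CompactSpace Y] [IsLocallyNoetherian Y]
    (h0 : ∀ y : Y, IsClosed ({y} : Set Y)) (G : Y.Modules) (q : ℕ) (hq : 0 < q) :
    Subsingleton (Coh.HH Y G q) := by
  haveI : IsNoetherian Y := ⟨⟩
  haveI : NoetherianSpace Y := inferInstance
  have hfin : (Set.univ : Set Y).Finite :=
    Groth.Agent.Helper13.DiscSupp.finite_of_closed_points Set.univ isClosed_univ
      (fun y _ => h0 y)
  haveI : Finite Y := Set.finite_univ_iff.1 hfin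
  haveI : T1Space Y := ⟨h0⟩
  haveI : DiscreteTopology Y := inferInstance
  haveI : DiscreteTopology Y.toTopCat := ‹DiscreteTopology Y›
  obtain ⟨n, rfl⟩ : ∃ n, q = n + 1 := ⟨q - 1, by omega⟩
  exact Groth.Agent.Helper24.Flasque.H_succ_subsingleton (X := Y.toTopCat) n (Coh.toAb G)
    (Groth.Agent.Helper9.DiscFlasque.isFlasque_of_discrete _)

end Groth.Agent.Helper13.CurveVan
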