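import Mathlib
import Groth.Prelude.Def_Curv2
import Groth.Agent.Lib.Helper13.CurveVan1
import Groth.Agent.Lib.Helper13.FinProj5

set_option autoImplicit false
universe u
open CategoryTheory CategoryTheory.Limits AlgebraicGeometry Opposite TopologicalSpace

namespace Groth.Agent.Helper13.CurveVan

lemma isClosed_singleton_of_dim_le_zero {Y : Type*} [TopologicalSpace Y] [T0Space Y]
    (h : topologicalKrullDim Y ≤ 0) (y : Y) : IsClosed ({y} : Set Y) := by
  have hmin := (Order.krullDim_nonpos_iff_forall_isMin (α := IrreducibleCloseds Y)).1 h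
  have hcl : closure ({y} : Set Y) = {y} := by
    apply Set.Subset.antisymm _ subset_closure
    intro z hz
    let a : IrreducibleCloseds Y := ⟨closure {z}, isIrreducible_singleton.closure, isClosed_closure⟩
    let b : IrreducibleCloseds Y := ⟨closure {y}, isIrreducible_singleton.closure, isClosed_closure⟩
    have hab : a ≤ b := by
      show closure {z} ⊆ closure {y}
      exact closure_minimal (Set.singleton_subset_iff.2 hz) isClosed_closure
    have hba : b ≤ a := hmin b hab
    have hy : y ∈ closure ({z} : Set Y) := hba (subset_closure (Set.mem_singleton y))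
    have h1 : z ⤳ y := specializes_iff_mem_closure.2 hy
    have h2 : y ⤳ z := specializes_iff_mem_closure.2 hz
    exact (h2.antisymm h1).eq.symm
  rw [← hcl]
  exact isClosed_closure

/-- in an irreducible space of dimension at most one, points of a proper closed subset are
closed. -/
lemma isClosed_singleton_of_mem_closed {T : Type*} [TopologicalSpace T] [IrreducibleSpace T]
    [T0Space T] (hdim : topologicalKrullDim T ≤ 1) (Z : Set T) (hZ : IsClosed Z)
    (hne : Z ≠ Set.univ) (x : T) (hx : x ∈ Z) : IsClosed ({x} : Set T) := by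
  have hd := Groth.Agent.Helper13.CurveDeg.dim_le_zero_of_closed_ne_univ hdim Z hZ hne
  have h1 := isClosed_singleton_of_dim_le_zero hd ⟨x, hx⟩
  have h2 := hZ.isClosedEmbedding_subtypeVal.isClosedMap _ h1
  simpa using h2

variable (k : Type u) [Field k] (X : Scheme.{u}) [X.Over (Spec (CommRingCat.of k))]
  [IsIntegral X] [IsProper (X ↘ Spec (CommRingCat.of k))]

include k in
/-- Grothendieck vanishing on an integral proper curve: quasi-coherent cohomology vanishes in
degrees at least two. -/
theorem HH_subsingleton_of_two_le (hdim : topologicalKrullDim X ≤ 1)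
    (F : X.Modules) [F.IsQuasicoherent] (p : ℕ) (hp : 2 ≤ p) : Subsingleton (Coh.HH X F p) := by
  haveI : IsLocallyNoetherian X :=
    LocallyOfFiniteType.isLocallyNoetherian (X ↘ (Spec (CommRingCat.of k)))
  haveI : CompactSpace X :=
    QuasiCompact.compactSpace_of_compactSpace (X ↘ Spec (CommRingCat.of k))
  haveI : QuasiSeparatedSpace X :=
    quasiSeparatedSpace_of_quasiSeparated (X ↘ Spec (CommRingCat.of k))
  obtain ⟨x⟩ : Nonempty X := inferInstance
  obtain ⟨U, hU, hxU⟩ : ∃ U : X.Opens, IsAffineOpen U ∧ x ∈ U := by
    obtain ⟨_, ⟨U, hU, rfl⟩, hxU, -⟩ :=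
      X.isBasis_affineOpens.exists_subset_of_mem_open (Set.mem_univ x) isOpen_univ
    exact ⟨U, hU, hxU⟩
  haveI : IsAffine U := hU
  haveI : IsAffineHom U.ι :=
    Groth.Agent.Helper13.FinProj.isAffineHom_ι_of_isSeparated (X ↘ Spec (CommRingCat.of k)) U hU
  have hne : ((U : Set X)ᶜ) ≠ Set.univ := by
    intro h
    have : x ∈ ((U : Set X)ᶜ) := by rw [h]; trivial
    exact this hxU
  have IH : Groth.Agent.Helper9.AffStrat.IHyp X U 0 := by
    intro Y i hi hmiss G hG q hq
    haveI := hi
    haveI : CompactSpace Y := QuasiCompact.compactSpace_of_compactSpace i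
    haveI : IsLocallyNoetherian Y := LocallyOfFiniteType.isLocallyNoetherian i
    apply HH_subsingleton_of_closed_points Y _ G q hq
    intro y
    have hcl : IsClosed ({i y} : Set X) :=
      isClosed_singleton_of_mem_closed hdim ((U : Set X)ᶜ) U.isOpen.isClosed_compl hne (i y)
        (hmiss y)
    have : ({y} : Set Y) = i ⁻¹' {i y} := by
      ext z
      simp only [Set.mem_singleton_iff, Set.mem_preimage]
      exact ⟨fun h => by rw [h], fun h => i.isClosedEmbedding.injective h⟩
    rw [this]
    exact hcl.preimage i.continuous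
  exact Groth.Agent.Helper9.AffStrat.step U 0 IH F p (by omega)

end Groth.Agent.Helper13.CurveVan
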