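import Groth.Prelude.Def_MeroSh
import Mathlib.AlgebraicGeometry.Noetherian
import Mathlib.AlgebraicGeometry.AffineScheme
import Mathlib.RingTheory.Ideal.AssociatedPrime.Finiteness

set_option autoImplicit false
universe u
open CategoryTheory CategoryTheory.Limits AlgebraicGeometry TopologicalSpace

namespace Groth.Agent.Helper13.MeroLib

variable {X : Scheme.{u}}

lemma mem_basicOpen_iff_notMem_primeIdealOf {U : X.Opens} (hU : IsAffineOpen U) (x : X) (hxU : x ∈ U)
    (c : Γ(X, U)) : x ∈ X.basicOpen c ↔ c ∉ (hU.primeIdealOf ⟨x, hxU⟩).asIdeal := by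
  have h1 : hU.fromSpec (hU.primeIdealOf ⟨x, hxU⟩) = x := hU.fromSpec_primeIdealOf ⟨x, hxU⟩
  have h2 : (hU.primeIdealOf ⟨x, hxU⟩ ∈ hU.fromSpec ⁻¹ᵁ X.basicOpen c) ↔ x ∈ X.basicOpen c := by
    change hU.fromSpec (hU.primeIdealOf ⟨x, hxU⟩) ∈ X.basicOpen c ↔ _
    rw [h1]
  rw [← h2, hU.fromSpec_preimage_basicOpen]
  rfl

/-- on an affine open, nonzerodivisors are germwise nonzerodivisors -/
lemma germ_mem_nonZeroDivisors {U : X.Opens} (hU : IsAffineOpen U) (a : Γ(X, U))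
    (ha : a ∈ nonZeroDivisors Γ(X, U)) (x : X) (hx : x ∈ U) :
    X.presheaf.germ U x hx a ∈ nonZeroDivisors (X.presheaf.stalk x) := by
  let _ := TopCat.Presheaf.algebra_section_stalk X.presheaf ⟨x, hx⟩
  have hloc : IsLocalization.AtPrime (X.presheaf.stalk x) (hU.primeIdealOf ⟨x, hx⟩).asIdeal :=
    hU.isLocalization_stalk ⟨x, hx⟩
  exact IsLocalization.map_nonZeroDivisors_le (hU.primeIdealOf ⟨x, hx⟩).asIdeal.primeCompl
    (X.presheaf.stalk x) (Submonoid.mem_map_of_mem _ ha)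

lemma nonZeroDivisors_le_regSub {U : X.Opens} (hU : IsAffineOpen U) :
    nonZeroDivisors Γ(X, U) ≤ Mero.regSub X U :=
  fun a ha x => germ_mem_nonZeroDivisors hU a ha x.1 x.2

lemma regSub_le_nonZeroDivisors (U : X.Opens) :
    Mero.regSub X U ≤ nonZeroDivisors Γ(X, U) := by
  intro a ha
  rw [mem_nonZeroDivisors_iff_right]
  intro z hz
  apply TopCat.Presheaf.section_ext X.sheaf U
  intro x hx
  have h1 := ha ⟨x, hx⟩
  have h2 : X.presheaf.germ U x hx z * X.presheaf.germ U x hx a = 0 := by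
    rw [← map_mul, hz, map_zero]
  have h3 := (mem_nonZeroDivisors_iff_right.1 h1) _ h2
  exact h3.trans (map_zero (X.presheaf.germ U x hx).hom).symm

lemma regSub_eq_nonZeroDivisors {U : X.Opens} (hU : IsAffineOpen U) :
    Mero.regSub X U = nonZeroDivisors Γ(X, U) :=
  le_antisymm (regSub_le_nonZeroDivisors U) (nonZeroDivisors_le_regSub hU)

/-- If `c` annihilates the annihilator of `a`, then `a` is a nonzerodivisor germwise on `D(c)`. -/
lemma germ_mem_nonZeroDivisors_of_ann {U : X.Opens} (hU : IsAffineOpen U) (a c : Γ(X, U))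
    (hc : ∀ b, b * a = 0 → c * b = 0) (y : X) (hyU : y ∈ U) (hy : y ∈ X.basicOpen c) :
    X.presheaf.germ U y hyU a ∈ nonZeroDivisors (X.presheaf.stalk y) := by
  let _ := TopCat.Presheaf.algebra_section_stalk X.presheaf ⟨y, hyU⟩
  have hloc : IsLocalization.AtPrime (X.presheaf.stalk y) (hU.primeIdealOf ⟨y, hyU⟩).asIdeal :=
    hU.isLocalization_stalk ⟨y, hyU⟩
  rw [mem_nonZeroDivisors_iff_right]
  intro z hz
  obtain ⟨⟨b, t⟩, rfl⟩ := IsLocalization.mk'_surjective (hU.primeIdealOf ⟨y, hyU⟩).asIdeal.primeCompl z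
  rw [IsLocalization.mk'_eq_zero_iff]
  have h1 : algebraMap Γ(X, U) (X.presheaf.stalk y) (b * a) = 0 := by
    have := congrArg (fun w => w * algebraMap Γ(X, U) (X.presheaf.stalk y) t) hz
    simp only [zero_mul] at this
    rw [mul_right_comm, IsLocalization.mk'_spec] at this
    rw [map_mul]; exact this
  obtain ⟨u, hu⟩ := (IsLocalization.map_eq_zero_iff (hU.primeIdealOf ⟨y, hyU⟩).asIdeal.primeCompl
    (X.presheaf.stalk y) _).1 h1
  have hcp : c ∈ (hU.primeIdealOf ⟨y, hyU⟩).asIdeal.primeCompl :=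
    (mem_basicOpen_iff_notMem_primeIdealOf hU y hyU c).1 hy
  refine ⟨⟨c, hcp⟩ * u, ?_⟩
  have h2 : (u.1 * b) * a = 0 := by rw [mul_assoc]; exact hu
  have h3 := hc _ h2
  simp only [Submonoid.coe_mul]
  rw [mul_assoc]; exact h3

/-- in a Noetherian ring, if `a/1` is a nonzerodivisor in the localization at `p`, some `c ∉ p`
kills the annihilator of `a`. -/
lemma exists_kill_ann {A : Type*} [CommRing A] [IsNoetherianRing A] (p : Ideal A) [p.IsPrime]
    (B : Type*) [CommRing B] [Algebra A B] [IsLocalization.AtPrime B p] (a : A)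
    (ha : algebraMap A B a ∈ nonZeroDivisors B) :
    ∃ c ∉ p, ∀ b, b * a = 0 → c * b = 0 := by
  classical
  let I : Ideal A := (Ideal.span {a}).annihilator
  obtain ⟨S, hS⟩ : I.FG := IsNoetherian.noetherian I
  have hmem : ∀ b, b ∈ I ↔ b * a = 0 := fun b => by
    simp only [I, Submodule.mem_annihilator_span_singleton, smul_eq_mul]
  have h1 : ∀ b ∈ S, ∃ u : p.primeCompl, u.1 * b = 0 := by
    intro b hb
    have hbI : b ∈ I := hS ▸ Submodule.subset_span hb
    have h2 : algebraMap A B b * algebraMap A B a = 0 := by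
      rw [← map_mul, (hmem b).1 hbI, map_zero]
    have h3 := (mem_nonZeroDivisors_iff_right.1 ha) _ h2
    exact (IsLocalization.map_eq_zero_iff p.primeCompl B _).1 h3
  choose! u hu using h1
  refine ⟨∏ b ∈ S, (u b).1, ?_, ?_⟩
  · have : (∏ b ∈ S, (u b).1) ∈ p.primeCompl := Submonoid.prod_mem _ (fun b _ => (u b).2)
    exact this
  · intro b hb
    have hbI : b ∈ I := (hmem b).2 hb
    rw [← hS] at hbI
    refine Submodule.span_induction (p := fun z _ => (∏ b ∈ S, (u b).1) * z = 0) ?_ ?_ ?_ ?_ hbI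
    · intro z hz
      obtain ⟨w, hw⟩ := Finset.dvd_prod_of_mem (fun b => (u b).1) hz
      rw [hw, mul_right_comm, hu z hz, zero_mul]
    · exact mul_zero _
    · intro z w _ _ hz hw
      rw [mul_add, hz, hw, add_zero]
    · intro r z _ hz
      rw [smul_eq_mul, mul_left_comm, hz, mul_zero]

theorem regStalk_eq_nonZeroDivisors (X : Scheme.{u}) [IsLocallyNoetherian X] (x : X) :
    Mero.regStalk X x = nonZeroDivisors (X.presheaf.stalk x) := by
  apply le_antisymm (Mero.regStalk_le_nonZeroDivisors x)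
  intro g hg
  obtain ⟨V, hxV, f, rfl⟩ := TopCat.Presheaf.exists_germ_eq X.presheaf g
  obtain ⟨_, ⟨U, hU, rfl⟩, hxU, hUV⟩ := X.isBasis_affineOpens.exists_subset_of_mem_open hxV V.2
  have hUV' : U ≤ V := hUV
  set a := X.presheaf.map (homOfLE hUV').op f with ha_def
  have hga : X.presheaf.germ U x hxU a = X.presheaf.germ V x hxV f :=
    TopCat.Presheaf.germ_res_apply X.presheaf (homOfLE hUV') x hxU f
  have hN : IsNoetherianRing Γ(X, U) := IsLocallyNoetherian.component_noetherian ⟨U, hU⟩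
  let _ := TopCat.Presheaf.algebra_section_stalk X.presheaf ⟨x, hxU⟩
  have hloc : IsLocalization.AtPrime (X.presheaf.stalk x) (hU.primeIdealOf ⟨x, hxU⟩).asIdeal :=
    hU.isLocalization_stalk ⟨x, hxU⟩
  have hga' : algebraMap Γ(X, U) (X.presheaf.stalk x) a ∈ nonZeroDivisors (X.presheaf.stalk x) := by
    change X.presheaf.germ U x hxU a ∈ _
    rw [hga]; exact hg
  obtain ⟨c, hcp, hc⟩ := exists_kill_ann (hU.primeIdealOf ⟨x, hxU⟩).asIdeal (X.presheaf.stalk x) a hga'
  have hxc : x ∈ X.basicOpen c := (mem_basicOpen_iff_notMem_primeIdealOf hU x hxU c).2 hcp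
  have hcU : X.basicOpen c ≤ U := X.basicOpen_le c
  refine ⟨X.basicOpen c, hxc, X.presheaf.map (homOfLE hcU).op a, ?_, ?_⟩
  · intro y
    change X.presheaf.germ (X.basicOpen c) y.1 y.2 (X.presheaf.map (homOfLE hcU).op a) ∈ _
    rw [TopCat.Presheaf.germ_res_apply X.presheaf (homOfLE hcU) y.1 y.2 a]
    exact germ_mem_nonZeroDivisors_of_ann hU a c hc y.1 (hcU y.2) y.2
  · rw [TopCat.Presheaf.germ_res_apply X.presheaf (homOfLE hcU) x hxc a, hga]

end Groth.Agent.Helper13.MeroLib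

namespace Groth.Agent.Helper13.MeroLib

variable {X : Scheme.{u}}

lemma kmk_eq_mk' {x : X} (a : X.presheaf.stalk x) (s : Mero.regStalk X x) :
    (LocalizedModule.mk a s : Mero.KStalk X x) = IsLocalization.mk' (Mero.KStalk X x) a s :=
  Localization.mk_eq_mk'_apply a s

lemma kmk_eq_zero_iff {x : X} (a : X.presheaf.stalk x) (s : Mero.regStalk X x) :
    (LocalizedModule.mk a s : Mero.KStalk X x) = 0 ↔ a = 0 := by
  rw [kmk_eq_mk', IsLocalization.mk'_eq_zero_iff]
  constructor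
  · rintro ⟨m, hm⟩
    have := Mero.regStalk_le_nonZeroDivisors x m.2
    exact (mem_nonZeroDivisors_iff.1 this).1 _ hm
  · rintro rfl
    exact ⟨1, mul_zero _⟩

lemma kmod_ext {U : X.Opens} {f g : Γ(Mero.kmod X, U)} (h : ∀ x : U, f.1 x = g.1 x) : f = g :=
  Subtype.ext (funext h)

lemma kmod_zero_apply {U : X.Opens} (x : U) : (0 : Γ(Mero.kmod X, U)).1 x = 0 := rfl

lemma kmod_pow_apply {U : X.Opens} (f : Γ(Mero.kmod X, U)) (n : ℕ) (x : U) :
    (f ^ n).1 x = f.1 x ^ n := map_pow (Mero.evalK X U x) f n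

/-- local representation of a meromorphic function on an affine neighbourhood -/
lemma exists_affine_frac {U : X.Opens} (f : Γ(Mero.kmod X, U)) (x : X) (hx : x ∈ U) :
    ∃ (W : X.Opens) (_ : IsAffineOpen W) (_ : x ∈ W) (hWU : W ≤ U) (a : Γ(X, W)) (b : Mero.regSub X W),
      ∀ y : W, f.1 ⟨y.1, hWU y.2⟩ = LocalizedModule.mk (X.presheaf.germ W y.1 y.2 a) (Mero.regGerm y b) := by
  obtain ⟨V, hxV, i, a, b, hab⟩ := f.2 ⟨x, hx⟩
  obtain ⟨_, ⟨W, hW, rfl⟩, hxW, hWV⟩ := X.isBasis_affineOpens.exists_subset_of_mem_open hxV V.2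
  have hWV' : W ≤ V := hWV
  refine ⟨W, hW, hxW, hWV'.trans i.le, X.presheaf.map (homOfLE hWV').op a,
    ⟨X.presheaf.map (homOfLE hWV').op b.1, Mero.regSub_res (homOfLE hWV') b.2⟩, fun y => ?_⟩
  have := hab ⟨y.1, hWV' y.2⟩
  dsimp only at this
  refine this.trans (Mero.mk_congr ?_ ?_)
  · exact (TopCat.Presheaf.germ_res_apply X.presheaf (homOfLE hWV') y.1 y.2 a).symm
  · exact (TopCat.Presheaf.germ_res_apply X.presheaf (homOfLE hWV') y.1 y.2 b.1).symm

end Groth.Agent.Helper13.MeroLib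

namespace Groth.Agent.Helper13.MeroLib

variable {X : Scheme.{u}}

/-- local version: near each point a power of `h` kills `f`. -/
lemma exists_pow_mul_eq_zero_nhd {U : X.Opens} (h : Γ(X, U)) (f : Γ(Mero.kmod X, U))
    (hf : (Mero.kmod X).presheaf.map (homOfLE (X.basicOpen_le h)).op f = 0) (x : X) (hx : x ∈ U) :
    ∃ (W : X.Opens) (_ : x ∈ W) (hWU : W ≤ U) (n : ℕ), ∀ y : W,
      (Mero.toK X U h ^ n * f).1 ⟨y.1, hWU y.2⟩ = 0 := by
  obtain ⟨W, hW, hxW, hWU, a, b, hab⟩ := exists_affine_frac f x hx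
  set h' : Γ(X, W) := X.presheaf.map (homOfLE hWU).op h with hh'
  have hD : X.basicOpen h' = W ⊓ X.basicOpen h := X.basicOpen_res h (homOfLE hWU).op
  -- a vanishes on D(h')
  have h0 : algebraMap Γ(X, W) Γ(X, X.basicOpen h') a = 0 := by
    apply TopCat.Presheaf.section_ext X.sheaf (X.basicOpen h')
    intro y hy
    have hyW : y ∈ W := X.basicOpen_le h' hy
    have hyh : y ∈ X.basicOpen h := by
      have : y ∈ W ⊓ X.basicOpen h := hD ▸ hy
      exact this.2
    have h1 : f.1 ⟨y, hWU hyW⟩ = 0 := by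
      have := congrArg (fun g : Γ(Mero.kmod X, X.basicOpen h) => g.1 ⟨y, hyh⟩) hf
      exact this
    rw [hab ⟨y, hyW⟩, kmk_eq_zero_iff] at h1
    have h2 : X.presheaf.germ (X.basicOpen h') y hy (algebraMap Γ(X, W) Γ(X, X.basicOpen h') a)
        = X.presheaf.germ W y hyW a :=
      TopCat.Presheaf.germ_res_apply X.presheaf (homOfLE (X.basicOpen_le h')) y hy a
    exact (h2.trans h1).trans (map_zero (X.presheaf.germ (X.basicOpen h') y hy).hom).symm
  have hloc : IsLocalization.Away h' Γ(X, X.basicOpen h') := hW.isLocalization_basicOpen h'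
  obtain ⟨⟨_, n, rfl⟩, hn⟩ := (IsLocalization.map_eq_zero_iff (Submonoid.powers h') _ a).1 h0
  refine ⟨W, hxW, hWU, n, fun y => ?_⟩
  rw [Mero.kmod_mul_apply, kmod_pow_apply, Mero.toK_apply, hab y]
  have e1 : (LocalizedModule.mk (X.presheaf.germ U y.1 (hWU y.2) h) 1 : Mero.KStalk X y.1)
      = algebraMap _ (Mero.KStalk X y.1) (X.presheaf.germ W y.1 y.2 h') := by
    rw [kmk_eq_mk', IsLocalization.mk'_one]
    congr 1
    exact (TopCat.Presheaf.germ_res_apply X.presheaf (homOfLE hWU) y.1 y.2 h).symm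
  rw [e1, ← map_pow, kmk_eq_mk', IsLocalization.mul_mk'_eq_mk'_of_mul, ← kmk_eq_mk', kmk_eq_zero_iff,
    ← map_pow, ← map_mul]
  have hn' : h' ^ n * a = 0 := hn
  rw [hn', map_zero]

end Groth.Agent.Helper13.MeroLib

namespace Groth.Agent.Helper13.MeroLib

variable {X : Scheme.{u}}

theorem exists_pow_mul_eq_zero {U : X.Opens} (hU : IsCompact (U : Set X)) (h : Γ(X, U))
    (f : Γ(Mero.kmod X, U))
    (hf : (Mero.kmod X).presheaf.map (homOfLE (X.basicOpen_le h)).op f = 0) :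
    ∃ n : ℕ, Mero.toK X U h ^ n * f = 0 := by
  classical
  choose W hxW hWU n hn using fun (x : U) => exists_pow_mul_eq_zero_nhd h f hf x.1 x.2
  obtain ⟨t, ht⟩ := hU.elim_nhds_subcover' (fun x hx => (W ⟨x, hx⟩ : Set X))
    (fun x hx => (W ⟨x, hx⟩).2.mem_nhds (hxW ⟨x, hx⟩))
  refine ⟨t.sup n, kmod_ext fun y => ?_⟩
  obtain ⟨x, hxt, hyx⟩ : ∃ x ∈ t, y.1 ∈ W x := by
    have := ht y.2
    simp only [Set.mem_iUnion, SetLike.mem_coe, exists_prop] at this
    obtain ⟨x, hxt, hyx⟩ := this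
    exact ⟨x, hxt, hyx⟩
  have h1 := hn x ⟨y.1, hyx⟩
  obtain ⟨k, hk⟩ := Nat.exists_eq_add_of_le (Finset.le_sup hxt : n x ≤ t.sup n)
  rw [hk, pow_add, mul_comm (_ ^ n x), mul_assoc, Mero.kmod_mul_apply]
  have h2 : (Mero.toK X U h ^ n x * f).1 y = 0 := h1
  rw [h2, mul_zero]
  rfl

end Groth.Agent.Helper13.MeroLib

namespace Groth.Agent.Helper13.MeroLib

variable {X : Scheme.{u}}

lemma toK_apply' {U : X.Opens} (r : Γ(X, U)) (x : U) :
    (Mero.toK X U r).1 x = algebraMap _ (Mero.KStalk X x.1) (X.presheaf.germ U x.1 x.2 r) := by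
  rw [Mero.toK_apply, kmk_eq_mk', IsLocalization.mk'_one]

lemma toK_injective (U : X.Opens) : Function.Injective (Mero.toK X U) := by
  rw [injective_iff_map_eq_zero]
  intro r hr
  apply TopCat.Presheaf.section_ext X.sheaf U
  intro x hx
  have h1 : (Mero.toK X U r).1 ⟨x, hx⟩ = 0 := by rw [hr]; rfl
  rw [Mero.toK_apply, kmk_eq_zero_iff] at h1
  exact h1.trans (map_zero (X.presheaf.germ U x hx).hom).symm

/-- the fraction `a / b` as a section of `K_X` -/
noncomputable def frac {U : X.Opens} (a : Γ(X, U)) (b : Mero.regSub X U) : Γ(Mero.kmod X, U) :=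
  ⟨fun x => LocalizedModule.mk (X.presheaf.germ U x.1 x.2 a) (Mero.regGerm x b),
    fun x => ⟨U, x.2, 𝟙 _, a, b, fun _ => rfl⟩⟩

lemma frac_apply {U : X.Opens} (a : Γ(X, U)) (b : Mero.regSub X U) (x : U) :
    (frac a b).1 x = LocalizedModule.mk (X.presheaf.germ U x.1 x.2 a) (Mero.regGerm x b) := rfl

lemma toK_mul_frac {U : X.Opens} (a : Γ(X, U)) (b : Mero.regSub X U) :
    Mero.toK X U b.1 * frac a b = Mero.toK X U a := by
  apply kmod_ext
  intro x
  rw [Mero.kmod_mul_apply, toK_apply', toK_apply', frac_apply, kmk_eq_mk',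
    IsLocalization.mul_mk'_eq_mk'_of_mul]
  exact IsLocalization.mk'_mul_cancel_left (X.presheaf.germ U x.1 x.2 a) (Mero.regGerm x b)

end Groth.Agent.Helper13.MeroLib

namespace Groth.Agent.Helper13.MeroLib

variable {X : Scheme.{u}}

/-- near a point `y` of an affine open `U`, a meromorphic function has a global denominator regular at `y`. -/
lemma exists_denominator_nhd {U : X.Opens} (hU : IsAffineOpen U) (f : Γ(Mero.kmod X, U)) (y : X) (hy : y ∈ U) :
    ∃ s a₁ : Γ(X, U), Mero.toK X U s * f = Mero.toK X U a₁ ∧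
      X.presheaf.germ U y hy s ∈ nonZeroDivisors (X.presheaf.stalk y) := by
  obtain ⟨W, hW, hyW, hWU, a, b, hab⟩ := exists_affine_frac f y hy
  obtain ⟨g, hgW, hyg⟩ := hU.exists_basicOpen_le (V := W) ⟨y, hyW⟩ hy
  have hyg : y ∈ X.basicOpen g := hyg
  have hloc : IsLocalization.Away g Γ(X, X.basicOpen g) := hU.isLocalization_basicOpen g
  set a' : Γ(X, X.basicOpen g) := X.presheaf.map (homOfLE hgW).op a with ha'
  set b' : Γ(X, X.basicOpen g) := X.presheaf.map (homOfLE hgW).op b.1 with hb'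
  obtain ⟨⟨a₀, ⟨_, k, rfl⟩⟩, hk⟩ := IsLocalization.surj (Submonoid.powers g) a'
  obtain ⟨⟨b₀, ⟨_, l, rfl⟩⟩, hl⟩ := IsLocalization.surj (Submonoid.powers g) b'
  dsimp only at hk hl
  set F : Γ(Mero.kmod X, U) := Mero.toK X U (b₀ * g ^ k) * f - Mero.toK X U (a₀ * g ^ l) with hFdef
  have hF : (Mero.kmod X).presheaf.map (homOfLE (X.basicOpen_le g)).op F = 0 := by
    apply kmod_ext
    intro z
    have hzW : z.1 ∈ W := hgW z.2
    have hzU : z.1 ∈ U := X.basicOpen_le g z.2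
    change F.1 ⟨z.1, hzU⟩ = 0
    have e1 : F.1 ⟨z.1, hzU⟩ = (Mero.toK X U (b₀ * g ^ k)).1 ⟨z.1, hzU⟩ * f.1 ⟨z.1, hzU⟩
        - (Mero.toK X U (a₀ * g ^ l)).1 ⟨z.1, hzU⟩ := rfl
    rw [e1, sub_eq_zero, toK_apply', toK_apply', hab ⟨z.1, hzW⟩, kmk_eq_mk',
      IsLocalization.mul_mk'_eq_mk'_of_mul, IsLocalization.mk'_eq_iff_eq_mul, ← map_mul]
    congr 1
    -- equality in the stalk from equality in Γ(D(g))
    have r1 : ∀ t : Γ(X, U), X.presheaf.germ U z.1 hzU t
        = X.presheaf.germ (X.basicOpen g) z.1 z.2 (algebraMap Γ(X, U) Γ(X, X.basicOpen g) t) :=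
      fun t => (TopCat.Presheaf.germ_res_apply X.presheaf (homOfLE (X.basicOpen_le g)) z.1 z.2 t).symm
    have r2 : ∀ t : Γ(X, W), X.presheaf.germ W z.1 hzW t
        = X.presheaf.germ (X.basicOpen g) z.1 z.2 (X.presheaf.map (homOfLE hgW).op t) :=
      fun t => (TopCat.Presheaf.germ_res_apply X.presheaf (homOfLE hgW) z.1 z.2 t).symm
    change X.presheaf.germ U z.1 hzU (b₀ * g ^ k) * X.presheaf.germ W z.1 hzW a
      = X.presheaf.germ U z.1 hzU (a₀ * g ^ l) * X.presheaf.germ W z.1 hzW b.1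
    rw [r1, r1, r2, r2, ← map_mul, ← map_mul]
    congr 1
    rw [map_mul, map_mul, ← hk, ← hl]
    ring
  obtain ⟨n, hn⟩ := exists_pow_mul_eq_zero hU.isCompact g F hF
  refine ⟨g ^ n * (b₀ * g ^ k), g ^ n * (a₀ * g ^ l), ?_, ?_⟩
  · rw [map_mul, map_mul (Mero.toK X U) (g ^ n), map_pow, mul_assoc, ← sub_eq_zero, ← mul_sub]
    exact hn
  · have hu : IsUnit (X.presheaf.germ U y hy g) := (X.mem_basicOpen g y hy).1 hyg
    have hunz : X.presheaf.germ U y hy g ∈ nonZeroDivisors (X.presheaf.stalk y) :=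
      hu.mem_nonZeroDivisors
    rw [map_mul, map_mul, map_pow, map_pow]
    refine mul_mem (pow_mem hunz _) (mul_mem ?_ (pow_mem hunz _))
    have h1 : X.presheaf.germ U y hy b₀
        = X.presheaf.germ W y hyW b.1 * X.presheaf.germ U y hy g ^ l := by
      have r1 : ∀ t : Γ(X, U), X.presheaf.germ U y hy t
          = X.presheaf.germ (X.basicOpen g) y hyg (algebraMap Γ(X, U) Γ(X, X.basicOpen g) t) :=
        fun t => (TopCat.Presheaf.germ_res_apply X.presheaf (homOfLE (X.basicOpen_le g)) y hyg t).symm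
      have r2 : ∀ t : Γ(X, W), X.presheaf.germ W y hyW t
          = X.presheaf.germ (X.basicOpen g) y hyg (X.presheaf.map (homOfLE hgW).op t) :=
        fun t => (TopCat.Presheaf.germ_res_apply X.presheaf (homOfLE hgW) y hyg t).symm
      rw [← map_pow, r1, r1, r2, ← map_mul, ← hl]
    rw [h1]
    exact mul_mem (b.2 ⟨y, hyW⟩) (pow_mem hunz _)

end Groth.Agent.Helper13.MeroLib

namespace Groth.Agent.Helper13.MeroLib

variable {X : Scheme.{u}}

/-- the ideal of denominators of a meromorphic function -/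
def denomIdeal {U : X.Opens} (f : Γ(Mero.kmod X, U)) : Ideal Γ(X, U) where
  carrier := {s | ∃ a, Mero.toK X U s * f = Mero.toK X U a}
  zero_mem' := ⟨0, by rw [map_zero, zero_mul]⟩
  add_mem' := by
    rintro s t ⟨a, ha⟩ ⟨b, hb⟩
    exact ⟨a + b, by rw [map_add, add_mul, ha, hb, map_add]⟩
  smul_mem' := by
    rintro c s ⟨a, ha⟩
    exact ⟨c * a, by rw [smul_eq_mul, map_mul, mul_assoc, ha, map_mul]⟩

lemma mem_denomIdeal {U : X.Opens} (f : Γ(Mero.kmod X, U)) (s : Γ(X, U)) :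
    s ∈ denomIdeal f ↔ ∃ a, Mero.toK X U s * f = Mero.toK X U a := Iff.rfl

theorem exists_nonZeroDivisor_denominator [IsLocallyNoetherian X] {U : X.Opens} (hU : IsAffineOpen U)
    (f : Γ(Mero.kmod X, U)) :
    ∃ s ∈ nonZeroDivisors Γ(X, U), ∃ a, Mero.toK X U s * f = Mero.toK X U a := by
  have hN : IsNoetherianRing Γ(X, U) := IsLocallyNoetherian.component_noetherian ⟨U, hU⟩
  by_contra hcon
  push Not at hcon
  have hdisj : Disjoint (denomIdeal f : Set Γ(X, U)) (nonZeroDivisors Γ(X, U)) := by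
    rw [Set.disjoint_left]
    rintro s ⟨a, ha⟩ hs
    exact hcon s hs a ha
  have hlt := Ideal.bot_lt_annihilator_of_disjoint_nonZeroDivisors hdisj
  obtain ⟨z, hz, hz0⟩ := SetLike.exists_of_lt hlt
  have hz0' : z ≠ 0 := fun h => hz0 (by rw [h]; exact Submodule.zero_mem _)
  -- a point where the germ of z is nonzero
  have : ∃ y, ∃ hy : y ∈ U, X.presheaf.germ U y hy z ≠ 0 := by
    by_contra hno
    push Not at hno
    apply hz0'
    apply TopCat.Presheaf.section_ext X.sheaf U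
    intro y hy
    exact (hno y hy).trans (map_zero (X.presheaf.germ U y hy).hom).symm
  obtain ⟨y, hy, hzy⟩ := this
  obtain ⟨s, a₁, hsa, hsy⟩ := exists_denominator_nhd hU f y hy
  have hsJ : s ∈ denomIdeal f := ⟨a₁, hsa⟩
  have hzs : z * s = 0 := by
    have := Module.mem_annihilator.1 hz ⟨s, hsJ⟩
    have := congrArg Subtype.val this
    simpa using this
  apply hzy
  have h2 : X.presheaf.germ U y hy z * X.presheaf.germ U y hy s = 0 := by
    rw [← map_mul, hzs, map_zero]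
  exact (mem_nonZeroDivisors_iff_right.1 hsy) _ h2

theorem kmod_isLocalization [IsLocallyNoetherian X] (U : X.affineOpens) :
    @IsLocalization Γ(X, U.1) _ (nonZeroDivisors Γ(X, U.1)) Γ(Mero.kmod X, U.1) _
      (Mero.toK X U.1).toAlgebra := by
  let _ := (Mero.toK X U.1).toAlgebra
  have hU : IsAffineOpen U.1 := U.2
  rw [isLocalization_iff]
  refine ⟨?_, ?_, ?_⟩
  · rintro ⟨s, hs⟩
    have hs' : s ∈ Mero.regSub X U.1 := nonZeroDivisors_le_regSub hU hs
    have h1 : Mero.toK X U.1 s * frac 1 ⟨s, hs'⟩ = 1 :=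
      (toK_mul_frac 1 ⟨s, hs'⟩).trans (map_one _)
    exact IsUnit.of_mul_eq_one _ h1
  · intro f
    obtain ⟨s, hs, a, ha⟩ := exists_nonZeroDivisor_denominator hU f
    refine ⟨(a, ⟨s, hs⟩), ?_⟩
    change f * Mero.toK X U.1 s = Mero.toK X U.1 a
    rw [mul_comm]; exact ha
  · intro x y hxy
    exact ⟨1, by rw [toK_injective _ hxy]⟩

end Groth.Agent.Helper13.MeroLib
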