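import Groth.Agent.Lib.Helper13.WeakAss
import Groth.Agent.Lib.Helper13.MeroLib
import Mathlib.Topology.Irreducible

set_option autoImplicit false
universe u
open CategoryTheory CategoryTheory.Limits AlgebraicGeometry TopologicalSpace

namespace Groth.Agent.Helper13.WeakAss
variable {X : Scheme.{u}}

/-- L3: finitely many irreducible components of an affine open gives finitely many minimal primes -/
lemma finite_minimalPrimes_of_finite_irreducibleComponents {W : X.Opens} (hW : IsAffineOpen W)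
    (h : (irreducibleComponents ↥(W : Scheme.{u})).Finite) : (minimalPrimes Γ(X, W)).Finite := by
  let e : ↥(W : Scheme.{u}) ≃ₜ PrimeSpectrum Γ(X, W) := Scheme.homeoOfIso hW.isoSpec
  have h1 : (irreducibleComponents (PrimeSpectrum Γ(X, W))).Finite := by
    let φ := irreducibleComponentsEquivOfIsPreirreducibleFiber e e.continuous e.isOpenMap
      (fun x => by
        have : (e ⁻¹' {x}) = {e.symm x} := by
          ext y; simp [e.eq_symm_apply]
        rw [this]; exact Set.subsingleton_singleton.isPreirreducible) e.surjective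
    have : Finite ↥(irreducibleComponents ↥(W : Scheme.{u})) := h
    exact Finite.of_equiv _ φ.symm.toEquiv
  rw [← PrimeSpectrum.vanishingIdeal_irreducibleComponents]
  exact h1.image _

end Groth.Agent.Helper13.WeakAss

namespace Groth.Agent.Helper13.WeakAss
variable {X : Scheme.{u}}

/-- prime version of `exists_weakAss_specializes` -/
lemma exists_weakAss_prime {W : X.Opens} (hW : IsAffineOpen W) (g a : Γ(X, W)) (x : X)
    (hx : x ∈ W) (ha : X.presheaf.germ W x hx a ≠ 0) (hga : g * a = 0) :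
    ∃ p : PrimeSpectrum Γ(X, W), p.asIdeal ≤ (hW.primeIdealOf ⟨x, hx⟩).asIdeal ∧ g ∈ p.asIdeal ∧
      Curv2.IsWeakAssPoint (Coh.structureModule X) (hW.fromSpec p) := by
  let _ := TopCat.Presheaf.algebra_section_stalk X.presheaf ⟨x, hx⟩
  have hloc : IsLocalization.AtPrime (X.presheaf.stalk x) (hW.primeIdealOf ⟨x, hx⟩).asIdeal :=
    hW.isLocalization_stalk ⟨x, hx⟩
  have hle : annIdeal a ≤ (hW.primeIdealOf ⟨x, hx⟩).asIdeal := by
    intro r hr
    by_contra hrq
    apply ha
    exact (IsLocalization.map_eq_zero_iff (hW.primeIdealOf ⟨x, hx⟩).asIdeal.primeCompl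
      (X.presheaf.stalk x) a).2 ⟨⟨r, hrq⟩, (mem_annIdeal a r).1 hr⟩
  obtain ⟨p, hp, hpq⟩ := Ideal.exists_minimalPrimes_le hle
  have hpp : p.IsPrime := hp.1.1
  exact ⟨⟨p, hpp⟩, hpq, hp.1.2 ((mem_annIdeal a g).2 hga),
    isWeakAssPoint_of_mem_minimalPrimes hW a ⟨p, hpp⟩ hp⟩

/-- a prime whose point has no proper generization is a minimal prime -/
lemma mem_minimalPrimes_of_generic {W : X.Opens} (hW : IsAffineOpen W) (p : PrimeSpectrum Γ(X, W))
    (hgen : ∀ y : X, y ⤳ hW.fromSpec p → y = hW.fromSpec p) : p.asIdeal ∈ minimalPrimes Γ(X, W) := by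
  rw [minimalPrimes_eq_minimals]
  refine ⟨p.2, fun P hP hPp => ?_⟩
  have h1 : (⟨P, hP⟩ : PrimeSpectrum Γ(X, W)) ⤳ p := (PrimeSpectrum.le_iff_specializes _ _).1 hPp
  have h2 := hgen _ (h1.map hW.fromSpec.continuous)
  have h3 : (⟨P, hP⟩ : PrimeSpectrum Γ(X, W)) = p := hW.fromSpec.isOpenEmbedding.injective h2
  rw [← h3]

/-- L1: under the hypothesis that weakly associated points are generic, zero divisors lie in minimal primes -/
lemma exists_minimalPrime_of_mul_eq_zero
    (ha : ∀ x : X, Curv2.IsWeakAssPoint (Coh.structureModule X) x → ∀ y : X, y ⤳ x → y = x)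
    {W : X.Opens} (hW : IsAffineOpen W) (g a : Γ(X, W)) (x : X)
    (hx : x ∈ W) (hne : X.presheaf.germ W x hx a ≠ 0) (hga : g * a = 0) :
    ∃ p ∈ minimalPrimes Γ(X, W), p ≤ (hW.primeIdealOf ⟨x, hx⟩).asIdeal ∧ g ∈ p := by
  obtain ⟨p, hpq, hgp, hwa⟩ := exists_weakAss_prime hW g a x hx hne hga
  exact ⟨p.asIdeal, mem_minimalPrimes_of_generic hW p (ha _ hwa), hpq, hgp⟩

/-- L2: elements of a minimal prime contained in `q` are zero divisors in the localization at `q` -/
lemma notMem_nonZeroDivisors_of_mem_minimalPrime {A : Type*} [CommRing A] (p q : Ideal A) [q.IsPrime]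
    (hp : p ∈ minimalPrimes A) (hpq : p ≤ q) (B : Type*) [CommRing B] [Algebra A B]
    [IsLocalization.AtPrime B q] (g : A) (hg : g ∈ p) : algebraMap A B g ∉ nonZeroDivisors B := by
  have hpp : p.IsPrime := hp.1.1
  have hdisj : Disjoint (q.primeCompl : Set A) (p : Set A) := by
    rw [Set.disjoint_left]
    intro r hr hrp
    exact hr (hpq hrp)
  have h1 : (p.map (algebraMap A B)).comap (algebraMap A B) = p :=
    IsLocalization.under_map_of_isPrime_disjoint q.primeCompl B hpp hdisj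
  have h2 : p.map (algebraMap A B) ∈ minimalPrimes B := by
    have := IsLocalization.minimalPrimes_map q.primeCompl B (⊥ : Ideal A)
    rw [Ideal.map_bot] at this
    have h3 : p.map (algebraMap A B) ∈ Ideal.comap (algebraMap A B) ⁻¹' (⊥ : Ideal A).minimalPrimes := by
      rw [Set.mem_preimage, h1]; exact hp
    rw [← this] at h3
    exact h3
  exact notMem_nonZeroDivisors_of_mem_mem_minimalPrimes (Ideal.mem_map_of_mem _ hg) h2

end Groth.Agent.Helper13.WeakAss

namespace Groth.Agent.Helper13.WeakAss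
variable {X : Scheme.{u}}
open Groth.Agent.Helper13.MeroLib

theorem regStalk_eq_of_weakAss_generic
    (ha : ∀ x : X, Curv2.IsWeakAssPoint (Coh.structureModule X) x → ∀ y : X, y ⤳ x → y = x)
    (hb : ∀ U : X.Opens, IsCompact (U : Set X) → (irreducibleComponents ↥(U : Scheme.{u})).Finite)
    (x : X) : Mero.regStalk X x = nonZeroDivisors (X.presheaf.stalk x) := by
  classical
  apply le_antisymm (Mero.regStalk_le_nonZeroDivisors x)
  intro gx hgx
  obtain ⟨V, hxV, f, rfl⟩ := TopCat.Presheaf.exists_germ_eq X.presheaf gx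
  obtain ⟨_, ⟨W, hW, rfl⟩, hxW, hWV⟩ := X.isBasis_affineOpens.exists_subset_of_mem_open hxV V.2
  have hWV' : W ≤ V := hWV
  set g := X.presheaf.map (homOfLE hWV').op f with hg_def
  have hgg : X.presheaf.germ W x hxW g = X.presheaf.germ V x hxV f :=
    TopCat.Presheaf.germ_res_apply X.presheaf (homOfLE hWV') x hxW f
  have hfin := finite_minimalPrimes_of_finite_irreducibleComponents hW (hb W hW.isCompact)
  set q := (hW.primeIdealOf ⟨x, hxW⟩).asIdeal with hq
  let _ := TopCat.Presheaf.algebra_section_stalk X.presheaf ⟨x, hxW⟩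
  have hloc : IsLocalization.AtPrime (X.presheaf.stalk x) q := hW.isLocalization_stalk ⟨x, hxW⟩
  let S : Finset (Ideal Γ(X, W)) := hfin.toFinset.filter (fun p => ¬ p ≤ q)
  have hc : ∀ p ∈ S, ∃ c ∈ p, c ∉ q := by
    intro p hp
    exact Set.not_subset.1 ((Finset.mem_filter.1 hp).2)
  choose! c hcp hcq using hc
  set C := ∏ p ∈ S, c p with hC
  have hCq : C ∈ q.primeCompl := Submonoid.prod_mem _ (fun p hp => hcq p hp)
  have hxC : x ∈ X.basicOpen C := (mem_basicOpen_iff_notMem_primeIdealOf hW x hxW C).2 hCq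
  have hCW : X.basicOpen C ≤ W := X.basicOpen_le C
  refine ⟨X.basicOpen C, hxC, X.presheaf.map (homOfLE hCW).op g, ?_, ?_⟩
  · intro x₁
    have hx₁W : x₁.1 ∈ W := hCW x₁.2
    change X.presheaf.germ (X.basicOpen C) x₁.1 x₁.2 (X.presheaf.map (homOfLE hCW).op g) ∈ _
    rw [TopCat.Presheaf.germ_res_apply X.presheaf (homOfLE hCW) x₁.1 x₁.2 g]
    let _ := TopCat.Presheaf.algebra_section_stalk X.presheaf ⟨x₁.1, hx₁W⟩
    set q₁ := (hW.primeIdealOf ⟨x₁.1, hx₁W⟩).asIdeal with hq₁
    have hloc₁ : IsLocalization.AtPrime (X.presheaf.stalk x₁.1) q₁ :=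
      hW.isLocalization_stalk ⟨x₁.1, hx₁W⟩
    rw [mem_nonZeroDivisors_iff_right]
    intro z hz
    by_contra hz0
    obtain ⟨⟨a, t⟩, rfl⟩ := IsLocalization.mk'_surjective q₁.primeCompl z
    have h1 : algebraMap Γ(X, W) (X.presheaf.stalk x₁.1) (a * g) = 0 := by
      have := congrArg (fun w => w * algebraMap Γ(X, W) (X.presheaf.stalk x₁.1) t) hz
      simp only [zero_mul] at this
      rw [mul_right_comm, IsLocalization.mk'_spec] at this
      rw [map_mul]; exact this
    obtain ⟨u, hu⟩ := (IsLocalization.map_eq_zero_iff q₁.primeCompl (X.presheaf.stalk x₁.1) _).1 h1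
    have hne : X.presheaf.germ W x₁.1 hx₁W (u.1 * a) ≠ 0 := by
      intro h0
      apply hz0
      obtain ⟨v, hv⟩ := (IsLocalization.map_eq_zero_iff q₁.primeCompl (X.presheaf.stalk x₁.1) _).1 h0
      rw [IsLocalization.mk'_eq_zero_iff]
      exact ⟨v * u, by rw [Submonoid.coe_mul, mul_assoc]; exact hv⟩
    have hga : g * (u.1 * a) = 0 := by
      rw [mul_comm, mul_assoc]; exact hu
    obtain ⟨p, hpmin, hpq₁, hgp⟩ := exists_minimalPrime_of_mul_eq_zero ha hW g (u.1 * a) x₁.1 hx₁W hne hga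
    have hCq₁ : C ∉ q₁ := (mem_basicOpen_iff_notMem_primeIdealOf hW x₁.1 hx₁W C).1 x₁.2
    have hpq : p ≤ q := by
      by_contra hnot
      have hpS : p ∈ S := Finset.mem_filter.2 ⟨hfin.mem_toFinset.2 hpmin, hnot⟩
      obtain ⟨w, hw⟩ := Finset.dvd_prod_of_mem c hpS
      have : C ∈ p := by rw [hC, hw]; exact Ideal.mul_mem_right _ _ (hcp p hpS)
      exact hCq₁ (hpq₁ this)
    have hgx' : algebraMap Γ(X, W) (X.presheaf.stalk x) g ∈ nonZeroDivisors (X.presheaf.stalk x) := by
      change X.presheaf.germ W x hxW g ∈ _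
      rw [hgg]; exact hgx
    exact notMem_nonZeroDivisors_of_mem_minimalPrime p q hpmin hpq (X.presheaf.stalk x) g hgp hgx'
  · rw [TopCat.Presheaf.germ_res_apply X.presheaf (homOfLE hCW) x hxC g, hgg]

end Groth.Agent.Helper13.WeakAss

namespace Groth.Agent.Helper13.WeakAss
variable {X : Scheme.{u}}
open Groth.Agent.Helper13.MeroLib

theorem exists_nonZeroDivisor_denominator_of_weakAss_generic
    (ha : ∀ x : X, Curv2.IsWeakAssPoint (Coh.structureModule X) x → ∀ y : X, y ⤳ x → y = x)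
    (hb : ∀ U : X.Opens, IsCompact (U : Set X) → (irreducibleComponents ↥(U : Scheme.{u})).Finite)
    {U : X.Opens} (hU : IsAffineOpen U) (f : Γ(Mero.kmod X, U)) :
    ∃ s ∈ nonZeroDivisors Γ(X, U), ∃ a, Mero.toK X U s * f = Mero.toK X U a := by
  by_contra hcon
  push Not at hcon
  have hfin := finite_minimalPrimes_of_finite_irreducibleComponents hU (hb U hU.isCompact)
  have hsub : ((MeroLib.denomIdeal f : Ideal Γ(X, U)) : Set Γ(X, U)) ⊆ ⋃ p ∈ minimalPrimes Γ(X, U), (id p : Ideal Γ(X, U)) := by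
    rintro s ⟨a₁, hsa⟩
    have hs : s ∉ nonZeroDivisors Γ(X, U) := fun hs => hcon s hs a₁ hsa
    rw [mem_nonZeroDivisors_iff_right] at hs
    push Not at hs
    obtain ⟨a, has, ha0⟩ := hs
    obtain ⟨x₁, hx₁, hne⟩ := exists_germ_ne_zero a ha0
    obtain ⟨p, hpmin, -, hsp⟩ := exists_minimalPrime_of_mul_eq_zero ha hU s a x₁ hx₁ hne
      (by rw [mul_comm]; exact has)
    exact Set.mem_biUnion hpmin hsp
  obtain ⟨p, hpmin, hJp⟩ := (Ideal.subset_union_prime_finite hfin (f := id) 0 0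
    (fun _ h _ _ => h.1.1)).1 hsub
  have hpp : p.IsPrime := hpmin.1.1
  have hy : hU.fromSpec ⟨p, hpp⟩ ∈ U := fromSpec_mem hU _
  obtain ⟨s, a₁, hsa, hsy⟩ := exists_denominator_nhd hU f (hU.fromSpec ⟨p, hpp⟩) hy
  have hsp : s ∈ p := hJp ⟨a₁, hsa⟩
  let _ := TopCat.Presheaf.algebra_section_stalk X.presheaf ⟨hU.fromSpec ⟨p, hpp⟩, hy⟩
  have hloc : IsLocalization.AtPrime (X.presheaf.stalk (hU.fromSpec ⟨p, hpp⟩)) p :=
    hU.isLocalization_stalk' ⟨p, hpp⟩ hy
  exact notMem_nonZeroDivisors_of_mem_minimalPrime p p hpmin le_rfl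
    (X.presheaf.stalk (hU.fromSpec ⟨p, hpp⟩)) s hsp hsy

theorem kmod_isLocalization_of_weakAss_generic
    (ha : ∀ x : X, Curv2.IsWeakAssPoint (Coh.structureModule X) x → ∀ y : X, y ⤳ x → y = x)
    (hb : ∀ U : X.Opens, IsCompact (U : Set X) → (irreducibleComponents ↥(U : Scheme.{u})).Finite)
    (U : X.affineOpens) :
    @IsLocalization Γ(X, U.1) _ (nonZeroDivisors Γ(X, U.1)) Γ(Mero.kmod X, U.1) _
      (Mero.toK X U.1).toAlgebra := by
  let _ := (Mero.toK X U.1).toAlgebra
  have hU : IsAffineOpen U.1 := U.2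
  rw [isLocalization_iff]
  refine ⟨?_, ?_, ?_⟩
  · rintro ⟨s, hs⟩
    have hs' : s ∈ Mero.regSub X U.1 := nonZeroDivisors_le_regSub hU hs
    have h1 : Mero.toK X U.1 s * frac 1 ⟨s, hs'⟩ = 1 :=
      (toK_mul_frac 1 ⟨s, hs'⟩).trans (map_one _)
    exact IsUnit.of_mul_eq_one _ h1
  · intro f
    obtain ⟨s, hs, a, hsa⟩ := exists_nonZeroDivisor_denominator_of_weakAss_generic ha hb hU f
    refine ⟨(a, ⟨s, hs⟩), ?_⟩
    change f * Mero.toK X U.1 s = Mero.toK X U.1 a
    rw [mul_comm]; exact hsa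
  · intro x y hxy
    exact ⟨1, by rw [toK_injective _ hxy]⟩

end Groth.Agent.Helper13.WeakAss
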