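import Groth.Agent.Lib.Helper13.QCohAss
import Groth.Agent.Lib.Helper13.WeakAssMero
import Mathlib.RingTheory.Ideal.MinimalPrime.Noetherian

set_option autoImplicit false
universe u
open CategoryTheory CategoryTheory.Limits AlgebraicGeometry TopologicalSpace Opposite

namespace Groth.Agent.Helper13.QCoh

open Groth.Agent.Helper13.WeakAss

variable {X : Scheme.{u}}

/-- every point of a locally Noetherian scheme has a generization without proper generizations -/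
lemma exists_generic_specializes [IsLocallyNoetherian X] (x : X) :
    ∃ ξ : X, ξ ⤳ x ∧ ∀ y : X, y ⤳ ξ → y = ξ := by
  obtain ⟨_, ⟨V, hV0, rfl⟩, hxV, -⟩ :=
    X.isBasis_affineOpens.exists_subset_of_mem_open (Set.mem_univ x) isOpen_univ
  have hV : IsAffineOpen V := hV0
  obtain ⟨p, hp, hpq⟩ := Ideal.exists_minimalPrimes_le
    (bot_le : (⊥ : Ideal Γ(X, V)) ≤ (hV.primeIdealOf ⟨x, hxV⟩).asIdeal)
  have hpp : p.IsPrime := hp.1.1
  refine ⟨hV.fromSpec ⟨p, hpp⟩, ?_, ?_⟩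
  · have h1 : (⟨p, hpp⟩ : PrimeSpectrum Γ(X, V)) ⤳ hV.primeIdealOf ⟨x, hxV⟩ :=
      (PrimeSpectrum.le_iff_specializes _ _).1 hpq
    have h2 := h1.map hV.fromSpec.continuous
    rwa [hV.fromSpec_primeIdealOf ⟨x, hxV⟩] at h2
  · intro y hy
    have hyV : y ∈ V := hy.mem_open V.2 (fromSpec_mem hV _)
    have h3 : hV.fromSpec (hV.primeIdealOf ⟨y, hyV⟩) = y := hV.fromSpec_primeIdealOf ⟨y, hyV⟩
    rw [← h3] at hy ⊢
    have h4 : hV.primeIdealOf ⟨y, hyV⟩ ⤳ (⟨p, hpp⟩ : PrimeSpectrum Γ(X, V)) :=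
      (hV.fromSpec.isOpenEmbedding.toIsInducing.specializes_iff).1 hy
    have h5 : (hV.primeIdealOf ⟨y, hyV⟩).asIdeal ≤ p := (PrimeSpectrum.le_iff_specializes _ _).2 h4
    have h6 : p ≤ (hV.primeIdealOf ⟨y, hyV⟩).asIdeal := hp.2 ⟨(hV.primeIdealOf ⟨y, hyV⟩).2, bot_le⟩ h5
    congr 1
    exact PrimeSpectrum.ext (le_antisymm h5 h6)

/-- the prime of a point without proper generizations is a minimal prime -/
lemma primeIdealOf_mem_minimalPrimes_of_generic {V : X.Opens} (hV : IsAffineOpen V) (ξ : X)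
    (hξV : ξ ∈ V) (hgen : ∀ y : X, y ⤳ ξ → y = ξ) :
    (hV.primeIdealOf ⟨ξ, hξV⟩).asIdeal ∈ minimalPrimes Γ(X, V) := by
  apply mem_minimalPrimes_of_generic hV
  have e : hV.fromSpec (hV.primeIdealOf ⟨ξ, hξV⟩) = ξ := hV.fromSpec_primeIdealOf ⟨ξ, hξV⟩
  rw [e]
  exact hgen

/-- points without proper generizations are (weakly) associated points of the structure sheaf -/
lemma isWeakAssPoint_unit_of_generic (ξ : X) (hgen : ∀ y : X, y ⤳ ξ → y = ξ) :
    Curv2.IsWeakAssPoint (Coh.structureModule X) ξ := by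
  obtain ⟨_, ⟨V, hV0, rfl⟩, hξV, -⟩ :=
    X.isBasis_affineOpens.exists_subset_of_mem_open (Set.mem_univ ξ) isOpen_univ
  have hV : IsAffineOpen V := hV0
  have hmin := primeIdealOf_mem_minimalPrimes_of_generic hV ξ hξV hgen
  have hann : annIdeal (1 : Γ(X, V)) = ⊥ := by
    ext r
    rw [mem_annIdeal, mul_one, Ideal.mem_bot]
  have := isWeakAssPoint_of_mem_minimalPrimes hV 1 (hV.primeIdealOf ⟨ξ, hξV⟩) (by rw [hann]; exact hmin)
  have e : hV.fromSpec (hV.primeIdealOf ⟨ξ, hξV⟩) = ξ := hV.fromSpec_primeIdealOf ⟨ξ, hξV⟩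
  rwa [e] at this

/-- a point without proper generizations of a locally Noetherian scheme lies in every dense open -/
lemma generic_mem_of_dense [IsLocallyNoetherian X] (U : X.Opens) (hU : Dense (U : Set X)) (ξ : X)
    (hgen : ∀ y : X, y ⤳ ξ → y = ξ) : ξ ∈ U := by
  classical
  obtain ⟨_, ⟨V, hV0, rfl⟩, hξV, -⟩ :=
    X.isBasis_affineOpens.exists_subset_of_mem_open (Set.mem_univ ξ) isOpen_univ
  have hV : IsAffineOpen V := hV0
  have hN : IsNoetherianRing Γ(X, V) := IsLocallyNoetherian.component_noetherian ⟨V, hV⟩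
  set p := (hV.primeIdealOf ⟨ξ, hξV⟩).asIdeal with hp
  have hmin : p ∈ minimalPrimes Γ(X, V) := primeIdealOf_mem_minimalPrimes_of_generic hV ξ hξV hgen
  have hfin := minimalPrimes.finite_of_isNoetherianRing Γ(X, V)
  set s : Finset (Ideal Γ(X, V)) := hfin.toFinset.erase p with hs
  have hnot : ¬ s.inf id ≤ p := by
    intro hle
    obtain ⟨q, hq, hqp⟩ := (Ideal.IsPrime.inf_le' (hV.primeIdealOf ⟨ξ, hξV⟩).2).1 hle
    rw [hs, Finset.mem_erase, Set.Finite.mem_toFinset] at hq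
    have hq' : q ∈ minimalPrimes Γ(X, V) := hq.2
    have : p ≤ q := hmin.2 ⟨hq'.1.1, bot_le⟩ hqp
    exact hq.1 (le_antisymm hqp this)
  obtain ⟨a, has, hap⟩ := Set.not_subset.1 hnot
  have hξa : ξ ∈ X.basicOpen a := (mem_basicOpen_iff_notMem_primeIdealOf hV ξ hξV a).2 hap
  obtain ⟨z, hza, hzU⟩ := hU.inter_open_nonempty _ (X.basicOpen a).2 ⟨ξ, hξa⟩
  have hzV : z ∈ V := X.basicOpen_le a hza
  have hza' : a ∉ (hV.primeIdealOf ⟨z, hzV⟩).asIdeal :=
    (mem_basicOpen_iff_notMem_primeIdealOf hV z hzV a).1 hza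
  obtain ⟨q, hq, hqz⟩ := Ideal.exists_minimalPrimes_le
    (bot_le : (⊥ : Ideal Γ(X, V)) ≤ (hV.primeIdealOf ⟨z, hzV⟩).asIdeal)
  have hqp : q = p := by
    by_contra hne
    have hqs : q ∈ s := by
      rw [hs, Finset.mem_erase, Set.Finite.mem_toFinset]
      exact ⟨hne, hq⟩
    have : a ∈ q := by
      have h1 : s.inf id ≤ id q := Finset.inf_le hqs
      exact h1 has
    exact hza' (hqz this)
  rw [hqp] at hqz
  have hξz : ξ ⤳ z := (primeIdealOf_le_iff hV ξ z hξV hzV).1 hqz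
  exact hξz.mem_open U.2 hzU

end Groth.Agent.Helper13.QCoh
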