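import Mathlib
import Groth.Prelude.Def_Curv2
import Groth.Agent.Lib.Helper13.CurveVan2
import Groth.Agent.Lib.Helper13.QCohGeneric
import Groth.Agent.Lib.Helper12.DenseAff

set_option autoImplicit false
universe u
open CategoryTheory CategoryTheory.Limits AlgebraicGeometry Opposite TopologicalSpace

namespace Groth.Agent.Helper13.CurveGen

/-- in a `T0` space of dimension at most one, a point having a proper generization is closed. -/
lemma isClosed_singleton_of_generization {T : Type*} [TopologicalSpace T] [T0Space T]
    (hdim : topologicalKrullDim T ≤ 1) (x y : T) (hyx : y ⤳ x) (hne : y ≠ x) :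
    IsClosed ({x} : Set T) := by
  have hX := Order.krullDim_le_one_iff.mp hdim
  let a : IrreducibleCloseds T := ⟨closure {x}, isIrreducible_singleton.closure, isClosed_closure⟩
  let b : IrreducibleCloseds T := ⟨closure {y}, isIrreducible_singleton.closure, isClosed_closure⟩
  have hab : a ≤ b := by
    show closure {x} ⊆ closure {y}
    exact closure_minimal (Set.singleton_subset_iff.2 (specializes_iff_mem_closure.1 hyx))
      isClosed_closure
  have hcl : closure ({x} : Set T) = {x} := by
    apply Set.Subset.antisymm _ subset_closure
    intro z hz
    rcases hX a with hmin | hmax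
    · let c : IrreducibleCloseds T :=
        ⟨closure {z}, isIrreducible_singleton.closure, isClosed_closure⟩
      have hca : c ≤ a := by
        show closure {z} ⊆ closure {x}
        exact closure_minimal (Set.singleton_subset_iff.2 hz) isClosed_closure
      have hac : a ≤ c := hmin hca
      have hx : x ∈ closure ({z} : Set T) := hac (subset_closure (Set.mem_singleton x))
      have h1 : z ⤳ x := specializes_iff_mem_closure.2 hx
      have h2 : x ⤳ z := specializes_iff_mem_closure.2 hz
      exact (h1.antisymm h2).eq
    · exfalso
      have hba : b ≤ a := hmax hab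
      have hy : y ∈ closure ({x} : Set T) := hba (subset_closure (Set.mem_singleton y))
      have h1 : x ⤳ y := specializes_iff_mem_closure.2 hy
      exact hne (hyx.antisymm h1).eq
  rw [← hcl]
  exact isClosed_closure

/-- on a locally noetherian scheme of dimension at most one, the points outside a dense open are
closed. -/
lemma isClosed_singleton_of_notMem_dense {X : Scheme.{u}} [IsLocallyNoetherian X]
    (hdim : topologicalKrullDim X ≤ 1) (U : X.Opens) (hU : Dense (U : Set X)) (x : X)
    (hx : x ∉ U) : IsClosed ({x} : Set X) := by
  by_contra hcl
  apply hx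
  apply Groth.Agent.Helper13.QCoh.generic_mem_of_dense U hU x
  intro y hyx
  by_contra hne
  exact hcl (isClosed_singleton_of_generization hdim x y hyx hne)

/-- Grothendieck vanishing on a noetherian scheme of dimension at most one, separated over an
affine base: quasi-coherent cohomology vanishes in degrees at least two. -/
theorem HH_subsingleton_of_two_le {X B : Scheme.{u}} (g : X ⟶ B) [IsAffine B] [IsSeparated g]
    [IsNoetherian X] (hdim : topologicalKrullDim X ≤ 1)
    (F : X.Modules) [F.IsQuasicoherent] (p : ℕ) (hp : 2 ≤ p) : Subsingleton (Coh.HH X F p) := by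
  haveI : QuasiSeparatedSpace X := inferInstance
  obtain ⟨U, hU, hUd⟩ := Groth.Agent.Helper12.DenseAff.exists_dense_affineOpen X
  haveI : IsAffine U := hU
  haveI : IsAffineHom U.ι :=
    Groth.Agent.Helper13.FinProj.isAffineHom_ι_of_isSeparated g U hU
  have IH : Groth.Agent.Helper9.AffStrat.IHyp X U 0 := by
    intro Y i hi hmiss G hG q hq
    haveI := hi
    haveI : CompactSpace Y := QuasiCompact.compactSpace_of_compactSpace i
    haveI : IsLocallyNoetherian Y := LocallyOfFiniteType.isLocallyNoetherian i
    apply Groth.Agent.Helper13.CurveVan.HH_subsingleton_of_closed_points Y _ G q hq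
    intro y
    have hcl : IsClosed ({i y} : Set X) :=
      isClosed_singleton_of_notMem_dense hdim U hUd (i y) (hmiss y)
    have : ({y} : Set Y) = i ⁻¹' {i y} := by
      ext z
      simp only [Set.mem_singleton_iff, Set.mem_preimage]
      exact ⟨fun h => by rw [h], fun h => i.isClosedEmbedding.injective h⟩
    rw [this]
    exact hcl.preimage i.continuous
  exact Groth.Agent.Helper9.AffStrat.step U 0 IH F p (by omega)

end Groth.Agent.Helper13.CurveGen
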