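import Mathlib
import Groth.Prelude.Def_Curv2
import Groth.Agent.Lib.Helper13.DiscSupp

universe u
set_option linter.unusedSectionVars false
open CategoryTheory CategoryTheory.Limits Opposite TopologicalSpace AlgebraicGeometry

namespace Groth.Agent.Helper13.CurveGen

open Groth.Agent.Helper13.ProfiniteAcyc Groth.Agent.Helper13.ColimSec
  Groth.Agent.Helper13.DiscSupp

variable {X : Scheme.{u}} (M : X.Modules)

lemma subsingleton_of_disjoint (T : Set X)
    (hsupp : ∀ x : X, x ∉ T → Subsingleton (M.presheaf.stalk x))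
    (W : X.Opens) (hW : ∀ x ∈ W, x ∉ T) :
    Subsingleton ((Coh.toAb M).obj.obj (op W)) := by
  refine ⟨fun a b => ?_⟩
  apply TopCat.Presheaf.section_ext ⟨M.presheaf, M.isSheaf⟩ W
  intro x hx
  have hs : Subsingleton (M.presheaf.stalk x) := hsupp x (hW x hx)
  exact Subsingleton.elim _ _

lemma isClosed_of_subset [IsLocallyNoetherian X] (T : Set X) (hT : IsClosed T)
    (h0 : ∀ x ∈ T, IsClosed ({x} : Set X)) (A : Set X) (hA : A ⊆ T) :
    IsClosed A := by
  rw [(IsOpenCover.mk (iSup_affineOpens_eq_top X)).isClosed_iff_coe_preimage]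
  intro U
  obtain ⟨V, hV⟩ := U
  haveI : IsNoetherianRing Γ(X, V) := IsLocallyNoetherian.component_noetherian ⟨V, hV⟩
  have hN : NoetherianSpace (V : Set X) := noetherianSpace_of_isAffineOpen V hV
  have hQ : QuasiSober (V : Set X) := inferInstanceAs (QuasiSober (V : Scheme.{u}))
  exact @isClosed_preimage_val_of_subset X _ (V : Set X) hN hQ _ A hT h0 hA

/-- a module on a locally Noetherian scheme supported in a closed set of closed points is
flasque -/
theorem isFlasque_of_support_subset [IsLocallyNoetherian X] (T : Set X) (hT : IsClosed T)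
    (h0 : ∀ x ∈ T, IsClosed ({x} : Set X))
    (hsupp : ∀ x : X, x ∉ T → Subsingleton (M.presheaf.stalk x)) :
    TopCat.Sheaf.IsFlasque (X := X.toTopCat) (Coh.toAb M) where
  epi {U V} i := by
    rw [AddCommGrpCat.epi_iff_surjective]
    intro s
    have hAcl : IsClosed (T ∩ (V.unop).1) :=
      isClosed_of_subset T hT h0 _ Set.inter_subset_left
    let W' : Opens X.toTopCat :=
      ⟨(U.unop).1 \ (T ∩ (V.unop).1), U.unop.2.sdiff hAcl⟩
    have hle : V.unop ≤ U.unop := i.unop.le
    have hW'le : W' ≤ U.unop := fun x hx => hx.1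
    have hcov : U.unop ≤ V.unop ⊔ W' := by
      intro x hx
      by_cases hxV : x ∈ V.unop
      · exact Or.inl hxV
      · exact Or.inr ⟨hx, fun h => hxV h.2⟩
    have hsub : Subsingleton ((Coh.toAb M).obj.obj (op (V.unop ⊓ W'))) := by
      apply subsingleton_of_disjoint M T hsupp
      intro x hx hxT
      exact hx.2.2 ⟨hxT, hx.1⟩
    obtain ⟨t, ht, -⟩ := exists_glue₂ (X := X.toTopCat) (Coh.toAb M) hle hW'le hcov s 0
      (Subsingleton.elim _ _)
    refine ⟨t, ?_⟩
    have hi : i = (homOfLE hle).op := Subsingleton.elim _ _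
    rw [hi]
    exact ht

theorem HH_subsingleton_of_support_subset [IsLocallyNoetherian X] (T : Set X) (hT : IsClosed T)
    (h0 : ∀ x ∈ T, IsClosed ({x} : Set X))
    (hsupp : ∀ x : X, x ∉ T → Subsingleton (M.presheaf.stalk x)) (q : ℕ) (hq : 0 < q) :
    Subsingleton (Coh.HH X M q) := by
  obtain ⟨n, rfl⟩ : ∃ n, q = n + 1 := ⟨q - 1, by omega⟩
  exact Groth.Agent.Helper24.Flasque.H_succ_subsingleton (X := X.toTopCat) n (Coh.toAb M)
    (isFlasque_of_support_subset M T hT h0 hsupp)

end Groth.Agent.Helper13.CurveGen
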