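import Mathlib
import Groth.Prelude.Def_Curv2
import Groth.Prelude.Def_ClSub2
import Groth.Agent.Lib.Helper13.CurveDeg1

set_option autoImplicit false
universe u
open CategoryTheory CategoryTheory.Limits AlgebraicGeometry Opposite TopologicalSpace
open Groth.Agent.Helper13.QCoh Groth.Agent.Helper13.FinType

namespace Groth.Agent.Helper13.CurveGen

variable {X Y : Scheme.{u}} (f : Y ⟶ X)

/-- if `f` restricts to a closed immersion over the open `U`, the points of `U` have a basis of
open neighbourhoods over which `f` is surjective on sections. -/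
theorem exists_nhd_app_surjective (U : X.Opens) (hfU : IsClosedImmersion (f ∣_ U)) (x : X)
    (hx : x ∈ U) (V : X.Opens) (hxV : x ∈ V) :
    ∃ W : X.Opens, x ∈ W ∧ W ≤ V ∧ Function.Surjective (f.app W) := by
  haveI := hfU
  have hxV' : (⟨x, hx⟩ : U) ∈ U.ι ⁻¹ᵁ V := hxV
  obtain ⟨_, ⟨V', hV', rfl⟩, hxV'', hsub⟩ :=
    (U : Scheme.{u}).isBasis_affineOpens.exists_subset_of_mem_open hxV' (U.ι ⁻¹ᵁ V).isOpen
  refine ⟨U.ι ''ᵁ V', ⟨⟨x, hx⟩, hxV'', rfl⟩, ?_, ?_⟩
  · rintro _ ⟨y, hy, rfl⟩
    exact hsub hy
  · have h1 : Function.Surjective ((f ∣_ U).app V') := Scheme.Hom.app_surjective _ V' hV'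
    rw [morphismRestrict_app] at h1
    intro b
    let e := Y.presheaf.map (eqToHom (image_morphismRestrict_preimage f U V')).op
    obtain ⟨a, ha⟩ := h1 (e b)
    refine ⟨a, ?_⟩
    have hinj : Function.Injective e := by
      haveI : IsIso e := inferInstance
      exact ((ConcreteCategory.isIso_iff_bijective e).mp inferInstance).1
    apply hinj
    exact ha

end Groth.Agent.Helper13.CurveGen

namespace Groth.Agent.Helper13.CurveGen

variable {X Y : Scheme.{u}} (f : Y ⟶ X)

theorem stalk_cokernel_unitToPush_subsingleton (U : X.Opens) (hfU : IsClosedImmersion (f ∣_ U))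
    (x : X) (hx : x ∈ U) :
    Subsingleton ((cokernel (ClSub.unitToPush f)).presheaf.stalk x) := by
  refine ⟨fun a b => ?_⟩
  have key : ∀ m : (cokernel (ClSub.unitToPush f)).presheaf.stalk x, m = 0 := by
    intro m
    obtain ⟨l, rfl⟩ := stalkMap_surjective_of_epi (cokernel.π (ClSub.unitToPush f)) x m
    obtain ⟨V, hV, a₀, rfl⟩ := TopCat.Presheaf.exists_germ_eq
      ((Scheme.Modules.pushforward f).obj (Coh.structureModule Y)).presheaf l
    obtain ⟨W, hxW, hWV, hsurj⟩ := exists_nhd_app_surjective f U hfU x hx V hV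
    have h1 : ((Scheme.Modules.pushforward f).obj (Coh.structureModule Y)).presheaf.germ V x hV a₀ =
        ((Scheme.Modules.pushforward f).obj (Coh.structureModule Y)).presheaf.germ W x hxW
          (((Scheme.Modules.pushforward f).obj (Coh.structureModule Y)).presheaf.map
            (homOfLE hWV).op a₀) :=
      (TopCat.Presheaf.germ_res_apply _ (homOfLE hWV) x hxW a₀).symm
    rw [h1]
    obtain ⟨b, hb⟩ := hsurj (((Scheme.Modules.pushforward f).obj
      (Coh.structureModule Y)).presheaf.map (homOfLE hWV).op a₀)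
    have h2 : (ClSub.unitToPush f).app W b =
        ((Scheme.Modules.pushforward f).obj (Coh.structureModule Y)).presheaf.map
          (homOfLE hWV).op a₀ := hb
    rw [← h2, stalkMap_germ]
    have h3 : (cokernel.π (ClSub.unitToPush f)).app W ((ClSub.unitToPush f).app W b) =
        (ClSub.unitToPush f ≫ cokernel.π (ClSub.unitToPush f)).app W b := rfl
    rw [h3, cokernel.condition]
    exact map_zero _
  rw [key a, key b]

end Groth.Agent.Helper13.CurveGen
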