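import Mathlib
import Groth.Prelude.Def_Curv2
import Groth.Prelude.Def_ClSub2
import Groth.Agent.Lib.Helper13.CurveGen1
import Groth.Agent.Lib.Helper13.CurveGen2
import Groth.Agent.Lib.Helper13.CurveGen3
import Groth.Agent.Lib.Helper13.QCohPush
import Groth.Agent.Lib.Helper13.PushEdgeSch
import Groth.Agent.Lib.Helper13.FinProj1
import Groth.Agent.Lib.Helper13.CohRoof
import Groth.Agent.Lib.Helper26.LesDim
import Groth.Agent.S0028

set_option autoImplicit false
universe u
open CategoryTheory CategoryTheory.Limits AlgebraicGeometry Opposite TopologicalSpace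

namespace Groth.Agent.Helper13.CurveGen

theorem finrank_le_of_surjective {k V W : Type*} [Field k] [AddCommGroup V] [AddCommGroup W]
    [Module k V] [Module k W] [FiniteDimensional k V] (g : V →ₗ[k] W)
    (hg : Function.Surjective g) : Module.finrank k W ≤ Module.finrank k V := by
  have h := LinearMap.finrank_range_add_finrank_ker g
  rw [LinearMap.range_eq_top.2 hg, finrank_top] at h
  omega

theorem main1566 (k : Type u) [Field k] (X Y : Scheme.{u}) [X.Over (Spec (CommRingCat.of k))]
    [Y.Over (Spec (CommRingCat.of k))]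
    [IsProper (X ↘ (Spec (CommRingCat.of k)))] (hdim : topologicalKrullDim X ≤ 1) (f : Y ⟶ X)
    [IsFinite f] (hf : f ≫ (X ↘ (Spec (CommRingCat.of k))) = Y ↘ (Spec (CommRingCat.of k)))
    (U : X.Opens) (hU : Dense (U : Set X)) (hfU : IsClosedImmersion (f ∣_ U)) :
    Curv2.genus k Y ≤ Curv2.genus k X := by
  haveI : IsLocallyNoetherian X :=
    LocallyOfFiniteType.isLocallyNoetherian (X ↘ (Spec (CommRingCat.of k)))
  haveI : CompactSpace X :=
    QuasiCompact.compactSpace_of_compactSpace (X ↘ Spec (CommRingCat.of k))
  haveI : IsNoetherian X := ⟨⟩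
  haveI hqO : (Coh.structureModule X).IsQuasicoherent :=
    (Groth.Agent.Helper13.CohRoof.isCoh_structureModule X).1
  haveI hqOY : (Coh.structureModule Y).IsQuasicoherent :=
    (Groth.Agent.Helper13.CohRoof.isCoh_structureModule Y).1
  haveI hqA : ((Scheme.Modules.pushforward f).obj (Coh.structureModule Y)).IsQuasicoherent :=
    Groth.Agent.Helper13.QCohPush.isQuasicoherent_pushforward f _
  obtain ⟨η, hη⟩ : ∃ η : Coh.structureModule X ⟶
      (Scheme.Modules.pushforward f).obj (Coh.structureModule Y), η = ClSub.unitToPush f :=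
    ⟨_, rfl⟩
  haveI hqK : (kernel η).IsQuasicoherent := Groth.Agent.Helper13.QCohLocal.isQuasicoherent_kernel η
  -- vanishing statements
  have vK : Subsingleton (Coh.HH X (kernel η) (1 + 1)) :=
    HH_subsingleton_of_two_le (X ↘ Spec (CommRingCat.of k)) hdim _ (1 + 1) le_rfl
  have vC : Subsingleton (Coh.HH X (cokernel η) 1) := by
    apply HH_subsingleton_of_support_subset (cokernel η) ((U : Set X)ᶜ) U.isOpen.isClosed_compl
      (fun x hx => isClosed_singleton_of_notMem_dense hdim U hU x hx) _ 1 Nat.one_pos
    intro x hx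
    rw [hη]
    exact stalk_cokernel_unitToPush_subsingleton f U hfU x (by simpa using hx)
  -- the two short exact sequences
  have hS₂ : (ShortComplex.mk (kernel.ι (cokernel.π η)) (cokernel.π η)
      (kernel.condition _)).ShortExact :=
    { exact := ShortComplex.exact_of_f_is_kernel _ (kernelIsKernel _)
      mono_f := inferInstanceAs (Mono (kernel.ι (cokernel.π η)))
      epi_g := inferInstanceAs (Epi (cokernel.π η)) }
  have hz : kernel.ι η ≫ Abelian.factorThruImage η = 0 := by
    rw [← cancel_mono (Abelian.image.ι η), Category.assoc, Abelian.image.fac, kernel.condition,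
      zero_comp]
  have hS₁ : (ShortComplex.mk (kernel.ι η) (Abelian.factorThruImage η) hz).ShortExact :=
    { exact := ShortComplex.exact_of_f_is_kernel _
        (isKernelOfComp (Abelian.image.ι η) η (kernelIsKernel η) hz (Abelian.image.fac η))
      mono_f := inferInstanceAs (Mono (kernel.ι η))
      epi_g := inferInstanceAs (Epi (Abelian.factorThruImage η)) }
  have s₁ : Function.Surjective (Canon.HHlin k (Abelian.factorThruImage η) 1) :=
    Groth.Agent.Helper26.DualFun.HHlin_surjective_of_vanish k 1
      (ShortComplex.mk (kernel.ι η) (Abelian.factorThruImage η) hz) hS₁ vK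
  have s₂ : Function.Surjective (Canon.HHlin k (kernel.ι (cokernel.π η)) 1) := by
    intro y
    exact Groth.Agent.Helper26.LesDim.exact₂ k
      (ShortComplex.mk (kernel.ι (cokernel.π η)) (cokernel.π η) (kernel.condition _)) hS₂ 1 y
      (Subsingleton.elim (α := Coh.HH X (cokernel η) 1) _ _)
  haveI : Module.Finite k (Coh.HH X (Coh.structureModule X) 1) :=
    Groth.Agent.Helper13.FinProj.finite_HH_of_isProper k X _
      (Groth.Agent.Helper13.CohRoof.isCoh_structureModule X) 1
  have hb := Groth.Agent.Helper13.PushEdgeSch.pushEdge_bijective f (Coh.structureModule Y) 1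
    (fun q => Groth.Agent.S0028.result f (Coh.structureModule Y) (q + 1) (Nat.succ_pos q))
  let e := Groth.Agent.Helper13.FinProj.pushEdgeLin f k hf (Coh.structureModule Y) 1
  have s₃ : Function.Surjective e := hb.2
  have t₁ := finrank_le_of_surjective _ s₁
  haveI : Module.Finite k (Coh.HH X (Abelian.image η) 1) := Module.Finite.of_surjective _ s₁
  have t₂ := finrank_le_of_surjective _ s₂
  haveI : Module.Finite k (Coh.HH X ((Scheme.Modules.pushforward f).obj (Coh.structureModule Y)) 1) :=
    Module.Finite.of_surjective _ s₂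
  have t₃ := finrank_le_of_surjective _ s₃
  unfold Curv2.genus
  exact t₃.trans (t₂.trans t₁)

end Groth.Agent.Helper13.CurveGen
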