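import Mathlib
import Groth.Prelude.Def_Curv2
import Groth.Agent.Lib.Helper13.CurveVan2
import Groth.Agent.Lib.Helper13.FreeMod

set_option autoImplicit false
universe u
open CategoryTheory CategoryTheory.Limits AlgebraicGeometry Opposite TopologicalSpace

namespace Groth.Agent.Helper13.CurveVan

open Groth.Agent.Helper13.CurveDeg

variable (k : Type u) [Field k] (X : Scheme.{u}) [X.Over (Spec (CommRingCat.of k))]
  [IsIntegral X] [IsProper (X ↘ Spec (CommRingCat.of k))]

/-- a nontrivial `H⁰` gives a nonzero homomorphism from the structure sheaf. -/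
theorem exists_hom_ne_zero {Y : Scheme.{u}} (L : Y.Modules) (h : Nontrivial (Coh.HH Y L 0)) :
    ∃ s : Coh.structureModule Y ⟶ L, s ≠ 0 := by
  obtain ⟨a, ha⟩ := exists_ne (0 : Coh.HH Y L 0)
  let e := Sheaf.H.equiv₀ (Coh.toAb L) (T := (⊤ : Opens Y)) isTerminalTop
  have ht : e a ≠ 0 := by
    intro h0
    apply ha
    apply e.injective
    rw [h0, map_zero]
  refine ⟨Groth.Agent.Helper13.LocFree.homOfSec L (e a), fun h0 => ht ?_⟩
  have h1 := Groth.Agent.Helper13.LocFree.homOfSec_app_one L (e a) ⊤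
  rw [h0] at h1
  have h2 : L.presheaf.map (homOfLE (le_top : (⊤ : Y.Opens) ≤ ⊤)).op (e a) = e a := by
    have : (homOfLE (le_top : (⊤ : Y.Opens) ≤ ⊤)).op = 𝟙 _ := rfl
    rw [this, L.presheaf.map_id]
    rfl
  rw [← h2, ← h1]
  rfl

include k in
theorem euler_eq_sub (hdim : topologicalKrullDim X ≤ 1) (F : X.Modules) [F.IsQuasicoherent] :
    Curv2.euler k X F = (Module.finrank k (Coh.HH X F 0) : ℤ) -
      (Module.finrank k (Coh.HH X F 1) : ℤ) := by
  rw [Groth.Agent.Helper13.EulerAdd.euler_eq_sum k F 2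
    (fun p hp => HH_subsingleton_of_two_le k X hdim F p hp)]
  simp [Finset.sum_range_succ]
  ring

end Groth.Agent.Helper13.CurveVan
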