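import Mathlib
import Groth.Prelude.Def_Coh
import Groth.Prelude.Def_FlatMod2
import Groth.Agent.Lib.Helper5.PRF3
import Groth.Agent.Lib.Helper5.K0Res1
import Groth.Agent.Lib.Lead.KerFree2
import Groth.Agent.Lib.Lead.Hom3
import Groth.Agent.Lib.Helper5.K0Coh
import Groth.Agent.Lib.Helper5.PCH1

/-!
# Syzygies of coherent modules on regular schemes are locally free
-/

set_option autoImplicit false
set_option linter.unusedSectionVars false
set_option linter.unusedVariables false
set_option linter.style.haveILetI false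

universe u

open CategoryTheory CategoryTheory.Limits AlgebraicGeometry

namespace Groth.Agent.Helper13.Syzygy

section Abstract

variable {C : Type*} [Category C] [Abelian C]

/-- for an exact short complex, `0 → ker f → X₁ → ker g → 0` is short exact -/
theorem shortExact_kernels (T : ShortComplex C) (hT : T.Exact) :
    (ShortComplex.mk (kernel.ι T.f) (kernel.lift T.g T.f T.zero) (by
      rw [← cancel_mono (kernel.ι T.g)]; simp)).ShortExact := by
  haveI : Epi (kernel.lift T.g T.f T.zero) := T.exact_iff_epi_kernel_lift.1 hT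
  have w : kernel.ι T.f ≫ kernel.lift T.g T.f T.zero = 0 := by
    rw [← cancel_mono (kernel.ι T.g)]; simp
  have hk : IsLimit (KernelFork.ofι (kernel.ι T.f) w) :=
    isKernelOfComp (kernel.ι T.g) T.f (kernelIsKernel T.f) w (kernel.lift_ι _ _ _)
  exact Groth.Agent.Helper5.KRes.shortExact_of_isKernel _ _ w hk

variable {D : Type*} [Category D] [Abelian D] (G : C ⥤ D) [G.Additive]
  [PreservesFiniteLimits G] [PreservesFiniteColimits G]

/-- the `m`-th syzygy in a resolution by objects with projective image, of an object whose image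
has projective dimension `< m + 1`, has projective image. -/
theorem projective_of_resolution (m : ℕ) (S : ComposableArrows C (m + 1)) (hS : S.Exact)
    (hmono : Mono (S.map' 0 1 (Nat.zero_le 1) (Nat.le_add_left 1 m)))
    (hepi : Epi (S.map' m (m + 1) (Nat.le_succ m) (le_refl (m + 1))))
    (hproj : ∀ (i : ℕ) (_ : 1 ≤ i) (hi : i ≤ m), Projective (G.obj (S.obj' i (by omega))))
    (hpd : HasProjectiveDimensionLT (G.obj (S.obj' (m + 1) (le_refl _))) (m + 1)) :
    Projective (G.obj (S.obj' 0 (Nat.zero_le _))) := by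
  rcases Nat.eq_zero_or_pos m with hm | hm
  · subst hm
    haveI := hmono
    haveI := hepi
    haveI : IsIso (S.map' 0 1 (Nat.zero_le 1) (le_refl 1)) := isIso_of_mono_of_epi _
    have e : S.obj' 0 (Nat.zero_le _) ≅ S.obj' 1 (le_refl _) := asIso (S.map' 0 1 (Nat.zero_le 1) (le_refl 1))
    rw [projective_iff_hasProjectiveDimensionLT_one]
    exact hasProjectiveDimensionLT_of_iso (G.mapIso e).symm 1
  -- the kernels
  have key : ∀ (d i : ℕ) (hid : i + d = m) (h1 : 1 ≤ i),
      HasProjectiveDimensionLT (G.obj (kernel (S.map' i (i + 1) (by omega) (by omega)))) i := by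
    intro d
    induction d with
    | zero =>
      intro i hid h1
      have him : i = m := by omega
      subst him
      haveI := hepi
      have hSE := Groth.Agent.Helper5.KRes.shortExact_kernel
        (S.map' i (i + 1) (Nat.le_succ i) (le_refl (i + 1)))
      have hSE' := hSE.map_of_exact G
      haveI : Projective (G.obj (S.obj' i (by omega))) := hproj i h1 (le_refl _)
      have h2 : HasProjectiveDimensionLT (G.obj (S.obj' i (by omega))) i :=
        hasProjectiveDimensionLT_of_ge _ 1 i h1
      exact hSE'.hasProjectiveDimensionLT_X₁ i h2 hpd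
    | succ d ih =>
      intro i hid h1
      have h3 := ih (i + 1) (by omega) (by omega)
      have hT := hS.exact i (by omega)
      have hSE := shortExact_kernels _ hT
      have hSE' := hSE.map_of_exact G
      haveI : Projective (G.obj (S.obj' i (by omega))) := hproj i h1 (by omega)
      have h2 : HasProjectiveDimensionLT (G.obj (S.obj' i (by omega))) i :=
        hasProjectiveDimensionLT_of_ge _ 1 i h1
      exact hSE'.hasProjectiveDimensionLT_X₁ i h2 h3
  have h1 := key (m - 1) 1 (by omega) (le_refl 1)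
  rw [← projective_iff_hasProjectiveDimensionLT_one] at h1
  -- `S₀ ≅ ker (S₁ → S₂)`
  have hT := hS.exact 0 (by omega)
  haveI : Epi (kernel.lift (S.map' 1 2 (by omega) (by omega)) (S.map' 0 1 (by omega) (by omega))
      (hS.toIsComplex.zero 0 (by omega))) :=
    (ShortComplex.exact_iff_epi_kernel_lift _).1 hT
  haveI : Mono (kernel.lift (S.map' 1 2 (by omega) (by omega)) (S.map' 0 1 (by omega) (by omega))
      (hS.toIsComplex.zero 0 (by omega))) := by
    haveI := hmono
    exact mono_of_mono_fac (kernel.lift_ι _ _ _)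
  haveI : IsIso (kernel.lift (S.map' 1 2 (by omega) (by omega)) (S.map' 0 1 (by omega) (by omega))
      (hS.toIsComplex.zero 0 (by omega))) := isIso_of_mono_of_epi _
  have e := asIso (kernel.lift (S.map' 1 2 _ _)
    (S.map' 0 1 _ _) (hS.toIsComplex.zero 0 _))
  exact Projective.of_iso (G.mapIso e).symm h1

end Abstract

section Sch

variable {X : Scheme.{u}}

/-- local rings of a scheme have dimension at most the dimension of the scheme -/
theorem ringKrullDim_stalk_le (x : X) :
    ringKrullDim (X.presheaf.stalk x) ≤ topologicalKrullDim X := by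
  obtain ⟨_, ⟨U, hU, rfl⟩, hxU, -⟩ :=
    X.isBasis_affineOpens.exists_subset_of_mem_open (Set.mem_univ x) isOpen_univ
  have hU' : IsAffineOpen U := hU
  letI := TopCat.Presheaf.algebra_section_stalk X.presheaf (⟨x, hxU⟩ : U)
  haveI hloc : IsLocalization.AtPrime (X.presheaf.stalk x)
      (hU'.primeIdealOf ⟨x, hxU⟩).asIdeal := hU'.isLocalization_stalk ⟨x, hxU⟩
  rw [IsLocalization.AtPrime.ringKrullDim_eq_height (hU'.primeIdealOf ⟨x, hxU⟩).asIdeal
    (X.presheaf.stalk x)]
  refine (Ideal.height_le_ringKrullDim_of_ne_top (Ideal.IsPrime.ne_top inferInstance)).trans ?_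
  rw [← PrimeSpectrum.topologicalKrullDim_eq_ringKrullDim]
  exact hU'.fromSpec.isOpenEmbedding.isInducing.topologicalKrullDim_le

theorem isCoh_of_isFinLocFree (B : X.Modules) (hB : FlatMod.IsFinLocFree B) : Coh.IsCoh B :=
  ⟨Groth.Agent.Helper5.FPC.isQuasicoherent_of_isFinLocFree B hB,
    Groth.Agent.Helper5.PCH.isFiniteType_of_isFinLocFree B hB⟩

/-- projective dimension of stalks on a regular scheme of dimension `≤ m` -/
theorem hasProjectiveDimensionLT_stalk
    (hreg : ∀ x : X, IsRegularLocalRing (X.presheaf.stalk x)) (m : ℕ)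
    (hdim : topologicalKrullDim ↥X ≤ (m : WithBot ℕ∞)) (x : X)
    (M : ModuleCat.{u} (X.presheaf.stalk x)) : HasProjectiveDimensionLT M (m + 1) := by
  haveI := hreg x
  have h1 : ringKrullDim (X.presheaf.stalk x) ≤ (m : WithBot ℕ∞) :=
    (ringKrullDim_stalk_le x).trans hdim
  have h0 : (0 : WithBot ℕ∞) ≤ ringKrullDim (X.presheaf.stalk x) := ringKrullDim_nonneg_of_nontrivial
  obtain ⟨d, hd⟩ : ∃ d : ℕ, ringKrullDim (X.presheaf.stalk x) = d := by
    generalize ringKrullDim (X.presheaf.stalk x) = r at h0 h1
    induction r with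
    | bot => simp at h0
    | coe r =>
      induction r with
      | top =>
        exfalso
        have : ((⊤ : ℕ∞) : WithBot ℕ∞) ≤ ((m : ℕ∞) : WithBot ℕ∞) := h1
        rw [WithBot.coe_le_coe] at this
        simp at this
      | coe r => exact ⟨r, rfl⟩
  have hdm : d ≤ m := by
    rw [hd] at h1
    exact_mod_cast h1
  have := Groth.Agent.Lead.Hom.hasProjectiveDimensionLT_of_isRegularLocalRing hd M
  exact hasProjectiveDimensionLT_of_ge M (d + 1) (m + 1) (by omega)

theorem main [IsNoetherian X]
    (hreg : ∀ x : X, IsRegularLocalRing (X.presheaf.stalk x)) (m : ℕ)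
    (hdim : topologicalKrullDim ↥X ≤ (m : WithBot ℕ∞))
    (S : ComposableArrows X.Modules (m + 1)) (hS : S.Exact)
    (hmono : Mono (S.map' 0 1 (Nat.zero_le 1) (Nat.le_add_left 1 m)))
    (hepi : Epi (S.map' m (m + 1) (Nat.le_succ m) (le_refl (m + 1))))
    (hE : ∀ i : Fin m, FlatMod.IsFinLocFree
      (S.obj ⟨i.1 + 1, Nat.succ_lt_succ (Nat.lt_succ_of_lt i.2)⟩))
    (hF : Coh.IsCoh (S.obj (Fin.last (m + 1)))) :
    FlatMod.IsFinLocFree (S.obj 0) := by
  have hE' : ∀ (i : ℕ) (_ : 1 ≤ i) (hi : i ≤ m), FlatMod.IsFinLocFree (S.obj' i (by omega)) := by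
    intro i h1 hi
    obtain ⟨j, rfl⟩ : ∃ j, i = j + 1 := ⟨i - 1, by omega⟩
    exact hE ⟨j, by omega⟩
  have hcoh : ∀ (i : ℕ) (_ : 1 ≤ i) (hi : i ≤ m + 1), Coh.IsCoh (S.obj' i hi) := by
    intro i h1 hi
    rcases Nat.lt_or_ge i (m + 1) with h | h
    · exact isCoh_of_isFinLocFree _ (hE' i h1 (by omega))
    · have : i = m + 1 := by omega
      subst this
      exact hF
  -- coherence of `S₀`
  have hcoh0 : Coh.IsCoh (S.obj' 0 (Nat.zero_le _)) := by
    rcases Nat.eq_zero_or_pos m with hm | hm
    · subst hm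
      haveI := hmono
      haveI := hepi
      haveI : IsIso (S.map' 0 1 (Nat.zero_le 1) (le_refl 1)) := isIso_of_mono_of_epi _
      exact Groth.Agent.Helper5.K0Coh.isCoh_of_iso
        (asIso (S.map' 0 1 (Nat.zero_le 1) (le_refl 1))).symm (hcoh 1 (le_refl 1) (le_refl _))
    · have hT := hS.exact 0 (by omega)
      haveI : Epi (kernel.lift (S.map' 1 2 (by omega) (by omega))
          (S.map' 0 1 (by omega) (by omega)) (hS.toIsComplex.zero 0 (by omega))) :=
        (ShortComplex.exact_iff_epi_kernel_lift _).1 hT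
      haveI : Mono (kernel.lift (S.map' 1 2 (by omega) (by omega))
          (S.map' 0 1 (by omega) (by omega)) (hS.toIsComplex.zero 0 (by omega))) := by
        haveI := hmono
        exact mono_of_mono_fac (kernel.lift_ι _ _ _)
      haveI : IsIso (kernel.lift (S.map' 1 2 (by omega) (by omega))
          (S.map' 0 1 (by omega) (by omega)) (hS.toIsComplex.zero 0 (by omega))) :=
        isIso_of_mono_of_epi _
      have e := asIso (kernel.lift (S.map' 1 2 _ _)
        (S.map' 0 1 _ _) (hS.toIsComplex.zero 0 _))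
      exact Groth.Agent.Helper5.K0Coh.isCoh_of_iso e.symm
        (Groth.Agent.Lead.KerFree.isCoh_kernel (hcoh 1 (le_refl 1) (by omega))
          (hcoh 2 (by omega) (by omega)) _)
  intro x
  have hp : Projective ((DerSch.stalkFunctor X x).obj (S.obj' 0 (Nat.zero_le _))) :=
    projective_of_resolution (DerSch.stalkFunctor X x) m S hS hmono hepi
      (fun i h1 hi => Groth.Agent.Helper5.PRF.projective_stalk_of_isFinLocFree _ (hE' i h1 hi) x)
      (hasProjectiveDimensionLT_stalk hreg m hdim x _)
  exact Groth.Agent.Helper5.PRF.exists_restrict_iso_freeMod_of_projective_stalk _ hcoh0 x hp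

end Sch

end Groth.Agent.Helper13.Syzygy
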