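import Mathlib
import Groth.Prelude.Def_Curv2
import Groth.Agent.Lib.Helper13.CurveGen4
import Groth.Agent.Lib.Helper13.CurveVan3
import Groth.Agent.Lib.Helper13.Syzygy

set_option autoImplicit false
universe u
open CategoryTheory CategoryTheory.Limits AlgebraicGeometry Opposite TopologicalSpace

namespace Groth.Agent.Helper13.CurveGG

open Groth.Agent.Helper13.CurveGen Groth.Agent.Helper13.QCoh Groth.Agent.Helper13.ToAbExact

/-- a globally generated module without nonzero global sections is zero. -/
theorem isZero_of_gg_of_subsingleton {X : Scheme.{u}} (Q : X.Modules)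
    (hgg : Curv2.IsGloballyGenerated Q) (h0 : Subsingleton (Coh.HH X Q 0)) : IsZero Q := by
  obtain ⟨ι, p, hp⟩ := hgg
  have hΓ : Subsingleton ((Coh.toAb Q).obj.obj (op (⊤ : X.Opens))) :=
    (Sheaf.H.equiv₀ (Coh.toAb Q) (T := (⊤ : Opens X))
      isTerminalTop).symm.injective.subsingleton
  have hsec : Subsingleton (SheafOfModules.sections Q) := by
    refine ⟨fun σ τ => ?_⟩
    apply Subtype.ext
    funext U
    have h1 := σ.property (homOfLE (le_top : U.unop ≤ ⊤)).op
    have h2 := τ.property (homOfLE (le_top : U.unop ≤ ⊤)).op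
    have h3 : σ.val (op ⊤) = τ.val (op ⊤) :=
      Subsingleton.elim (α := (Coh.toAb Q).obj.obj (op (⊤ : X.Opens))) _ _
    rw [← h1, ← h2, h3]
  have hp0 : p = 0 := by
    apply (Q.freeHomEquiv).injective
    funext i
    exact Subsingleton.elim _ _
  subst hp0
  rw [IsZero.iff_id_eq_zero]
  exact hp.left_cancellation _ _ (by simp)

end Groth.Agent.Helper13.CurveGG
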