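import Groth.Agent.Lib.Helper13.EffCartier
import Groth.Agent.Lib.Helper13.WeakAssMero
import Mathlib.RingTheory.Ideal.Colon
import Mathlib.RingTheory.Localization.Ideal
import Mathlib.AlgebraicGeometry.Noetherian
import Mathlib.AlgebraicGeometry.Properties
import Mathlib.AlgebraicGeometry.IdealSheaf.Basic
import Mathlib.Data.DFinsupp.WellFounded
import Mathlib.RingTheory.KrullDimension.Basic

set_option autoImplicit false
universe u
open CategoryTheory CategoryTheory.Limits AlgebraicGeometry TopologicalSpace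

namespace Groth.Agent.Helper13.CartierMax

open Groth.Agent.Helper13.WeakAss Groth.Agent.Helper13.MeroLib

section Algebra

variable {A : Type*} [CommRing A]

/-- the colon ideal `(Z : E)` -/
abbrev colonI (Z E : Ideal A) : Ideal A := Submodule.colon Z (E : Set A)

lemma mem_colonI {Z E : Ideal A} {g : A} : g ∈ colonI Z E ↔ ∀ e ∈ E, g * e ∈ Z := by
  rw [Submodule.mem_colon]
  simp only [SetLike.mem_coe, smul_eq_mul]

/-- colon ideals commute with localization when the denominator ideal is finitely generated. -/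
lemma colonI_map_localization (M : Submonoid A) (B : Type*) [CommRing B] [Algebra A B]
    [IsLocalization M B] (Z E : Ideal A) (hE : E.FG) :
    (colonI Z E).map (algebraMap A B) = colonI (Z.map (algebraMap A B)) (E.map (algebraMap A B)) := by
  classical
  apply le_antisymm
  · rw [Ideal.map_le_iff_le_comap]
    intro g hg
    rw [Ideal.mem_comap, mem_colonI]
    intro e he
    refine Submodule.span_induction (p := fun e _ => algebraMap A B g * e ∈ Z.map (algebraMap A B))
      ?_ ?_ ?_ ?_ he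
    · rintro _ ⟨e₀, he₀, rfl⟩
      rw [← map_mul]
      exact Ideal.mem_map_of_mem _ (mem_colonI.1 hg e₀ he₀)
    · rw [mul_zero]; exact Submodule.zero_mem _
    · intro x y _ _ hx hy
      rw [mul_add]; exact Submodule.add_mem _ hx hy
    · intro c x _ hx
      rw [smul_eq_mul, mul_left_comm]; exact Ideal.mul_mem_left _ c hx
  · intro y hy
    obtain ⟨S, hS⟩ := hE
    obtain ⟨g, s, rfl⟩ := IsLocalization.exists_mk'_eq M y
    have h1 : ∀ e ∈ S, ∃ m ∈ M, m * (g * e) ∈ Z := by
      intro e he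
      have heE : e ∈ E := hS ▸ Submodule.subset_span he
      have h2 := mem_colonI.1 hy (algebraMap A B e) (Ideal.mem_map_of_mem _ heE)
      have h3 : algebraMap A B (g * e) ∈ Z.map (algebraMap A B) := by
        have : algebraMap A B (g * e) = algebraMap A B s * (IsLocalization.mk' B g s * algebraMap A B e) := by
          rw [← mul_assoc, mul_comm (algebraMap A B s), IsLocalization.mk'_spec, map_mul]
        rw [this]
        exact Ideal.mul_mem_left _ _ h2
      exact (IsLocalization.algebraMap_mem_map_algebraMap_iff M B Z (g * e)).1 h3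
    choose! m hmM hm using h1
    have hprodM : (∏ e ∈ S, m e) ∈ M := Submonoid.prod_mem _ (fun e he => hmM e he)
    have h4 : (∏ e ∈ S, m e) * g ∈ colonI Z E := by
      rw [mem_colonI]
      intro e he
      rw [← hS] at he
      refine Submodule.span_induction (p := fun e _ => (∏ e ∈ S, m e) * g * e ∈ Z) ?_ ?_ ?_ ?_ he
      · intro e heS
        obtain ⟨w, hw⟩ := Finset.dvd_prod_of_mem m heS
        have : (∏ e ∈ S, m e) * g * e = w * (m e * (g * e)) := by rw [hw]; ring
        rw [this]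
        exact Ideal.mul_mem_left _ _ (hm e heS)
      · rw [mul_zero]; exact Submodule.zero_mem _
      · intro x y _ _ hx hy
        rw [mul_add]; exact Submodule.add_mem _ hx hy
      · intro c x _ hx
        rw [smul_eq_mul, mul_left_comm]; exact Ideal.mul_mem_left _ c hx
    have h5 : IsLocalization.mk' B g s = IsLocalization.mk' B ((∏ e ∈ S, m e) * g) (⟨_, hprodM⟩ * s) := by
      rw [IsLocalization.mk'_eq_iff_eq]
      simp only [Submonoid.coe_mul]
      congr 1
      ring
    rw [h5, IsLocalization.mk'_mem_map_algebraMap_iff]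
    exact ⟨1, M.one_mem, by rw [one_mul]; exact h4⟩

end Algebra

section Sheaf

variable {X : Scheme.{u}} [IsLocallyNoetherian X]

/-- the colon ideal sheaf `(𝓩 : 𝓔)` on a locally Noetherian scheme -/
noncomputable def colonSheaf (𝓩 𝓔 : X.IdealSheafData) : X.IdealSheafData where
  ideal V := colonI (𝓩.ideal V) (𝓔.ideal V)
  map_ideal_basicOpen V h := by
    have hloc : IsLocalization.Away h Γ(X, X.basicOpen h) := V.2.isLocalization_basicOpen h
    have hN : IsNoetherianRing Γ(X, V.1) := IsLocallyNoetherian.component_noetherian V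
    have := colonI_map_localization (Submonoid.powers h) Γ(X, X.basicOpen h) (𝓩.ideal V) (𝓔.ideal V)
      (IsNoetherian.noetherian _)
    rw [← 𝓩.map_ideal_basicOpen V h, ← 𝓔.map_ideal_basicOpen V h]
    exact this

lemma colonSheaf_ideal (𝓩 𝓔 : X.IdealSheafData) (V : X.affineOpens) :
    (colonSheaf 𝓩 𝓔).ideal V = colonI (𝓩.ideal V) (𝓔.ideal V) := rfl

lemma colonSheaf_mono_right (𝓩 : X.IdealSheafData) {𝓔 𝓔' : X.IdealSheafData} (h : 𝓔' ≤ 𝓔) :
    colonSheaf 𝓩 𝓔 ≤ colonSheaf 𝓩 𝓔' := by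
  intro V g hg
  rw [colonSheaf_ideal, mem_colonI] at hg ⊢
  intro e he
  exact hg e (h V he)

end Sheaf

lemma pi_wellFoundedGT {ι : Type*} [Finite ι] (α : ι → Type*) [∀ i, Preorder (α i)]
    [∀ i, WellFoundedGT (α i)] : WellFoundedGT (∀ i, α i) :=
  ⟨(Pi.wellFoundedLT (α := fun i => (α i)ᵒᵈ)).wf⟩

theorem wellFoundedGT_idealSheafData (X : Scheme.{u}) [IsNoetherian X] :
    WellFoundedGT X.IdealSheafData := by
  classical
  have hV : ∀ x : X, ∃ V : X.affineOpens, x ∈ V.1 := by
    intro x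
    obtain ⟨_, ⟨V, hV, rfl⟩, hxV, -⟩ :=
      X.isBasis_affineOpens.exists_subset_of_mem_open (Set.mem_univ x) isOpen_univ
    exact ⟨⟨V, hV⟩, hxV⟩
  choose V hxV using hV
  obtain ⟨t, -, ht⟩ := isCompact_univ.elim_nhds_subcover (fun x => ((V x).1 : Set X))
    (fun x _ => (V x).1.2.mem_nhds (hxV x))
  have hcov : (⨆ x : t, ((V x.1).1 : X.Opens)) = ⊤ := by
    rw [eq_top_iff]
    intro y _
    have := ht (Set.mem_univ y)
    simp only [Set.mem_iUnion, SetLike.mem_coe, exists_prop] at this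
    obtain ⟨x, hxt, hy⟩ := this
    exact Opens.mem_iSup.2 ⟨⟨x, hxt⟩, hy⟩
  let Φ : X.IdealSheafData → (∀ x : t, Ideal Γ(X, (V x.1).1)) := fun 𝓘 x => 𝓘.ideal (V x.1)
  have hΦ : StrictMono Φ := by
    intro 𝓘 𝓙 h
    refine lt_of_le_of_ne (fun x => h.le (V x.1)) ?_
    intro heq
    apply h.ne
    exact Scheme.IdealSheafData.ext_of_iSup_eq_top (fun x : t => V x.1) hcov
      (fun x => congrFun heq x)
  have : ∀ x : t, WellFoundedGT (Ideal Γ(X, (V x.1).1)) := by
    intro x
    have : IsNoetherianRing Γ(X, (V x.1).1) := IsLocallyNoetherian.component_noetherian (V x.1)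
    infer_instance
  have hwf : WellFoundedGT (∀ x : t, Ideal Γ(X, (V x.1).1)) := pi_wellFoundedGT _
  exact hΦ.wellFoundedGT

variable {X : Scheme.{u}}

/-- the generic point of an integral closed subscheme, as a point of the ambient scheme -/
noncomputable def genPt (𝓓 : X.IdealSheafData) [IsIntegral 𝓓.subscheme] : X :=
  𝓓.subschemeι (genericPoint 𝓓.subscheme)

lemma genPt_mem_support (𝓓 : X.IdealSheafData) [IsIntegral 𝓓.subscheme] :
    genPt 𝓓 ∈ 𝓓.support := by
  rw [← SetLike.mem_coe, ← 𝓓.range_subschemeι]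
  exact ⟨_, rfl⟩

lemma genPt_specializes (𝓓 : X.IdealSheafData) [IsIntegral 𝓓.subscheme] (z : X)
    (hz : z ∈ 𝓓.support) : genPt 𝓓 ⤳ z := by
  rw [← SetLike.mem_coe, ← 𝓓.range_subschemeι] at hz
  obtain ⟨y, rfl⟩ := hz
  exact (genericPoint_specializes y).map 𝓓.subschemeι.continuous

/-- (G): a function not invertible at the generic point of an integral closed subscheme lies in its ideal -/
lemma mem_ideal_of_genPt_notMem_basicOpen (𝓓 : X.IdealSheafData) [IsIntegral 𝓓.subscheme]
    (V : X.affineOpens) (g : Γ(X, V.1)) (h : genPt 𝓓 ∉ X.basicOpen g) : g ∈ 𝓓.ideal V := by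
  rw [← 𝓓.ker_subschemeι_app V, RingHom.mem_ker]
  have h1 : 𝓓.subscheme.basicOpen (𝓓.subschemeι.app V.1 g) = ⊥ := by
    rw [← Scheme.preimage_basicOpen]
    by_contra hne
    apply h
    have hne' : ((𝓓.subschemeι ⁻¹ᵁ X.basicOpen g : 𝓓.subscheme.Opens) : Set 𝓓.subscheme).Nonempty := by
      rw [Set.nonempty_iff_ne_empty]
      intro h0
      apply hne
      exact Opens.ext h0
    have := ((genericPoint_spec 𝓓.subscheme).mem_open_set_iff
      (𝓓.subschemeι ⁻¹ᵁ X.basicOpen g).2).2 (by rw [Set.univ_inter]; exact hne')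
    exact this
  exact (basicOpen_eq_bot_iff _).1 h1

lemma ringKrullDim_le_zero_of_generic (ξ : X) (hgen : ∀ y : X, y ⤳ ξ → y = ξ) :
    ringKrullDim (X.presheaf.stalk ξ) ≤ 0 := by
  have h := (generic_iff_forall_prime ξ).1 hgen
  have : Ring.KrullDimLE 0 (X.presheaf.stalk ξ) := by
    rw [Ring.krullDimLE_zero_iff]
    intro P hP
    rw [h P hP]
    exact IsLocalRing.maximalIdeal.isMaximal _
  exact (Order.krullDimLE_iff 0 _).1 this

/-- a point of the support of an effective Cartier ideal has a proper generization -/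
lemma not_generic_of_mem_support_effCartier (𝓓 : X.IdealSheafData) (hD : BlowUp.IsEffCartierIdeal 𝓓)
    (ξ : X) (hξ : ξ ∈ 𝓓.support) (hgen : ∀ y : X, y ⤳ ξ → y = ξ) : False := by
  obtain ⟨V, hξV, t, ht, hIt⟩ := hD ξ
  rw [Scheme.IdealSheafData.mem_support_iff_of_mem (U := V) hξV, hIt, Scheme.zeroLocus_span,
    Scheme.zeroLocus_singleton] at hξ
  apply hξ
  change ξ ∈ X.basicOpen t
  rw [X.mem_basicOpen t ξ hξV]
  exact isUnit_of_mem_nonZeroDivisors_of_forall_prime ((generic_iff_forall_prime ξ).1 hgen) _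
    (germ_mem_nonZeroDivisors V.2 t ht ξ hξV)

/-- every point of a locally Noetherian scheme has a generization without proper generizations -/
lemma exists_generic_specializes [IsLocallyNoetherian X] (x : X) :
    ∃ ξ : X, ξ ⤳ x ∧ ∀ y : X, y ⤳ ξ → y = ξ := by
  obtain ⟨_, ⟨V, hV, rfl⟩, hxV, -⟩ :=
    X.isBasis_affineOpens.exists_subset_of_mem_open (Set.mem_univ x) isOpen_univ
  obtain ⟨p, hp, hpq⟩ := Ideal.exists_minimalPrimes_le
    (bot_le : (⊥ : Ideal Γ(X, V)) ≤ (hV.primeIdealOf ⟨x, hxV⟩).asIdeal)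
  have hpp : p.IsPrime := hp.1.1
  refine ⟨hV.fromSpec ⟨p, hpp⟩, ?_, ?_⟩
  · have h1 : (⟨p, hpp⟩ : PrimeSpectrum Γ(X, V)) ⤳ hV.primeIdealOf ⟨x, hxV⟩ :=
      (PrimeSpectrum.le_iff_specializes _ _).1 hpq
    have h2 := h1.map hV.fromSpec.continuous
    rwa [hV.fromSpec_primeIdealOf ⟨x, hxV⟩] at h2
  · intro y hy
    have hyV : y ∈ V := hy.mem_open V.2 (fromSpec_mem hV _)
    have h3 : hV.fromSpec (hV.primeIdealOf ⟨y, hyV⟩) = y := hV.fromSpec_primeIdealOf ⟨y, hyV⟩
    rw [← h3] at hy ⊢
    have h4 : hV.primeIdealOf ⟨y, hyV⟩ ⤳ (⟨p, hpp⟩ : PrimeSpectrum Γ(X, V)) :=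
      (hV.fromSpec.isOpenEmbedding.toIsInducing.specializes_iff).1 hy
    have h5 : (hV.primeIdealOf ⟨y, hyV⟩).asIdeal ≤ p := (PrimeSpectrum.le_iff_specializes _ _).2 h4
    have h6 : p ≤ (hV.primeIdealOf ⟨y, hyV⟩).asIdeal := hp.2 ⟨(hV.primeIdealOf ⟨y, hyV⟩).2, bot_le⟩ h5
    congr 1
    exact PrimeSpectrum.ext (le_antisymm h5 h6)

end Groth.Agent.Helper13.CartierMax
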