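import Mathlib

/-!
# A strict inequality for the topological Krull dimension (helper13)

`topologicalKrullDim_add_one_le`: a proper closed subset `A` of an irreducible set `B` satisfies
`dim A + 1 ≤ dim B`.
-/

set_option autoImplicit false
open TopologicalSpace Topology

namespace Groth.Agent.Helper13.DimLemma

variable {X : Type*} [TopologicalSpace X]

theorem topologicalKrullDim_add_one_le {A B : Set X} (hA : IsClosed A) (hAB : A ⊆ B) (hne : A ≠ B)
    (hB : IsIrreducible B) :
    topologicalKrullDim ↥A + 1 ≤ topologicalKrullDim ↥B := by
  classical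
  unfold topologicalKrullDim
  rcases isEmpty_or_nonempty (IrreducibleCloseds ↥A) with hE | hN
  · rw [Order.krullDim_eq_bot]
    exact bot_le
  · haveI : IrreducibleSpace ↥B := Subtype.irreducibleSpace hB
    let topB : IrreducibleCloseds ↥B :=
      { carrier := Set.univ
        isIrreducible' := IrreducibleSpace.isIrreducible_univ ↥B
        isClosed' := isClosed_univ }
    let f : WithTop (IrreducibleCloseds ↥A) → IrreducibleCloseds ↥B := fun t =>
      match t with
      | ⊤ => topB
      | (T : IrreducibleCloseds ↥A) =>
        IrreducibleCloseds.map (Set.inclusion hAB) (continuous_inclusion hAB) T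
    have hf : StrictMono f := by
      rw [WithTop.strictMono_iff]
      constructor
      · exact IrreducibleCloseds.map_strictMono_of_isInducing
          (Topology.IsEmbedding.inclusion hAB).isInducing
      · intro T
        obtain ⟨b, hbB, hbA⟩ : ∃ b, b ∈ B ∧ b ∉ A := by
          by_contra hcon
          push Not at hcon
          exact hne (Set.Subset.antisymm hAB hcon)
        refine lt_of_le_of_ne (fun z _ => Set.mem_univ z) ?_
        intro heq
        have hmem : (⟨b, hbB⟩ : ↥B) ∈ (f (T : WithTop (IrreducibleCloseds ↥A)) : Set ↥B) := by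
          rw [heq]
          exact Set.mem_univ _
        have hcl : IsClosed {z : ↥B | z.1 ∈ A} := hA.preimage continuous_subtype_val
        have hsub : (f (T : WithTop (IrreducibleCloseds ↥A)) : Set ↥B) ⊆ {z : ↥B | z.1 ∈ A} := by
          apply closure_minimal _ hcl
          rintro _ ⟨a, -, rfl⟩
          exact a.2
        exact hbA (hsub hmem)
    have h1 := Order.krullDim_le_of_strictMono f hf
    rwa [Order.krullDim_WithTop] at h1

/-- for points: a proper specialization has strictly smaller closure dimension. -/
theorem dim_closure_add_one_le {x y : X} (hyx : y ⤳ x) (hne : closure ({x} : Set X) ≠ closure {y}) :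
    topologicalKrullDim ↥(closure ({x} : Set X)) + 1 ≤ topologicalKrullDim ↥(closure ({y} : Set X)) :=
  topologicalKrullDim_add_one_le isClosed_closure
    (closure_minimal (Set.singleton_subset_iff.2 (specializes_iff_mem_closure.1 hyx))
      isClosed_closure) hne isIrreducible_singleton.closure

theorem lt_of_add_one_le_coe {a : WithBot ℕ∞} {n : ℕ} (h : a + 1 ≤ (n : WithBot ℕ∞)) :
    a < (n : WithBot ℕ∞) := by
  induction a using WithBot.recBotCoe with
  | bot => exact WithBot.bot_lt_coe _
  | coe a' =>
    induction a' using ENat.recTopCoe with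
    | top =>
      exfalso
      have h2 : ((⊤ : ℕ∞) : WithBot ℕ∞) + 1 = ((⊤ : ℕ∞) : WithBot ℕ∞) := by
        rw [← WithBot.coe_one, ← WithBot.coe_add, top_add]
      rw [h2] at h
      have h3 : (⊤ : ℕ∞) ≤ (n : ℕ∞) := by exact_mod_cast h
      exact absurd h3 (by simp)
    | coe m =>
      have h2 : m + 1 ≤ n := by exact_mod_cast h
      have h3 : m < n := h2
      exact_mod_cast h3

theorem dim_subset_le {A B : Set X} (hAB : A ⊆ B) :
    topologicalKrullDim ↥A ≤ topologicalKrullDim ↥B :=
  (Topology.IsEmbedding.inclusion hAB).isInducing.topologicalKrullDim_le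

end Groth.Agent.Helper13.DimLemma
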