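import Mathlib
import Groth.Agent.Lib.Helper13.QCohWeakAss
import Groth.Agent.Lib.Helper13.QCohAss

set_option autoImplicit false
universe u
open CategoryTheory CategoryTheory.Limits AlgebraicGeometry TopologicalSpace Opposite

namespace Groth.Agent.Helper13.QCoh

open Groth.Agent.Helper13.WeakAss

variable {X : Scheme.{u}} (F : X.Modules) [F.IsQuasicoherent] {U : X.Opens} (hU : IsAffineOpen U)

/-- the annihilator ideal of a section -/
noncomputable abbrev annSec (t : Γ(F, U)) : Ideal Γ(X, U) :=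
  LinearMap.ker (LinearMap.toSpanSingleton Γ(X, U) Γ(F, U) t)

omit [F.IsQuasicoherent] in
lemma mem_annSec (t : Γ(F, U)) (r : Γ(X, U)) : r ∈ annSec F t ↔ r • t = 0 := by
  simp only [annSec, LinearMap.mem_ker, LinearMap.toSpanSingleton_apply]

include hU in
/-- a point whose prime is minimal over the annihilator of a section is weakly associated -/
theorem isWeakAssPoint_of_mem_minimalPrimes (x : X) (hx : x ∈ U) (t : Γ(F, U))
    (hp : (hU.primeIdealOf ⟨x, hx⟩).asIdeal ∈ (annSec F t).minimalPrimes) :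
    Curv2.IsWeakAssPoint F x := by
  refine ⟨F.presheaf.germ U x hx t, ?_⟩
  let _ := TopCat.Presheaf.algebra_section_stalk X.presheaf ⟨x, hx⟩
  have hloc : IsLocalization.AtPrime (X.presheaf.stalk x) (hU.primeIdealOf ⟨x, hx⟩).asIdeal :=
    hU.isLocalization_stalk ⟨x, hx⟩
  refine radical_ann_eq_maximalIdeal_module t _ hp (X.presheaf.stalk x) _ ?_ ?_
  · intro r hr
    have : algebraMap Γ(X, U) (X.presheaf.stalk x) r = X.presheaf.germ U x hx r := rfl
    rw [this, ← germ_smul, hr, map_zero]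
  · intro h0
    obtain ⟨g, hyg, hgt⟩ := exists_smul_eq_zero_of_germ_eq_zero F hU x hx t h0
    exact ⟨g, (mem_basicOpen_iff_notMem_primeIdealOf hU x hx g).1 hyg, hgt⟩

include hU in
/-- a weakly associated point in an affine open is minimal over the annihilator of a section -/
theorem exists_mem_minimalPrimes_of_isWeakAssPoint (x : X) (hx : x ∈ U)
    (h : Curv2.IsWeakAssPoint F x) :
    ∃ t : Γ(F, U), (hU.primeIdealOf ⟨x, hx⟩).asIdeal ∈ (annSec F t).minimalPrimes := by
  obtain ⟨m, hm⟩ := h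
  obtain ⟨g, hxg, t, hgt⟩ := exists_germ_smul_eq F hU x hx m
  obtain ⟨u, hu⟩ := (X.mem_basicOpen g x hx).1 hxg
  -- the annihilator of `germ t` equals that of `m`
  have hann : ∀ a : X.presheaf.stalk x, a • F.presheaf.germ U x hx t = 0 ↔ a • m = 0 := by
    intro a
    rw [← hgt, ← hu, smul_comm]
    constructor
    · intro h0
      have : (u⁻¹ : (X.presheaf.stalk x)ˣ) • ((u : X.presheaf.stalk x) • (a • m)) = 0 := by
        rw [h0, smul_zero]
      rwa [Units.smul_def, smul_smul, Units.inv_mul, one_smul] at this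
    · intro h0
      rw [h0, smul_zero]
  have hrad : ∀ a : X.presheaf.stalk x, a ∈ IsLocalRing.maximalIdeal (X.presheaf.stalk x) →
      ∃ n : ℕ, a ^ n • F.presheaf.germ U x hx t = 0 := by
    intro a ha
    rw [← hm] at ha
    obtain ⟨n, hn⟩ := ha
    refine ⟨n, ?_⟩
    rw [hann]
    simpa [LinearMap.mem_ker, LinearMap.toSpanSingleton_apply] using hn
  have hne : F.presheaf.germ U x hx t ≠ 0 := by
    intro h0
    have h1 : (1 : X.presheaf.stalk x) ∈ Ideal.radical (LinearMap.ker
        (LinearMap.toSpanSingleton (X.presheaf.stalk x) (F.presheaf.stalk x) m)) := by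
      apply Ideal.le_radical
      rw [LinearMap.mem_ker, LinearMap.toSpanSingleton_apply, ← hann, h0, smul_zero]
    rw [hm] at h1
    exact (IsLocalRing.maximalIdeal.isMaximal _).ne_top ((Ideal.eq_top_iff_one _).2 h1)
  refine ⟨t, ⟨(hU.primeIdealOf ⟨x, hx⟩).2, ?_⟩, ?_⟩
  · intro a ha
    rw [mem_annSec] at ha
    by_contra hna
    have hxa : x ∈ X.basicOpen a := (mem_basicOpen_iff_notMem_primeIdealOf hU x hx a).2 hna
    apply hne
    apply eq_zero_of_germ_smul_eq_zero F x hx a hxa
    rw [← germ_smul, ha, map_zero]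
  · rintro q ⟨hq, hle⟩ hqp a ha
    have ha' : X.presheaf.germ U x hx a ∈ IsLocalRing.maximalIdeal (X.presheaf.stalk x) :=
      (germ_mem_maximalIdeal_iff hU x hx a).2 ha
    obtain ⟨n, hn⟩ := hrad _ ha'
    rw [← map_pow, ← germ_smul] at hn
    obtain ⟨g', hxg', hg'⟩ := exists_smul_eq_zero_of_germ_eq_zero F hU x hx _ hn
    have hmem : g' * a ^ n ∈ q := by
      apply hle
      rw [mem_annSec, mul_smul]
      exact hg'
    have hg'q : g' ∉ q := fun h =>
      (mem_basicOpen_iff_notMem_primeIdealOf hU x hx g').1 hxg' (hqp h)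
    rcases hq.mem_or_mem hmem with h | h
    · exact absurd h hg'q
    · exact hq.mem_of_pow_mem n h

include hU in
theorem isWeakAssPoint_iff_exists_mem_minimalPrimes (x : X) (hx : x ∈ U) :
    Curv2.IsWeakAssPoint F x ↔
      ∃ t : Γ(F, U), (hU.primeIdealOf ⟨x, hx⟩).asIdeal ∈ (annSec F t).minimalPrimes :=
  ⟨exists_mem_minimalPrimes_of_isWeakAssPoint F hU x hx,
    fun ⟨t, ht⟩ => isWeakAssPoint_of_mem_minimalPrimes F hU x hx t ht⟩

end Groth.Agent.Helper13.QCoh
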