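import Mathlib
import Groth.Agent.Lib.Helper13.QCohWeakAss2
import Groth.Agent.Lib.Helper13.QCohPush

set_option autoImplicit false
universe u
open CategoryTheory CategoryTheory.Limits AlgebraicGeometry TopologicalSpace Opposite

namespace Groth.Agent.Helper13.QCoh

open Groth.Agent.Helper13.WeakAss

variable {X Y : Scheme.{u}}

/-- on a locally Noetherian scheme, the prime of a (weakly) associated point in an affine open is
the annihilator of a section -/
theorem exists_annSec_eq_of_isWeakAssPoint [IsLocallyNoetherian X] (F : X.Modules)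
    [F.IsQuasicoherent] {U : X.Opens} (hU : IsAffineOpen U) (x : X) (hx : x ∈ U)
    (h : Curv2.IsWeakAssPoint F x) :
    ∃ t : Γ(F, U), annSec F t = (hU.primeIdealOf ⟨x, hx⟩).asIdeal := by
  obtain ⟨t, ht0, ht⟩ := exists_section_smul_eq_zero_of_isWeakAssPoint F hU x hx h
  refine ⟨t, ?_⟩
  ext a
  rw [mem_annSec]
  constructor
  · intro hat
    by_contra hna
    have hxa : x ∈ X.basicOpen a := (mem_basicOpen_iff_notMem_primeIdealOf hU x hx a).2 hna
    apply ht0
    apply eq_zero_of_germ_smul_eq_zero F x hx a hxa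
    rw [← germ_smul, hat, map_zero]
  · exact ht a

/-- the image of a weakly associated point under an affine morphism from a locally Noetherian scheme
is weakly associated to the pushforward -/
theorem isWeakAssPoint_pushforward [IsLocallyNoetherian X] (f : X ⟶ Y) [IsAffineHom f]
    (F : X.Modules) [F.IsQuasicoherent] (x : X) (h : Curv2.IsWeakAssPoint F x) :
    Curv2.IsWeakAssPoint ((Scheme.Modules.pushforward f).obj F) (f x) := by
  have hNq : ((Scheme.Modules.pushforward f).obj F).IsQuasicoherent :=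
    Groth.Agent.Helper13.QCohPush.isQuasicoherent_pushforward f F
  obtain ⟨_, ⟨V, hV, rfl⟩, hsV, -⟩ := Y.isBasis_affineOpens.exists_subset_of_mem_open
    (Set.mem_univ (f x)) isOpen_univ
  have hV' : IsAffineOpen V := hV
  have hU : IsAffineOpen (f ⁻¹ᵁ V) := hV'.preimage f
  have hxU : x ∈ f ⁻¹ᵁ V := hsV
  obtain ⟨t, ht⟩ := exists_annSec_eq_of_isWeakAssPoint F hU x hxU h
  apply isWeakAssPoint_of_mem_minimalPrimes ((Scheme.Modules.pushforward f).obj F) hV' (f x) hsV
    (id t : Γ((Scheme.Modules.pushforward f).obj F, V))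
  have hcomap : annSec ((Scheme.Modules.pushforward f).obj F)
      (id t : Γ((Scheme.Modules.pushforward f).obj F, V)) = (annSec F t).comap (f.app V).hom := by
    ext a
    rw [Ideal.mem_comap, mem_annSec, mem_annSec]
    rfl
  have h1 := IsAffineOpen.comap_primeIdealOf_appLE (f := f) V hV' (f ⁻¹ᵁ V) hU le_rfl hxU
  rw [Scheme.Hom.appLE_eq_app] at h1
  have h2 : (hV'.primeIdealOf ⟨f x, hsV⟩).asIdeal =
      (annSec F t).comap (f.app V).hom := by
    rw [ht, ← h1]
    rfl
  rw [hcomap, ← h2]
  have hp : (hV'.primeIdealOf ⟨f x, hsV⟩).asIdeal.IsPrime := (hV'.primeIdealOf ⟨f x, hsV⟩).2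
  exact ⟨⟨hp, le_rfl⟩, fun q hq hle => hq.2⟩

end Groth.Agent.Helper13.QCoh
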