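import Mathlib
import Groth.Prelude.Def_ClSub2
import Groth.Agent.Lib.Helper13.QCohAssPush
import Groth.Agent.Lib.Helper13.PbInv

/-!
# The structure sheaf of the reduced closure of an associated point embeds locally (helper13)

For a point `x` of a scheme `X`, let `Z` be the closure of `x` with its reduced structure and
`C = i_* O_Z`.
* `mem_vanishingIdeal_closure_iff`: the ideal of `Z` over an affine open `V` consists of the
  functions lying in the prime of `x` (if `x ∈ V`);
* `unitToPush_app_eq_zero_iff`: the kernel of `O_X(V) ⟶ C(V)`;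
* `smul_res_eq_zero_iff`: if `n` is a section of a quasi-coherent module over an affine open `W`
  whose annihilator is the prime of `x`, then over every affine `V ≤ W` the annihilator of `n|_V`
  is the ideal of `Z`.
-/

set_option autoImplicit false
universe u
open CategoryTheory CategoryTheory.Limits AlgebraicGeometry Opposite TopologicalSpace
open Groth.Agent.Helper13.QCoh

namespace Groth.Agent.Helper13.AssMono

variable {X : Scheme.{u}}

/-- the ideal sheaf of the closure of a point, with its reduced structure -/
noncomputable abbrev redClosure (x : X) : X.IdealSheafData :=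
  Scheme.IdealSheafData.vanishingIdeal ⟨closure {x}, isClosed_closure⟩

theorem mem_vanishingIdeal_closure_iff (x : X) {V : X.Opens} (hV : IsAffineOpen V) (a : Γ(X, V)) :
    a ∈ (redClosure x).ideal ⟨V, hV⟩ ↔ ∀ hx : x ∈ V, a ∈ (hV.primeIdealOf ⟨x, hx⟩).asIdeal := by
  rw [Scheme.IdealSheafData.vanishingIdeal_ideal, PrimeSpectrum.mem_vanishingIdeal]
  constructor
  · intro h hx
    apply h
    change hV.fromSpec (hV.primeIdealOf ⟨x, hx⟩) ∈ closure {x}
    rw [hV.fromSpec_primeIdealOf ⟨x, hx⟩]
    exact subset_closure rfl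
  · intro h q hq
    have hq' : hV.fromSpec q ∈ closure {x} := hq
    have hyV : hV.fromSpec q ∈ V := by
      have : hV.fromSpec q ∈ Set.range hV.fromSpec := ⟨q, rfl⟩
      rw [hV.range_fromSpec] at this
      exact this
    have hsp : x ⤳ hV.fromSpec q := specializes_iff_mem_closure.2 hq'
    have hxV : x ∈ V := hsp.mem_open V.isOpen hyV
    have hqe : hV.primeIdealOf ⟨hV.fromSpec q, hyV⟩ = q :=
      hV.fromSpec.isOpenEmbedding.injective (hV.fromSpec_primeIdealOf ⟨hV.fromSpec q, hyV⟩)
    have hle := (primeIdealOf_le_iff hV x (hV.fromSpec q) hxV hyV).2 hsp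
    rw [hqe] at hle
    exact hle (h hxV)

/-- the kernel of `O_X ⟶ i_* O_Z` over an affine open, for `Z` the reduced closure of `x`. -/
theorem unitToPush_app_eq_zero_iff (x : X) {V : X.Opens} (hV : IsAffineOpen V) (a : Γ(X, V)) :
    (ClSub.unitToPush (redClosure x).subschemeι).app V a = 0 ↔
      ∀ hx : x ∈ V, a ∈ (hV.primeIdealOf ⟨x, hx⟩).asIdeal := by
  rw [← mem_vanishingIdeal_closure_iff x hV a]
  have h1 : (redClosure x).subschemeι.ker = redClosure x :=
    Scheme.IdealSheafData.ker_subschemeι _
  conv_rhs => rw [← h1]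
  rw [Scheme.Hom.ker_apply, RingHom.mem_ker]
  rfl

section Ann

variable (F : X.Modules) [F.IsQuasicoherent] {W : X.Opens} (hW : IsAffineOpen W) (x : X)
  (hxW : x ∈ W) (n : Γ(F, W)) (hn : annSec F n = (hW.primeIdealOf ⟨x, hxW⟩).asIdeal)

include hn in
lemma germ_ne_zero : F.presheaf.germ W x hxW n ≠ 0 := by
  intro h0
  have h1 : F.presheaf.germ W x hxW n = F.presheaf.germ W x hxW 0 := by rw [h0, map_zero]
  obtain ⟨W', hxW', i₁, i₂, heq⟩ := TopCat.Presheaf.germ_eq F.presheaf x hxW hxW n 0 h1
  obtain ⟨g, hgW', hxg⟩ := hW.exists_basicOpen_le ⟨x, hxW'⟩ hxW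
  have hres : F.presheaf.map (homOfLE (X.basicOpen_le g)).op n = 0 := by
    have h2 : F.presheaf.map (homOfLE (X.basicOpen_le g)).op n =
        F.presheaf.map (homOfLE hgW').op (F.presheaf.map i₁.op n) := by
      rw [← ConcreteCategory.comp_apply, ← Functor.map_comp]
      rfl
    rw [h2, heq, map_zero, map_zero]
  obtain ⟨k, hk⟩ := Groth.Agent.Helper13.QCohPush.exists_pow_smul_eq_zero' F hW g
    (X.basicOpen g) rfl (X.basicOpen_le g) n hres
  have hmem : g ^ k ∈ annSec F n := (mem_annSec F n (g ^ k)).2 hk
  rw [hn] at hmem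
  have hg : g ∈ (hW.primeIdealOf ⟨x, hxW⟩).asIdeal :=
    (hW.primeIdealOf ⟨x, hxW⟩).isPrime.mem_of_pow_mem k hmem
  exact (mem_basicOpen_iff_notMem_primeIdealOf hW x hxW g).1 hxg hg

include hn in
/-- over every affine `V ≤ W`, the annihilator of `n|_V` is the ideal of the reduced closure of
`x`. -/
theorem smul_res_eq_zero_iff {V : X.Opens} (hV : IsAffineOpen V) (hVW : V ≤ W) (a : Γ(X, V)) :
    a • F.presheaf.map (homOfLE hVW).op n = 0 ↔
      ∀ hx : x ∈ V, a ∈ (hV.primeIdealOf ⟨x, hx⟩).asIdeal := by
  constructor
  · intro h hx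
    by_contra hna
    have hxa : x ∈ X.basicOpen a := (mem_basicOpen_iff_notMem_primeIdealOf hV x hx a).2 hna
    have hg : X.presheaf.germ V x hx a •
        F.presheaf.germ V x hx (F.presheaf.map (homOfLE hVW).op n) = 0 := by
      rw [← germ_smul, h, map_zero]
    have h0 := eq_zero_of_germ_smul_eq_zero F x hx a hxa _ hg
    rw [TopCat.Presheaf.germ_res_apply] at h0
    exact germ_ne_zero F hW x hxW n hn h0
  · intro h
    apply TopCat.Presheaf.section_ext ⟨F.presheaf, F.isSheaf⟩
    intro y hyV
    obtain ⟨g, hgV, hyg⟩ := hW.exists_basicOpen_le ⟨y, hyV⟩ (hVW hyV)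
    have key : F.presheaf.map (homOfLE hgV).op (a • F.presheaf.map (homOfLE hVW).op n) = 0 := by
      have hmap : F.presheaf.map (homOfLE hgV).op (a • F.presheaf.map (homOfLE hVW).op n) =
          X.presheaf.map (homOfLE hgV).op a • F.presheaf.map (homOfLE (X.basicOpen_le g)).op n := by
        rw [F.map_smul]
        congr 1
        rw [← ConcreteCategory.comp_apply, ← Functor.map_comp]
        rfl
      rw [hmap]
      have hgu : IsUnit (X.presheaf.map (homOfLE (X.basicOpen_le g)).op g) :=
        RingedSpace.isUnit_res_basicOpen _ g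
      by_cases hxg : x ∈ X.basicOpen g
      · have ha := h (hgV hxg)
        haveI := hW.isLocalization_basicOpen g
        obtain ⟨⟨b, s⟩, hbs⟩ := IsLocalization.surj (Submonoid.powers g)
          (X.presheaf.map (homOfLE hgV).op a)
        obtain ⟨k, hk⟩ := s.2
        have hbs' : X.presheaf.map (homOfLE hgV).op a *
            (X.presheaf.map (homOfLE (X.basicOpen_le g)).op g) ^ k =
            X.presheaf.map (homOfLE (X.basicOpen_le g)).op b := by
          have := hbs
          simp only [← hk, map_pow] at this
          exact this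
        -- `b` lies in the prime of `x`
        have hb : b ∈ (hW.primeIdealOf ⟨x, hxW⟩).asIdeal := by
          rw [← germ_mem_maximalIdeal_iff hW x hxW b]
          have e1 : X.presheaf.germ W x hxW b = X.presheaf.germ (X.basicOpen g) x hxg
              (X.presheaf.map (homOfLE (X.basicOpen_le g)).op b) :=
            (TopCat.Presheaf.germ_res_apply X.presheaf (homOfLE (X.basicOpen_le g)) x hxg b).symm
          rw [e1, ← hbs', map_mul]
          apply Ideal.mul_mem_right
          have e2 : X.presheaf.germ (X.basicOpen g) x hxg (X.presheaf.map (homOfLE hgV).op a) =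
              X.presheaf.germ V x (hgV hxg) a :=
            TopCat.Presheaf.germ_res_apply X.presheaf (homOfLE hgV) x hxg a
          rw [e2, germ_mem_maximalIdeal_iff hV x (hgV hxg) a]
          exact ha
        have hbn : b • n = 0 := by
          rw [← mem_annSec, hn]; exact hb
        have h3 : X.presheaf.map (homOfLE (X.basicOpen_le g)).op b •
            F.presheaf.map (homOfLE (X.basicOpen_le g)).op n = 0 := by
          rw [← F.map_smul, hbn, map_zero]
        rw [← hbs', mul_comm, mul_smul] at h3
        exact (hgu.pow k).smul_eq_zero.1 h3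
      · have hg : g ∈ (hW.primeIdealOf ⟨x, hxW⟩).asIdeal := by
          by_contra hng
          exact hxg ((mem_basicOpen_iff_notMem_primeIdealOf hW x hxW g).2 hng)
        have hgn : g • n = 0 := by
          rw [← mem_annSec, hn]; exact hg
        have h3 : X.presheaf.map (homOfLE (X.basicOpen_le g)).op g •
            F.presheaf.map (homOfLE (X.basicOpen_le g)).op n = 0 := by
          rw [← F.map_smul, hgn, map_zero]
        rw [hgu.smul_eq_zero.1 h3, smul_zero]
    have e1 := TopCat.Presheaf.germ_res_apply F.presheaf (homOfLE hgV) y hyg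
      (a • F.presheaf.map (homOfLE hVW).op n)
    rw [← e1, key, map_zero, map_zero]

end Ann

end Groth.Agent.Helper13.AssMono
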