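import Mathlib
import Groth.Agent.Lib.Helper13.SubSheaf2
import Groth.Agent.Lib.Helper13.QCohAssPush
import Groth.Agent.Lib.Helper13.QCohPush
import Groth.Agent.Lib.Helper6.QcohLocal

/-!
# Primary components of a module at a point (helper13)

* `exists_pow_socle_trivial`: Artin–Rees: for a finite module `N` over a Noetherian local ring
  `(A, m)` there is `k ≥ 1` with `m^k N ∩ Soc N = 0`;
* `germSub M x P`: the subsheaf of `M` of sections whose germ at `x` lies in the submodule `P` of the
  stalk `M_x` (no condition on opens not containing `x`); it is a local family of submodules;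
* `isQuasicoherent_germSheaf`: it is quasi-coherent if `M` is and `m_x^k M_x ≤ P`.
-/

set_option autoImplicit false
universe u
open CategoryTheory CategoryTheory.Limits AlgebraicGeometry Opposite TopologicalSpace
open Groth.Agent.Helper13.QCoh Groth.Agent.Helper13.FinType

namespace Groth.Agent.Helper13.AssPrim

section Algebra

variable {A : Type*} [CommRing A] [IsLocalRing A] [IsNoetherianRing A] {N : Type*}
  [AddCommGroup N] [Module A N] [Module.Finite A N]

/-- Artin–Rees: a high power of the maximal ideal times `N` meets the socle of `N` trivially. -/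
theorem exists_pow_socle_trivial :
    ∃ k : ℕ, 0 < k ∧ ∀ n ∈ ((IsLocalRing.maximalIdeal A) ^ k • ⊤ : Submodule A N),
      (∀ a ∈ IsLocalRing.maximalIdeal A, a • n = 0) → n = 0 := by
  let S : Submodule A N :=
    { carrier := {n | ∀ a ∈ IsLocalRing.maximalIdeal A, a • n = 0}
      add_mem' := by
        intro x y hx hy a ha
        rw [smul_add, hx a ha, hy a ha, add_zero]
      zero_mem' := by
        intro a _
        exact smul_zero a
      smul_mem' := by
        intro c x hx a ha
        rw [smul_comm, hx a ha, smul_zero] }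
  obtain ⟨c, hc⟩ := Ideal.exists_pow_inf_eq_pow_smul (IsLocalRing.maximalIdeal A) S
  refine ⟨c + 1, Nat.succ_pos c, ?_⟩
  intro n hn hS
  have h1 : n ∈ (IsLocalRing.maximalIdeal A) ^ (c + 1) • (⊤ : Submodule A N) ⊓ S := ⟨hn, hS⟩
  rw [hc (c + 1) (Nat.le_succ c)] at h1
  have h2 : (IsLocalRing.maximalIdeal A) ^ (c + 1 - c) •
      ((IsLocalRing.maximalIdeal A) ^ c • ⊤ ⊓ S) ≤ (⊥ : Submodule A N) := by
    rw [Nat.add_sub_cancel_left, pow_one, Submodule.smul_le]
    intro a ha x hx
    rw [Submodule.mem_bot]
    exact hx.2 a ha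
  exact (Submodule.mem_bot A).1 (h2 h1)

end Algebra

section Sheaf

variable {X : Scheme.{u}} (M : X.Modules) (x : X)
  (P : Submodule (X.presheaf.stalk x) (M.presheaf.stalk x))

/-- the sections of `M` whose germ at `x` lies in `P`. -/
noncomputable def germSub : PresheafOfModules.Submodule M.val where
  obj V :=
    { carrier := {s | ∀ hx : x ∈ V.unop, M.presheaf.germ V.unop x hx s ∈ P}
      add_mem' := by
        intro a b ha hb hx
        have h : M.presheaf.germ V.unop x hx (a + b : Γ(M, V.unop)) =
            M.presheaf.germ V.unop x hx a + M.presheaf.germ V.unop x hx b :=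
          map_add (M.presheaf.germ V.unop x hx).hom a b
        exact (congrArg (· ∈ P) h).mpr (P.add_mem (ha hx) (hb hx))
      zero_mem' := by
        intro hx
        have h : M.presheaf.germ V.unop x hx (0 : Γ(M, V.unop)) = 0 :=
          map_zero (M.presheaf.germ V.unop x hx).hom
        exact (congrArg (· ∈ P) h).mpr P.zero_mem
      smul_mem' := by
        intro c s hs hx
        have h := germ_smul M V.unop x hx c s
        exact (congrArg (· ∈ P) h).mpr (P.smul_mem _ (hs hx)) }
  map := by
    intro V W f t ht hx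
    have h := TopCat.Presheaf.germ_res_apply M.presheaf f.unop x hx t
    exact (congrArg (· ∈ P) h).mpr (ht (leOfHom f.unop hx))

lemma mem_germSub (V : X.Opens) (s : Γ(M, V)) :
    s ∈ (germSub M x P).obj (op V) ↔ ∀ hx : x ∈ V, M.presheaf.germ V x hx s ∈ P := Iff.rfl

lemma isLocalSub_germSub : IsLocalSub M (germSub M x P) := by
  intro V t h
  rw [mem_germSub]
  intro hx
  obtain ⟨W, hWV, hxW, hW⟩ := h x hx
  rw [mem_germSub] at hW
  have h1 := hW hxW
  rwa [TopCat.Presheaf.germ_res_apply] at h1

/-- the subsheaf of `M` of sections whose germ at `x` lies in `P`. -/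
noncomputable def germSheaf : X.Modules := subsheaf M (germSub M x P) (isLocalSub_germSub M x P)

/-- its inclusion into `M`. -/
noncomputable def germSheafι : germSheaf M x P ⟶ M :=
  subsheafι M (germSub M x P) (isLocalSub_germSub M x P)

lemma germSheafι_app_mem (V : X.Opens) (s : Γ(germSheaf M x P, V)) (hx : x ∈ V) :
    M.presheaf.germ V x hx ((germSheafι M x P).app V s) ∈ P :=
  subsheafι_app_mem M (germSub M x P) (isLocalSub_germSub M x P) V s hx

lemma exists_of_germ_mem (V : X.Opens) (t : Γ(M, V))
    (ht : ∀ hx : x ∈ V, M.presheaf.germ V x hx t ∈ P) :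
    ∃ s : Γ(germSheaf M x P, V), (germSheafι M x P).app V s = t :=
  exists_of_mem M (germSub M x P) (isLocalSub_germSub M x P) V t ht

lemma germSheafι_app_injective (V : X.Opens) : Function.Injective ((germSheafι M x P).app V) :=
  subsheafι_app_injective M (germSub M x P) (isLocalSub_germSub M x P) V

instance : Mono (germSheafι M x P) :=
  (mono_iff_app_injective _).2 (germSheafι_app_injective M x P)

lemma germSheafι_naturality {V W : X.Opens} (hWV : W ≤ V) (s : Γ(germSheaf M x P, V)) :
    (germSheafι M x P).app W ((germSheaf M x P).presheaf.map (homOfLE hWV).op s) =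
      M.presheaf.map (homOfLE hWV).op ((germSheafι M x P).app V s) := by
  have h := (germSheafι M x P).mapPresheaf.naturality (homOfLE hWV).op
  exact congrArg (fun ψ => ψ s) h

end Sheaf

section QCohSub

variable {X : Scheme.{u}} (M : X.Modules) [M.IsQuasicoherent] (x : X)
  (P : Submodule (X.presheaf.stalk x) (M.presheaf.stalk x)) (k : ℕ)
  (hP : (IsLocalRing.maximalIdeal (X.presheaf.stalk x)) ^ k • ⊤ ≤ P)

include hP in
/-- the subsheaf of sections with germ at `x` in `P ⊇ m_x^k M_x` is quasi-coherent. -/
theorem isQuasicoherent_germSheaf : (germSheaf M x P).IsQuasicoherent := by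
  refine Groth.Agent.Helper6.QcohLocal.isQuasicoherent_of_affineOpens _
    (fun V : X.affineOpens => V.1) (fun V => V.2) (fun y => ?_) ?_ ?_
  · obtain ⟨_, ⟨V, hV, rfl⟩, hyV, -⟩ := X.isBasis_affineOpens.exists_subset_of_mem_open
      (Set.mem_univ y) isOpen_univ
    exact ⟨⟨V, hV⟩, hyV⟩
  · rintro V r W U' rfl hW hWr s
    obtain ⟨n, t₀, ht₀⟩ := Groth.Agent.Helper13.QCohPush.exists_pow_smul_eq_res' M V.2 r W hWr hW
      ((germSheafι M x P).app W s)
    have hmem : ∀ hx : x ∈ V.1, M.presheaf.germ V.1 x hx (r ^ k • t₀) ∈ P := by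
      intro hx
      rw [germ_smul, map_pow]
      by_cases hxW : x ∈ W
      · apply P.smul_mem
        have e1 := TopCat.Presheaf.germ_res_apply M.presheaf (homOfLE hW) x hxW t₀
        rw [← e1, ht₀, germ_smul]
        exact P.smul_mem _ (germSheafι_app_mem M x P W s hxW)
      · apply hP
        apply Submodule.smul_mem_smul _ Submodule.mem_top
        apply Ideal.pow_mem_pow
        rw [IsLocalRing.mem_maximalIdeal, mem_nonunits_iff]
        intro hu
        apply hxW
        rw [hWr]
        exact (X.mem_basicOpen r x hx).2 hu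
    obtain ⟨t, ht⟩ := exists_of_germ_mem M x P V.1 (r ^ k • t₀) hmem
    refine ⟨n + k, t, ?_⟩
    apply germSheafι_app_injective M x P W
    rw [Scheme.Modules.Hom.app_smul, germSheafι_naturality, ht, M.map_smul, ht₀, map_pow,
      smul_smul, ← pow_add, add_comm k n]
  · rintro V r W U' rfl hW hWr t ht
    have h1 : M.presheaf.map (homOfLE hW).op ((germSheafι M x P).app V.1 t) = 0 := by
      rw [← germSheafι_naturality, ht, map_zero]
    obtain ⟨n, hn⟩ := Groth.Agent.Helper13.QCohPush.exists_pow_smul_eq_zero' M V.2 r W hWr hW _ h1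
    refine ⟨n, ?_⟩
    have h2 : X.presheaf.map (homOfLE (le_refl V.1)).op r = r := res_id_apply' _ r
    apply germSheafι_app_injective M x P V.1
    rw [Scheme.Modules.Hom.app_smul, map_zero]
    exact (congrArg (fun c => c ^ n • (germSheafι M x P).app V.1 t) h2).trans hn

end QCohSub

end Groth.Agent.Helper13.AssPrim
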