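import Mathlib
import Groth.Prelude.Def_Coh
import Groth.Agent.Lib.Helper13.AssPrim1
import Groth.Agent.Lib.Helper13.AssMono
import Groth.Agent.Lib.Helper13.AffSurj
import Groth.Agent.Lib.Helper13.QCohKer
import Groth.Agent.Lib.Helper13.FinTypeEpi
import Groth.Agent.Lib.Helper13.FinAffine
import Groth.Agent.Lib.Helper13.LocFree2
import Groth.Agent.Lib.Helper13.FreeMod

/-!
# Primary quotients of a coherent module (helper13)

For a point `x` and `k : ℕ` the quotient `primQuot M x k` of `M` by the subsheaf of sections whose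
germ at `x` lies in `m_x^k M_x`.
* `primQuotπ_app_eq_zero_iff`: the kernel of `M ⟶ primQuot M x k` on sections;
* `isCoh_primQuot`: it is coherent if `M` is;
* `isWeakAssPoint_primQuot_iff`: if `M` is coherent on a locally Noetherian scheme, `k ≥ 1` and
  `M_x ≠ 0`, the only (weakly) associated point of `primQuot M x k` is `x`;
* `eq_zero_of_forall_primQuotπ`: a section of `M` over an affine open which dies in all
  `primQuot M y (kf y)`, `y` associated to `M`, is zero, if each `kf y` is large enough.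
-/

set_option autoImplicit false
universe u
open CategoryTheory CategoryTheory.Limits AlgebraicGeometry Opposite TopologicalSpace
open Groth.Agent.Helper13.QCoh Groth.Agent.Helper13.FinType

namespace Groth.Agent.Helper13.AssPrim

section Quot

variable {X : Scheme.{u}} (M : X.Modules) (x : X) (k : ℕ)

/-- `m_x^k M_x` -/
noncomputable abbrev powSub : Submodule (X.presheaf.stalk x) (M.presheaf.stalk x) :=
  (IsLocalRing.maximalIdeal (X.presheaf.stalk x)) ^ k • ⊤

/-- the `x`-primary quotient of `M` of exponent `k`. -/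
noncomputable def primQuot : X.Modules := cokernel (germSheafι M x (powSub M x k))

/-- the projection onto the primary quotient. -/
noncomputable def primQuotπ : M ⟶ primQuot M x k := cokernel.π (germSheafι M x (powSub M x k))

instance : Epi (primQuotπ M x k) :=
  inferInstanceAs (Epi (cokernel.π (germSheafι M x (powSub M x k))))

lemma germSheafι_primQuotπ : germSheafι M x (powSub M x k) ≫ primQuotπ M x k = 0 :=
  cokernel.condition _

lemma primQuotπ_app_eq_zero_iff (W : X.Opens) (s : Γ(M, W)) :
    (primQuotπ M x k).app W s = 0 ↔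
      ∀ hx : x ∈ W, M.presheaf.germ W x hx s ∈ powSub M x k := by
  constructor
  · intro h
    let S : ShortComplex X.Modules :=
      ShortComplex.mk (germSheafι M x (powSub M x k)) (primQuotπ M x k)
        (germSheafι_primQuotπ M x k)
    have hS : S.Exact := ShortComplex.exact_cokernel (germSheafι M x (powSub M x k))
    haveI : Mono S.f := inferInstanceAs (Mono (germSheafι M x (powSub M x k)))
    obtain ⟨s₁, hs₁⟩ := app_exact_of_exact_of_mono S hS W s h
    intro hx
    rw [← hs₁]
    exact germSheafι_app_mem M x _ W s₁ hx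
  · intro h
    obtain ⟨s₁, rfl⟩ := exists_of_germ_mem M x _ W s h
    rw [← LocFree.app_comp_apply, germSheafι_primQuotπ]
    rfl

lemma smul_primQuotπ_app_eq_zero_iff (W : X.Opens) (s : Γ(M, W)) (a : Γ(X, W)) :
    a • (primQuotπ M x k).app W s = 0 ↔
      ∀ hx : x ∈ W, X.presheaf.germ W x hx a • M.presheaf.germ W x hx s ∈ powSub M x k := by
  rw [← Scheme.Modules.Hom.app_smul, primQuotπ_app_eq_zero_iff]
  constructor
  · intro h hx
    rw [← germ_smul]
    exact h hx
  · intro h hx
    rw [germ_smul]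
    exact h hx

section Coh

variable [M.IsQuasicoherent]

lemma isQuasicoherent_primQuot : (primQuot M x k).IsQuasicoherent := by
  haveI := isQuasicoherent_germSheaf M x (powSub M x k) k le_rfl
  exact Groth.Agent.Helper13.QCohLocal.isQuasicoherent_cokernel _

omit [M.IsQuasicoherent] in
lemma isCoh_primQuot (hM : Coh.IsCoh M) : Coh.IsCoh (primQuot M x k) := by
  haveI : M.IsQuasicoherent := hM.1
  haveI : SheafOfModules.IsFiniteType (R := X.ringCatSheaf) M := hM.2
  exact ⟨isQuasicoherent_primQuot M x k, isFiniteType_of_epi (primQuotπ M x k)⟩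

variable {W : X.Opens} (hW : IsAffineOpen W) (hxW : x ∈ W) (s : Γ(M, W))

omit [M.IsQuasicoherent] in
include hW in
/-- if the germ of `s` is not in `m_x^k M_x`, the annihilator of its image lies in the prime of
`x`. -/
lemma annSec_le (hs : M.presheaf.germ W x hxW s ∉ powSub M x k) :
    annSec (primQuot M x k) ((primQuotπ M x k).app W s) ≤ (hW.primeIdealOf ⟨x, hxW⟩).asIdeal := by
  intro a ha
  rw [mem_annSec, smul_primQuotπ_app_eq_zero_iff] at ha
  by_contra hna
  have hxa : x ∈ X.basicOpen a := (mem_basicOpen_iff_notMem_primeIdealOf hW x hxW a).2 hna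
  have hu : IsUnit (X.presheaf.germ W x hxW a) := (X.mem_basicOpen a x hxW).1 hxa
  obtain ⟨v, hv⟩ := hu
  apply hs
  have h1 := (powSub M x k).smul_mem ((v⁻¹ : (X.presheaf.stalk x)ˣ) : X.presheaf.stalk x)
    (ha hxW)
  rwa [← hv, smul_smul, Units.inv_mul, one_smul] at h1

omit [M.IsQuasicoherent] in
include hW in
/-- the `k`-th power of a function in the prime of `x` kills every section of the quotient. -/
lemma pow_mem_annSec (a : Γ(X, W)) (ha : a ∈ (hW.primeIdealOf ⟨x, hxW⟩).asIdeal) :
    a ^ k ∈ annSec (primQuot M x k) ((primQuotπ M x k).app W s) := by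
  rw [mem_annSec, smul_primQuotπ_app_eq_zero_iff]
  intro hx
  rw [map_pow]
  apply Submodule.smul_mem_smul _ Submodule.mem_top
  apply Ideal.pow_mem_pow
  exact (germ_mem_maximalIdeal_iff hW x hx a).2 ha

end Coh

end Quot

section Main

variable {X : Scheme.{u}}

lemma primeIdealOf_injective' {W : X.Opens} (hW : IsAffineOpen W) (y z : X) (hy : y ∈ W)
    (hz : z ∈ W)
    (h : (hW.primeIdealOf ⟨y, hy⟩).asIdeal = (hW.primeIdealOf ⟨z, hz⟩).asIdeal) : y = z := by
  have h1 : hW.primeIdealOf ⟨y, hy⟩ = hW.primeIdealOf ⟨z, hz⟩ := PrimeSpectrum.ext h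
  have h2 : hW.fromSpec (hW.primeIdealOf ⟨y, hy⟩) = hW.fromSpec (hW.primeIdealOf ⟨z, hz⟩) := by
    rw [h1]
  rw [hW.fromSpec_primeIdealOf ⟨y, hy⟩, hW.fromSpec_primeIdealOf ⟨z, hz⟩] at h2
  exact h2

variable [IsLocallyNoetherian X] (M : X.Modules) (hM : Coh.IsCoh M)

include hM in
/-- the only associated point of the primary quotient at `x` is `x`. -/
theorem isWeakAssPoint_primQuot_iff (x : X) (k : ℕ) (hk : 0 < k)
    (hx : ∃ m : M.presheaf.stalk x, m ≠ 0) (y : X) :
    Curv2.IsWeakAssPoint (primQuot M x k) y ↔ y = x := by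
  haveI : M.IsQuasicoherent := hM.1
  haveI : SheafOfModules.IsFiniteType (R := X.ringCatSheaf) M := hM.2
  haveI := isQuasicoherent_primQuot M x k
  constructor
  · intro h
    obtain ⟨_, ⟨(W : X.Opens), hW, rfl⟩, hyW, -⟩ :=
      X.isBasis_affineOpens.exists_subset_of_mem_open (Set.mem_univ y) isOpen_univ
    have hW' : IsAffineOpen W := hW
    obtain ⟨t, ht⟩ := exists_annSec_eq_of_isWeakAssPoint (primQuot M x k) hW' y hyW h
    obtain ⟨s, rfl⟩ := Groth.Agent.Helper13.AffSurj.surjective_app_of_epi (primQuotπ M x k) hW' t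
    have hne : (primQuotπ M x k).app W s ≠ 0 := by
      intro h0
      have h1 : (1 : Γ(X, W)) ∈ annSec (primQuot M x k) ((primQuotπ M x k).app W s) := by
        rw [mem_annSec, h0, smul_zero]
      rw [ht] at h1
      exact (hW'.primeIdealOf ⟨y, hyW⟩).isPrime.ne_top ((Ideal.eq_top_iff_one _).2 h1)
    have hex : ∃ hxW : x ∈ W, M.presheaf.germ W x hxW s ∉ powSub M x k := by
      by_contra hcon
      push Not at hcon
      exact hne ((primQuotπ_app_eq_zero_iff M x k W s).2 hcon)
    obtain ⟨hxW, hs⟩ := hex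
    have h1 := annSec_le M x k hW' hxW s hs
    rw [ht] at h1
    have h2 : (hW'.primeIdealOf ⟨x, hxW⟩).asIdeal ≤ (hW'.primeIdealOf ⟨y, hyW⟩).asIdeal := by
      intro a ha
      have h3 := pow_mem_annSec M x k hW' hxW s a ha
      rw [ht] at h3
      exact (hW'.primeIdealOf ⟨y, hyW⟩).isPrime.mem_of_pow_mem k h3
    exact primeIdealOf_injective' hW' y x hyW hxW (le_antisymm h1 h2)
  · rintro rfl
    obtain ⟨_, ⟨(W : X.Opens), hW, rfl⟩, hyW, -⟩ :=
      X.isBasis_affineOpens.exists_subset_of_mem_open (Set.mem_univ y) isOpen_univ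
    have hW' : IsAffineOpen W := hW
    have hex : ∃ s : Γ(M, W), M.presheaf.germ W y hyW s ∉ powSub M y k := by
      by_contra hcon
      push Not at hcon
      have htop : (⊤ : Submodule (X.presheaf.stalk y) (M.presheaf.stalk y)) ≤ powSub M y k := by
        intro m _
        obtain ⟨g, hyg, t, hgt⟩ := exists_germ_smul_eq M hW' y hyW m
        have hu : IsUnit (X.presheaf.germ W y hyW g) := (X.mem_basicOpen g y hyW).1 hyg
        obtain ⟨v, hv⟩ := hu
        have h1 := (powSub M y k).smul_mem ((v⁻¹ : (X.presheaf.stalk y)ˣ) : X.presheaf.stalk y)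
          (hcon t)
        rwa [← hgt, ← hv, smul_smul, Units.inv_mul, one_smul] at h1
      haveI : Module.Finite (X.presheaf.stalk y) (M.presheaf.stalk y) :=
        Groth.Agent.Helper13.LocFree.finite_stalk_of_isFiniteType M y
      have hle : (⊤ : Submodule (X.presheaf.stalk y) (M.presheaf.stalk y)) ≤
          IsLocalRing.maximalIdeal (X.presheaf.stalk y) • ⊤ :=
        htop.trans (Submodule.smul_mono_left (Ideal.pow_le_self hk.ne'))
      have hbot := Submodule.eq_bot_of_le_smul_of_le_jacobson_bot _ _ Module.Finite.fg_top hle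
        (IsLocalRing.maximalIdeal_le_jacobson ⊥)
      obtain ⟨m, hm⟩ := hx
      have hmt : m ∈ (⊤ : Submodule (X.presheaf.stalk y) (M.presheaf.stalk y)) :=
        Submodule.mem_top
      rw [hbot] at hmt
      exact hm ((Submodule.mem_bot _).1 hmt)
    obtain ⟨s, hs⟩ := hex
    refine (isWeakAssPoint_iff_exists_mem_minimalPrimes (primQuot M y k) hW' y hyW).2
      ⟨(primQuotπ M y k).app W s, ?_⟩
    refine ⟨⟨(hW'.primeIdealOf ⟨y, hyW⟩).isPrime, annSec_le M y k hW' hyW s hs⟩,
      fun q hq _ => ?_⟩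
    intro a ha
    exact hq.1.mem_of_pow_mem k (hq.2 (pow_mem_annSec M y k hW' hyW s a ha))

include hM in
/-- a section over an affine open which dies in all primary quotients at the associated points
(with large enough exponents) is zero. -/
theorem eq_zero_of_forall_primQuotπ (kf : X → ℕ)
    (hk : ∀ y, Curv2.IsWeakAssPoint M y → ∀ n ∈ powSub M y (kf y),
      (∀ a ∈ IsLocalRing.maximalIdeal (X.presheaf.stalk y), a • n = 0) → n = 0)
    {W : X.Opens} (hW : IsAffineOpen W) (s : Γ(M, W))
    (hs : ∀ y, Curv2.IsWeakAssPoint M y → (primQuotπ M y (kf y)).app W s = 0) : s = 0 := by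
  haveI : M.IsQuasicoherent := hM.1
  haveI : IsNoetherianRing Γ(X, W) := IsLocallyNoetherian.component_noetherian ⟨W, hW⟩
  by_contra hs0
  let N : Submodule Γ(X, W) Γ(M, W) :=
    { carrier := {z | ∀ y, Curv2.IsWeakAssPoint M y → (primQuotπ M y (kf y)).app W z = 0}
      add_mem' := by
        intro a b ha hb y hy
        rw [map_add, ha y hy, hb y hy, add_zero]
      zero_mem' := by
        intro y hy
        rw [map_zero]
      smul_mem' := by
        intro c z hz y hy
        rw [Scheme.Modules.Hom.app_smul, hz y hy, smul_zero] }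
  haveI : Nontrivial N := ⟨⟨⟨s, hs⟩, 0, fun h => hs0 (congrArg Subtype.val h)⟩⟩
  obtain ⟨P, hP⟩ := associatedPrimes.nonempty Γ(X, W) N
  obtain ⟨hPp, z, hz⟩ := isAssociatedPrime_iff.1 hP
  have hann : annSec M (z : Γ(M, W)) = P := by
    ext a
    rw [mem_annSec, hz, Submodule.mem_colon_singleton, Submodule.mem_bot]
    constructor
    · intro h
      exact Subtype.ext h
    · intro h
      exact congrArg Subtype.val h
  set y := hW.fromSpec ⟨P, hPp⟩ with hy
  have hyW : y ∈ W := Groth.Agent.Helper13.WeakAss.fromSpec_mem hW _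
  have hqe : hW.primeIdealOf ⟨y, hyW⟩ = ⟨P, hPp⟩ :=
    hW.fromSpec.isOpenEmbedding.injective (hW.fromSpec_primeIdealOf ⟨y, hyW⟩)
  have hann' : annSec M (z : Γ(M, W)) = (hW.primeIdealOf ⟨y, hyW⟩).asIdeal := by
    rw [hann, hqe]
  have hyass : Curv2.IsWeakAssPoint M y := by
    refine (isWeakAssPoint_iff_exists_mem_minimalPrimes M hW y hyW).2 ⟨z, ?_⟩
    rw [hann', Ideal.minimalPrimes_eq_subsingleton_self]
    exact Set.mem_singleton _
  have hgne := Groth.Agent.Helper13.AssMono.germ_ne_zero M hW y hyW z hann'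
  have hgmem : M.presheaf.germ W y hyW z ∈ powSub M y (kf y) :=
    (primQuotπ_app_eq_zero_iff M y (kf y) W z).1 (z.2 y hyass) hyW
  apply hgne
  apply hk y hyass _ hgmem
  intro c hc
  obtain ⟨g, b, hyg, hgb⟩ := exists_germ_mul_eq hW y hyW c
  have hu : IsUnit (X.presheaf.germ W y hyW g) := (X.mem_basicOpen g y hyW).1 hyg
  have hb : b ∈ (hW.primeIdealOf ⟨y, hyW⟩).asIdeal := by
    rw [← germ_mem_maximalIdeal_iff hW y hyW b, ← hgb]
    exact Ideal.mul_mem_left _ _ hc
  have hbz : b • (z : Γ(M, W)) = 0 := by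
    rw [← mem_annSec, hann']
    exact hb
  have h1 : X.presheaf.germ W y hyW b • M.presheaf.germ W y hyW (z : Γ(M, W)) = 0 := by
    rw [← germ_smul, hbz, map_zero]
  rw [← hgb, mul_smul] at h1
  exact hu.smul_eq_zero.1 h1

end Main

end Groth.Agent.Helper13.AssPrim
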