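import Mathlib
import Groth.Prelude.Def_Coh
import Groth.Prelude.Def_CohB1
import Groth.Prelude.Def_ClSub2
import Groth.Agent.Lib.Helper13.AssPrim2
import Groth.Agent.Lib.Helper13.EpiGen
import Groth.Agent.Lib.Helper13.EpiStalk

/-!
# Quotients of a module by the sections with germ in a given submodule of a stalk (helper13)

For a submodule `P` of the stalk `M_x`, `germQuot M x P` is the quotient of `M` by the subsheaf
`germSheaf M x P` of sections whose germ at `x` lies in `P`.
* `germQuotπ_app_eq_zero_iff`: the kernel of the projection on sections;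
* `ker_stalkLinearMap_germQuotπ`: on the stalk at `x` the kernel is `P`;
* `length_stalk_germQuot`: if `P` is a coatom, the stalk of the quotient at `x` has length one;
* `support_germQuot_subset`: the quotient is supported on the closure of `x`;
* `killedByIdeal_germQuot`: it is killed by the ideal of the reduced closure of `x` if
  `m_x M_x ≤ P`;
* `isCoh_germQuot`.
-/

set_option autoImplicit false
universe u
open CategoryTheory CategoryTheory.Limits AlgebraicGeometry Opposite TopologicalSpace
open Groth.Agent.Helper13.QCoh Groth.Agent.Helper13.FinType Groth.Agent.Helper13.AssPrim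

namespace Groth.Agent.Helper13.GermQuot

variable {X : Scheme.{u}} (M : X.Modules) (x : X)
  (P : Submodule (X.presheaf.stalk x) (M.presheaf.stalk x))

/-- the quotient of `M` by the sections with germ at `x` in `P`. -/
noncomputable def germQuot : X.Modules := cokernel (germSheafι M x P)

/-- the projection. -/
noncomputable def germQuotπ : M ⟶ germQuot M x P := cokernel.π (germSheafι M x P)

instance : Epi (germQuotπ M x P) :=
  inferInstanceAs (Epi (cokernel.π (germSheafι M x P)))

lemma germSheafι_germQuotπ : germSheafι M x P ≫ germQuotπ M x P = 0 :=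
  cokernel.condition _

lemma germQuotπ_app_eq_zero_iff (W : X.Opens) (s : Γ(M, W)) :
    (germQuotπ M x P).app W s = 0 ↔ ∀ hx : x ∈ W, M.presheaf.germ W x hx s ∈ P := by
  constructor
  · intro h
    let S : ShortComplex X.Modules :=
      ShortComplex.mk (germSheafι M x P) (germQuotπ M x P) (germSheafι_germQuotπ M x P)
    have hS : S.Exact := ShortComplex.exact_cokernel (germSheafι M x P)
    haveI : Mono S.f := inferInstanceAs (Mono (germSheafι M x P))
    obtain ⟨s₁, hs₁⟩ := app_exact_of_exact_of_mono S hS W s h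
    intro hx
    rw [← hs₁]
    exact germSheafι_app_mem M x _ W s₁ hx
  · intro h
    obtain ⟨s₁, rfl⟩ := exists_of_germ_mem M x _ W s h
    rw [← LocFree.app_comp_apply, germSheafι_germQuotπ]
    rfl

/-- on the stalk at `x`, the kernel of the projection is `P`. -/
theorem ker_stalkLinearMap_germQuotπ :
    LinearMap.ker (stalkLinearMap (germQuotπ M x P) x) = P := by
  ext m
  rw [LinearMap.mem_ker, stalkLinearMap_apply]
  obtain ⟨W, hxW, t, rfl⟩ := TopCat.Presheaf.exists_germ_eq M.presheaf m
  rw [stalkMap_germ]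
  constructor
  · intro h
    have h0 : (germQuot M x P).presheaf.germ W x hxW ((germQuotπ M x P).app W t) =
        (germQuot M x P).presheaf.germ W x hxW 0 := by rw [h, map_zero]
    obtain ⟨W', hxW', i₁, i₂, heq⟩ :=
      TopCat.Presheaf.germ_eq (germQuot M x P).presheaf x hxW hxW _ _ h0
    have h1 : (germQuotπ M x P).app W' (M.presheaf.map i₁.op t) = 0 := by
      have hnat : (germQuotπ M x P).app W' (M.presheaf.map i₁.op t) =
          (germQuot M x P).presheaf.map i₁.op ((germQuotπ M x P).app W t) :=
        congrArg (fun ψ => ψ t) ((germQuotπ M x P).mapPresheaf.naturality i₁.op)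
      rw [hnat, heq, map_zero]
    have h2 := (germQuotπ_app_eq_zero_iff M x P W' _).1 h1 hxW'
    rwa [TopCat.Presheaf.germ_res_apply] at h2
  · intro h
    have h1 : (germQuotπ M x P).app W t = 0 :=
      (germQuotπ_app_eq_zero_iff M x P W t).2 (fun _ => h)
    rw [h1, map_zero]

/-- the stalk of the quotient at `x`. -/
noncomputable def stalkEquiv :
    (M.presheaf.stalk x ⧸ P) ≃ₗ[X.presheaf.stalk x] (germQuot M x P).presheaf.stalk x :=
  (Submodule.quotEquivOfEq _ _ (ker_stalkLinearMap_germQuotπ M x P).symm).trans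
    (LinearMap.quotKerEquivOfSurjective (stalkLinearMap (germQuotπ M x P) x)
      (stalkMap_surjective_of_epi (germQuotπ M x P) x))

theorem length_stalk_germQuot (hP : IsCoatom P) :
    Module.length (X.presheaf.stalk x) ((germQuot M x P).presheaf.stalk x) = 1 := by
  rw [← (stalkEquiv M x P).length_eq]
  haveI : IsSimpleModule (X.presheaf.stalk x) (M.presheaf.stalk x ⧸ P) :=
    isSimpleModule_iff_isCoatom.2 hP
  exact Module.length_eq_one _ _

/-- a coatom of the stalk contains `m_x M_x`. -/
lemma maximalIdeal_smul_le_of_isCoatom (hP : IsCoatom P) :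
    (IsLocalRing.maximalIdeal (X.presheaf.stalk x)) ^ 1 • ⊤ ≤ P := by
  haveI : IsSimpleModule (X.presheaf.stalk x) (M.presheaf.stalk x ⧸ P) :=
    isSimpleModule_iff_isCoatom.2 hP
  have hmax := IsSimpleModule.annihilator_isMaximal (R := X.presheaf.stalk x)
    (M := M.presheaf.stalk x ⧸ P)
  have heq := IsLocalRing.eq_maximalIdeal hmax
  rw [pow_one, Submodule.smul_le]
  intro a ha n _
  rw [← heq, Module.mem_annihilator] at ha
  have h1 := ha (Submodule.Quotient.mk n)
  rw [← Submodule.Quotient.mk_smul, Submodule.Quotient.mk_eq_zero] at h1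
  exact h1

theorem support_germQuot_subset : CohB1.support (germQuot M x P) ⊆ closure {x} := by
  intro z hz
  by_contra hzc
  apply hz
  -- every germ at `z` vanishes
  have hsurj := stalkMap_surjective_of_epi (germQuotπ M x P) z
  refine ⟨fun a b => ?_⟩
  have h0 : ∀ c : (germQuot M x P).presheaf.stalk z, c = 0 := by
    intro c
    obtain ⟨m, rfl⟩ := hsurj c
    obtain ⟨W, hzW, t, rfl⟩ := TopCat.Presheaf.exists_germ_eq M.presheaf m
    let W' : X.Opens := W ⊓ ⟨(closure {x})ᶜ, isClosed_closure.isOpen_compl⟩
    have hzW' : z ∈ W' := ⟨hzW, hzc⟩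
    have hxW' : x ∉ W' := fun h => h.2 (subset_closure (Set.mem_singleton x))
    have hle : W' ≤ W := inf_le_left
    have e1 := TopCat.Presheaf.germ_res_apply M.presheaf (homOfLE hle) z hzW' t
    rw [← e1, stalkMap_germ]
    have h1 : (germQuotπ M x P).app W' (M.presheaf.map (homOfLE hle).op t) = 0 :=
      (germQuotπ_app_eq_zero_iff M x P W' _).2 (fun hx => absurd hx hxW')
    rw [h1, map_zero]
  rw [h0 a, h0 b]

theorem killedByIdeal_germQuot [M.IsQuasicoherent]
    (hP : (IsLocalRing.maximalIdeal (X.presheaf.stalk x)) ^ 1 • ⊤ ≤ P)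
    (hq : (germQuot M x P).IsQuasicoherent) :
    ClSub.KilledByIdeal
      (Scheme.IdealSheafData.vanishingIdeal ⟨closure {x}, isClosed_closure⟩) (germQuot M x P) := by
  intro U a ha m
  obtain ⟨t, rfl⟩ := Groth.Agent.Helper13.AffSurj.surjective_app_of_epi (germQuotπ M x P) U.2 m
  have h1 : a • (germQuotπ M x P).app U.1 t = (germQuotπ M x P).app U.1 (a • t) :=
    (Scheme.Modules.Hom.app_smul _ _ _).symm
  refine h1.trans ?_
  apply (germQuotπ_app_eq_zero_iff M x P U.1 (a • t)).2
  intro hx
  rw [germ_smul]
  apply hP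
  rw [pow_one]
  apply Submodule.smul_mem_smul _ Submodule.mem_top
  rw [germ_mem_maximalIdeal_iff U.2 x hx a]
  exact (Groth.Agent.Helper13.AssMono.mem_vanishingIdeal_closure_iff x U.2 a).1 ha hx

theorem isQuasicoherent_germQuot [M.IsQuasicoherent] (k : ℕ)
    (hP : (IsLocalRing.maximalIdeal (X.presheaf.stalk x)) ^ k • ⊤ ≤ P) :
    (germQuot M x P).IsQuasicoherent := by
  haveI := isQuasicoherent_germSheaf M x P k hP
  exact Groth.Agent.Helper13.QCohLocal.isQuasicoherent_cokernel _

theorem isCoh_germQuot (hM : Coh.IsCoh M) (k : ℕ)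
    (hP : (IsLocalRing.maximalIdeal (X.presheaf.stalk x)) ^ k • ⊤ ≤ P) :
    Coh.IsCoh (germQuot M x P) := by
  haveI : M.IsQuasicoherent := hM.1
  haveI : SheafOfModules.IsFiniteType (R := X.ringCatSheaf) M := hM.2
  exact ⟨isQuasicoherent_germQuot M x P k hP, isFiniteType_of_epi (germQuotπ M x P)⟩

end Groth.Agent.Helper13.GermQuot
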