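import Mathlib
import Groth.Prelude.Def_Coh
import Groth.Prelude.Def_CohB1
import Groth.Agent.Lib.Helper13.GermQuot
import Groth.Agent.S2412
import Groth.Agent.S9514
import Groth.Agent.S0020

/-!
# The Serre subcategory generated by a coherent module (helper13)

* `mem_support_iff_of_shortExact`: the support of the middle term of a short exact sequence is the
  union of the supports of the outer terms;
* `serre_of_support_subset`: on a Noetherian scheme, a class of coherent modules closed under
  subobjects, quotients and extensions and containing `F` contains every coherent module supported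
  in the support of `F`.
-/

set_option autoImplicit false
universe u
open CategoryTheory CategoryTheory.Limits AlgebraicGeometry Opposite TopologicalSpace
open Groth.Agent.Helper13.QCoh Groth.Agent.Helper13.FinType

namespace Groth.Agent.Helper13.SerreSupp

variable {X : Scheme.{u}}

theorem mem_support_iff_of_shortExact (S : ShortComplex X.Modules) (hS : S.ShortExact) (z : X) :
    z ∈ CohB1.support S.X₂ ↔ z ∈ CohB1.support S.X₁ ∨ z ∈ CohB1.support S.X₃ := by
  haveI := hS.mono_f
  haveI := hS.epi_g
  constructor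
  · intro h2
    by_contra hcon
    push Not at hcon
    obtain ⟨h1, h3⟩ := hcon
    have h1' : Subsingleton (S.X₁.presheaf.stalk z) := not_not.1 h1
    have h3' : Subsingleton (S.X₃.presheaf.stalk z) := not_not.1 h3
    apply h2
    have h0 : ∀ m : S.X₂.presheaf.stalk z, m = 0 := by
      intro m
      obtain ⟨m₁, hm₁⟩ := stalk_exact_of_exact_of_mono S hS.exact z m (Subsingleton.elim _ _)
      rw [← hm₁, Subsingleton.elim m₁ 0, map_zero]
    exact ⟨fun a b => by rw [h0 a, h0 b]⟩
  · rintro (h1 | h3)
    · intro h2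
      apply h1
      have hinj := (mono_iff_stalk_injective S.f).1 inferInstance z
      exact ⟨fun a b => hinj (@Subsingleton.elim _ h2 _ _)⟩
    · intro h2
      apply h3
      have hsurj := stalkMap_surjective_of_epi S.g z
      refine ⟨fun a b => ?_⟩
      obtain ⟨a', rfl⟩ := hsurj a
      obtain ⟨b', rfl⟩ := hsurj b
      rw [@Subsingleton.elim _ h2 a' b']

theorem support_subset_iff_of_shortExact (S : ShortComplex X.Modules) (hS : S.ShortExact)
    (T : Set X) :
    CohB1.support S.X₂ ⊆ T ↔ CohB1.support S.X₁ ⊆ T ∧ CohB1.support S.X₃ ⊆ T := by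
  constructor
  · intro h
    exact ⟨fun z hz => h ((mem_support_iff_of_shortExact S hS z).2 (Or.inl hz)),
      fun z hz => h ((mem_support_iff_of_shortExact S hS z).2 (Or.inr hz))⟩
  · rintro ⟨h1, h3⟩ z hz
    rcases (mem_support_iff_of_shortExact S hS z).1 hz with h | h
    · exact h1 h
    · exact h3 h

variable [IsNoetherian X]

section Serre

variable (P : ObjectProperty X.Modules)
  (hP : ∀ S : ShortComplex X.Modules, S.ShortExact → Coh.IsCoh S.X₁ → Coh.IsCoh S.X₂ →
    Coh.IsCoh S.X₃ → (P S.X₂ ↔ P S.X₁ ∧ P S.X₃))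

include hP in
/-- such a class is closed under coherent quotients. -/
lemma prop_of_epi {M N : X.Modules} (hM : Coh.IsCoh M) (hN : Coh.IsCoh N) (π : M ⟶ N) [Epi π]
    (h : P M) : P N := by
  have hS : (ShortComplex.mk (kernel.ι π) π (kernel.condition π)).ShortExact :=
    { exact := ShortComplex.exact_kernel π }
  exact ((hP _ hS (Groth.Agent.S9514.result X hM hN π).1 hM hN).1 h).2

include hP in
/-- **The Serre class generated by a coherent module.** -/
theorem serre_of_support_subset (F E : X.Modules) (hF : Coh.IsCoh F) (hE : Coh.IsCoh E)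
    (hPF : P F) (hsupp : CohB1.support E ⊆ CohB1.support F) : P E := by
  classical
  haveI : F.IsQuasicoherent := hF.1
  haveI : SheafOfModules.IsFiniteType (R := X.ringCatSheaf) F := hF.2
  let K' : ObjectProperty X.Modules := fun M => Coh.IsCoh M → P M
  haveI : K'.IsClosedUnderIsomorphisms := by
    constructor
    intro M N e hM hN
    have hMc : Coh.IsCoh M := by
      haveI : N.IsQuasicoherent := hN.1
      haveI : SheafOfModules.IsFiniteType (R := X.ringCatSheaf) N := hN.2
      exact ⟨Groth.Agent.Helper13.QCohLocal.isQuasicoherent_of_iso e.symm,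
        isFiniteType_of_epi e.inv⟩
    exact prop_of_epi P hP hMc hN e.hom (hM hMc)
  have h0 : ∀ M : X.Modules, IsZero M → K' M := by
    intro M hM hMc
    haveI : Epi (0 : F ⟶ M) := ⟨fun g h _ => hM.eq_of_src g h⟩
    exact prop_of_epi P hP hF hMc (0 : F ⟶ M) hPF
  have hex : ∀ S : ShortComplex X.Modules, S.ShortExact → Coh.IsCoh S.X₁ → Coh.IsCoh S.X₂ →
      Coh.IsCoh S.X₃ →
      (K' S.X₁ → K' S.X₂ → K' S.X₃) ∧ (K' S.X₁ → K' S.X₃ → K' S.X₂) ∧
        (K' S.X₂ → K' S.X₃ → K' S.X₁) := by
    intro S hS h1 h2 h3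
    have hiff := hP S hS h1 h2 h3
    exact ⟨fun _ k2 _ => (hiff.1 (k2 h2)).2, fun k1 k3 _ => hiff.2 ⟨k1 h1, k3 h3⟩,
      fun k2 _ _ => (hiff.1 (k2 h2)).1⟩
  have hcl : IsClosed (CohB1.support F) := Groth.Agent.S0020.result X F hF.2
  have hgen : ∀ (Z : Set X) (hZ : IsClosed Z), IsIrreducible Z → Z ⊆ CohB1.support F →
      ∀ y : X, closure {y} = Z →
      ∃ G : X.Modules, Coh.IsCoh G ∧ K' G ∧ CohB1.support G ⊆ Z ∧
        ClSub.KilledByIdeal (Scheme.IdealSheafData.vanishingIdeal ⟨Z, hZ⟩) G ∧
        Module.length (X.presheaf.stalk y) (G.presheaf.stalk y) = 1 := by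
    intro Z hZ _ hZF y hy
    subst hy
    have hyF : y ∈ CohB1.support F := hZF (subset_closure (Set.mem_singleton y))
    haveI : Module.Finite (X.presheaf.stalk y) (F.presheaf.stalk y) :=
      Groth.Agent.Helper13.LocFree.finite_stalk_of_isFiniteType F y
    have hne : (⊥ : Submodule (X.presheaf.stalk y) (F.presheaf.stalk y)) ≠ ⊤ := by
      intro h
      apply hyF
      refine ⟨fun a b => ?_⟩
      have ha : a ∈ (⊥ : Submodule (X.presheaf.stalk y) (F.presheaf.stalk y)) := h ▸ Submodule.mem_top
      have hb : b ∈ (⊥ : Submodule (X.presheaf.stalk y) (F.presheaf.stalk y)) := h ▸ Submodule.mem_top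
      rw [(Submodule.mem_bot _).1 ha, (Submodule.mem_bot _).1 hb]
    obtain ⟨H, hH, -⟩ := (eq_top_or_exists_le_coatom
      (⊥ : Submodule (X.presheaf.stalk y) (F.presheaf.stalk y))).resolve_left hne
    have hHm := Groth.Agent.Helper13.GermQuot.maximalIdeal_smul_le_of_isCoatom F y H hH
    have hGc := Groth.Agent.Helper13.GermQuot.isCoh_germQuot F y H hF 1 hHm
    refine ⟨Groth.Agent.Helper13.GermQuot.germQuot F y H, hGc, fun _ => ?_,
      Groth.Agent.Helper13.GermQuot.support_germQuot_subset F y H,
      Groth.Agent.Helper13.GermQuot.killedByIdeal_germQuot F y H hHm hGc.1,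
      Groth.Agent.Helper13.GermQuot.length_stalk_germQuot F y H hH⟩
    exact prop_of_epi P hP hF hGc (Groth.Agent.Helper13.GermQuot.germQuotπ F y H) hPF
  exact Groth.Agent.S2412.result X K' h0 hex (CohB1.support F) hcl hgen E hE hsupp hE

end Serre

end Groth.Agent.Helper13.SerreSupp
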