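import Mathlib
import Groth.Prelude.Def_Coh
import Groth.Prelude.Def_CohB1
import Groth.Prelude.Def_ClSub2
import Groth.Agent.Lib.Helper26.DevB
import Groth.Agent.Lib.Helper28.SuppProper
import Groth.Agent.Lib.Helper13.SerreSupp
import Groth.Agent.Lib.Helper13.CohRoof

/-!
# Coherent modules with prescribed support (helper13)

* `support_push_unit`: for a closed immersion `i : Z ⟶ X`, the support of `i_* O_Z` is the range
  of `i`;
* `exists_coh_support_eq`: every closed subset of a scheme is the support of a quasi-coherent module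
  of finite type (namely `O_X / I` for the radical ideal of the subset).
-/

set_option autoImplicit false
universe u
open CategoryTheory CategoryTheory.Limits AlgebraicGeometry Opposite TopologicalSpace

namespace Groth.Agent.Helper13.CohSupp

variable {X : Scheme.{u}}

theorem support_push_unit {Z : Scheme.{u}} (i : Z ⟶ X) [IsClosedImmersion i] :
    CohB1.support ((Scheme.Modules.pushforward i).obj (Coh.structureModule Z)) = Set.range i := by
  apply Set.Subset.antisymm
  · exact Groth.Agent.Helper28.SuppProper.support_subset_range i _ _ (Iso.refl _)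
  · rintro _ ⟨z, rfl⟩
    intro hss
    let one : Γ((Scheme.Modules.pushforward i).obj (Coh.structureModule Z), ⊤) :=
      (1 : Γ(Z, i ⁻¹ᵁ ⊤))
    have h1 : ((Scheme.Modules.pushforward i).obj (Coh.structureModule Z)).presheaf.germ ⊤ (i z)
        trivial one =
        ((Scheme.Modules.pushforward i).obj (Coh.structureModule Z)).presheaf.germ ⊤ (i z)
          trivial 0 := Subsingleton.elim _ _
    obtain ⟨W', hxW', i₁, i₂, heq⟩ := TopCat.Presheaf.germ_eq
      ((Scheme.Modules.pushforward i).obj (Coh.structureModule Z)).presheaf (i z)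
      (show i z ∈ (⊤ : X.Opens) from trivial) (show i z ∈ (⊤ : X.Opens) from trivial) one 0 h1
    have h2 : (1 : Γ(Z, i ⁻¹ᵁ W')) = 0 := by
      have h3 : ((Scheme.Modules.pushforward i).obj (Coh.structureModule Z)).presheaf.map i₁.op one
          = (1 : Γ(Z, i ⁻¹ᵁ W')) := map_one (Z.presheaf.map ((Opens.map i.base).map i₁).op).hom
      rw [← h3, heq, map_zero]
      rfl
    have hz : z ∈ i ⁻¹ᵁ W' := hxW'
    have h4 : Z.presheaf.germ (i ⁻¹ᵁ W') z hz 1 = Z.presheaf.germ (i ⁻¹ᵁ W') z hz 0 := by
      rw [h2]
    rw [map_one, map_zero] at h4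
    exact one_ne_zero h4

theorem exists_coh_support_eq (T : Closeds X) :
    ∃ F : X.Modules, F.IsQuasicoherent ∧ SheafOfModules.IsFiniteType (R := X.ringCatSheaf) F ∧
      CohB1.support F = (T : Set X) := by
  let I := Scheme.IdealSheafData.vanishingIdeal T
  refine ⟨(Scheme.Modules.pushforward I.subschemeι).obj (Coh.structureModule I.subscheme),
    inferInstance, ?_, ?_⟩
  · haveI : SheafOfModules.IsFiniteType (R := X.ringCatSheaf) (Coh.structureModule X) :=
      (Groth.Agent.Helper13.CohRoof.isCoh_structureModule X).2
    exact Groth.Agent.Helper13.FinType.isFiniteType_of_epi (ClSub.unitToPush I.subschemeι)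
  · rw [support_push_unit, Scheme.IdealSheafData.range_subschemeι]
    simp [I]

end Groth.Agent.Helper13.CohSupp
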