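import Mathlib
import Groth.Agent.Lib.Helper26.DevF

/-!
# Dévissage with supports (helper13)

`devissage_supported`: the variant of `Groth.Agent.Helper26.DevF.main2412` in which the
two-out-of-three hypothesis is only asked for short exact sequences of coherent modules supported
in the closed set `X'` (and the generating modules need not be killed by the reduced ideal).
-/

set_option autoImplicit false
universe u
open CategoryTheory CategoryTheory.Limits AlgebraicGeometry Opposite TopologicalSpace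
open Groth.Agent.Helper26.DevA Groth.Agent.Helper26.DevC Groth.Agent.Helper26.DevD
  Groth.Agent.Helper26.DevE

namespace Groth.Agent.Helper13.DevSupp

theorem devissage_supported (X : Scheme.{u}) [IsNoetherian X]
    (X' : Set X) (hX' : IsClosed X')
    (K' : X.Modules → Prop) (hP : ∀ M N : X.Modules, Nonempty (M ≅ N) → K' M → K' N)
    (h0 : ∀ M : X.Modules, IsZero M → K' M)
    (hex : ∀ S : ShortComplex X.Modules, S.ShortExact → Coh.IsCoh S.X₁ → Coh.IsCoh S.X₂ →
      Coh.IsCoh S.X₃ → CohB1.support S.X₂ ⊆ X' →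
      (K' S.X₁ → K' S.X₂ → K' S.X₃) ∧ (K' S.X₁ → K' S.X₃ → K' S.X₂) ∧
        (K' S.X₂ → K' S.X₃ → K' S.X₁))
    (hgen : ∀ (Z : Set X), IsClosed Z → IsIrreducible Z → Z ⊆ X' → ∀ y : X, closure {y} = Z →
      ∃ G : X.Modules, Coh.IsCoh G ∧ K' G ∧ CohB1.support G ⊆ Z ∧
        Module.length (X.presheaf.stalk y) (G.presheaf.stalk y) = 1)
    (F : X.Modules) (hF : Coh.IsCoh F) (hsupp : CohB1.support F ⊆ X') : K' F := by
  refine core X' K' hP h0 (fun S hS h1 h2 h3 hs => (hex S hS h1 h2 h3 hs).2.1) ?_ hX' F hF hsupp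
  intro ξ' hξ' hsmall
  obtain ⟨Z, i, hi1, hi2, hi3⟩ := exists_integral ξ'
  haveI := hi1
  haveI := hi2
  refine ⟨Z, i, hi1, hi2, hi3, ?_⟩
  intro I ι hι hI hI0
  haveI := hι
  have hcl : closure ({ξ'} : Set X) ⊆ X' :=
    closure_minimal (Set.singleton_subset_iff.2 hξ') hX'
  obtain ⟨G, hG, hKG, hGs, hlen⟩ := hgen (closure {ξ'}) isClosed_closure
    isIrreducible_singleton.closure hcl ξ' rfl
  have hGsimple : IsSimpleModule (X.presheaf.stalk ξ') (G.presheaf.stalk ξ') :=
    Module.length_eq_one_iff.1 hlen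
  exact P_push_of_simple ξ' K' hP (fun S hS h1 h2 h3 hs => hex S hS h1 h2 h3 (hs.trans hcl))
    hsmall G hG hGs hGsimple hKG i hi3 I ι hI hI0

end Groth.Agent.Helper13.DevSupp
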