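import Mathlib
import Groth.Prelude.Def_ChowK
import Groth.Agent.Lib.Helper13.CohSupp
import Groth.Agent.Lib.Helper13.DevSupp
import Groth.Agent.Lib.Helper16.Sch.GenND2

/-!
# The structure sheaf of the reduced closure of a point (helper13)

`Cyc.closureStructureSheaf x` is coherent, has support `closure {x}` and its stalk at `x` is a
simple module (of length one).
-/

set_option autoImplicit false
universe u
open CategoryTheory CategoryTheory.Limits AlgebraicGeometry Opposite TopologicalSpace

namespace Groth.Agent.Helper13.ClosureSheaf

variable {X : Scheme.{u}}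

theorem range_ptIdeal_subschemeι (x : X) :
    Set.range (IntMult.ptIdeal x).subschemeι = closure ({x} : Set X) := by
  unfold IntMult.ptIdeal
  rw [Scheme.IdealSheafData.range_subschemeι, Scheme.IdealSheafData.coe_support_vanishingIdeal]
  rfl

theorem isCoh_closureStructureSheaf (x : X) : Coh.IsCoh (Cyc.closureStructureSheaf x) := by
  unfold Cyc.closureStructureSheaf
  refine ⟨?_, ?_⟩
  · exact Groth.Agent.Helper26.DevB.isQuasicoherent_push_unit (IntMult.ptIdeal x).subschemeι
  · haveI : SheafOfModules.IsFiniteType (R := X.ringCatSheaf) (Coh.structureModule X) :=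
      (Groth.Agent.Helper13.CohRoof.isCoh_structureModule X).2
    haveI : Epi (ClSub.unitToPush (IntMult.ptIdeal x).subschemeι) :=
      Groth.Agent.Helper26.DevB.epi_unitToPush (IntMult.ptIdeal x).subschemeι
    exact Groth.Agent.Helper13.FinType.isFiniteType_of_epi
      (ClSub.unitToPush (IntMult.ptIdeal x).subschemeι)

theorem support_closureStructureSheaf (x : X) :
    CohB1.support (Cyc.closureStructureSheaf x) = closure ({x} : Set X) := by
  unfold Cyc.closureStructureSheaf
  rw [Groth.Agent.Helper13.CohSupp.support_push_unit, range_ptIdeal_subschemeι]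

theorem isSimpleModule_stalk_closureStructureSheaf (x : X) :
    IsSimpleModule (X.presheaf.stalk x) ((Cyc.closureStructureSheaf x).presheaf.stalk x) := by
  haveI : IsReduced (IntMult.ptIdeal x).subscheme :=
    Groth.Agent.Helper16.GenND.isReduced_vanishingIdeal_subscheme _
  exact Groth.Agent.Helper26.DevE.isSimpleModule_stalk_push_unit x (IntMult.ptIdeal x).subschemeι
    (range_ptIdeal_subschemeι x)

theorem length_stalk_closureStructureSheaf (x : X) :
    Module.length (X.presheaf.stalk x) ((Cyc.closureStructureSheaf x).presheaf.stalk x) = 1 :=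
  Module.length_eq_one_iff.2 (isSimpleModule_stalk_closureStructureSheaf x)

end Groth.Agent.Helper13.ClosureSheaf
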