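import Mathlib
import Groth.Prelude.Def_Coh
import Groth.Prelude.Def_CohB1
import Groth.Agent.Lib.Helper13.QCohStalk
import Groth.Agent.Lib.Helper13.EpiStalk
import Groth.Agent.Lib.Helper13.ExtSheaf
import Groth.Agent.Lib.Helper13.PbInv

/-!
# Lengths of stalks (helper13)

Additivity of the length of the stalks in a short exact sequence of `O_X`-modules, invariance
under isomorphisms and vanishing outside the support.
-/

set_option autoImplicit false
universe u
open CategoryTheory CategoryTheory.Limits AlgebraicGeometry Opposite TopologicalSpace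
open Groth.Agent.Helper13.QCoh Groth.Agent.Helper13.FinType

namespace Groth.Agent.Helper13.StalkLength

variable {X : Scheme.{u}}

theorem length_stalk_shortExact (S : ShortComplex X.Modules) (hS : S.ShortExact) (x : X) :
    Module.length (X.presheaf.stalk x) (S.X₂.presheaf.stalk x) =
      Module.length (X.presheaf.stalk x) (S.X₁.presheaf.stalk x) +
        Module.length (X.presheaf.stalk x) (S.X₃.presheaf.stalk x) := by
  haveI := hS.mono_f
  haveI := hS.epi_g
  refine Module.length_eq_add_of_exact (stalkLinearMap S.f x) (stalkLinearMap S.g x)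
    (Groth.Agent.Helper13.Ext.stalkMap_injective_of_mono S.f x)
    (stalkMap_surjective_of_epi S.g x) ?_
  intro m
  constructor
  · intro hm
    obtain ⟨m₁, h⟩ := stalk_exact_of_exact_of_mono S hS.exact x m hm
    exact ⟨m₁, h⟩
  · rintro ⟨m₁, rfl⟩
    change stalkMap S.g x (stalkMap S.f x m₁) = 0
    rw [← Groth.Agent.Helper13.PbInv.stalkMap_comp, S.zero,
      Groth.Agent.Helper13.PbInv.stalkMap_zero]

theorem length_stalk_of_iso {M N : X.Modules} (e : M ≅ N) (x : X) :
    Module.length (X.presheaf.stalk x) (M.presheaf.stalk x) =
      Module.length (X.presheaf.stalk x) (N.presheaf.stalk x) :=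
  (LinearEquiv.ofBijective (stalkLinearMap e.hom x)
    ⟨Groth.Agent.Helper13.Ext.stalkMap_injective_of_mono e.hom x,
      stalkMap_surjective_of_epi e.hom x⟩).length_eq

theorem length_stalk_eq_zero_of_notMem_support {M : X.Modules} {x : X}
    (h : x ∉ CohB1.support M) :
    Module.length (X.presheaf.stalk x) (M.presheaf.stalk x) = 0 := by
  haveI : Subsingleton (M.presheaf.stalk x) := not_not.1 h
  exact Module.length_eq_zero

end Groth.Agent.Helper13.StalkLength
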