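import Mathlib
import Groth.Prelude.Def_KZero
import Groth.Prelude.Def_ChowK
import Groth.Agent.Lib.Helper13.ClosureSheaf
import Groth.Agent.Lib.Helper13.DimLemma
import Groth.Agent.Lib.Helper13.StalkLength
import Groth.Agent.Lib.Helper13.SerreSupp
import Groth.Agent.Lib.Helper5.KZeroSub
import Groth.Agent.Lib.Helper5.K0Coh
import Groth.Agent.S0020

/-!
# Classes of coherent modules modulo smaller dimension (helper13)

`main`: for a coherent module `F` on a Noetherian scheme with `dim Supp F ≤ n`, the class of `F`
in `K₀(Coh X)` differs from `∑ length(F_x) [O_{closure x}]` (sum over the points `x` with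
`dim closure {x} = n`) by an element of the subgroup generated by the classes of coherent modules
with support of dimension `< n`.
-/

set_option autoImplicit false
universe u
open CategoryTheory CategoryTheory.Limits AlgebraicGeometry Opposite TopologicalSpace
open Groth.Agent.Helper13.DimLemma Groth.Agent.Helper13.StalkLength
  Groth.Agent.Helper13.ClosureSheaf

namespace Groth.Agent.Helper13.K0Length

variable {X : Scheme.{u}}

/-- the maximal points (for the specialization order) of a subset -/
def maxPts (X' : Set X) : Set X := {x | x ∈ X' ∧ ∀ y ∈ X', y ⤳ x → y = x}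

theorem finite_maxPts [IsNoetherian X] {X' : Set X} (hX' : IsClosed X') : (maxPts X').Finite := by
  obtain ⟨S, hSf, hSc, hSi, hSU⟩ := NoetherianSpace.exists_finite_set_isClosed_irreducible hX'
  refine (hSf.biUnion (fun t _ => (?_ : {x : X | closure {x} = t}.Finite))).subset ?_
  · apply Set.Subsingleton.finite
    intro a ha b hb
    exact (inseparable_iff_closure_eq.2 (ha.trans hb.symm)).eq
  · rintro x ⟨hx, hmax⟩
    rw [hSU] at hx
    obtain ⟨t, ht, hxt⟩ := hx
    obtain ⟨z, hz⟩ := QuasiSober.sober (hSi t ht) (hSc t ht)
    have hzdef : closure ({z} : Set X) = t := hz.def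
    have hzt : z ∈ t := hzdef ▸ subset_closure (Set.mem_singleton z)
    have hzX : z ∈ X' := by
      rw [hSU]
      exact ⟨t, ht, hzt⟩
    have hzx : z ⤳ x := specializes_iff_mem_closure.2 (hzdef.symm ▸ hxt)
    have hzeq := hmax z hzX hzx
    subst hzeq
    exact Set.mem_biUnion ht hzdef

section Main

variable (Pc : ObjectProperty X.Modules) (hPc : ∀ G : X.Modules, Pc G ↔ Coh.IsCoh G)

/-- the subgroup generated by the classes of coherent modules with support of dimension `< n`. -/
noncomputable def filtLt (n : ℕ) : AddSubgroup (KZero.K0sub Pc) :=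
  AddSubgroup.closure {c | ∃ G : X.Modules, Coh.IsCoh G ∧
    topologicalKrullDim ↥(CohB1.support G) < n ∧ c = KZero.clSub Pc G}

/-- the length-weighted sum over a finite set of points -/
noncomputable def lenSum (T : Finset X) (M : X.Modules) : KZero.K0sub Pc :=
  ∑ x ∈ T, (Module.length (X.presheaf.stalk x) (M.presheaf.stalk x)).toNat •
    KZero.clSub Pc (Cyc.closureStructureSheaf x)

theorem lenSum_shortExact (T : Finset X) (S : ShortComplex X.Modules) (hS : S.ShortExact)
    (hfin : ∀ x ∈ T, Module.length (X.presheaf.stalk x) (S.X₂.presheaf.stalk x) ≠ ⊤) :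
    lenSum Pc T S.X₂ = lenSum Pc T S.X₁ + lenSum Pc T S.X₃ := by
  unfold lenSum
  rw [← Finset.sum_add_distrib]
  apply Finset.sum_congr rfl
  intro x hx
  have hadd := length_stalk_shortExact S hS x
  have h2 := hfin x hx
  rw [hadd] at h2
  have h1 : Module.length (X.presheaf.stalk x) (S.X₁.presheaf.stalk x) ≠ ⊤ := fun h =>
    h2 (by rw [h, top_add])
  have h3 : Module.length (X.presheaf.stalk x) (S.X₃.presheaf.stalk x) ≠ ⊤ := fun h =>
    h2 (by rw [h, add_top])
  rw [hadd, ENat.toNat_add h1 h3, add_smul]

variable [IsNoetherian X]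

include hPc in
theorem main (n : ℕ) (F : X.Modules) (hF : Coh.IsCoh F)
    (hdim : topologicalKrullDim ↥(CohB1.support F) ≤ n)
    [DecidablePred fun x : X => topologicalKrullDim ↥(closure ({x} : Set X)) = (n : WithBot ℕ∞)] :
    KZero.clSub Pc F - (finsum fun x : X =>
        if topologicalKrullDim ↥(closure ({x} : Set X)) = n then
          (Module.length (X.presheaf.stalk x) (F.presheaf.stalk x)).toNat •
            KZero.clSub Pc (Cyc.closureStructureSheaf x) else 0) ∈ filtLt Pc n := by
  classical
  set X' : Set X := CohB1.support F with hX'def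
  have hX' : IsClosed X' := Groth.Agent.S0020.result X F hF.2
  set T : Finset X := (finite_maxPts hX').toFinset with hTdef
  have hT : ∀ x, x ∈ T ↔ x ∈ X' ∧ ∀ y ∈ X', y ⤳ x → y = x := fun x => by
    rw [hTdef, Set.Finite.mem_toFinset]
    rfl
  have hzero : ∀ M : X.Modules, IsZero M → Pc M := fun M hM =>
    (hPc M).2 (Groth.Agent.Helper5.K0Coh.isCoh_of_isZero hM)
  have hiso : ∀ M N : X.Modules, (M ≅ N) → Pc M → Pc N := fun M N e hM =>
    (hPc N).2 (Groth.Agent.Helper5.K0Coh.isCoh_of_iso e ((hPc M).1 hM))
  -- facts on dimensions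
  have hdimpt : ∀ y ∈ X', topologicalKrullDim ↥(closure ({y} : Set X)) ≤ n := fun y hy =>
    (dim_subset_le (closure_minimal (Set.singleton_subset_iff.2 hy) hX')).trans hdim
  have hnotmax : ∀ y ∈ X', y ∉ T → topologicalKrullDim ↥(closure ({y} : Set X)) < n := by
    intro y hy hyT
    rw [hT] at hyT
    push Not at hyT
    obtain ⟨y', hy', hsp, hne⟩ := hyT hy
    have hne' : closure ({y} : Set X) ≠ closure {y'} := fun h =>
      hne ((inseparable_iff_closure_eq.2 h).eq).symm
    exact lt_of_add_one_le_coe ((dim_closure_add_one_le hsp hne').trans (hdimpt y' hy'))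
  have hOmem : ∀ y : X, topologicalKrullDim ↥(closure ({y} : Set X)) < n →
      KZero.clSub Pc (Cyc.closureStructureSheaf y) ∈ filtLt Pc n := by
    intro y hy
    apply AddSubgroup.subset_closure
    refine ⟨Cyc.closureStructureSheaf y, isCoh_closureStructureSheaf y, ?_, rfl⟩
    rw [support_closureStructureSheaf]
    exact hy
  -- the dévissage
  have hdev : ∀ M : X.Modules, Coh.IsCoh M → CohB1.support M ⊆ X' →
      (∀ x ∈ T, Module.length (X.presheaf.stalk x) (M.presheaf.stalk x) ≠ ⊤) ∧
        KZero.clSub Pc M - lenSum Pc T M ∈ filtLt Pc n := by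
    intro M hM hMs
    refine Groth.Agent.Helper13.DevSupp.devissage_supported X X' hX'
      (fun M => (∀ x ∈ T, Module.length (X.presheaf.stalk x) (M.presheaf.stalk x) ≠ ⊤) ∧
        KZero.clSub Pc M - lenSum Pc T M ∈ filtLt Pc n) ?_ ?_ ?_ ?_ M hM hMs
    · rintro M N ⟨e⟩ ⟨h1, h2⟩
      have hlen : ∀ x, Module.length (X.presheaf.stalk x) (M.presheaf.stalk x) =
          Module.length (X.presheaf.stalk x) (N.presheaf.stalk x) := length_stalk_of_iso e
      refine ⟨fun x hx => (hlen x) ▸ h1 x hx, ?_⟩
      have hsum : lenSum Pc T N = lenSum Pc T M := by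
        unfold lenSum
        exact Finset.sum_congr rfl (fun x _ => by rw [hlen x])
      rw [hsum]
      by_cases hPM : Pc M
      · have hPN := hiso M N e hPM
        rw [← Groth.Agent.Helper5.KZ.clSub_iso Pc e hPM hPN (isZero_zero X.Modules)
          (hzero _ (isZero_zero X.Modules))]
        exact h2
      · have hPN : ¬ Pc N := fun h' => hPM (hiso N M e.symm h')
        have h0 : KZero.clSub Pc N = 0 := dif_neg hPN
        have h0' : KZero.clSub Pc M = 0 := dif_neg hPM
        rw [h0, ← h0']
        exact h2
    · intro M hM
      have hlen : ∀ x, Module.length (X.presheaf.stalk x) (M.presheaf.stalk x) = 0 := by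
        intro x
        apply length_stalk_eq_zero_of_notMem_support
        rw [(Groth.Agent.Helper13.Pullback.isZero_iff_support_eq_empty M).1 hM]
        exact Set.notMem_empty x
      refine ⟨fun x _ => by rw [hlen x]; exact ENat.zero_ne_top, ?_⟩
      have hsum : lenSum Pc T M = 0 := by
        unfold lenSum
        apply Finset.sum_eq_zero
        intro x _
        rw [hlen x]
        simp
      rw [hsum, Groth.Agent.Helper5.KZ.clSub_isZero Pc hM (hzero M hM), sub_zero]
      exact zero_mem _
    · intro S hS h1 h2 h3 _
      have hcl := Groth.Agent.Helper5.KZ.clSub_shortExact Pc S hS ((hPc _).2 h1)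
        ((hPc _).2 h2) ((hPc _).2 h3)
      have hlenadd := fun x => length_stalk_shortExact S hS x
      have hkey : (∀ x ∈ T, Module.length (X.presheaf.stalk x) (S.X₂.presheaf.stalk x) ≠ ⊤) →
          KZero.clSub Pc S.X₂ - lenSum Pc T S.X₂ =
            (KZero.clSub Pc S.X₁ - lenSum Pc T S.X₁) +
              (KZero.clSub Pc S.X₃ - lenSum Pc T S.X₃) := by
        intro hfin
        rw [lenSum_shortExact Pc T S hS hfin, hcl]
        abel
      refine ⟨fun k1 k2 => ?_, fun k1 k3 => ?_, fun k2 k3 => ?_⟩
      · refine ⟨fun x hx h => k2.1 x hx (by rw [hlenadd x, h, add_top]), ?_⟩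
        have h4 : KZero.clSub Pc S.X₃ - lenSum Pc T S.X₃ =
            (KZero.clSub Pc S.X₂ - lenSum Pc T S.X₂) -
              (KZero.clSub Pc S.X₁ - lenSum Pc T S.X₁) := by
          rw [hkey k2.1]; abel
        rw [h4]
        exact sub_mem k2.2 k1.2
      · have hfin : ∀ x ∈ T,
            Module.length (X.presheaf.stalk x) (S.X₂.presheaf.stalk x) ≠ ⊤ := by
          intro x hx
          rw [hlenadd x]
          exact WithTop.add_ne_top.2 ⟨k1.1 x hx, k3.1 x hx⟩
        refine ⟨hfin, ?_⟩
        rw [hkey hfin]
        exact add_mem k1.2 k3.2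
      · refine ⟨fun x hx h => k2.1 x hx (by rw [hlenadd x, h, top_add]), ?_⟩
        have h4 : KZero.clSub Pc S.X₁ - lenSum Pc T S.X₁ =
            (KZero.clSub Pc S.X₂ - lenSum Pc T S.X₂) -
              (KZero.clSub Pc S.X₃ - lenSum Pc T S.X₃) := by
          rw [hkey k2.1]; abel
        rw [h4]
        exact sub_mem k2.2 k3.2
    · intro Z hZ hirr hZX y hy
      have hyX : y ∈ X' := hZX (hy ▸ subset_closure (Set.mem_singleton y))
      have hlen0 : ∀ x ∈ T, x ≠ y → Module.length (X.presheaf.stalk x)
          ((Cyc.closureStructureSheaf y).presheaf.stalk x) = 0 := by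
        intro x hx hxy
        apply length_stalk_eq_zero_of_notMem_support
        rw [support_closureStructureSheaf]
        intro hxc
        exact hxy (((hT x).1 hx).2 y hyX (specializes_iff_mem_closure.2 hxc)).symm
      have hlen1 := length_stalk_closureStructureSheaf y
      refine ⟨Cyc.closureStructureSheaf y, isCoh_closureStructureSheaf y, ⟨?_, ?_⟩, ?_, hlen1⟩
      · intro x hx
        by_cases hxy : x = y
        · subst hxy
          rw [hlen1]
          exact ENat.one_ne_top
        · rw [hlen0 x hx hxy]
          exact ENat.zero_ne_top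
      · by_cases hyT : y ∈ T
        · have hsum : lenSum Pc T (Cyc.closureStructureSheaf y) =
              KZero.clSub Pc (Cyc.closureStructureSheaf y) := by
            unfold lenSum
            rw [Finset.sum_eq_single y]
            · rw [hlen1]
              simp
            · intro x hx hxy
              rw [hlen0 x hx hxy]
              simp
            · intro h
              exact absurd hyT h
          rw [hsum, sub_self]
          exact zero_mem _
        · have hsum : lenSum Pc T (Cyc.closureStructureSheaf y) = 0 := by
            unfold lenSum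
            apply Finset.sum_eq_zero
            intro x hx
            have hxy : x ≠ y := fun h => hyT (h ▸ hx)
            rw [hlen0 x hx hxy]
            simp
          rw [hsum, sub_zero]
          exact hOmem y (hnotmax y hyX hyT)
      · rw [support_closureStructureSheaf, hy]
  obtain ⟨hFfin, hFmem⟩ := hdev F hF subset_rfl
  -- compare the two sums
  have hsupport : (Function.support fun x : X =>
      if topologicalKrullDim ↥(closure ({x} : Set X)) = n then
        (Module.length (X.presheaf.stalk x) (F.presheaf.stalk x)).toNat •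
          KZero.clSub Pc (Cyc.closureStructureSheaf x) else 0) ⊆ (T : Set X) := by
    intro x hx
    rw [Function.mem_support] at hx
    by_cases hd : topologicalKrullDim ↥(closure ({x} : Set X)) = n
    · rw [if_pos hd] at hx
      have hxX : x ∈ X' := by
        by_contra hxn
        apply hx
        rw [length_stalk_eq_zero_of_notMem_support hxn]
        simp
      rw [Finset.mem_coe]
      by_contra hxT
      have := hnotmax x hxX hxT
      rw [hd] at this
      exact lt_irrefl _ this
    · rw [if_neg hd] at hx
      exact absurd rfl hx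
  rw [finsum_eq_sum_of_support_subset _ hsupport]
  have hsplit : KZero.clSub Pc F - ∑ x ∈ T,
      (if topologicalKrullDim ↥(closure ({x} : Set X)) = n then
        (Module.length (X.presheaf.stalk x) (F.presheaf.stalk x)).toNat •
          KZero.clSub Pc (Cyc.closureStructureSheaf x) else 0) =
      (KZero.clSub Pc F - lenSum Pc T F) + ∑ x ∈ T,
        (if topologicalKrullDim ↥(closure ({x} : Set X)) = n then 0 else
          (Module.length (X.presheaf.stalk x) (F.presheaf.stalk x)).toNat •
            KZero.clSub Pc (Cyc.closureStructureSheaf x)) := by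
    have h5 : lenSum Pc T F = ∑ x ∈ T,
        (if topologicalKrullDim ↥(closure ({x} : Set X)) = n then
          (Module.length (X.presheaf.stalk x) (F.presheaf.stalk x)).toNat •
            KZero.clSub Pc (Cyc.closureStructureSheaf x) else 0) + ∑ x ∈ T,
        (if topologicalKrullDim ↥(closure ({x} : Set X)) = n then 0 else
          (Module.length (X.presheaf.stalk x) (F.presheaf.stalk x)).toNat •
            KZero.clSub Pc (Cyc.closureStructureSheaf x)) := by
      unfold lenSum
      rw [← Finset.sum_add_distrib]
      apply Finset.sum_congr rfl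
      intro x _
      by_cases hd : topologicalKrullDim ↥(closure ({x} : Set X)) = n
      · rw [if_pos hd, if_pos hd, add_zero]
      · rw [if_neg hd, if_neg hd, zero_add]
    rw [h5]
    abel
  rw [hsplit]
  refine add_mem hFmem (sum_mem ?_)
  intro x hx
  by_cases hd : topologicalKrullDim ↥(closure ({x} : Set X)) = n
  · rw [if_pos hd]
    exact zero_mem _
  · rw [if_neg hd]
    apply nsmul_mem
    apply hOmem
    exact lt_of_le_of_ne (hdimpt x ((hT x).1 hx).1) hd

end Main

end Groth.Agent.Helper13.K0Length
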