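import Mathlib
import Groth.Agent.Lib.Helper13.K0Length
import Groth.Agent.Lib.Helper13.TensorFinLocFree
import Groth.Agent.Lib.Helper13.TensorQCoh
import Groth.Agent.Lib.Helper13.ResFinLocFree
import Groth.Agent.Lib.Helper13.LocFree2

/-!
# Tensoring with a locally free module of rank `e` in `K₀` modulo smaller dimension (helper13)

* `length_stalk_tensor`: `length (E ⊗ F)_x = e * length F_x` for `E` locally free of rank `e`;
* `main_tensor`: `[E ⊗ F] - e [F]` lies in the subgroup generated by coherent modules with support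
  of dimension `< r`, when `dim Supp F ≤ r`.
-/

set_option autoImplicit false
set_option maxHeartbeats 400000
universe u
open CategoryTheory CategoryTheory.Limits AlgebraicGeometry Opposite TopologicalSpace TensorProduct
open Groth.Agent.Helper13.QCoh Groth.Agent.Helper13.FinType Groth.Agent.Helper13.LocFree
open Groth.Agent.Helper13.Inv Groth.Agent.Helper13.StalkBasis Groth.Agent.Helper13.Tensor
open Groth.Agent.Helper13.LocalLift Groth.Agent.Helper13.TensorFinLocFree
open Groth.Agent.Helper13.DimLemma Groth.Agent.Helper13.StalkLength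
  Groth.Agent.Helper13.ClosureSheaf Groth.Agent.Helper13.K0Length

namespace Groth.Agent.Helper13.K0Tensor

variable {X : Scheme.{u}}

theorem exists_isBasisAt_of_rank (E : X.Modules) (e : ℕ) (hE : FlatMod.IsFinLocFreeOfRank e E)
    (x : X) :
    ∃ (V : X.Opens) (s : Fin e → Γ(E, V)), x ∈ V ∧
      ∀ (y : X) (hy : y ∈ V), IsBasisAt E s y hy := by
  obtain ⟨U, hxU, ⟨ε⟩⟩ := hE x
  let s' : Fin e → Γ(E.restrict U.ι, ⊤) := fun i =>
    Groth.Agent.Helper13.GenLoc.sec (E.restrict U.ι) (ι e i ≫ ε.inv)
  have he : ε.inv = descSec (E.restrict U.ι) s' := eq_descSec _ ε.inv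
  haveI : IsIso (descSec (E.restrict U.ι) s') := by rw [← he]; infer_instance
  let s₀ : Fin e → Γ(E, U.ι ''ᵁ ⊤) := fun i => s' i
  have hbas : ∀ y : (U : Scheme.{u}), IsBasisAt E s₀ (U.ι y) ⟨y, trivial, rfl⟩ := by
    intro y
    rw [← isBasisAt_restrict_iff U.ι E (U := ⊤) s₀ y trivial]
    exact isBasisAt_of_isIso_descSec (E.restrict U.ι) s' y
  have hxU' : x ∈ U.ι ''ᵁ (⊤ : (U : Scheme.{u}).Opens) := by
    rw [ι_image_top]; exact hxU
  refine ⟨U.ι ''ᵁ ⊤, s₀, hxU', ?_⟩
  intro y hy
  have hyU : y ∈ U := by rw [ι_image_top] at hy; exact hy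
  exact hbas ⟨y, hyU⟩

theorem isFinLocFree_of_rank (E : X.Modules) (e : ℕ) (hE : FlatMod.IsFinLocFreeOfRank e E) :
    FlatMod.IsFinLocFree E := fun x => by
  obtain ⟨U, hxU, h⟩ := hE x
  exact ⟨U, e, hxU, h⟩

theorem length_stalk_tensor (E : X.Modules) (e : ℕ) (hE : FlatMod.IsFinLocFreeOfRank e E)
    (F : X.Modules) (x : X) :
    Module.length (X.presheaf.stalk x) ((CohB1.tensorMod E F).presheaf.stalk x) =
      (e : ℕ∞) * Module.length (X.presheaf.stalk x) (F.presheaf.stalk x) := by
  classical
  obtain ⟨V, s, hxV, hb⟩ := exists_isBasisAt_of_rank E e hE x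
  rw [← (stalkTensorEquiv E F x).length_eq,
    (TensorProduct.equivFinsuppOfBasisLeft (basisOf E s x hxV (hb x hxV))).length_eq,
    Module.length_finsupp]
  simp

theorem support_tensor_subset (E : X.Modules) (e : ℕ) (hE : FlatMod.IsFinLocFreeOfRank e E)
    (F : X.Modules) : CohB1.support (CohB1.tensorMod E F) ⊆ CohB1.support F := by
  intro x hx hF
  apply hx
  rw [← Module.length_eq_zero_iff (R := X.presheaf.stalk x), length_stalk_tensor E e hE F x,
    (Module.length_eq_zero_iff (R := X.presheaf.stalk x)).2 hF, mul_zero]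

theorem isCoh_tensor (E : X.Modules) (e : ℕ) (hE : FlatMod.IsFinLocFreeOfRank e E)
    (F : X.Modules) (hF : Coh.IsCoh F) : Coh.IsCoh (CohB1.tensorMod E F) := by
  haveI : F.IsQuasicoherent := hF.1
  haveI : SheafOfModules.IsFiniteType (R := X.ringCatSheaf) F := hF.2
  haveI : E.IsQuasicoherent :=
    Groth.Agent.Helper13.ResFinLocFree.isQuasicoherent_of_isFinLocFree E
      (isFinLocFree_of_rank E e hE)
  haveI : SheafOfModules.IsFinitePresentation (R := X.ringCatSheaf) E :=
    isFinitePresentation_of_isFinLocFree E (isFinLocFree_of_rank E e hE)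
  haveI : SheafOfModules.IsFiniteType (R := X.ringCatSheaf) E := inferInstance
  exact ⟨inferInstance, isFiniteType_tensorMod E F⟩

section Main

variable [IsNoetherian X] (Pc : ObjectProperty X.Modules)
  (hPc : ∀ G : X.Modules, Pc G ↔ Coh.IsCoh G)

theorem finite_support_term (n : ℕ) (F : X.Modules) (hF : Coh.IsCoh F)
    (hdim : topologicalKrullDim ↥(CohB1.support F) ≤ n)
    [DecidablePred fun x : X => topologicalKrullDim ↥(closure ({x} : Set X)) = (n : WithBot ℕ∞)] :
    (Function.support fun x : X =>
      if topologicalKrullDim ↥(closure ({x} : Set X)) = n then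
        (Module.length (X.presheaf.stalk x) (F.presheaf.stalk x)).toNat •
          KZero.clSub Pc (Cyc.closureStructureSheaf x) else 0).Finite := by
  have hX' : IsClosed (CohB1.support F) := Groth.Agent.S0020.result X F hF.2
  refine (finite_maxPts hX').subset ?_
  intro x hx
  rw [Function.mem_support] at hx
  by_cases hd : topologicalKrullDim ↥(closure ({x} : Set X)) = n
  · rw [if_pos hd] at hx
    have hxX : x ∈ CohB1.support F := by
      by_contra hxn
      apply hx
      rw [length_stalk_eq_zero_of_notMem_support hxn]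
      simp
    refine ⟨hxX, ?_⟩
    intro y hy hsp
    by_contra hne
    have hne' : closure ({x} : Set X) ≠ closure {y} := fun h =>
      hne ((inseparable_iff_closure_eq.2 h).eq).symm
    have h1 := dim_closure_add_one_le hsp hne'
    have h2 : topologicalKrullDim ↥(closure ({y} : Set X)) ≤ n :=
      (dim_subset_le (closure_minimal (Set.singleton_subset_iff.2 hy) hX')).trans hdim
    have h3 := lt_of_add_one_le_coe (h1.trans h2)
    rw [hd] at h3
    exact lt_irrefl _ h3
  · rw [if_neg hd] at hx
    exact absurd rfl hx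

include hPc in
theorem main_tensor (E : X.Modules) (e : ℕ) (hE : FlatMod.IsFinLocFreeOfRank e E)
    (F : X.Modules) (hF : Coh.IsCoh F) (r : ℕ)
    (hr : topologicalKrullDim ↥(CohB1.support F) ≤ r) :
    KZero.clSub Pc (CohB1.tensorMod E F) - e • KZero.clSub Pc F ∈ filtLt Pc r := by
  classical
  letI : DecidablePred fun x : X =>
      topologicalKrullDim ↥(closure ({x} : Set X)) = (r : WithBot ℕ∞) :=
    fun _ => Classical.propDecidable _
  have hEF := isCoh_tensor E e hE F hF
  have hdimEF : topologicalKrullDim ↥(CohB1.support (CohB1.tensorMod E F)) ≤ r :=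
    (dim_subset_le (support_tensor_subset E e hE F)).trans hr
  have h1 := Groth.Agent.Helper13.K0Length.main Pc hPc r (CohB1.tensorMod E F) hEF hdimEF
  have h2 := Groth.Agent.Helper13.K0Length.main Pc hPc r F hF hr
  have hsum : (finsum fun x : X =>
      if topologicalKrullDim ↥(closure ({x} : Set X)) = r then
        (Module.length (X.presheaf.stalk x)
          ((CohB1.tensorMod E F).presheaf.stalk x)).toNat •
          KZero.clSub Pc (Cyc.closureStructureSheaf x) else 0) =
      e • (finsum fun x : X =>
        if topologicalKrullDim ↥(closure ({x} : Set X)) = r then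
          (Module.length (X.presheaf.stalk x) (F.presheaf.stalk x)).toNat •
            KZero.clSub Pc (Cyc.closureStructureSheaf x) else 0) := by
    rw [smul_finsum' e (finite_support_term Pc r F hF hr)]
    apply finsum_congr
    intro x
    by_cases hd : topologicalKrullDim ↥(closure ({x} : Set X)) = r
    · rw [if_pos hd, if_pos hd, length_stalk_tensor E e hE F x, ENat.toNat_mul, ENat.toNat_natCast,
        mul_smul]
    · rw [if_neg hd, if_neg hd, smul_zero]
  have hfin : KZero.clSub Pc (CohB1.tensorMod E F) - e • KZero.clSub Pc F =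
      (KZero.clSub Pc (CohB1.tensorMod E F) - (finsum fun x : X =>
        if topologicalKrullDim ↥(closure ({x} : Set X)) = r then
          (Module.length (X.presheaf.stalk x)
            ((CohB1.tensorMod E F).presheaf.stalk x)).toNat •
            KZero.clSub Pc (Cyc.closureStructureSheaf x) else 0)) -
        e • (KZero.clSub Pc F - (finsum fun x : X =>
          if topologicalKrullDim ↥(closure ({x} : Set X)) = r then
            (Module.length (X.presheaf.stalk x) (F.presheaf.stalk x)).toNat •
              KZero.clSub Pc (Cyc.closureStructureSheaf x) else 0)) := by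
    rw [hsum, smul_sub]
    abel
  rw [hfin]
  exact sub_mem h1 (nsmul_mem h2 e)

end Main

end Groth.Agent.Helper13.K0Tensor
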