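import Mathlib
import Groth.Agent.Lib.Helper13.SerreAmple1

/-!
# Serre's cohomological criterion of ampleness: `H^1`-vanishing implies ample (helper13)
-/

set_option autoImplicit false
set_option linter.unusedSectionVars false
set_option linter.style.haveILetI false
universe u
open CategoryTheory CategoryTheory.Limits AlgebraicGeometry Opposite TopologicalSpace
open Groth.Agent.Helper13.QCoh Groth.Agent.Helper13.FinType Groth.Agent.Helper13.Inv
open Groth.Agent.Helper13.Tensor Groth.Agent.Helper13.GenLoc Groth.Agent.Helper13.VanishIdeal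
open Groth.Agent.Helper13.SerreCrit Groth.Agent.Helper13.ToAbExact Groth.Agent.Helper13.TwistSES

namespace Groth.Agent.Helper13.SerreAmple

variable {X : Scheme.{u}}

/-- from `H^1`-vanishing: a section of a power of `L` generating at the closed point `P` and with
generating locus inside the open `W ∋ P`. -/
theorem exists_section_of_H1 [IsLocallyNoetherian X] (L : X.Modules) (hL : PicF.IsInvertible L)
    (hvan : ∀ M : X.Modules, Coh.IsCoh M → ∃ n₀ : ℕ, ∀ n : ℕ, n₀ ≤ n →
      Subsingleton (Coh.HH X (CohB1.tensorMod M (CohB1.tensorPow L n)) 1))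
    (P : X) (hP : IsClosed ({P} : Set X)) (W : X.Opens) (hPW : P ∈ W) :
    ∃ (n : ℕ) (s : Coh.structureModule X ⟶ CohB1.tensorPow L (n + 1)),
      P ∈ CohB1.genLocus _ s ∧ CohB1.genLocus _ s ≤ W := by
  let Zc : Closeds X := ⟨(W : Set X)ᶜ, W.2.isClosed_compl⟩
  let i := (Scheme.IdealSheafData.vanishingIdeal Zc).subschemeι
  have hrange : Set.range i = (W : Set X)ᶜ := by
    rw [Scheme.IdealSheafData.range_subschemeι, Scheme.IdealSheafData.coe_support_vanishingIdeal]
    rfl
  have hcl : IsClosed (Set.range i) := by rw [hrange]; exact W.2.isClosed_compl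
  haveI := isClosedImmersion_fromSpecResidueField P hP
  let j := X.fromSpecResidueField P
  have hdisj : Disjoint (Set.range i) (Set.range j) := by
    rw [hrange, Scheme.range_fromSpecResidueField]
    exact Set.disjoint_singleton_right.2 (fun h => h hPW)
  let φ := idealι i ≫ sharp j
  haveI : Epi φ := epi_ev i hcl j hdisj
  have hO := isCoh_structureModule X
  have hI : Coh.IsCoh (idealMod i) :=
    Groth.Agent.Lead.KerFree.isCoh_kernel hO (isCoh_pushforward_unit i) (sharp i)
  have hK : Coh.IsCoh (kernel φ) :=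
    Groth.Agent.Lead.KerFree.isCoh_kernel hI (isCoh_pushforward_unit j) φ
  obtain ⟨n₀, hn₀⟩ := hvan (kernel φ) hK
  let N := CohB1.tensorPow L (n₀ + 1)
  have hN : PicF.IsInvertible N := isInvertible_tensorPow L hL (n₀ + 1)
  have hS' := tensorSC_shortExact (kerSC φ) (kerSC_shortExact φ) N hN
  have h1 : Subsingleton (Coh.HH X (tensorSC (kerSC φ) N).X₁ 1) := hn₀ (n₀ + 1) (Nat.le_succ _)
  have hs := app_top_surjective_of_H1 (tensorSC (kerSC φ) N) hS' h1
  obtain ⟨ω⟩ := nonempty_iso_tensor_residue P N hN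
  let one : Γ((Scheme.Modules.pushforward j).obj (Coh.structureModule (Spec (X.residueField P))), ⊤) :=
    (1 : Γ(Spec (X.residueField P), j ⁻¹ᵁ ⊤))
  obtain ⟨t, ht⟩ := hs (ω.inv.app ⊤ one)
  have ht' : (Tensor.map φ (𝟙 N)).app ⊤ t = ω.inv.app ⊤ one := ht
  let sN : Γ(N, ⊤) := (mulHom i (𝟙 (idealMod i)) N).app ⊤ t
  let ρ : N ⟶ (Scheme.Modules.pushforward j).obj (Coh.structureModule (Spec (X.residueField P))) :=
    (lid N).inv ≫ Tensor.map (sharp j) (𝟙 N) ≫ ω.hom
  have hcomp : mulHom i (𝟙 (idealMod i)) N ≫ ρ = Tensor.map φ (𝟙 N) ≫ ω.hom := by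
    have h2 : lidHom N ≫ (lid N).inv = 𝟙 _ := (lid N).hom_inv_id
    have h3 : Tensor.map (𝟙 (idealMod i) ≫ idealι i) (𝟙 N) ≫ Tensor.map (sharp j) (𝟙 N) =
        Tensor.map φ (𝟙 N) := by
      rw [← Tensor.map_comp, Category.id_comp, Category.comp_id]
    unfold mulHom
    simp only [ρ, Category.assoc]
    rw [reassoc_of% h2, ← Category.assoc, h3]
  have hρ : ρ.app ⊤ sN = one := by
    have h4 : ρ.app ⊤ sN = (mulHom i (𝟙 (idealMod i)) N ≫ ρ).app ⊤ t := rfl
    rw [h4, hcomp]
    change ω.hom.app ⊤ ((Tensor.map φ (𝟙 N)).app ⊤ t) = one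
    rw [ht']
    change (ω.inv ≫ ω.hom).app ⊤ one = one
    rw [ω.inv_hom_id]
    rfl
  have hgenP := isGen_of_map_one P N hN sN ρ hρ
  refine ⟨n₀, LocFree.homOfSec N sN, ?_, ?_⟩
  · change P ∈ CohB1.genLocus N (LocFree.homOfSec N sN)
    rw [mem_genLocus_iff_isGen N _ hN, sec_homOfSec]
    exact hgenP
  · intro z hz
    by_contra hzW
    have hzi : z ∈ Set.range i := by rw [hrange]; exact hzW
    have hz' : z ∈ CohB1.genLocus N (LocFree.homOfSec N sN) := hz
    rw [mem_genLocus_iff_isGen N _ hN, sec_homOfSec] at hz'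
    exact not_isGen_mulHom i N hN t z hzi hz'

/-- **Serre's criterion, converse part**: on a Noetherian scheme, an invertible module `L` such that
`H^1(X, M ⊗ L^n) = 0` for every coherent `M` and `n ≫ 0` is ample. -/
theorem isAmple_of_H1_vanishing [IsLocallyNoetherian X] [CompactSpace X] (L : X.Modules)
    (hL : PicF.IsInvertible L)
    (hvan : ∀ M : X.Modules, Coh.IsCoh M → ∃ n₀ : ℕ, ∀ n : ℕ, n₀ ≤ n →
      Subsingleton (Coh.HH X (CohB1.tensorMod M (CohB1.tensorPow L n)) 1)) :
    CohB1.IsAmple L := by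
  refine ⟨hL, inferInstance, fun x => ?_⟩
  obtain ⟨P, hPmem, hPcl⟩ := (isClosed_closure (s := ({x} : Set X))).exists_closed_singleton
    ⟨x, subset_closure rfl⟩
  obtain ⟨_, ⟨W, hW, rfl⟩, hPW, -⟩ :=
    X.isBasis_affineOpens.exists_subset_of_mem_open (Set.mem_univ P) isOpen_univ
  obtain ⟨n, s, hPs, hsW⟩ := exists_section_of_H1 L hL hvan P hPcl W hPW
  refine ⟨n, s, ?_, isAffineOpen_genLocus_of_le _ (isInvertible_tensorPow L hL (n + 1)) s hW hsW⟩
  obtain ⟨y, hy1, hy2⟩ := mem_closure_iff.1 hPmem _ (CohB1.genLocus _ s).isOpen hPs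
  rw [Set.mem_singleton_iff] at hy2
  rw [← hy2]
  exact hy1

end Groth.Agent.Helper13.SerreAmple
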