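import Mathlib
import Groth.Agent.Lib.Helper13.SerreAmple2
import Groth.Agent.Lib.Helper13.RelSerreLoc

/-!
# Serre's cohomological criterion of ampleness over a Noetherian ring (helper13)
-/

set_option autoImplicit false
set_option linter.unusedSectionVars false
set_option linter.style.haveILetI false
universe u
open CategoryTheory CategoryTheory.Limits AlgebraicGeometry Opposite TopologicalSpace

namespace Groth.Agent.Helper13.SerreAmple

open Groth.Agent.Helper13 Groth.Agent.Helper13.PnOverLoc

/-- Serre vanishing for an ample module on a scheme proper over an affine Noetherian scheme. -/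
theorem serre_vanishing_of_isAmple {X Y : Scheme.{u}} [IsAffine Y] [IsLocallyNoetherian Y]
    (f : X ⟶ Y) [IsProper f] (L : X.Modules) (hL : CohB1.IsAmple L) (M : X.Modules)
    (hM : Coh.IsCoh M) :
    ∃ n₀ : ℕ, ∀ n : ℕ, n₀ ≤ n → ∀ p : ℕ, 0 < p →
      Subsingleton (Coh.HH X (CohB1.tensorMod M (CohB1.tensorPow L n)) p) := by
  obtain ⟨n₁, h⟩ := Groth.Agent.Helper13.RelSerre.local_affine f L hL M hM
  refine ⟨n₁, fun n hn p hp => ?_⟩
  obtain ⟨X'', j, hj, hrange, hvan⟩ := h n hn p hp ⊤ (isAffineOpen_top Y)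
  haveI := hj
  haveI : IsIso j := by
    apply isIso_of_isOpenImmersion_of_opensRange_eq_top
    apply Opens.ext
    rw [Scheme.Hom.coe_opensRange, hrange]
    rfl
  haveI : M.IsQuasicoherent := hM.1
  haveI : (CohB1.tensorPow L n).IsQuasicoherent :=
    Inv.isQuasicoherent_of_isInvertible _ (Inv.isInvertible_tensorPow L hL.1 n)
  haveI : (CohB1.tensorMod M (CohB1.tensorPow L n)).IsQuasicoherent :=
    Tensor.isQuasicoherent_tensorMod _ _
  exact HH_subsingleton_of_iso_scheme (asIso j) _ p hvan

/-- **Serre's cohomological criterion of ampleness.** -/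
theorem isAmple_iff_serre_vanishing (R : Type u) [CommRing R] [IsNoetherianRing R]
    (X : Scheme.{u}) (f : X ⟶ Spec (CommRingCat.of R)) [IsProper f] (L : X.Modules)
    (hL : PicF.IsInvertible L) :
    CohB1.IsAmple L ↔ ∀ (M : X.Modules), Coh.IsCoh M → ∃ n₀ : ℕ, ∀ n : ℕ, n₀ ≤ n →
      ∀ p : ℕ, 0 < p → Subsingleton (Coh.HH X (CohB1.tensorMod M (CohB1.tensorPow L n)) p) := by
  constructor
  · intro hamp M hM
    exact serre_vanishing_of_isAmple f L hamp M hM
  · intro h
    haveI : IsLocallyNoetherian X := LocallyOfFiniteType.isLocallyNoetherian f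
    haveI : CompactSpace X := QuasiCompact.compactSpace_of_compactSpace f
    refine isAmple_of_H1_vanishing L hL (fun M hM => ?_)
    obtain ⟨n₀, hn₀⟩ := h M hM
    exact ⟨n₀, fun n hn => hn₀ n hn 1 Nat.one_pos⟩

end Groth.Agent.Helper13.SerreAmple
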