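import Mathlib
import Groth.Prelude.Def_ShStab
import Groth.Agent.S0051
import Groth.Agent.Lib.Helper13.GlobGen
import Groth.Agent.Lib.Helper13.CurveGG1
import Groth.Agent.Lib.Helper13.FinProj7
import Groth.Agent.Lib.Helper13.InvDual
import Groth.Agent.Lib.Helper13.InvTensor
import Groth.Agent.Lib.Helper13.TwistSES
import Groth.Agent.Lib.Helper13.TensorAssoc
import Groth.Agent.Lib.Lead.DegTensor
import Groth.Agent.Lib.Lead.EffDeg
import Groth.Agent.Lib.Lead.EulerK0

/-!
# A coherent module with zero Hilbert polynomial (with respect to an ample module) is zero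
-/

set_option autoImplicit false
universe u
open CategoryTheory CategoryTheory.Limits AlgebraicGeometry Polynomial

namespace Groth.Agent.Helper13.HilbZero

open Groth.Agent.Helper13.Tensor

theorem isZero_tensor_of_isZero {X : Scheme.{u}} (A B : X.Modules) (hA : IsZero A) :
    IsZero (CohB1.tensorMod A B) := by
  rw [IsZero.iff_id_eq_zero]
  have h1 : (𝟙 A : A ⟶ A) = 0 := (IsZero.iff_id_eq_zero A).1 hA
  have h2 : Tensor.map (𝟙 A) (𝟙 B) = 𝟙 (CohB1.tensorMod A B) := Tensor.map_id
  rw [← h2, h1]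
  exact Groth.Agent.Helper13.TwistSES.map_zero_left (𝟙 B)

theorem isZero_of_isZero_twist {X : Scheme.{u}} (G P : X.Modules) (hP : PicF.IsInvertible P)
    (h : IsZero (CohB1.tensorMod G P)) : IsZero G := by
  have e : G ≅ CohB1.tensorMod (CohB1.tensorMod G P) (Groth.Agent.Helper13.InvDual.dual P) :=
    (Tensor.rid G).symm ≪≫
      Tensor.mapIso (Iso.refl G) (Groth.Agent.Helper13.InvDual.evIso P hP).symm ≪≫
      (Tensor.assoc G P _).symm
  exact IsZero.of_iso (isZero_tensor_of_isZero _ _ h) e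

theorem isZero_of_isHilbPoly_zero (k : Type u) [Field k] (X : Scheme.{u})
    [X.Over (Spec (CommRingCat.of k))] [IsProper (X ↘ Spec (CommRingCat.of k))]
    (L : X.Modules) (hL : CohB1.IsAmple L) (G : X.Modules) (hG : Coh.IsCoh G)
    (h : ShStab.IsHilbPoly k X L G 0) : IsZero G := by
  haveI : IsNoetherian X := Groth.Agent.Lead.EulerK0.isNoetherian_of_proper' k X
  obtain ⟨n₀, hn₀⟩ :=
    (Groth.Agent.S0051.result k X (X ↘ Spec (CommRingCat.of k)) L hL.1).mp hL G hG
  haveI := hG.1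
  haveI := hG.2
  obtain ⟨n₁, hn₁⟩ := Groth.Agent.Helper13.GlobGen.exists_isGloballyGenerated_twist L hL G
  obtain ⟨n, hn0, hn1⟩ : ∃ n, n₀ ≤ n ∧ n₁ ≤ n := ⟨max n₀ n₁, le_max_left _ _, le_max_right _ _⟩
  have hv := hn₀ n hn0
  have hgg := hn₁ n hn1
  have hLn := Groth.Agent.Helper13.Inv.isInvertible_tensorPow L hL.1 n
  have hT : Coh.IsCoh (CohB1.tensorMod G (CohB1.tensorPow L n)) :=
    Groth.Agent.Lead.DegTensor.isCoh_tensor_right (CohB1.tensorPow L n) 1
      (Groth.Agent.Lead.EffDeg.isFinLocFreeOfRank_one_of_isInvertible _ hLn) G hG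
  have hχ : Curv2.euler k X (CohB1.tensorMod G (CohB1.tensorPow L n)) = 0 := by
    have h1 := h n
    rw [Polynomial.eval_zero] at h1
    have h2 : (Curv2.euler k X (CohB1.tensorMod G (CohB1.tensorPow L n)) : ℚ) = 0 := h1
    exact_mod_cast h2
  have hsum : Curv2.euler k X (CohB1.tensorMod G (CohB1.tensorPow L n)) =
      (Module.finrank k (Coh.HH X (CohB1.tensorMod G (CohB1.tensorPow L n)) 0) : ℤ) := by
    unfold Curv2.euler
    have hz : ∀ i : ℕ, i ≠ 0 → (-1 : ℤ) ^ i *
        (Module.finrank k (Coh.HH X (CohB1.tensorMod G (CohB1.tensorPow L n)) i) : ℤ) = 0 := by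
      intro i hi
      haveI := hv i (Nat.pos_of_ne_zero hi)
      rw [Module.finrank_zero_of_subsingleton]
      simp
    rw [finsum_eq_single (fun i : ℕ => (-1 : ℤ) ^ i *
      (Module.finrank k (Coh.HH X (CohB1.tensorMod G (CohB1.tensorPow L n)) i) : ℤ)) 0 hz]
    simp
  haveI := Groth.Agent.Helper13.FinProj.finite_HH_of_isProper k X _ hT 0
  have hfr : Module.finrank k (Coh.HH X (CohB1.tensorMod G (CohB1.tensorPow L n)) 0) = 0 := by
    rw [hχ] at hsum
    exact_mod_cast hsum.symm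
  have hsub : Subsingleton (Coh.HH X (CohB1.tensorMod G (CohB1.tensorPow L n)) 0) :=
    Module.finrank_zero_iff.1 hfr
  have hz := Groth.Agent.Helper13.CurveGG.isZero_of_gg_of_subsingleton _ hgg hsub
  exact isZero_of_isZero_twist G _ hLn hz

end Groth.Agent.Helper13.HilbZero
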