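import Mathlib

/-!
# Flat base change over an affine base: linear algebra
-/

set_option autoImplicit false
universe u
open TensorProduct

namespace Groth.Agent.Helper13.FieldBC

section Tau

variable {A B R R' : Type*} [CommRing A] [CommRing B] [CommRing R] [CommRing R']
  [Algebra A B] [Algebra R R']
  {N N' : Type*} [AddCommGroup N] [Module A N] [AddCommGroup N'] [Module R N']

/-- change of rings in a tensor product along compatible ring maps -/
noncomputable def tauHom (γA : A →+* R) (γB : B →+* R')
    (hγ : ∀ a, γB (algebraMap A B a) = algebraMap R R' (γA a))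
    (ε : N →+ N') (hε : ∀ (a : A) (n : N), ε (a • n) = γA a • ε n) :
    B ⊗[A] N →+ R' ⊗[R] N' :=
  TensorProduct.liftAddHom
    { toFun := fun b =>
        { toFun := fun n => γB b ⊗ₜ[R] ε n
          map_zero' := by rw [map_zero, tmul_zero]
          map_add' := fun n n' => by rw [map_add, tmul_add] }
      map_zero' := by
        ext n
        change γB 0 ⊗ₜ[R] ε n = 0
        rw [map_zero, zero_tmul]
      map_add' := fun b b' => by
        ext n
        change γB (b + b') ⊗ₜ[R] ε n = γB b ⊗ₜ[R] ε n + γB b' ⊗ₜ[R] ε n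
        rw [map_add, add_tmul] }
    (fun a b n => by
      change γB (a • b) ⊗ₜ[R] ε n = γB b ⊗ₜ[R] ε (a • n)
      rw [hε, Algebra.smul_def, map_mul, hγ, ← Algebra.smul_def, TensorProduct.smul_tmul])

lemma tauHom_tmul (γA : A →+* R) (γB : B →+* R')
    (hγ : ∀ a, γB (algebraMap A B a) = algebraMap R R' (γA a))
    (ε : N →+ N') (hε : ∀ (a : A) (n : N), ε (a • n) = γA a • ε n) (b : B) (n : N) :
    tauHom γA γB hγ ε hε (b ⊗ₜ n) = γB b ⊗ₜ[R] ε n := rfl

theorem tauHom_bijective (γA : A ≃+* R) (γB : B ≃+* R')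
    (hγ : ∀ a, γB (algebraMap A B a) = algebraMap R R' (γA a))
    (ε : N ≃+ N') (hε : ∀ (a : A) (n : N), ε (a • n) = γA a • ε n) :
    Function.Bijective (tauHom (γA : A →+* R) (γB : B →+* R') hγ (ε : N →+ N') hε) := by
  have hγ' : ∀ r, (γB.symm : R' →+* B) (algebraMap R R' r) =
      algebraMap A B ((γA.symm : R →+* A) r) := by
    intro r
    apply γB.injective
    change γB (γB.symm _) = γB (algebraMap A B (γA.symm r))
    rw [RingEquiv.apply_symm_apply, hγ, RingEquiv.apply_symm_apply]
  have hε' : ∀ (r : R) (n' : N'), (ε.symm : N' →+ N) (r • n') =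
      (γA.symm : R →+* A) r • (ε.symm : N' →+ N) n' := by
    intro r n'
    apply ε.injective
    change ε (ε.symm _) = ε (γA.symm r • ε.symm n')
    rw [AddEquiv.apply_symm_apply, hε, RingEquiv.apply_symm_apply, AddEquiv.apply_symm_apply]
  rw [Function.bijective_iff_has_inverse]
  refine ⟨tauHom (γA.symm : R →+* A) (γB.symm : R' →+* B) hγ' (ε.symm : N' →+ N) hε', ?_, ?_⟩
  · intro z
    induction z using TensorProduct.induction_on with
    | zero => simp only [map_zero]
    | tmul b n =>
      rw [tauHom_tmul, tauHom_tmul]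
      change γB.symm (γB b) ⊗ₜ[A] ε.symm (ε n) = _
      rw [RingEquiv.symm_apply_apply, AddEquiv.symm_apply_apply]
    | add y z hy hz => rw [map_add, map_add, hy, hz]
  · intro z
    induction z using TensorProduct.induction_on with
    | zero => simp only [map_zero]
    | tmul b n =>
      rw [tauHom_tmul, tauHom_tmul]
      change γB (γB.symm b) ⊗ₜ[R] ε (ε.symm n) = _
      rw [RingEquiv.apply_symm_apply, AddEquiv.apply_symm_apply]
    | add y z hy hz => rw [map_add, map_add, hy, hz]

theorem bijective_of_tau (γA : A ≃+* R) (γB : B ≃+* R')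
    (hγ : ∀ a, γB (algebraMap A B a) = algebraMap R R' (γA a))
    (ε : N ≃+ N') (hε : ∀ (a : A) (n : N), ε (a • n) = γA a • ε n)
    {P P' : Type*} [AddCommGroup P] [AddCommGroup P'] (θ : B ⊗[A] N →+ P)
    (ψ : R' ⊗[R] N' →+ P') (ε' : P ≃+ P')
    (hcomp : ∀ b n, ε' (θ (b ⊗ₜ n)) = ψ (γB b ⊗ₜ[R] ε n)) (hψ : Function.Bijective ψ) :
    Function.Bijective θ := by
  have hτ := tauHom_bijective γA γB hγ ε hε
  have key : ∀ z, ε' (θ z) = ψ (tauHom (γA : A →+* R) (γB : B →+* R') hγ (ε : N →+ N') hε z) := by
    intro z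
    induction z using TensorProduct.induction_on with
    | zero => simp only [map_zero]
    | tmul b n => rw [tauHom_tmul]; exact hcomp b n
    | add y z hy hz => rw [map_add, map_add, hy, hz, map_add, map_add]
  have h1 : Function.Bijective (fun z => ε' (θ z)) := by
    have : (fun z => ε' (θ z)) = ψ ∘ tauHom (γA : A →+* R) (γB : B →+* R') hγ (ε : N →+ N') hε :=
      funext key
    rw [this]
    exact hψ.comp hτ
  have h2 : (θ : _ → _) = ε'.symm ∘ (fun z => ε' (θ z)) := by
    funext z
    exact (ε'.symm_apply_apply _).symm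
  rw [h2]
  exact ε'.symm.bijective.comp h1

end Tau

end Groth.Agent.Helper13.FieldBC
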