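import Mathlib
import Groth.Prelude.Def_Coh
import Groth.Prelude.Def_Canon
import Groth.Agent.Lib.Helper13.FlatBC4
import Groth.Agent.Lib.Helper13.FieldBC1

/-!
# Flat base change over an affine base: the comparison in degree zero
-/

set_option autoImplicit false
set_option maxRecDepth 8000
universe u
open CategoryTheory CategoryTheory.Limits AlgebraicGeometry Opposite TopologicalSpace TensorProduct
open Groth.Agent.Helper13.QCoh Groth.Agent.Helper13.Pullback Groth.Agent.Helper18.PbCompat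
open Groth.Agent.Helper18.Rec Groth.Agent.Helper13.Qcqs OmegaSh Groth.Agent.Helper13.FlatBC

namespace Groth.Agent.Helper13.FieldBC

section H0

variable {X : Scheme.{u}}

/-- `H⁰` is the group of global sections -/
noncomputable def E (M : X.Modules) : Coh.HH X M 0 ≃+ Γ(M, ⊤) :=
  Sheaf.H.equiv₀ (Coh.toAb M) (T := (⊤ : Opens X)) isTerminalTop

lemma resTop_top (r : Coh.Γtop X) : Coh.resTop X (op ⊤) r = r := by
  have h : (homOfLE (le_top (a := (op (⊤ : Opens X)).unop))).op = 𝟙 (op (⊤ : Opens X)) :=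
    Subsingleton.elim _ _
  unfold Coh.resTop
  rw [h, CategoryTheory.Functor.map_id]
  rfl

/-- a global function, as an element of `Γ(X, ⊤)` -/
abbrev toΓ (r : Coh.Γtop X) : Γ(X, ⊤) := r

lemma E_smul (M : X.Modules) (r : Coh.Γtop X) (x : Coh.HH X M 0) :
    E M (r • x) = toΓ r • E M x := by
  have h1 := Sheaf.H.equiv₀_naturality (T := (⊤ : Opens X)) isTerminalTop (Coh.smulAb M r) x
  refine (Eq.trans ?_ h1.symm).trans ?_
  · rfl
  rw [Coh.smulAb_app, resTop_top]
  rfl

lemma E_map {M N : X.Modules} (φ : M ⟶ N) (x : Coh.HH X M 0) :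
    E N (Sheaf.H.map ((SheafOfModules.toSheaf X.ringCatSheaf).map φ) 0 x) = φ.app ⊤ (E M x) := by
  have h1 := Sheaf.H.equiv₀_naturality (T := (⊤ : Opens X)) isTerminalTop
    ((SheafOfModules.toSheaf X.ringCatSheaf).map φ) x
  exact h1.symm

end H0

section Theta

variable (A B : Type u) [CommRing A] [CommRing B] [Algebra A B]
  {X X' : Scheme.{u}} [X.Over (Spec (CommRingCat.of A))] [X'.Over (Spec (CommRingCat.of B))]
  (g' : X' ⟶ X)

lemma top_le : (⊤ : X'.Opens) ≤ g' ⁻¹ᵁ ⊤ := le_of_eq rfl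

/-- pulling back global sections -/
noncomputable def pullTop (M : X.Modules) :
    Γ(M, ⊤) →+ Γ((Scheme.Modules.pullback g').obj M, ⊤) where
  toFun t := pullRes g' M (top_le g') t
  map_zero' := pullRes_zero g' M _
  map_add' := pullRes_add g' M _

lemma pullTop_smul (M : X.Modules) (b : Γ(X, ⊤)) (t : Γ(M, ⊤)) :
    pullTop g' M (b • t) = (g'.appLE ⊤ ⊤ (top_le g')).hom b • pullTop g' M t :=
  pullRes_smul g' M (top_le g') b t

lemma pullTop_map {M N : X.Modules} (φ : M ⟶ N) (t : Γ(M, ⊤)) :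
    ((Scheme.Modules.pullback g').map φ).app ⊤ (pullTop g' M t) = pullTop g' N (φ.app ⊤ t) := by
  change ((Scheme.Modules.pullback g').map φ).app ⊤ (pullRes g' M (top_le g') t) =
    pullRes g' N (top_le g') (φ.app ⊤ t)
  rw [pullRes_eq_res, pullRes_eq_res]
  unfold res
  rw [hom_naturality, pullback_map_app]

variable (h : IsPullback g' (X' ↘ Spec (CommRingCat.of B)) (X ↘ Spec (CommRingCat.of A))
      (Spec.map (CommRingCat.ofHom (algebraMap A B))))

include h in
lemma toGlobal_comm (a : A) :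
    (g'.appLE ⊤ ⊤ (top_le g')).hom (toΓ (Coh.toGlobal (X ↘ Spec (CommRingCat.of A)) a)) =
      toΓ (Coh.toGlobal (X' ↘ Spec (CommRingCat.of B)) (algebraMap A B a)) := by
  have h1 : (X ↘ Spec (CommRingCat.of A)).appTop ≫ g'.appTop =
      (Spec.map (CommRingCat.ofHom (algebraMap A B))).appTop ≫
        (X' ↘ Spec (CommRingCat.of B)).appTop := by
    rw [← Scheme.Hom.comp_appTop, ← Scheme.Hom.comp_appTop, h.w]
  have h2 := Scheme.ΓSpecIso_inv_naturality (CommRingCat.ofHom (algebraMap A B))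
  have h3 : g'.appLE ⊤ ⊤ (top_le g') = g'.appTop := (Scheme.Hom.app_eq_appLE g').symm
  rw [h3]
  unfold toΓ Coh.toGlobal
  change ((Scheme.ΓSpecIso (CommRingCat.of A)).inv ≫ (X ↘ Spec (CommRingCat.of A)).appTop ≫
    g'.appTop).hom a = ((CommRingCat.ofHom (algebraMap A B)) ≫
      (Scheme.ΓSpecIso (CommRingCat.of B)).inv ≫ (X' ↘ Spec (CommRingCat.of B)).appTop).hom a
  rw [h1, ← Category.assoc, ← h2, Category.assoc]

/-- pulling back `H⁰` classes -/
noncomputable def pull₀ (M : X.Modules) :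
    Coh.HH X M 0 →+ Coh.HH X' ((Scheme.Modules.pullback g').obj M) 0 :=
  ((E ((Scheme.Modules.pullback g').obj M)).symm.toAddMonoidHom.comp (pullTop g' M)).comp
    (E M).toAddMonoidHom

lemma E_pull₀ (M : X.Modules) (x : Coh.HH X M 0) :
    E _ (pull₀ g' M x) = pullTop g' M (E M x) := AddEquiv.apply_symm_apply _ _

include h in
lemma pull₀_smul (M : X.Modules) (a : A) (x : Coh.HH X M 0) :
    pull₀ g' M (a • x) = algebraMap A B a • pull₀ g' M x := by
  apply (E _).injective
  rw [E_pull₀]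
  have e1 : a • x = Coh.toGlobal (X ↘ Spec (CommRingCat.of A)) a • x := rfl
  have e2 : algebraMap A B a • pull₀ g' M x =
      Coh.toGlobal (X' ↘ Spec (CommRingCat.of B)) (algebraMap A B a) • pull₀ g' M x := rfl
  rw [e1, E_smul, pullTop_smul, toGlobal_comm A B g' h a, e2, E_smul, E_pull₀]

omit [Algebra A B] in
lemma pull₀_map {M N : X.Modules} (φ : M ⟶ N) (x : Coh.HH X M 0) :
    Canon.HHlin B ((Scheme.Modules.pullback g').map φ) 0 (pull₀ g' M x) =
      pull₀ g' N (Canon.HHlin A φ 0 x) := by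
  apply (E _).injective
  rw [E_pull₀]
  refine (E_map ((Scheme.Modules.pullback g').map φ) (pull₀ g' M x)).trans ?_
  rw [E_pull₀, pullTop_map]
  congr 1
  exact (E_map φ x).symm

/-- the bilinear map underlying `theta` -/
noncomputable def thetaBil (M : X.Modules) :
    B →+ Coh.HH X M 0 →+ Coh.HH X' ((Scheme.Modules.pullback g').obj M) 0 where
  toFun b :=
    { toFun := fun x => b • pull₀ g' M x
      map_zero' := by rw [map_zero, smul_zero]
      map_add' := fun x y => by rw [map_add, smul_add] }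
  map_zero' := by
    ext x
    exact zero_smul _ _
  map_add' b b' := by
    ext x
    exact add_smul _ _ _

/-- the base change comparison map in degree zero -/
noncomputable def theta (M : X.Modules) :
    B ⊗[A] Coh.HH X M 0 →ₗ[B] Coh.HH X' ((Scheme.Modules.pullback g').obj M) 0 where
  toFun := TensorProduct.liftAddHom (thetaBil B g' M) (fun a b x => by
    change (a • b) • pull₀ g' M x = b • pull₀ g' M (a • x)
    rw [pull₀_smul A B g' h, Algebra.smul_def, mul_comm, mul_smul])
  map_add' := map_add _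
  map_smul' b z := by
    induction z using TensorProduct.induction_on with
    | zero => simp only [smul_zero, map_zero]
    | tmul b' x =>
      rw [TensorProduct.smul_tmul', smul_eq_mul]
      change (b * b') • pull₀ g' M x = b • (b' • pull₀ g' M x)
      rw [mul_smul]
    | add y z hy hz =>
      rw [smul_add, map_add, hy, hz, map_add, smul_add]

lemma theta_tmul (M : X.Modules) (b : B) (x : Coh.HH X M 0) :
    theta A B g' h M (b ⊗ₜ x) = b • pull₀ g' M x := rfl

lemma theta_natural {M N : X.Modules} (φ : M ⟶ N) (z : B ⊗[A] Coh.HH X M 0) :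
    Canon.HHlin B ((Scheme.Modules.pullback g').map φ) 0 (theta A B g' h M z) =
      theta A B g' h N ((Canon.HHlin A φ 0).baseChange B z) := by
  induction z using TensorProduct.induction_on with
  | zero => simp only [map_zero]
  | tmul b x =>
    rw [theta_tmul, map_smul, pull₀_map A B g', LinearMap.baseChange_tmul, theta_tmul]
  | add y z hy hz => rw [map_add, map_add, hy, hz, map_add, map_add]

end Theta

section Bij

theorem psi_topSub_bijective {X S X' S' : Scheme.{u}} (f : X ⟶ S) (g : S' ⟶ S) (g' : X' ⟶ X)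
    (f' : X' ⟶ S') (h : IsPullback g' f' f g) (M : X.Modules)
    [QuasiCompact f] [QuasiSeparated f] [Flat g] [M.IsQuasicoherent] (d : Datum g)
    (hV : IsAffineOpen d.V) (hV' : IsAffineOpen d.V')
    (e' : f' ⁻¹ᵁ d.V' ≤ g' ⁻¹ᵁ (f ⁻¹ᵁ d.V)) :
    Function.Bijective (psi M h d (topSub f d) (f' ⁻¹ᵁ d.V') e' le_rfl) := by
  haveI : Module.Flat (RA d) (RA' d) := g.flat_appLE hV hV' d.e
  obtain ⟨I, T, hI, hT, U, a, b, Ut, hUaff, hUtaff, hta, htb, hcovU, hcovT⟩ :=
    exists_covers f d hV
  exact psi_top_bijective M h d U a b Ut hta htb hcovU hcovT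
      (fun i => psi_bijective_of_affine M h d hV hV' (U i) (hUaff i))
      (fun t => (psi_bijective_of_affine M h d hV hV' (Ut t) (hUtaff t)).1) e'

variable (A B : Type u) [CommRing A] [CommRing B] [Algebra A B] [Module.Flat A B]
  {X X' : Scheme.{u}} [X.Over (Spec (CommRingCat.of A))] [X'.Over (Spec (CommRingCat.of B))]
  (g' : X' ⟶ X)
  (h : IsPullback g' (X' ↘ Spec (CommRingCat.of B)) (X ↘ Spec (CommRingCat.of A))
      (Spec.map (CommRingCat.ofHom (algebraMap A B))))

/-- the datum of the two total spaces -/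
noncomputable def topDatum : Datum (Spec.map (CommRingCat.ofHom (algebraMap A B))) := ⟨⊤, ⊤, le_of_eq rfl⟩

theorem theta_bijective [QuasiCompact (X ↘ Spec (CommRingCat.of A))]
    [QuasiSeparated (X ↘ Spec (CommRingCat.of A))] (M : X.Modules) [M.IsQuasicoherent] :
    Function.Bijective (theta A B g' h M) := by
  haveI : Flat (Spec.map (CommRingCat.ofHom (algebraMap A B))) := by
    rw [Flat.SpecMap_iff]
    change (algebraMap A B).Flat
    rw [RingHom.flat_algebraMap_iff]
    infer_instance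
  let d := topDatum A B
  have e' : (X' ↘ Spec (CommRingCat.of B)) ⁻¹ᵁ d.V' ≤
      g' ⁻¹ᵁ ((X ↘ Spec (CommRingCat.of A)) ⁻¹ᵁ d.V) := le_of_eq rfl
  have hψ := psi_topSub_bijective (X ↘ Spec (CommRingCat.of A))
    (Spec.map (CommRingCat.ofHom (algebraMap A B))) g' (X' ↘ Spec (CommRingCat.of B)) h M d
    (isAffineOpen_top _) (isAffineOpen_top _) e'
  let γA : A ≃+* RA d := (Scheme.ΓSpecIso (CommRingCat.of A)).symm.commRingCatIsoToRingEquiv
  let γB : B ≃+* RA' d := (Scheme.ΓSpecIso (CommRingCat.of B)).symm.commRingCatIsoToRingEquiv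
  have hγ : ∀ a, γB (algebraMap A B a) = algebraMap (RA d) (RA' d) (γA a) := by
    intro a
    rw [algebraMap_RA]
    have h2 := Scheme.ΓSpecIso_inv_naturality (CommRingCat.ofHom (algebraMap A B))
    have h3 : (Spec.map (CommRingCat.ofHom (algebraMap A B))).appLE d.V d.V' d.e =
        (Spec.map (CommRingCat.ofHom (algebraMap A B))).appTop :=
      (Scheme.Hom.app_eq_appLE _).symm
    rw [h3]
    exact congr($h2 a)
  let ε : Coh.HH X M 0 ≃+ SecV (X ↘ Spec (CommRingCat.of A)) M d
      (topSub (X ↘ Spec (CommRingCat.of A)) d) := E M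
  have hε : ∀ (a : A) (x : Coh.HH X M 0), ε (a • x) = γA a • ε x := by
    intro a x
    have e1 : a • x = Coh.toGlobal (X ↘ Spec (CommRingCat.of A)) a • x := rfl
    rw [e1]
    refine (E_smul M _ x).trans ?_
    have h4 : (γA a • ε x).out = ((X ↘ Spec (CommRingCat.of A)).appLE d.V
        (topSub (X ↘ Spec (CommRingCat.of A)) d).1
        (topSub (X ↘ Spec (CommRingCat.of A)) d).2).hom (γA a) • (ε x).out := SecV.out_smul _ _
    refine Eq.trans ?_ h4.symm
    have h3 : (X ↘ Spec (CommRingCat.of A)).appLE d.V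
        (topSub (X ↘ Spec (CommRingCat.of A)) d).1 (topSub (X ↘ Spec (CommRingCat.of A)) d).2 =
        (X ↘ Spec (CommRingCat.of A)).appTop := (Scheme.Hom.app_eq_appLE _).symm
    rw [h3]
    rfl
  let ε' : Coh.HH X' ((Scheme.Modules.pullback g').obj M) 0 ≃+
      Γ((Scheme.Modules.pullback g').obj M, (X' ↘ Spec (CommRingCat.of B)) ⁻¹ᵁ d.V') :=
    E ((Scheme.Modules.pullback g').obj M)
  refine bijective_of_tau γA γB hγ ε hε (theta A B g' h M).toAddMonoidHom
    (psi M h d (topSub (X ↘ Spec (CommRingCat.of A)) d)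
      ((X' ↘ Spec (CommRingCat.of B)) ⁻¹ᵁ d.V') e' le_rfl) ε' ?_ hψ
  intro b x
  change E ((Scheme.Modules.pullback g').obj M) (theta A B g' h M (b ⊗ₜ x)) = _
  rw [theta_tmul, psi_tmul]
  have e2 : b • pull₀ g' M x =
      Coh.toGlobal (X' ↘ Spec (CommRingCat.of B)) b • pull₀ g' M x := rfl
  rw [e2, E_smul, E_pull₀]
  have h3 : (X' ↘ Spec (CommRingCat.of B)).appLE d.V' ((X' ↘ Spec (CommRingCat.of B)) ⁻¹ᵁ d.V')
      le_rfl = (X' ↘ Spec (CommRingCat.of B)).appTop := (Scheme.Hom.app_eq_appLE _).symm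
  rw [h3]
  rfl

end Bij

end Groth.Agent.Helper13.FieldBC
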