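import Mathlib
import Groth.Agent.Lib.Helper13.QAffAcyc
import Groth.Agent.Lib.Helper13.TwistSES
import Groth.Agent.Lib.Helper13.GlobGen
import Groth.Agent.Lib.Helper13.TensorPow
import Groth.Agent.Lib.Helper13.TensorQCoh

/-!
# Ample module whose negative powers are acyclic: all quasi-coherent modules are acyclic
-/

set_option autoImplicit false
set_option maxHeartbeats 400000
set_option linter.unusedSectionVars false
universe u
open CategoryTheory CategoryTheory.Limits AlgebraicGeometry Opposite TopologicalSpace
open Groth.Agent.Helper13.QCoh Groth.Agent.Helper13.FinType Groth.Agent.Helper13.GlobGen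
  Groth.Agent.Helper13.ToAbExact Groth.Agent.Helper13.QCohLocal Groth.Agent.Helper13.Tensor
  Groth.Agent.Helper13.Inv Groth.Agent.Helper13.TwistSES Groth.Agent.Helper13.QAffAcyc

namespace Groth.Agent.Helper13.AmpleAcyc

variable {X : Scheme.{u}}

/-- cohomology of isomorphic modules. -/
lemma HH_subsingleton_of_iso {M M' : X.Modules} (e : M ≅ M') (p : ℕ)
    (h : Subsingleton (Coh.HH X M' p)) : Subsingleton (Coh.HH X M p) := by
  have hinj : Function.Injective (Sheaf.H.map ((toAbF X).map e.hom) p) := by
    apply Function.LeftInverse.injective (g := Sheaf.H.map ((toAbF X).map e.inv) p)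
    intro x
    rw [← Sheaf.H.map_comp_apply, ← CategoryTheory.Functor.map_comp, e.hom_inv_id,
      CategoryTheory.Functor.map_id]
    exact Sheaf.H.map_id_apply x
  haveI : Subsingleton (Sheaf.H ((toAbF X).obj M') p) := h
  exact hinj.subsingleton

/-- the tensor product with a zero module is zero. -/
lemma isZero_tensorMod_left (F E : X.Modules) (hF : IsZero F) : IsZero (CohB1.tensorMod F E) := by
  rw [isZero_iff_stalk] at hF ⊢
  intro x
  haveI := hF x
  refine ⟨fun a b => ?_⟩
  have key : ∀ c : (CohB1.tensorMod F E).presheaf.stalk x, c = 0 := by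
    intro c
    obtain ⟨z, rfl⟩ := (stalkTensorEquiv F E x).surjective c
    induction z using TensorProduct.induction_on with
    | zero => rw [map_zero]
    | tmul q n =>
      rw [Subsingleton.elim q 0, TensorProduct.zero_tmul, map_zero]
    | add a b ha hb => rw [map_add, ha, hb, add_zero]
  rw [key a, key b]

open Groth.Agent.Helper13.LocFree in
/-- if `H^p(E) = 0` for the invertible module `E` and `H^{p+1}` vanishes on all quasi-coherent
modules, then `H^p(F ⊗ E) = 0` for quasi-coherent `F` generated by finitely many global sections. -/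
theorem HH_tensor_subsingleton_of_genOn (E : X.Modules) (hE : PicF.IsInvertible E) (p : ℕ)
    (hO : Subsingleton (Coh.HH X E p))
    (hnext : ∀ K : X.Modules, K.IsQuasicoherent → Subsingleton (Coh.HH X K (p + 1))) :
    ∀ (n : ℕ) (F : X.Modules) (_ : F.IsQuasicoherent) (t : Fin n → Γ(F, ⊤)), GenOn F ⊤ t →
      Subsingleton (Coh.HH X (CohB1.tensorMod F E) p) := by
  haveI : E.IsQuasicoherent := isQuasicoherent_of_isInvertible E hE
  intro n
  induction n with
  | zero =>
    intro F _ t ht
    apply HH_subsingleton_of_isZero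
    apply isZero_tensorMod_left
    rw [isZero_iff_stalk]
    intro x
    have h := ht x trivial
    have : (Set.range fun i : Fin 0 => F.presheaf.germ ⊤ x trivial (t i)) = ∅ := Set.range_eq_empty _
    rw [this, Submodule.span_empty] at h
    exact (Submodule.subsingleton_iff (X.presheaf.stalk x)).1 (subsingleton_of_bot_eq_top h)
  | succ n ih =>
    intro F hF t ht
    haveI : F.IsQuasicoherent := hF
    haveI : (Coh.structureModule X).IsQuasicoherent := Groth.Agent.Helper13.QCoh.isQuasicoherent_unit X
    let a : Coh.structureModule X ⟶ F := homOfSec F (t 0)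
    let P : X.Modules := Abelian.image a
    let Q : X.Modules := cokernel a
    let e : Coh.structureModule X ⟶ P := Abelian.factorThruImage a
    let ψ : P ⟶ F := Abelian.image.ι a
    let π : F ⟶ Q := cokernel.π a
    haveI : Epi e := inferInstanceAs (Epi (Abelian.factorThruImage a))
    haveI : Mono ψ := inferInstanceAs (Mono (Abelian.image.ι a))
    haveI : Epi π := inferInstanceAs (Epi (cokernel.π a))
    haveI hQ : Q.IsQuasicoherent := isQuasicoherent_cokernel a
    haveI hP : P.IsQuasicoherent := isQuasicoherent_kernel (cokernel.π a)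
    let K : X.Modules := kernel e
    haveI hK : K.IsQuasicoherent := isQuasicoherent_kernel e
    -- `H^p(P ⊗ E) = 0`
    have hS2 : (ShortComplex.mk (kernel.ι e) e (kernel.condition e)).ShortExact :=
      ShortComplex.ShortExact.mk' (ShortComplex.exact_of_f_is_kernel _ (kernelIsKernel e))
        inferInstance inferInstance
    have hS2' := tensorSC_shortExact _ hS2 E hE
    have hOE : Subsingleton (Coh.HH X (CohB1.tensorMod (Coh.structureModule X) E) p) :=
      HH_subsingleton_of_iso (lid E) p hO
    have hPz : Subsingleton (Coh.HH X (CohB1.tensorMod P E) p) :=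
      HH_right _ hS2' p hOE (hnext (CohB1.tensorMod K E) inferInstance)
    -- `H^p(Q ⊗ E) = 0` by induction
    have hπ0 : π.app ⊤ (t 0) = 0 := by
      have h1 := homOfSec_app_one F (t 0) ⊤
      have h2 : F.presheaf.map (homOfLE (le_top : (⊤ : X.Opens) ≤ ⊤)).op (t 0) = t 0 := by
        have : F.presheaf.map (homOfLE (le_top : (⊤ : X.Opens) ≤ ⊤)).op = 𝟙 _ := F.presheaf.map_id _
        exact congr($this (t 0))
      rw [h2] at h1
      rw [← h1]
      have h3 : a ≫ π = 0 := cokernel.condition a
      exact congr(($h3).app ⊤ (toO ⊤ 1))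
    have hgen := GenOn.map_of_epi π ht
    have hgen' : GenOn Q ⊤ (fun i : Fin n => π.app ⊤ (t i.succ)) := by
      intro y hy
      rw [eq_top_iff, ← hgen y hy, Submodule.span_le]
      rintro _ ⟨i, rfl⟩
      refine Fin.cases ?_ (fun j => ?_) i
      · show Q.presheaf.germ ⊤ y hy (π.app ⊤ (t 0)) ∈ _
        rw [hπ0, map_zero]
        exact Submodule.zero_mem _
      · exact Submodule.subset_span ⟨j, rfl⟩
    have hQz : Subsingleton (Coh.HH X (CohB1.tensorMod Q E) p) := ih Q hQ _ hgen'
    have hS1 : (ShortComplex.mk ψ π (kernel.condition (cokernel.π a))).ShortExact :=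
      ShortComplex.ShortExact.mk' (ShortComplex.exact_of_f_is_kernel _ (kernelIsKernel (cokernel.π a)))
        inferInstance inferInstance
    have hS1' := tensorSC_shortExact _ hS1 E hE
    exact HH_mid _ hS1' p hPz hQz

/-- `L^n ⊗ L'^n ≅ O` when `L ⊗ L' ≅ O`. -/
noncomputable def powInvIso (L L' : X.Modules) (e : CohB1.tensorMod L L' ≅ Coh.structureModule X)
    (n : ℕ) : CohB1.tensorMod (CohB1.tensorPow L n) (CohB1.tensorPow L' n) ≅ Coh.structureModule X :=
  (powTensor L L' n).symm ≪≫ powIso e n ≪≫ powUnit n

/-- `(N ⊗ L^n) ⊗ L'^n ≅ N`. -/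
noncomputable def untwistIso (N L L' : X.Modules)
    (e : CohB1.tensorMod L L' ≅ Coh.structureModule X) (n : ℕ) :
    CohB1.tensorMod (CohB1.tensorMod N (CohB1.tensorPow L n)) (CohB1.tensorPow L' n) ≅ N :=
  assoc N _ _ ≪≫ mapIso (Iso.refl N) (powInvIso L L' e n) ≪≫ rid N

/-- **acyclicity from an ample module with acyclic negative powers.** -/
theorem HH_subsingleton_of_isAmple (L L' : X.Modules) (hL : CohB1.IsAmple L)
    (e : CohB1.tensorMod L L' ≅ Coh.structureModule X) (n₀ : ℕ)
    (h : ∀ n : ℕ, n₀ ≤ n → ∀ p : ℕ, 0 < p → Subsingleton (Coh.HH X (CohB1.tensorPow L' n) p))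
    (p : ℕ) (hp : 0 < p) (F : X.Modules) (hF : F.IsQuasicoherent) :
    Subsingleton (Coh.HH X F p) := by
  haveI : CompactSpace X := hL.2.1
  haveI : QuasiSeparatedSpace X := Groth.Agent.Helper13.Ample.quasiSeparatedSpace_of_isAmple L hL
  have hL' : PicF.IsInvertible L' :=
    isInvertible_of_tensor_iso L' L (braid L' L ≪≫ e)
  obtain ⟨d, hd⟩ := Groth.Agent.S0016.result X
  have key : ∀ (k p : ℕ), 0 < p → d ≤ p + k → ∀ F : X.Modules, F.IsQuasicoherent →
      Subsingleton (Coh.HH X F p) := by
    intro k
    induction k with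
    | zero =>
      intro p _ hdp F hF
      exact hd F hF p (by omega)
    | succ k ih =>
      intro p hp hdp F hF
      haveI : F.IsQuasicoherent := hF
      apply Groth.Agent.Helper13.FTColim.HH_subsingleton_of_ft F p
      intro N hNq hNf
      haveI : N.IsQuasicoherent := hNq
      haveI : SheafOfModules.IsFiniteType (R := X.ringCatSheaf) N := hNf
      obtain ⟨n₁, hn₁⟩ := exists_isGloballyGenerated_twist L hL N
      let n := max n₀ n₁
      have hLn : PicF.IsInvertible (CohB1.tensorPow L n) := isInvertible_tensorPow L hL.1 n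
      haveI : (CohB1.tensorPow L n).IsQuasicoherent := isQuasicoherent_of_isInvertible _ hLn
      haveI : SheafOfModules.IsFiniteType (R := X.ringCatSheaf) (CohB1.tensorPow L n) :=
        isFiniteType_of_isInvertible _ hLn
      haveI : SheafOfModules.IsFiniteType (R := X.ringCatSheaf)
          (CohB1.tensorMod N (CohB1.tensorPow L n)) := isFiniteType_tensorMod _ _
      have hgg := (isGloballyGenerated_iff _).1 (hn₁ n (le_max_right _ _))
      obtain ⟨r, t, ht⟩ := Groth.Agent.Helper13.FinGlobGen.exists_fin_genOn
        (CohB1.tensorMod N (CohB1.tensorPow L n)) hgg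
      have h1 := HH_tensor_subsingleton_of_genOn (CohB1.tensorPow L' n)
        (isInvertible_tensorPow L' hL' n) p (h n (le_max_left _ _) p hp)
        (fun K hK => ih (p + 1) (by omega) (by omega) K hK) r
        (CohB1.tensorMod N (CohB1.tensorPow L n)) inferInstance t ht
      exact HH_subsingleton_of_iso (untwistIso N L L' e n).symm p h1
  exact key d p hp (by omega) F hF

end Groth.Agent.Helper13.AmpleAcyc
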