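import Mathlib
import Groth.Agent.Lib.Helper13.AcycEmbed
import Groth.Agent.Lib.Helper13.AmpleAcyc
import Groth.Agent.Lib.Helper13.PullbackLocal
import Groth.Agent.Lib.Helper28.AffBC

/-!
# Flat base change over an affine base: acyclic embeddings compatible with an affine pullback
-/

universe u
set_option linter.unusedSectionVars false
set_option autoImplicit false
open CategoryTheory CategoryTheory.Limits Opposite TopologicalSpace AlgebraicGeometry

namespace Groth.Agent.Helper13.FieldBC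

open Groth.Agent.Helper13.QCohLocal Groth.Agent.Helper13.ToAbExact Groth.Agent.Helper13.Qcqs
open Groth.Agent.Helper13.AcycEmbed

variable {X X' : Scheme.{u}} (g' : X' ⟶ X)

/-- the pushforward of a quasi-coherent module along an affine morphism from an affine scheme
is acyclic -/
lemma HH_push_subsingleton {Y Z : Scheme.{u}} (j : Y ⟶ Z) [IsAffineHom j] [IsAffine Y]
    (N : Y.Modules) [N.IsQuasicoherent] (p : ℕ) :
    Subsingleton (Coh.HH Z ((Scheme.Modules.pushforward j).obj N) (p + 1)) := by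
  obtain ⟨e⟩ := LerayZero.main j.base (p + 1) (Coh.toAb N)
    (fun q => Groth.Agent.S0028.result j N (q + 1) (Nat.succ_pos q))
  haveI := Groth.Agent.S0007.result Y N (p + 1) (Nat.succ_pos p)
  exact e.symm.injective.subsingleton

/-- `M` maps to an acyclic quasi-coherent module with acyclic pullback, injectively over `W` -/
def Good (M : X.Modules) (W : X.Opens) : Prop :=
  ∃ (M' : X.Modules) (i : M ⟶ M'), M'.IsQuasicoherent ∧
    (∀ p : ℕ, Subsingleton (Coh.HH X M' (p + 1))) ∧
    (∀ p : ℕ, Subsingleton (Coh.HH X' ((Scheme.Modules.pullback g').obj M') (p + 1))) ∧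
    ∀ (V : X.Opens) (s : Γ(M, V)), i.app V s = 0 →
      res M (inf_le_left : V ⊓ W ≤ V) s = 0

lemma good_bot (M : X.Modules) [hM : M.IsQuasicoherent] : Good g' M ⊥ := by
  have hZ : IsZero (kernel (𝟙 M)) := by
    rw [IsZero.iff_id_eq_zero, ← cancel_mono (kernel.ι (𝟙 M))]
    have := kernel.condition (𝟙 M)
    rw [Category.comp_id] at this
    rw [Category.id_comp, this, zero_comp]
  refine ⟨kernel (𝟙 M), 0, isQuasicoherent_kernel (𝟙 M), fun p => subsingleton_HH_of_isZero _ hZ _,
    fun p => subsingleton_HH_of_isZero _ (Functor.map_isZero (Scheme.Modules.pullback g') hZ) _,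
    fun V s _ => ?_⟩
  haveI := subsingleton_of_le_bot M (inf_le_right : V ⊓ ⊥ ≤ ⊥)
  exact Subsingleton.elim _ _

lemma good_sup (M : X.Modules) (W₁ W₂ : X.Opens) (h₁ : Good g' M W₁) (h₂ : Good g' M W₂) :
    Good g' M (W₁ ⊔ W₂) := by
  obtain ⟨M₁, i₁, q₁, a₁, b₁, k₁⟩ := h₁
  obtain ⟨M₂, i₂, q₂, a₂, b₂, k₂⟩ := h₂
  let S : ShortComplex X.Modules :=
    ShortComplex.mk (biprod.inl : M₁ ⟶ M₁ ⊞ M₂) (biprod.snd : M₁ ⊞ M₂ ⟶ M₂) (by simp)
  have hS : S.ShortExact := (ShortComplex.Splitting.ofHasBinaryBiproduct M₁ M₂).shortExact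
  have hS' : (S.map (Scheme.Modules.pullback g')).ShortExact :=
    ((ShortComplex.Splitting.ofHasBinaryBiproduct M₁ M₂).map
      (Scheme.Modules.pullback g')).shortExact
  refine ⟨M₁ ⊞ M₂, biprod.lift i₁ i₂, QCohExt.main S hS q₁ q₂,
    fun p => HH_subsingleton_of_shortExact S hS (p + 1) (a₁ p) (a₂ p),
    fun p => HH_subsingleton_of_shortExact (S.map (Scheme.Modules.pullback g')) hS' (p + 1)
      (b₁ p) (b₂ p), fun V s hs => ?_⟩
  have e₁ : i₁.app V s = 0 := by
    have : (biprod.lift i₁ i₂ ≫ biprod.fst).app V s = 0 := by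
      rw [Scheme.Modules.Hom.comp_app, ConcreteCategory.comp_apply, hs, map_zero]
    rwa [biprod.lift_fst] at this
  have e₂ : i₂.app V s = 0 := by
    have : (biprod.lift i₁ i₂ ≫ biprod.snd).app V s = 0 := by
      rw [Scheme.Modules.Hom.comp_app, ConcreteCategory.comp_apply, hs, map_zero]
    rwa [biprod.lift_snd] at this
  have r₁ := k₁ V s e₁
  have r₂ := k₂ V s e₂
  refine eq_of_res_eq₂ M (S := V ⊓ W₁) (V := V ⊓ W₂) (W := V ⊓ (W₁ ⊔ W₂))
    (inf_le_inf_left V le_sup_left) (inf_le_inf_left V le_sup_right)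
    (by rw [inf_sup_left]) _ _ ?_ ?_
  · rw [res_res, map_zero]; exact r₁
  · rw [res_res, map_zero]; exact r₂

lemma good_affine [IsAffineHom g']
    (hd : ∀ V W : X.Opens, IsAffineOpen V → IsAffineOpen W → IsAffineOpen (V ⊓ W))
    (M : X.Modules) [hM : M.IsQuasicoherent] (U : X.Opens) (hU : IsAffineOpen U) :
    Good g' M U := by
  haveI := isAffineHom_ι hd U hU
  haveI hG : (M.restrict U.ι).IsQuasicoherent := inferInstance
  haveI : IsAffine ↑U := hU
  have sq := isPullback_morphismRestrict g' U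
  haveI : IsAffineHom (g' ⁻¹ᵁ U).ι :=
    MorphismProperty.of_isPullback (P := @IsAffineHom) sq inferInstance
  haveI : IsAffine ↑(g' ⁻¹ᵁ U) := hU.preimage g'
  refine ⟨(Scheme.Modules.pushforward U.ι).obj (M.restrict U.ι),
    (Scheme.Modules.restrictAdjunction U.ι).unit.app M,
    QCohPush.isQuasicoherent_pushforward U.ι (M.restrict U.ι), fun p => ?_, fun p => ?_,
    fun V s hs => ?_⟩
  · exact HH_push_subsingleton U.ι (M.restrict U.ι) p
  · haveI := Groth.Agent.Helper28.AffBC.isIso_bcMap U.ι g' (g' ∣_ U) (g' ⁻¹ᵁ U).ι sq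
      (M.restrict U.ι)
    refine AmpleAcyc.HH_subsingleton_of_iso
      (asIso (Groth.Agent.Helper28.AffBC.bcMap U.ι g' (g' ∣_ U) (g' ⁻¹ᵁ U).ι sq
        (M.restrict U.ι))) (p + 1) ?_
    exact HH_push_subsingleton (g' ⁻¹ᵁ U).ι _ p
  · rw [Scheme.Modules.restrictAdjunction_unit_app_app] at hs
    have hle : V ⊓ U ≤ U.ι ''ᵁ (U.ι ⁻¹ᵁ V) := by
      rw [U.ι.image_preimage_eq_opensRange_inf, Scheme.Opens.opensRange_ι, inf_comm]
    have hs' : res M (U.ι.image_preimage_le V) s = 0 := hs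
    have h2 : res M hle (res M (U.ι.image_preimage_le V) s) = 0 := by
      rw [hs', map_zero]
    rw [← h2]
    exact (res_res M (U.ι.image_preimage_le V) hle s).symm

theorem exists_acyclic_embedding [IsAffineHom g'] [CompactSpace X]
    (hd : ∀ V W : X.Opens, IsAffineOpen V → IsAffineOpen W → IsAffineOpen (V ⊓ W))
    (M : X.Modules) [hM : M.IsQuasicoherent] :
    ∃ (M' : X.Modules) (i : M ⟶ M'), Mono i ∧ M'.IsQuasicoherent ∧
      (∀ p : ℕ, Subsingleton (Coh.HH X M' (p + 1))) ∧
      ∀ p : ℕ, Subsingleton (Coh.HH X' ((Scheme.Modules.pullback g').obj M') (p + 1)) := by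
  have key : ∀ s : Set X.affineOpens, s.Finite → Good g' M (⨆ i ∈ s, (i : X.Opens)) := by
    intro s hs
    refine hs.induction_on _ ?_ ?_
    · simp only [Set.mem_empty_iff_false, iSup_false, iSup_bot]
      exact good_bot g' M
    · intro a s _ _ ih
      rw [iSup_insert]
      exact good_sup g' M _ _ (good_affine g' hd M _ a.2) ih
  obtain ⟨s, hs, e⟩ := (isCompact_iff_finite_and_eq_biUnion_affineOpens (X := X) (U := ⊤)).1
    (by simpa using isCompact_univ)
  obtain ⟨M', i, q, a, b, k⟩ := key s hs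
  rw [← e] at k
  refine ⟨M', i, ?_, q, a, b⟩
  rw [Groth.Agent.Helper13.QCoh.mono_iff_app_injective]
  intro V
  rw [injective_iff_map_eq_zero]
  intro t ht
  have h1 := k V t ht
  have h2 := congrArg (res M (le_inf le_rfl le_top : V ≤ V ⊓ ⊤)) h1
  rw [res_res, map_zero, res_self] at h2
  exact h2

end Groth.Agent.Helper13.FieldBC
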