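import Mathlib

/-!
# Flat base change over an affine base: comparing cokernels
-/

set_option autoImplicit false
universe u
open TensorProduct

namespace Groth.Agent.Helper13.FieldBC

theorem exists_equiv_of_coker {A B : Type*} [CommRing A] [CommRing B] [Algebra A B]
    {P Q H : Type*} [AddCommGroup P] [AddCommGroup Q] [AddCommGroup H]
    [Module A P] [Module A Q] [Module A H]
    {P' Q' H' : Type*} [AddCommGroup P'] [AddCommGroup Q'] [AddCommGroup H']
    [Module B P'] [Module B Q'] [Module B H']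
    (u : P →ₗ[A] Q) (d : Q →ₗ[A] H) (hd : Function.Surjective d) (hex : Function.Exact u d)
    (u' : P' →ₗ[B] Q') (d' : Q' →ₗ[B] H') (hd' : Function.Surjective d')
    (hex' : Function.Exact u' d')
    (θP : B ⊗[A] P →ₗ[B] P') (θQ : B ⊗[A] Q →ₗ[B] Q') (hP : Function.Surjective θP)
    (hQ : Function.Bijective θQ)
    (hcomm : ∀ z, u' (θP z) = θQ (u.baseChange B z)) :
    Nonempty (B ⊗[A] H ≃ₗ[B] H') := by
  let d₁ : B ⊗[A] Q →ₗ[B] B ⊗[A] H := d.baseChange B
  let d₂ : B ⊗[A] Q →ₗ[B] H' := d' ∘ₗ θQ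
  have hd₁ : Function.Surjective d₁ := by
    have h0 : (d₁ : B ⊗[A] Q → B ⊗[A] H) = d.lTensor B := LinearMap.baseChange_eq_ltensor d
    rw [h0]
    exact LinearMap.lTensor_surjective B hd
  have hd₂ : Function.Surjective d₂ := hd'.comp hQ.2
  have hex₁ : Function.Exact (u.baseChange B) d₁ := by
    have h1 := lTensor_exact B hex hd
    intro z
    have h2 := h1 z
    have h3 : (u.baseChange B : B ⊗[A] P → B ⊗[A] Q) = u.lTensor B :=
      LinearMap.baseChange_eq_ltensor u
    have h0 : (d₁ : B ⊗[A] Q → B ⊗[A] H) = d.lTensor B := LinearMap.baseChange_eq_ltensor d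
    rw [h0, h3]
    exact h2
  have hker : LinearMap.ker d₁ = LinearMap.ker d₂ := by
    ext z
    rw [LinearMap.mem_ker, LinearMap.mem_ker]
    constructor
    · intro hz
      obtain ⟨w, rfl⟩ := (hex₁ z).1 hz
      change d' (θQ (u.baseChange B w)) = 0
      rw [← hcomm]
      exact (hex' _).2 ⟨_, rfl⟩
    · intro hz
      obtain ⟨p', hp'⟩ := (hex' (θQ z)).1 hz
      obtain ⟨w, rfl⟩ := hP p'
      rw [hcomm] at hp'
      have := hQ.1 hp'
      rw [← this]
      exact (hex₁ _).2 ⟨_, rfl⟩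
  exact ⟨((LinearMap.quotKerEquivOfSurjective d₁ hd₁).symm.trans
    (Submodule.quotEquivOfEq _ _ hker)).trans (LinearMap.quotKerEquivOfSurjective d₂ hd₂)⟩

end Groth.Agent.Helper13.FieldBC
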