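import Mathlib
import Groth.Agent.Lib.Helper13.FieldBC2
import Groth.Agent.Lib.Helper13.FieldBC3
import Groth.Agent.Lib.Helper13.FieldBC4
import Groth.Agent.Lib.Helper26.LesDim
import Groth.Agent.Lib.Helper24.FlatPull

/-!
# Flat base change over an affine base for schemes with affine diagonal
-/

set_option autoImplicit false
set_option maxRecDepth 8000
universe u
open CategoryTheory CategoryTheory.Limits AlgebraicGeometry Opposite TopologicalSpace TensorProduct

namespace Groth.Agent.Helper13.FieldBC

open Groth.Agent.Helper13.QCohLocal Groth.Agent.Helper26.PnFin Groth.Agent.Helper26.LesDim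

variable (A B : Type u) [CommRing A] [CommRing B] [Algebra A B] [Module.Flat A B]
  {X X' : Scheme.{u}} [X.Over (Spec (CommRingCat.of A))] [X'.Over (Spec (CommRingCat.of B))]
  (g' : X' ⟶ X)
  (h : IsPullback g' (X' ↘ Spec (CommRingCat.of B)) (X ↘ Spec (CommRingCat.of A))
      (Spec.map (CommRingCat.ofHom (algebraMap A B))))

include h in
theorem flat_of_isPullback : Flat g' := by
  haveI : Flat (Spec.map (CommRingCat.ofHom (algebraMap A B))) := by
    rw [Flat.SpecMap_iff]
    change (algebraMap A B).Flat
    rw [RingHom.flat_algebraMap_iff]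
    infer_instance
  exact MorphismProperty.of_isPullback (P := @Flat) h.flip inferInstance

omit [Module.Flat A B] in
include h in
theorem isAffineHom_of_isPullback : IsAffineHom g' :=
  MorphismProperty.of_isPullback (P := @IsAffineHom) h.flip inferInstance

theorem quasiSeparatedSpace_of_hd
    (hd : ∀ V W : X.Opens, IsAffineOpen V → IsAffineOpen W → IsAffineOpen (V ⊓ W)) :
    QuasiSeparatedSpace X := by
  rw [quasiSeparatedSpace_iff_forall_affineOpens]
  intro U V
  exact (hd U.1 V.1 U.2 V.2).isCompact

include h in
theorem main [CompactSpace X]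
    (hd : ∀ V W : X.Opens, IsAffineOpen V → IsAffineOpen W → IsAffineOpen (V ⊓ W)) (i : ℕ) :
    ∀ (M : X.Modules), M.IsQuasicoherent →
      Nonempty (B ⊗[A] Coh.HH X M i ≃ₗ[B] Coh.HH X' ((Scheme.Modules.pullback g').obj M) i) := by
  haveI := quasiSeparatedSpace_of_hd hd
  haveI : QuasiCompact (X ↘ Spec (CommRingCat.of A)) := inferInstance
  haveI : QuasiSeparated (X ↘ Spec (CommRingCat.of A)) := inferInstance
  haveI := flat_of_isPullback A B g' h
  haveI := isAffineHom_of_isPullback A B g' h
  haveI := Groth.Agent.Helper24.FlatPull.preservesFiniteLimits_pullback g'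
  induction i with
  | zero =>
    intro M hM
    exact ⟨LinearEquiv.ofBijective (theta A B g' h M) (theta_bijective A B g' h M)⟩
  | succ i ih =>
    intro M hM
    obtain ⟨M', ι, hmono, hq, a, b⟩ := exists_acyclic_embedding g' hd M
    let S : ShortComplex X.Modules := ShortComplex.mk ι (cokernel.π ι) (cokernel.condition ι)
    have hS : S.ShortExact :=
      ShortComplex.ShortExact.mk' (ShortComplex.exact_of_g_is_cokernel _ (cokernelIsCokernel ι))
        hmono inferInstance
    have hQ : (cokernel ι).IsQuasicoherent := isQuasicoherent_cokernel ι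
    have hS' : (S.map (Scheme.Modules.pullback g')).ShortExact :=
      hS.map_of_exact (Scheme.Modules.pullback g')
    cases i with
    | zero =>
      have hδ : Function.Surjective (deltaLin A S hS 0) := by
        intro x
        haveI := a 0
        exact exact₁ A S hS 0 x (Subsingleton.elim (α := Coh.HH X M' (0 + 1)) _ _)
      have hex : Function.Exact (Canon.HHlin A S.g 0) (deltaLin A S hS 0) := by
        intro y
        constructor
        · intro hy
          exact deltaLin_exact A S hS 0 y hy
        · rintro ⟨z, rfl⟩
          exact deltaLin_g A S hS 0 z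
      have hδ' : Function.Surjective (deltaLin B (S.map (Scheme.Modules.pullback g')) hS' 0) := by
        intro x
        haveI := b 0
        exact exact₁ B (S.map (Scheme.Modules.pullback g')) hS' 0 x
          (Subsingleton.elim
            (α := Coh.HH X' ((Scheme.Modules.pullback g').obj M') (0 + 1)) _ _)
      have hex' : Function.Exact
          (Canon.HHlin B (S.map (Scheme.Modules.pullback g')).g 0)
          (deltaLin B (S.map (Scheme.Modules.pullback g')) hS' 0) := by
        intro y
        constructor
        · intro hy
          exact deltaLin_exact B (S.map (Scheme.Modules.pullback g')) hS' 0 y hy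
        · rintro ⟨z, rfl⟩
          exact deltaLin_g B (S.map (Scheme.Modules.pullback g')) hS' 0 z
      exact exists_equiv_of_coker (Canon.HHlin A S.g 0) (deltaLin A S hS 0) hδ hex
        (Canon.HHlin B (S.map (Scheme.Modules.pullback g')).g 0)
        (deltaLin B (S.map (Scheme.Modules.pullback g')) hS' 0) hδ' hex'
        (theta A B g' h M') (theta A B g' h (cokernel ι)) (theta_bijective A B g' h M').2
        (theta_bijective A B g' h (cokernel ι))
        (fun z => theta_natural A B g' h S.g z)
    | succ i =>
      obtain ⟨e⟩ := ih (cokernel ι) hQ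
      let δ : Coh.HH X (cokernel ι) (i + 1) ≃ₗ[A] Coh.HH X M (i + 1 + 1) :=
        LinearEquiv.ofBijective (deltaLin A S hS (i + 1))
          (deltaLin_bijective A S hS (i + 1) (a i) (a (i + 1)))
      let δ' : Coh.HH X' ((Scheme.Modules.pullback g').obj (cokernel ι)) (i + 1) ≃ₗ[B]
          Coh.HH X' ((Scheme.Modules.pullback g').obj M) (i + 1 + 1) :=
        LinearEquiv.ofBijective (deltaLin B (S.map (Scheme.Modules.pullback g')) hS' (i + 1))
          (deltaLin_bijective B (S.map (Scheme.Modules.pullback g')) hS' (i + 1) (b i)
            (b (i + 1)))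
      exact ⟨(LinearEquiv.baseChange A B _ _ δ.symm).trans (e.trans δ')⟩

end Groth.Agent.Helper13.FieldBC
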