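import Mathlib
import Groth.Prelude.Def_Curv2
import Groth.Agent.Lib.Helper13.FieldBC5

/-!
# Base change of cohomology along a field extension
-/

set_option autoImplicit false
set_option maxRecDepth 8000
universe u
open CategoryTheory CategoryTheory.Limits AlgebraicGeometry Opposite TopologicalSpace TensorProduct

namespace Groth.Agent.Helper13.FieldBC

theorem hd_of_isSeparated {X Y : Scheme.{u}} (f : X ⟶ Y) [IsAffine Y] [IsSeparated f] :
    ∀ V W : X.Opens, IsAffineOpen V → IsAffineOpen W → IsAffineOpen (V ⊓ W) := by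
  haveI : IsAffineHom (pullback.diagonal f) := inferInstance
  intro V W hV hW
  exact isAffineHom_diagonal_iff.mp ‹_› ⊤ (isAffineOpen_top _) V (by simp) W (by simp) hV hW

section

variable (k k' : Type u) [Field k] [Field k'] [Algebra k k']
  {X X' : Scheme.{u}} [X.Over (Spec (CommRingCat.of k))] [X'.Over (Spec (CommRingCat.of k'))]
  [CompactSpace X] [IsSeparated (X ↘ Spec (CommRingCat.of k))]
  (g' : X' ⟶ X)
  (h : IsPullback g' (X' ↘ Spec (CommRingCat.of k')) (X ↘ Spec (CommRingCat.of k))
      (Spec.map (CommRingCat.ofHom (algebraMap k k'))))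

include h in
theorem nonempty_equiv (M : X.Modules) [hM : M.IsQuasicoherent] (i : ℕ) :
    Nonempty (k' ⊗[k] Coh.HH X M i ≃ₗ[k'] Coh.HH X' ((Scheme.Modules.pullback g').obj M) i) :=
  main k k' g' h (hd_of_isSeparated (X ↘ Spec (CommRingCat.of k))) i M hM

include h in
theorem finrank_HH_baseChange (M : X.Modules) [hM : M.IsQuasicoherent] (i : ℕ) :
    Module.finrank k' (Coh.HH X' ((Scheme.Modules.pullback g').obj M) i) =
      Module.finrank k (Coh.HH X M i) := by
  obtain ⟨e⟩ := nonempty_equiv k k' g' h M i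
  rw [← e.finrank_eq, Module.finrank_baseChange]

include h in
theorem subsingleton_HH_baseChange_iff (M : X.Modules) [hM : M.IsQuasicoherent] (i : ℕ) :
    Subsingleton (Coh.HH X' ((Scheme.Modules.pullback g').obj M) i) ↔
      Subsingleton (Coh.HH X M i) := by
  obtain ⟨e⟩ := nonempty_equiv k k' g' h M i
  rw [← Module.FaithfullyFlat.subsingleton_tensorProduct_iff_right k k' (N := Coh.HH X M i)]
  exact e.symm.toEquiv.subsingleton_congr

end

section Apps

variable (k : Type u) [Field k] (X : Scheme.{u}) [X.Over (Spec (CommRingCat.of k))]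
  [IsProper (X ↘ (Spec (CommRingCat.of k)))] (k' : Type u) [Field k'] [Algebra k k']

theorem finrank_bc (F : X.Modules) [hF : F.IsQuasicoherent] (i : ℕ) :
    @Module.finrank k' (Coh.HH (Curv2.bc k X k')
        ((Scheme.Modules.pullback (Curv2.bcFst k X k')).obj F) i) _ _
        (@Coh.moduleOver k' _ (Curv2.bc k X k') ⟨Curv2.bcSnd k X k'⟩ _ i) =
      Module.finrank k (Coh.HH X F i) := by
  letI : (Curv2.bc k X k').Over (Spec (CommRingCat.of k')) := ⟨Curv2.bcSnd k X k'⟩
  haveI : CompactSpace X :=
    QuasiCompact.compactSpace_of_compactSpace (X ↘ (Spec (CommRingCat.of k)))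
  exact finrank_HH_baseChange k k' (Curv2.bcFst k X k') (IsPullback.of_hasPullback _ _) F i

theorem main7673 (F : X.Modules) (hF : Coh.IsCoh F) :
    @Curv2.euler k' _ (Curv2.bc k X k') ⟨Curv2.bcSnd k X k'⟩
        ((Scheme.Modules.pullback (Curv2.bcFst k X k')).obj F) = Curv2.euler k X F := by
  haveI := hF.1
  unfold Curv2.euler
  refine finsum_congr (fun i => ?_)
  rw [finrank_bc k X k' F i]

end Apps

end Groth.Agent.Helper13.FieldBC
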