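import Mathlib
import Groth.Prelude.Def_MoreMor
import Groth.Prelude.Def_BlowUp2
import Groth.Agent.Lib.Lead.AmpleFam
import Groth.Agent.Lib.Helper13.SemiLocal6
import Groth.Agent.Lib.Helper13.AmpleRestrict
import Groth.Agent.Lib.Helper13.AmpleBasis
import Groth.Agent.Lib.Helper13.GenLocusAffine
import Groth.Agent.Lib.Helper13.GenLocusTensor
import Groth.Agent.Lib.Helper13.GenLocusQcqs
import Groth.Agent.Lib.Helper13.EffCartierPartA

/-!
# Ample families from ample modules on complements of effective Cartier divisors (helper13)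

* `isAffineHom_compl_support`: the complement of an effective Cartier divisor is affine over `X`;
* `compactSpace_of_cover`, `quasiSeparatedSpace_of_cover`: if finitely many effective Cartier
  divisors have empty intersection and their complements carry ample modules, `X` is qcqs;
* `exists_affine_genLocus`: if `L|_{X∖D}` is ample, every point off `D` lies in an affine `X_s` for
  a global section `s` of an invertible module.
-/

set_option autoImplicit false
universe u
open CategoryTheory CategoryTheory.Limits AlgebraicGeometry Opposite TopologicalSpace TensorProduct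
open Groth.Agent.Helper13.QCoh Groth.Agent.Helper13.FinType Groth.Agent.Helper13.Tensor
open Groth.Agent.Helper13.Inv Groth.Agent.Helper13.GenLoc Groth.Agent.Helper13.Qcqs
open Groth.Agent.Helper13.Twist Groth.Agent.Helper13.GlobGen Groth.Agent.Helper13.Ample
open Groth.Agent.Helper13.SemiLocal

namespace Groth.Agent.Helper13.AmpleFamDiv

variable {X : Scheme.{u}}

/-- the complement of an effective Cartier divisor is affine over `X`. -/
theorem isAffineHom_compl_support (𝓘 : X.IdealSheafData) (hC : BlowUp.IsEffCartierIdeal 𝓘) :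
    IsAffineHom (Scheme.Opens.ι 𝓘.support.compl) := by
  apply isAffineHom_of_forall_exists_isAffineOpen
  intro x
  obtain ⟨V, hxV, f, -, hf⟩ := hC x
  refine ⟨V.1, hxV, V.2, ?_⟩
  rw [← Scheme.Hom.isAffineOpen_iff_of_isOpenImmersion (Scheme.Opens.ι 𝓘.support.compl)]
  have h : (Scheme.Opens.ι 𝓘.support.compl) ''ᵁ ((Scheme.Opens.ι 𝓘.support.compl) ⁻¹ᵁ V.1) =
      X.basicOpen f := by
    rw [Scheme.Hom.image_preimage_eq_opensRange_inf, Scheme.Opens.opensRange_ι]
    ext y
    constructor
    · rintro ⟨hy1, hyV⟩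
      by_contra hyf
      apply hy1
      change y ∈ 𝓘.support
      rw [Scheme.IdealSheafData.mem_support_iff_of_mem (U := V) hyV, hf, Scheme.zeroLocus_span,
        Scheme.zeroLocus_singleton]
      exact hyf
    · intro hy
      exact ⟨Groth.Agent.Helper13.EffCartier.notMem_support_of_mem_basicOpen 𝓘 V f hf y hy,
        X.basicOpen_le f hy⟩
  rw [h]
  exact V.2.basicOpen f

section Cover

variable {m : ℕ} (D : Fin m → X.IdealSheafData) (hD : ∀ i, BlowUp.IsEffCartierIdeal (D i))
  (hcap : ⋂ i, ((D i).support : Set X) = ∅)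
  (L : Fin m → X.Modules)
  (hamp : ∀ i, CohB1.IsAmple ((L i).restrict (Scheme.Opens.ι (D i).support.compl)))

include hcap in
lemma iSup_compl_eq_top : ⨆ i, (D i).support.compl = ⊤ := by
  rw [eq_top_iff]
  intro x _
  by_contra hx
  have h : x ∈ ⋂ i, ((D i).support : Set X) := by
    rw [Set.mem_iInter]
    intro i
    by_contra hxi
    exact hx (Opens.mem_iSup.2 ⟨i, hxi⟩)
  rw [hcap] at h
  exact h

include hcap hamp in
lemma compactSpace_of_cover : CompactSpace X := by
  rw [← isCompact_univ_iff]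
  have h : (Set.univ : Set X) = ⋃ i, (((D i).support.compl : X.Opens) : Set X) := by
    ext x
    simp only [Set.mem_univ, Set.mem_iUnion, true_iff]
    have hx : x ∈ ⨆ i, (D i).support.compl := by
      rw [iSup_compl_eq_top D hcap]; trivial
    exact Opens.mem_iSup.1 hx
  rw [h]
  apply isCompact_iUnion
  intro i
  haveI : CompactSpace ((D i).support.compl : Scheme.{u}) := (hamp i).2.1
  exact isCompact_iff_compactSpace.2 this

include hD hcap hamp in
lemma quasiSeparatedSpace_of_cover : QuasiSeparatedSpace X := by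
  refine QuasiSeparatedSpace.of_isOpenCover (U := fun i => (D i).support.compl)
    (iSup_compl_eq_top D hcap) (fun i => ?_) (fun i => ?_)
  · haveI := isAffineHom_compl_support (D i) (hD i)
    exact IsRetrocompact_iff_isSpectralMap_subtypeVal.mpr (Scheme.Opens.ι (D i).support.compl).isSpectralMap
  · haveI : QuasiSeparatedSpace ((D i).support.compl : Scheme.{u}) :=
      quasiSeparatedSpace_of_isAmple _ (hamp i)
    exact (isQuasiSeparated_iff_quasiSeparatedSpace _ (D i).support.compl.isOpen).2 this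

end Cover

section Point

variable [CompactSpace X] [QuasiSeparatedSpace X]

/-- if `L` is ample on the complement of the effective Cartier divisor `𝓘`, every point off the
divisor lies in an affine `X_s`, `s` a global section of an invertible module. -/
theorem exists_affine_genLocus (𝓘 : X.IdealSheafData) (hC : BlowUp.IsEffCartierIdeal 𝓘)
    (L : X.Modules) (hL : PicF.IsInvertible L)
    (hamp : CohB1.IsAmple (L.restrict (Scheme.Opens.ι 𝓘.support.compl))) (x : X)
    (hx : x ∉ 𝓘.support) :
    ∃ (M : X.Modules) (s : Coh.structureModule X ⟶ M), PicF.IsInvertible M ∧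
      x ∈ CohB1.genLocus M s ∧ IsAffineOpen (CohB1.genLocus M s) := by
  obtain ⟨N, σ, hN, hxσ, hσ⟩ := Groth.Agent.Lead.AmpleFam.exists_section 𝓘 hC x hx
  have hσU : CohB1.genLocus N σ ≤ 𝓘.support.compl := fun z hz => hσ z hz
  obtain ⟨-, -, h3⟩ := hamp
  obtain ⟨n, t, hxt, htaff⟩ := h3 ⟨x, hx⟩
  have hG : PicF.IsInvertible (CohB1.tensorPow L (n + 1)) := isInvertible_tensorPow L hL (n + 1)
  have hgl : CohB1.genLocus _ (t ≫ (powRestrict (Scheme.Opens.ι 𝓘.support.compl) L (n + 1)).inv) =
      CohB1.genLocus _ t :=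
    genLocus_comp_iso t (powRestrict (Scheme.Opens.ι 𝓘.support.compl) L (n + 1)).symm
  have hVaff : IsAffineOpen ((Scheme.Opens.ι 𝓘.support.compl) ''ᵁ CohB1.genLocus _ t) :=
    htaff.image_of_isOpenImmersion (Scheme.Opens.ι 𝓘.support.compl)
  have hle : CohB1.genLocus N σ ≤ (Scheme.Opens.ι 𝓘.support.compl) ''ᵁ ⊤ := by
    rw [Scheme.Opens.ι_image_top]
    exact hσU
  haveI : (CohB1.tensorPow L (n + 1)).IsQuasicoherent := isQuasicoherent_of_isInvertible _ hG
  let τ : Γ(CohB1.tensorPow L (n + 1), (Scheme.Opens.ι 𝓘.support.compl) ''ᵁ ⊤) :=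
    sec ((CohB1.tensorPow L (n + 1)).restrict (Scheme.Opens.ι 𝓘.support.compl))
      (t ≫ (powRestrict (Scheme.Opens.ι 𝓘.support.compl) L (n + 1)).inv)
  obtain ⟨m₀, hm₀⟩ := exists_twist_eq_res_ge N hN σ (CohB1.tensorPow L (n + 1))
    (res (CohB1.tensorPow L (n + 1)) hle τ)
  obtain ⟨v, hv⟩ := hm₀ m₀ le_rfl
  have hNm : PicF.IsInvertible (CohB1.tensorPow N m₀) := isInvertible_tensorPow N hN m₀
  have hGN : PicF.IsInvertible (CohB1.tensorMod (CohB1.tensorPow L (n + 1))
      (CohB1.tensorPow N m₀)) := isInvertible_tensorMod _ _ hG hNm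
  have hM : PicF.IsInvertible (CohB1.tensorMod (CohB1.tensorMod (CohB1.tensorPow L (n + 1))
      (CohB1.tensorPow N m₀)) N) := isInvertible_tensorMod _ _ hGN hN
  have hv' : (CohB1.tensorMod (CohB1.tensorPow L (n + 1)) (CohB1.tensorPow N m₀)).presheaf.map
      (homOfLE (le_top : CohB1.genLocus N σ ≤ ⊤)).op v =
      tmul (CohB1.tensorPow L (n + 1)) (CohB1.tensorPow N m₀)
        (res (CohB1.tensorPow L (n + 1)) hle τ) (SecTwist.pow σ m₀ (CohB1.genLocus N σ)) := hv
  have hrest := isInvertible_restrict (Scheme.Opens.ι 𝓘.support.compl) _ hG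
  have key : ∀ z : X, IsGen _ (tmul (CohB1.tensorMod (CohB1.tensorPow L (n + 1))
      (CohB1.tensorPow N m₀)) N v (sec N σ)) z trivial ↔
      z ∈ CohB1.genLocus N σ ⊓ (Scheme.Opens.ι 𝓘.support.compl) ''ᵁ CohB1.genLocus _ t := by
    intro z
    rw [isGen_tmul_iff _ N hGN hN v (sec N σ) z trivial, ← mem_genLocus_iff_isGen N σ hN z]
    constructor
    · rintro ⟨h1, hz⟩
      refine ⟨hz, ?_⟩
      rw [← isGen_res _ (homOfLE (le_top : CohB1.genLocus N σ ≤ ⊤)) v z hz, hv',
        isGen_tmul_iff _ _ hG hNm] at h1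
      have h2 := h1.1
      rw [res_def, isGen_res] at h2
      obtain ⟨z', -, rfl⟩ := hle hz
      have h4 := (isGen_restrict_iff (Scheme.Opens.ι 𝓘.support.compl) _ τ z' trivial).2 h2
      have h5 : z' ∈ CohB1.genLocus _
          (t ≫ (powRestrict (Scheme.Opens.ι 𝓘.support.compl) L (n + 1)).inv) :=
        (mem_genLocus_iff_isGen _ _ hrest z').2 h4
      rw [hgl] at h5
      exact ⟨z', h5, rfl⟩
    · rintro ⟨hz, z', hz', rfl⟩
      refine ⟨?_, hz⟩
      rw [← isGen_res _ (homOfLE (le_top : CohB1.genLocus N σ ≤ ⊤)) v _ hz, hv',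
        isGen_tmul_iff _ _ hG hNm]
      refine ⟨?_, isGen_pow_of_mem_genLocus N σ m₀ _ hz⟩
      rw [res_def, isGen_res]
      rw [← hgl] at hz'
      have h3 := (mem_genLocus_iff_isGen _ _ hrest z').1 hz'
      exact (isGen_restrict_iff (Scheme.Opens.ι 𝓘.support.compl) _ τ z' trivial).1 h3
  have hloc : CohB1.genLocus _ (LocFree.homOfSec _ (tmul (CohB1.tensorMod
      (CohB1.tensorPow L (n + 1)) (CohB1.tensorPow N m₀)) N v (sec N σ))) =
      CohB1.genLocus N σ ⊓ (Scheme.Opens.ι 𝓘.support.compl) ''ᵁ CohB1.genLocus _ t := by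
    ext z
    change z ∈ CohB1.genLocus _ _ ↔ _
    rw [mem_genLocus_iff_isGen _ _ hM, sec_homOfSec]
    exact key z
  refine ⟨_, LocFree.homOfSec _ (tmul (CohB1.tensorMod (CohB1.tensorPow L (n + 1))
    (CohB1.tensorPow N m₀)) N v (sec N σ)), hM, ?_, ?_⟩
  · rw [hloc]
    exact ⟨hxσ, ⟨x, hx⟩, hxt, rfl⟩
  · rw [hloc]
    exact isAffineOpen_genLocus_inf N hN σ hVaff

end Point

end Groth.Agent.Helper13.AmpleFamDiv
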