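import Mathlib
import Groth.Prelude.Def_CohCmp
import Groth.Agent.Lib.Helper17.SC1

universe u
set_option linter.unusedSectionVars false
open CategoryTheory CategoryTheory.Limits Opposite TopologicalSpace AlgebraicGeometry
  AlgebraicGeometry.Scheme.Modules

namespace Groth.Agent.Helper13.LocLift

variable {Y : Scheme.{u}}

/-- sections over `V` as a functor to abelian groups -/
noncomputable abbrev sec (V : Y.Opens) : Y.Modules ⥤ Ab.{u} :=
  toPresheaf Y ⋙ (evaluation _ _).obj (op V)

instance (V : Y.Opens) : (sec V).PreservesZeroMorphisms := ⟨fun _ _ => rfl⟩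

noncomputable instance (V : Y.Opens) : PreservesFiniteLimits (sec V) := by
  haveI : PreservesFiniteLimits (toPresheaf Y) := PreservesLimits.preservesFiniteLimits _
  haveI : PreservesFiniteLimits ((evaluation (Opens Y)ᵒᵖ Ab.{u}).obj (op V)) :=
    ⟨fun J _ _ => inferInstance⟩
  exact comp_preservesFiniteLimits _ _

/-- a section killed by `b` lifts to a section of the kernel -/
lemma exists_kernel_section {B C : Y.Modules} (b : B ⟶ C) (V : Y.Opens)
    (t : B.presheaf.obj (op V)) (ht : b.app V t = 0) :
    ∃ t₀ : (kernel b).presheaf.obj (op V), (kernel.ι b).app V t₀ = t := by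
  let G := sec V
  let e := PreservesKernel.iso G b
  have he : e.hom ≫ kernel.ι (G.map b) = G.map (kernel.ι b) := by
    simp [e]
  have ht' : t ∈ (G.map b).hom.ker := ht
  let t₁ := (AddCommGrpCat.kernelIsoKer (G.map b)).inv ⟨t, ht'⟩
  have h1 : kernel.ι (G.map b) t₁ = t :=
    ConcreteCategory.congr_hom (AddCommGrpCat.kernelIsoKer_inv_comp_ι (G.map b)) ⟨t, ht'⟩
  refine ⟨e.inv t₁, ?_⟩
  have h2 := ConcreteCategory.congr_hom he (e.inv t₁)
  rw [ConcreteCategory.comp_apply] at h2
  have h3 : e.hom (e.inv t₁) = t₁ := by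
    rw [← ConcreteCategory.comp_apply, e.inv_hom_id]; rfl
  rw [h3, h1] at h2
  exact h2.symm

/-- local lifting of sections along an exact sequence of modules -/
theorem exists_lift_of_exact {A B C : Y.Modules} (a : A ⟶ B) (b : B ⟶ C) (w : a ≫ b = 0)
    (hex : (ShortComplex.mk a b w).Exact) (V : Y.Opens) (t : B.presheaf.obj (op V))
    (ht : b.app V t = 0) (y : Y) (hy : y ∈ V) :
    ∃ (W : Y.Opens) (hWV : W ≤ V), y ∈ W ∧ ∃ s : A.presheaf.obj (op W),
      a.app W s = B.presheaf.map (homOfLE hWV).op t := by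
  have : Epi (kernel.lift b a w) := (ShortComplex.exact_iff_epi_kernel_lift _).1 hex
  obtain ⟨t₀, ht₀⟩ := exists_kernel_section b V t ht
  obtain ⟨W, hWV, hyW, s, hs⟩ :=
    Groth.Agent.Helper17.SC1.exists_lift_of_epi (kernel.lift b a w) V t₀ y hy
  refine ⟨W, hWV, hyW, s, ?_⟩
  have h1 : a.app W s = (kernel.ι b).app W ((kernel.lift b a w).app W s) := by
    rw [← ConcreteCategory.comp_apply, ← Scheme.Modules.Hom.comp_app, kernel.lift_ι]
  rw [h1, hs, Groth.Agent.Helper17.SC1.app_naturality, ht₀]

/-- a monomorphism of modules is injective on sections -/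
theorem app_injective_of_mono {A B : Y.Modules} (a : A ⟶ B) [Mono a] (V : Y.Opens) :
    Function.Injective (a.app V) := by
  have : Mono ((sec V).map a) := inferInstance
  exact (AddCommGrpCat.mono_iff_injective ((sec V).map a)).1 this

end Groth.Agent.Helper13.LocLift
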