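import Mathlib
import Groth.Agent.Lib.Helper28.UnitClosed
import Groth.Agent.Lib.Helper28.SchSupport
import Groth.Agent.Lib.Helper13.LocLift
import Groth.Agent.Lib.Helper13.EpiStalk
import Groth.Agent.Lib.Helper13.KerSec

set_option autoImplicit false
set_option linter.unusedSectionVars false
set_option linter.style.haveILetI false
universe u
open CategoryTheory CategoryTheory.Limits AlgebraicGeometry Opposite TopologicalSpace TensorProduct
open Groth.Agent.Helper13.QCoh Groth.Agent.Helper13.FinType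
open Groth.Agent.Helper28.UnitGen Groth.Agent.Helper28.UnitClosed

namespace Groth.Agent.Helper13.AmpleUnion

section Closed

variable {Z X : Scheme.{u}} (i : Z ⟶ X) [IsClosedImmersion i] (G : X.Modules) [G.IsQuasicoherent]

/-- For a closed immersion `i` and a quasi-coherent module of finite type `G`, the kernel of the unit
`G ⟶ i_* i^* G` on sections over an affine open `U` is contained in `I(U) • G(U)`. -/
theorem mem_smul_top_of_ηsec_eq_zero [SheafOfModules.IsFiniteType (R := X.ringCatSheaf) G]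
    {U : X.Opens} (hU : IsAffineOpen U) (m : Γ(G, U)) (hm : ηsec i G U m = 0) :
    m ∈ (RingHom.ker (i.app U).hom) • (⊤ : Submodule Γ(X, U) Γ(G, U)) := by
  have hW : IsAffineOpen (i ⁻¹ᵁ U) := hU.preimage i
  letI alg : Algebra Γ(X, U) Γ(Z, i ⁻¹ᵁ U) := (i.appLE U (i ⁻¹ᵁ U) le_rfl).hom.toAlgebra
  have halg : ∀ a : Γ(X, U), algebraMap Γ(X, U) Γ(Z, i ⁻¹ᵁ U) a = i.app U a := by
    intro a
    change (i.appLE U (i ⁻¹ᵁ U) le_rfl) a = _
    rw [← Scheme.Hom.app_eq_appLE]
  have hsurjA : Function.Surjective (algebraMap Γ(X, U) Γ(Z, i ⁻¹ᵁ U)) := by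
    intro b
    obtain ⟨a, rfl⟩ := i.app_surjective U hU b
    exact ⟨a, halg a⟩
  have hker : RingHom.ker (i.app U).hom = RingHom.ker (algebraMap Γ(X, U) Γ(Z, i ⁻¹ᵁ U)) := by
    ext a
    rw [RingHom.mem_ker, RingHom.mem_ker, halg]
  rw [hker]
  set 𝔞 := RingHom.ker (algebraMap Γ(X, U) Γ(Z, i ⁻¹ᵁ U)) with h𝔞
  let e := Groth.Agent.Helper13.Pullback.sectionsPullbackEquiv i G hW hU le_rfl
  haveI : Module.Finite Γ(X, U) Γ(G, U) := finite_sections_of_isFiniteType G hU
  -- `B ⊗ N ≃ N / 𝔞 N`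
  have hS' : Function.Surjective (Algebra.ofId Γ(X, U) Γ(Z, i ⁻¹ᵁ U)) := hsurjA
  have hker' : RingHom.ker (Algebra.ofId Γ(X, U) Γ(Z, i ⁻¹ᵁ U)) = 𝔞 := Ideal.ext fun r => Iff.rfl
  let e0 := (Ideal.quotientKerAlgEquivOfSurjective hS').symm
  let ψ : (Γ(Z, i ⁻¹ᵁ U) ⊗[Γ(X, U)] Γ(G, U)) ≃ₗ[Γ(X, U)]
      (Γ(G, U) ⧸ (RingHom.ker (Algebra.ofId Γ(X, U) Γ(Z, i ⁻¹ᵁ U)) •
        (⊤ : Submodule Γ(X, U) Γ(G, U)))) :=
    (LinearEquiv.rTensor Γ(G, U) e0.toLinearEquiv).trans
      (TensorProduct.quotTensorEquivQuotSMul Γ(G, U) _)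
  let θ' : Γ(G, U) →ₗ[Γ(X, U)] (Γ(G, U) ⧸ (RingHom.ker (Algebra.ofId Γ(X, U) Γ(Z, i ⁻¹ᵁ U)) •
        (⊤ : Submodule Γ(X, U) Γ(G, U)))) :=
    { toFun := fun m => ψ (e (ηsec i G U m))
      map_add' := by
        intro a b
        rw [ηsec_add, map_add, map_add]
      map_smul' := by
        intro a m
        rw [RingHom.id_apply, ηsec_smul, ← halg a, map_smul, algebraMap_smul, map_smul] }
  have hθ' : Function.Surjective θ' := by
    intro y
    obtain ⟨t, ht⟩ := e.surjective (ψ.symm y)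
    obtain ⟨m', rfl⟩ := ηsec_surjective i G hU t
    refine ⟨m', ?_⟩
    change ψ (e (ηsec i G U m')) = y
    rw [ht, LinearEquiv.apply_symm_apply]
  have hle : (RingHom.ker (Algebra.ofId Γ(X, U) Γ(Z, i ⁻¹ᵁ U)) •
        (⊤ : Submodule Γ(X, U) Γ(G, U))) ≤ LinearMap.ker θ' := by
    rw [Submodule.smul_le]
    intro a ha n _
    rw [LinearMap.mem_ker, map_smul]
    obtain ⟨n', hn'⟩ := Submodule.Quotient.mk_surjective _ (θ' n)
    rw [← hn', ← Submodule.Quotient.mk_smul, Submodule.Quotient.mk_eq_zero]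
    exact Submodule.smul_mem_smul ha trivial
  let θ := (RingHom.ker (Algebra.ofId Γ(X, U) Γ(Z, i ⁻¹ᵁ U)) •
        (⊤ : Submodule Γ(X, U) Γ(G, U))).liftQ θ' hle
  have hθ : Function.Surjective θ := by
    intro y
    obtain ⟨n, hn⟩ := hθ' y
    exact ⟨Submodule.Quotient.mk n, hn⟩
  have hθinj := OrzechProperty.injective_of_surjective_endomorphism θ hθ
  have h0 : θ (Submodule.Quotient.mk m) = 0 := by
    change ψ (e (ηsec i G U m)) = 0
    rw [hm, map_zero, map_zero]
  have h1 : (Submodule.Quotient.mk m : Γ(G, U) ⧸ _) = 0 := hθinj (h0.trans (map_zero θ).symm)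
  rw [← hker']
  exact (Submodule.Quotient.mk_eq_zero _).1 h1

/-- the unit `G ⟶ i_* i^* G` of a closed immersion is an epimorphism (`G` quasi-coherent) -/
theorem epi_η : Epi (η i G) := by
  apply epi_of_stalkMap_surjective
  intro y m
  obtain ⟨V, hyV, s, rfl⟩ := TopCat.Presheaf.exists_germ_eq _ m
  obtain ⟨_, ⟨U, hU, rfl⟩, hyU, hUV⟩ := X.isBasis_affineOpens.exists_subset_of_mem_open hyV V.isOpen
  have hUV' : U ≤ V := hUV
  obtain ⟨a, ha⟩ := ηsec_surjective i G hU
    (((Scheme.Modules.pushforward i).obj (pb i G)).presheaf.map (homOfLE hUV').op s)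
  refine ⟨G.presheaf.germ U y hyU a, ?_⟩
  have ha' : (η i G).app U a =
    ((Scheme.Modules.pushforward i).obj (pb i G)).presheaf.map (homOfLE hUV').op s := ha
  rw [stalkMap_germ, ha', TopCat.Presheaf.germ_res_apply]

end Closed

section Kill

variable {X : Scheme.{u}} (I J : X.IdealSheafData) (M : X.Modules) [M.IsQuasicoherent]
  [SheafOfModules.IsFiniteType (R := X.ringCatSheaf) M]

/-- if `I * J = 0`, then `J` kills the kernel `I M` of `M ⟶ i_* i^* M`, `i : V(I) ⟶ X`. -/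
theorem killedByIdeal_kernel_η (hIJ : I * J = ⊥) :
    ClSub.KilledByIdeal J (kernel (η I.subschemeι M)) := by
  suffices key : ∀ (U : X.affineOpens) (b : Γ(X, U.1)), b ∈ J.ideal U →
      ∀ k : Γ(kernel (η I.subschemeι M), U.1), b • k = 0 from
    fun U b hb k => key U b hb k
  intro U b hb k
  apply Groth.Agent.Helper13.LocLift.app_injective_of_mono (kernel.ι (η I.subschemeι M)) U.1
  rw [Scheme.Modules.Hom.app_smul, map_zero]
  have h0 : ηsec I.subschemeι M U.1 ((kernel.ι (η I.subschemeι M)).app U.1 k) = 0 :=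
    Groth.Agent.Helper13.KerSec.kernel_ι_app_comp (η I.subschemeι M) U.1 k
  have h1 := mem_smul_top_of_ηsec_eq_zero I.subschemeι M U.2 _ h0
  rw [Scheme.IdealSheafData.ker_subschemeι_app] at h1
  have hmul : ∀ a ∈ I.ideal U, a * b = 0 := by
    intro a ha
    have : a * b ∈ (I * J).ideal U := by
      rw [Scheme.IdealSheafData.ideal_mul]
      exact Ideal.mul_mem_mul ha hb
    rw [hIJ, Scheme.IdealSheafData.ideal_bot] at this
    exact this
  generalize (kernel.ι (η I.subschemeι M)).app U.1 k = m at h1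
  refine Submodule.smul_induction_on h1 ?_ ?_
  · intro a ha n _
    rw [← mul_smul, mul_comm, hmul a ha, zero_smul]
  · intro x y hx hy
    rw [smul_add, hx, hy, add_zero]

end Kill

end Groth.Agent.Helper13.AmpleUnion
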