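import Mathlib
import Groth.Agent.S0028
import Groth.Agent.Lib.Helper13.SerreAmple3
import Groth.Agent.Lib.Helper13.ProjFormulaLF
import Groth.Agent.Lib.Helper13.PushEdgeSch
import Groth.Agent.Lib.Helper13.PushFinite
import Groth.Agent.Lib.Helper13.PbInv
import Groth.Agent.Lib.Helper13.PbTensor
import Groth.Agent.Lib.Helper13.PushInv5
import Groth.Agent.Lib.Helper9.AffStrat

set_option autoImplicit false
set_option linter.unusedSectionVars false
set_option linter.style.haveILetI false
universe u
open CategoryTheory CategoryTheory.Limits AlgebraicGeometry Opposite TopologicalSpace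

namespace Groth.Agent.Helper13.AmpleUnion

/-- Serre vanishing on `X` for modules pushed forward from a closed subscheme `i : Z ⟶ X` on which
`L` restricts to an ample module (`X` proper over a Noetherian affine base). -/
theorem vanishing_pushforward {X Y Z : Scheme.{u}} [IsAffine Y] [IsLocallyNoetherian Y]
    (f : X ⟶ Y) [IsProper f] (i : Z ⟶ X) [IsClosedImmersion i] (L : X.Modules)
    (hL : PicF.IsInvertible L) (hamp : CohB1.IsAmple ((Scheme.Modules.pullback i).obj L))
    (G : Z.Modules) (hG : Coh.IsCoh G) :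
    ∃ n₀ : ℕ, ∀ n : ℕ, n₀ ≤ n → ∀ p : ℕ, 0 < p →
      Subsingleton (Coh.HH X (CohB1.tensorMod ((Scheme.Modules.pushforward i).obj G)
        (CohB1.tensorPow L n)) p) := by
  haveI : G.IsQuasicoherent := hG.1
  obtain ⟨n₀, h⟩ := Groth.Agent.Helper13.SerreAmple.serre_vanishing_of_isAmple (i ≫ f)
    ((Scheme.Modules.pullback i).obj L) hamp G hG
  refine ⟨n₀, fun n hn p hp => ?_⟩
  have hinv := Groth.Agent.Helper13.Inv.isInvertible_tensorPow L hL n
  have hE : FlatMod.IsFinLocFree (CohB1.tensorPow L n) :=
    Groth.Agent.Helper13.PushInv.isFinLocFree_of_isInvertible _ hinv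
  have e := (Groth.Agent.Helper13.ProjFormulaLF.νIso i (CohB1.tensorPow L n) hE).app G
  refine Groth.Agent.Helper9.AffStrat.HH_subsingleton_of_iso e p ?_
  haveI : ((Scheme.Modules.pullback i).obj (CohB1.tensorPow L n)).IsQuasicoherent :=
    Groth.Agent.Helper13.Inv.isQuasicoherent_of_isInvertible _
      (Groth.Agent.Helper13.PbInv.isInvertible_pullback i _ hinv)
  haveI : Coh.IsQCoh (CohB1.tensorMod G
      ((Scheme.Modules.pullback i).obj (CohB1.tensorPow L n))) :=
    Groth.Agent.Helper13.Tensor.isQuasicoherent_tensorMod _ _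
  have hb := Groth.Agent.Helper13.PushEdgeSch.pushEdge_bijective i
    (CohB1.tensorMod G ((Scheme.Modules.pullback i).obj (CohB1.tensorPow L n))) p
    (fun q => Groth.Agent.S0028.result i _ (q + 1) (Nat.succ_pos q))
  haveI : Subsingleton (Coh.HH Z (CohB1.tensorMod G
      ((Scheme.Modules.pullback i).obj (CohB1.tensorPow L n))) p) :=
    Groth.Agent.Helper9.AffStrat.HH_subsingleton_of_iso
      (Groth.Agent.Helper13.Tensor.mapIso (Iso.refl G)
        (Groth.Agent.Helper13.PbTensor.pullbackPowIso i L hL n)) p (h n hn p hp)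
  exact hb.injective.subsingleton

end Groth.Agent.Helper13.AmpleUnion
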