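import Mathlib
import Groth.Agent.Lib.Helper13.AmpleUnion1
import Groth.Agent.Lib.Helper13.AmpleUnion2
import Groth.Agent.Lib.Helper13.SerreAmple2
import Groth.Agent.Lib.Helper13.SerreCrit3
import Groth.Agent.Lib.Helper13.TwistSES
import Groth.Agent.Lib.Helper13.AcycEmbed
import Groth.Agent.Lib.Helper24.CohExt2

set_option autoImplicit false
set_option linter.unusedSectionVars false
set_option linter.style.haveILetI false
universe u
open CategoryTheory CategoryTheory.Limits AlgebraicGeometry Opposite TopologicalSpace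
open Groth.Agent.Helper28.UnitGen

namespace Groth.Agent.Helper13.AmpleUnion

/-- **Ampleness on a union**: if `I * J = 0` and `L` is ample on `V(I)` and on `V(J)`, then `L` is
ample (`X` proper over an affine Noetherian scheme). -/
theorem isAmple_of_ideal_mul_eq_bot {X Y : Scheme.{u}} [IsAffine Y] [IsLocallyNoetherian Y]
    (f : X ⟶ Y) [IsProper f] (L : X.Modules) (hL : PicF.IsInvertible L)
    (I J : X.IdealSheafData) (hIJ : I * J = ⊥)
    (hI : CohB1.IsAmple ((Scheme.Modules.pullback I.subschemeι).obj L))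
    (hJ : CohB1.IsAmple ((Scheme.Modules.pullback J.subschemeι).obj L)) :
    CohB1.IsAmple L := by
  haveI : IsLocallyNoetherian X := LocallyOfFiniteType.isLocallyNoetherian f
  haveI : CompactSpace X := QuasiCompact.compactSpace_of_compactSpace f
  apply Groth.Agent.Helper13.SerreAmple.isAmple_of_H1_vanishing L hL
  intro M hM
  haveI : M.IsQuasicoherent := hM.1
  haveI : SheafOfModules.IsFiniteType (R := X.ringCatSheaf) M := hM.2
  haveI := epi_η I.subschemeι M
  have hS := Groth.Agent.Helper13.SerreCrit.kerSC_shortExact (η I.subschemeι M)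
  -- the quotient
  have hG3 : Coh.IsCoh (pb I.subschemeι M) := ⟨inferInstance, inferInstance⟩
  obtain ⟨n₃, h₃⟩ := vanishing_pushforward f I.subschemeι L hL hI _ hG3
  -- the kernel
  haveI : (pb I.subschemeι M).IsQuasicoherent := hG3.1
  haveI : SheafOfModules.IsFiniteType (R := I.subscheme.ringCatSheaf) (pb I.subschemeι M) := hG3.2
  have hpush : Coh.IsCoh ((Scheme.Modules.pushforward I.subschemeι).obj (pb I.subschemeι M)) :=
    ⟨Groth.Agent.Helper13.QCohPush.isQuasicoherent_pushforward I.subschemeι _,
      (Groth.Agent.Helper13.PushFinite.isFiniteType_pushforward_iff I.subschemeι _).1 inferInstance⟩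
  have hK : Coh.IsCoh (kernel (η I.subschemeι M)) :=
    Groth.Agent.Helper24.CohExt.isCoh_kernel hM hpush _
  have hkill := killedByIdeal_kernel_η I J M hIJ
  obtain ⟨G, hG, ⟨θ⟩⟩ : ∃ G : J.subscheme.Modules, Coh.IsCoh G ∧
      Nonempty ((Scheme.Modules.pushforward J.subschemeι).obj G ≅ kernel (η I.subschemeι M)) := by
    generalize kernel (η I.subschemeι M) = F at hK hkill
    haveI : F.IsQuasicoherent := hK.1
    haveI : SheafOfModules.IsFiniteType (R := X.ringCatSheaf) F := hK.2
    exact Groth.Agent.Helper28.SchSupport.exists_pushforward_iso F J.subschemeι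
      (by rw [Scheme.IdealSheafData.ker_subschemeι]; exact hkill)
  obtain ⟨n₁, h₁⟩ := vanishing_pushforward f J.subschemeι L hL hJ G hG
  refine ⟨max n₁ n₃, fun n hn => ?_⟩
  have hSn := Groth.Agent.Helper13.TwistSES.tensorSC_shortExact _ hS (CohB1.tensorPow L n)
    (Groth.Agent.Helper13.Inv.isInvertible_tensorPow L hL n)
  exact Groth.Agent.Helper13.AcycEmbed.HH_subsingleton_of_shortExact _ hSn 1
    (Groth.Agent.Helper9.AffStrat.HH_subsingleton_of_iso
      (Groth.Agent.Helper13.Tensor.mapIso θ.symm (Iso.refl _)) 1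
      (h₁ n ((le_max_left _ _).trans hn) 1 one_pos))
    (h₃ n ((le_max_right _ _).trans hn) 1 one_pos)

end Groth.Agent.Helper13.AmpleUnion
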