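import Mathlib
import Groth.Agent.Lib.Helper13.AmpleUnion3
import Groth.Agent.Lib.Helper13.RelAmpleIdeals
import Groth.Agent.Lib.Helper13.PbAmple

set_option autoImplicit false
set_option linter.unusedSectionVars false
set_option linter.style.haveILetI false
universe u
open CategoryTheory CategoryTheory.Limits AlgebraicGeometry Opposite TopologicalSpace
open Groth.Agent.Helper28.UnitGen
open scoped ZeroObject

namespace Groth.Agent.Helper13.AmpleUnion

section Kill

variable {X : Scheme.{u}}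

/-- if `𝔍 * J` kills `M`, then `𝔍` kills the kernel `J M` of `M ⟶ i_* i^* M`, `i : V(J) ⟶ X`. -/
theorem killedByIdeal_kernel_η_of_mul (𝔍 J : X.IdealSheafData) (M : X.Modules) [M.IsQuasicoherent]
    [SheafOfModules.IsFiniteType (R := X.ringCatSheaf) M] (hM : ClSub.KilledByIdeal (𝔍 * J) M) :
    ClSub.KilledByIdeal 𝔍 (kernel (η J.subschemeι M)) := by
  suffices key : ∀ (U : X.affineOpens) (b : Γ(X, U.1)), b ∈ 𝔍.ideal U →
      ∀ k : Γ(kernel (η J.subschemeι M), U.1), b • k = 0 from
    fun U b hb k => key U b hb k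
  intro U b hb k
  apply Groth.Agent.Helper13.LocLift.app_injective_of_mono (kernel.ι (η J.subschemeι M)) U.1
  rw [Scheme.Modules.Hom.app_smul, map_zero]
  have h0 : ηsec J.subschemeι M U.1 ((kernel.ι (η J.subschemeι M)).app U.1 k) = 0 :=
    Groth.Agent.Helper13.KerSec.kernel_ι_app_comp (η J.subschemeι M) U.1 k
  have h1 := mem_smul_top_of_ηsec_eq_zero J.subschemeι M U.2 _ h0
  rw [Scheme.IdealSheafData.ker_subschemeι_app] at h1
  have hmul : ∀ a ∈ J.ideal U, ∀ n : Γ(M, U.1), (b * a) • n = 0 := by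
    intro a ha n
    have hmem : b * a ∈ (𝔍 * J).ideal U := by
      rw [Scheme.IdealSheafData.ideal_mul]
      exact Ideal.mul_mem_mul hb ha
    exact hM U (b * a) hmem n
  generalize (kernel.ι (η J.subschemeι M)).app U.1 k = m at h1
  refine Submodule.smul_induction_on h1 ?_ ?_
  · intro a ha n _
    rw [← mul_smul, hmul a ha n]
  · intro x y hx hy
    rw [smul_add, hx, hy, add_zero]

/-- a module pushed forward from `V(J)` is killed by `J`. -/
theorem killedByIdeal_pushforward (J : X.IdealSheafData) (G : J.subscheme.Modules) :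
    ClSub.KilledByIdeal J ((Scheme.Modules.pushforward J.subschemeι).obj G) := by
  intro U a ha s
  have h0 : J.subschemeι.app U.1 a = 0 := by
    rw [← Scheme.IdealSheafData.ker_subschemeι_app] at ha
    exact ha
  change (J.subschemeι.app U.1 a) • (show Γ(G, J.subschemeι ⁻¹ᵁ U.1) from s) = 0
  rw [h0, zero_smul]

/-- a module killed by the unit ideal is zero. -/
theorem isZero_of_killedByIdeal_top (M : X.Modules) (hM : ClSub.KilledByIdeal ⊤ M) : IsZero M := by
  have hsub : ∀ V : X.Opens, IsAffineOpen V → Subsingleton Γ(M, V) := by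
    intro V hV
    refine subsingleton_of_forall_eq 0 fun m => ?_
    have h1 : (1 : Γ(X, V)) • m = 0 := hM ⟨V, hV⟩ 1 trivial m
    rwa [one_smul] at h1
  haveI : IsIso (0 : M ⟶ 0) := by
    apply Groth.Agent.Helper13.LocFree.isIso_of_app_bijective_of_isBasis _ X.isBasis_affineOpens
    intro V hV
    haveI := hsub V hV
    haveI : Subsingleton Γ((0 : X.Modules), V) :=
      Groth.Agent.Helper13.RelAmpleIdeals.subsingleton_sections_of_isZero _ (isZero_zero _) V
    exact ⟨fun a b _ => Subsingleton.elim a b, fun b => ⟨0, Subsingleton.elim _ _⟩⟩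
  exact IsZero.of_iso (isZero_zero _) (asIso (0 : M ⟶ 0))

end Kill

section Vanish

variable {X : Scheme.{u}} (L : X.Modules)

/-- `H^1`-vanishing of large twists for all coherent modules killed by `𝔍`. -/
def VanishesOn (𝔍 : X.IdealSheafData) : Prop :=
  ∀ M : X.Modules, Coh.IsCoh M → ClSub.KilledByIdeal 𝔍 M → ∃ n₀ : ℕ, ∀ n : ℕ, n₀ ≤ n →
    Subsingleton (Coh.HH X (CohB1.tensorMod M (CohB1.tensorPow L n)) 1)

variable {L}

lemma VanishesOn.mono {𝔍 𝔍' : X.IdealSheafData} (h : 𝔍' ≤ 𝔍) (hP : VanishesOn L 𝔍') :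
    VanishesOn L 𝔍 :=
  fun M hM hk => hP M hM (fun U a ha m => hk U a (h U ha) m)

lemma vanishesOn_top : VanishesOn L (⊤ : X.IdealSheafData) := by
  intro M _ hk
  refine ⟨0, fun n _ => ?_⟩
  have hZ := isZero_of_killedByIdeal_top M hk
  apply Groth.Agent.Helper13.AcycEmbed.subsingleton_HH_of_isZero
  rw [IsZero.iff_id_eq_zero, ← Groth.Agent.Helper13.Tensor.map_id,
    hZ.eq_of_src (𝟙 M) 0, Groth.Agent.Helper13.TwistSES.map_zero_left]

lemma vanishesOn_mul [IsLocallyNoetherian X] (hL : PicF.IsInvertible L) {𝔍 𝔍' : X.IdealSheafData}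
    (h : VanishesOn L 𝔍) (h' : VanishesOn L 𝔍') : VanishesOn L (𝔍 * 𝔍') := by
  intro M hM hk
  haveI : M.IsQuasicoherent := hM.1
  haveI : SheafOfModules.IsFiniteType (R := X.ringCatSheaf) M := hM.2
  haveI := epi_η 𝔍'.subschemeι M
  have hS := Groth.Agent.Helper13.SerreCrit.kerSC_shortExact (η 𝔍'.subschemeι M)
  have hG3 : Coh.IsCoh (pb 𝔍'.subschemeι M) := ⟨inferInstance, inferInstance⟩
  haveI : (pb 𝔍'.subschemeι M).IsQuasicoherent := hG3.1
  haveI : SheafOfModules.IsFiniteType (R := 𝔍'.subscheme.ringCatSheaf) (pb 𝔍'.subschemeι M) := hG3.2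
  have hpush : Coh.IsCoh ((Scheme.Modules.pushforward 𝔍'.subschemeι).obj (pb 𝔍'.subschemeι M)) :=
    ⟨Groth.Agent.Helper13.QCohPush.isQuasicoherent_pushforward 𝔍'.subschemeι _,
      (Groth.Agent.Helper13.PushFinite.isFiniteType_pushforward_iff 𝔍'.subschemeι _).1 inferInstance⟩
  have hK : Coh.IsCoh (kernel (η 𝔍'.subschemeι M)) :=
    Groth.Agent.Helper24.CohExt.isCoh_kernel hM hpush _
  obtain ⟨n₁, h₁⟩ := h _ hK (killedByIdeal_kernel_η_of_mul 𝔍 𝔍' M hk)
  obtain ⟨n₃, h₃⟩ := h' _ hpush (killedByIdeal_pushforward 𝔍' _)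
  refine ⟨max n₁ n₃, fun n hn => ?_⟩
  have hSn := Groth.Agent.Helper13.TwistSES.tensorSC_shortExact _ hS (CohB1.tensorPow L n)
    (Groth.Agent.Helper13.Inv.isInvertible_tensorPow L hL n)
  exact Groth.Agent.Helper13.AcycEmbed.HH_subsingleton_of_shortExact _ hSn 1
    (h₁ n ((le_max_left _ _).trans hn)) (h₃ n ((le_max_right _ _).trans hn))

lemma vanishesOn_pow [IsLocallyNoetherian X] (hL : PicF.IsInvertible L) {𝔍 : X.IdealSheafData}
    (h : VanishesOn L 𝔍) (m : ℕ) : VanishesOn L (𝔍 ^ m) := by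
  induction m with
  | zero => rw [pow_zero]; exact vanishesOn_top
  | succ m ih => rw [pow_succ]; exact vanishesOn_mul hL ih h

lemma vanishesOn_prod [IsLocallyNoetherian X] (hL : PicF.IsInvertible L) {ι : Type*}
    (s : Finset ι) (𝔍 : ι → X.IdealSheafData) (h : ∀ i ∈ s, VanishesOn L (𝔍 i)) :
    VanishesOn L (∏ i ∈ s, 𝔍 i) := by
  classical
  induction s using Finset.induction_on with
  | empty => rw [Finset.prod_empty]; exact vanishesOn_top
  | insert a s ha ih =>
    rw [Finset.prod_insert ha]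
    exact vanishesOn_mul hL (h a (Finset.mem_insert_self a s))
      (ih fun i hi => h i (Finset.mem_insert_of_mem hi))

/-- Serre vanishing on the closed subscheme `V(J)` gives vanishing for modules killed by `J`. -/
lemma vanishesOn_of_isAmple {Y : Scheme.{u}} [IsAffine Y] [IsLocallyNoetherian Y]
    (f : X ⟶ Y) [IsProper f] (hL : PicF.IsInvertible L) (J : X.IdealSheafData)
    (hJ : CohB1.IsAmple ((Scheme.Modules.pullback J.subschemeι).obj L)) : VanishesOn L J := by
  intro M hM hk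
  haveI : M.IsQuasicoherent := hM.1
  haveI : SheafOfModules.IsFiniteType (R := X.ringCatSheaf) M := hM.2
  obtain ⟨G, hG, ⟨θ⟩⟩ := Groth.Agent.Helper28.SchSupport.exists_pushforward_iso M J.subschemeι
    (by rw [Scheme.IdealSheafData.ker_subschemeι]; exact hk)
  obtain ⟨n₁, h₁⟩ := vanishing_pushforward f J.subschemeι L hL hJ G hG
  refine ⟨n₁, fun n hn => ?_⟩
  exact Groth.Agent.Helper9.AffStrat.HH_subsingleton_of_iso
    (Groth.Agent.Helper13.Tensor.mapIso θ.symm (Iso.refl _)) 1 (h₁ n hn 1 one_pos)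

lemma isAmple_of_vanishesOn_bot [IsLocallyNoetherian X] [CompactSpace X]
    (hL : PicF.IsInvertible L) (h : VanishesOn L (⊥ : X.IdealSheafData)) : CohB1.IsAmple L := by
  apply Groth.Agent.Helper13.SerreAmple.isAmple_of_H1_vanishing L hL
  intro M hM
  refine h M hM (fun U a ha m => ?_)
  have ha0 : a = 0 := by
    rw [Scheme.IdealSheafData.ideal_bot] at ha
    exact ha
  rw [ha0, zero_smul]

end Vanish

end Groth.Agent.Helper13.AmpleUnion
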