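import Mathlib
import Groth.Agent.Lib.Helper13.AmpleUnion4

set_option autoImplicit false
set_option linter.unusedSectionVars false
set_option linter.style.haveILetI false
universe u
open CategoryTheory CategoryTheory.Limits AlgebraicGeometry Opposite TopologicalSpace

namespace Groth.Agent.Helper13.AmpleUnion

section Nil

variable {X : Scheme.{u}}

/-- the nilradical of a Noetherian scheme is nilpotent. -/
theorem exists_nilradical_pow_eq_bot [IsLocallyNoetherian X] [CompactSpace X] :
    ∃ m : ℕ, X.nilradical ^ m = ⊥ := by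
  classical
  obtain ⟨t, ht⟩ := isCompact_univ.elim_finite_subcover
    (fun U : X.affineOpens => (U.1 : Set X)) (fun U => U.1.isOpen) (by
      intro x _
      obtain ⟨_, ⟨U, hU, rfl⟩, hxU, -⟩ :=
        X.isBasis_affineOpens.exists_subset_of_mem_open (Set.mem_univ x) isOpen_univ
      exact Set.mem_iUnion.2 ⟨⟨U, hU⟩, hxU⟩)
  have hnil : ∀ U : X.affineOpens, ∃ k : ℕ, (X.nilradical.ideal U) ^ k = ⊥ := by
    intro U
    haveI : IsNoetherianRing Γ(X, U.1) := IsLocallyNoetherian.component_noetherian U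
    obtain ⟨k, hk⟩ := IsNoetherianRing.isNilpotent_nilradical Γ(X, U.1)
    refine ⟨k, ?_⟩
    have h1 : X.nilradical.ideal U = nilradical Γ(X, U.1) := by
      unfold Scheme.nilradical
      rw [Scheme.IdealSheafData.radical_ideal, Scheme.IdealSheafData.ideal_bot]
      rfl
    rw [h1, hk]
    rfl
  choose k hk using hnil
  refine ⟨t.sup k, ?_⟩
  apply Scheme.IdealSheafData.ext_of_iSup_eq_top (fun U : t => U.1) ?_ ?_
  · rw [eq_top_iff]
    intro x _
    obtain ⟨U, hU, hxU⟩ := Set.mem_iUnion₂.1 (ht (Set.mem_univ x))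
    exact Opens.mem_iSup.2 ⟨⟨U, hU⟩, hxU⟩
  · intro U
    rw [Scheme.IdealSheafData.ideal_pow, Pi.pow_apply, Scheme.IdealSheafData.ideal_bot]
    have hle : k U.1 ≤ t.sup k := Finset.le_sup U.2
    exact le_bot_iff.1 ((Ideal.pow_le_pow_right hle).trans (hk U.1).le)

lemma mul_le_left' (I J : X.IdealSheafData) : I * J ≤ I := by
  rw [Scheme.IdealSheafData.le_def]
  intro U
  rw [Scheme.IdealSheafData.ideal_mul]
  change I.ideal U * J.ideal U ≤ I.ideal U
  exact Ideal.mul_le_left

lemma prod_le_of_mem {ι : Type*} (s : Finset ι) (𝔍 : ι → X.IdealSheafData) {i : ι} (hi : i ∈ s) :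
    ∏ j ∈ s, 𝔍 j ≤ 𝔍 i := by
  obtain ⟨c, hc⟩ := Finset.dvd_prod_of_mem 𝔍 hi
  rw [hc]
  exact mul_le_left' _ _

lemma pow_mono' {I J : X.IdealSheafData} (h : I ≤ J) (m : ℕ) : I ^ m ≤ J ^ m := by
  rw [Scheme.IdealSheafData.le_def]
  intro U
  rw [Scheme.IdealSheafData.ideal_pow, Scheme.IdealSheafData.ideal_pow, Pi.pow_apply, Pi.pow_apply]
  exact Ideal.pow_right_mono (h U) m

end Nil

/-- **Ampleness can be tested on the irreducible components** (with reduced structure) of a scheme
proper over a Noetherian affine base. -/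
theorem isAmple_of_irreducibleComponents {X Y : Scheme.{u}} [IsAffine Y] [IsLocallyNoetherian Y]
    (f : X ⟶ Y) [IsProper f] (L : X.Modules) (hL : PicF.IsInvertible L)
    (h : ∀ Z : Closeds X, (Z : Set X) ∈ irreducibleComponents X →
      CohB1.IsAmple ((Scheme.Modules.pullback
        (Scheme.IdealSheafData.vanishingIdeal Z).subschemeι).obj L)) :
    CohB1.IsAmple L := by
  classical
  haveI : IsLocallyNoetherian X := LocallyOfFiniteType.isLocallyNoetherian f
  haveI : CompactSpace X := QuasiCompact.compactSpace_of_compactSpace f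
  haveI : IsNoetherian X := {}
  have hfin : {Z : Closeds X | (Z : Set X) ∈ irreducibleComponents X}.Finite :=
    (finite_irreducibleComponents_of_isNoetherian (X := X)).preimage
      (SetLike.coe_injective.injOn)
  set S := hfin.toFinset with hS
  set 𝔓 : X.IdealSheafData := ∏ Z ∈ S, Scheme.IdealSheafData.vanishingIdeal Z with h𝔓
  have hP : VanishesOn L 𝔓 := by
    apply vanishesOn_prod hL
    intro Z hZ
    exact vanishesOn_of_isAmple f hL _ (h Z (hfin.mem_toFinset.1 hZ))
  have hle : 𝔓 ≤ X.nilradical := by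
    rw [← Scheme.IdealSheafData.vanishingIdeal_top,
      ← Scheme.IdealSheafData.le_support_iff_le_vanishingIdeal]
    intro x _
    have hx : x ∈ ⋃₀ irreducibleComponents X := by
      rw [sUnion_irreducibleComponents]; trivial
    obtain ⟨s, hs, hxs⟩ := hx
    let Z₀ : Closeds X := ⟨s, isClosed_of_mem_irreducibleComponents s hs⟩
    have hZ₀ : Z₀ ∈ S := hfin.mem_toFinset.2 hs
    have h1 : Z₀ ≤ 𝔓.support := by
      rw [Scheme.IdealSheafData.le_support_iff_le_vanishingIdeal]
      exact prod_le_of_mem S _ hZ₀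
    exact h1 hxs
  obtain ⟨m, hm⟩ := exists_nilradical_pow_eq_bot (X := X)
  have hPm : VanishesOn L (𝔓 ^ m) := vanishesOn_pow hL hP m
  have hbot : 𝔓 ^ m ≤ ⊥ := hm ▸ pow_mono' hle m
  exact isAmple_of_vanishesOn_bot hL (hPm.mono hbot)

end Groth.Agent.Helper13.AmpleUnion
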