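import Mathlib
import Groth.Agent.Lib.Helper13.QCohWeakAss2
import Groth.Agent.Lib.Helper13.LocFree

set_option autoImplicit false
universe u
open CategoryTheory CategoryTheory.Limits AlgebraicGeometry Opposite TopologicalSpace
open Groth.Agent.Helper13.QCoh Groth.Agent.Helper13.LocFree

namespace Groth.Agent.Helper13.WeakAssRestrict

variable {X Y : Scheme.{u}} (f : Y ⟶ X) [IsOpenImmersion f]

lemma appIso_hom_surjective (W' : Y.Opens) : Function.Surjective (f.appIso W').hom.hom := by
  intro b
  exact ⟨(f.appIso W').inv b,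
    congrArg (fun φ => φ b) (CommRingCat.hom_ext_iff.1 (f.appIso W').inv_hom_id)⟩

/-- under an open immersion the prime of `f y` in `f ''ᵁ W'` corresponds to the prime of `y`. -/
lemma primeIdealOf_image {W' : Y.Opens} (hW' : IsAffineOpen W') (y : Y) (hy : y ∈ W') :
    ((hW'.image_of_isOpenImmersion f).primeIdealOf ⟨f y, ⟨y, hy, rfl⟩⟩).asIdeal =
      (hW'.primeIdealOf ⟨y, hy⟩).asIdeal.comap (f.appIso W').hom.hom := by
  ext a
  rw [Ideal.mem_comap, ← not_iff_not,
    ← mem_basicOpen_iff_notMem_primeIdealOf (hW'.image_of_isOpenImmersion f) (f y) ⟨y, hy, rfl⟩ a,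
    ← mem_basicOpen_iff_notMem_primeIdealOf hW' y hy]
  have h1 : f ''ᵁ Y.basicOpen ((f.appIso W').hom a) = X.basicOpen a := by
    rw [Scheme.image_basicOpen]
    congr 1
    exact congrArg (fun φ => φ a) (CommRingCat.hom_ext_iff.1 (f.appIso W').hom_inv_id)
  rw [← h1]
  constructor
  · rintro ⟨z, hz, hzy⟩
    have : z = y := f.isOpenEmbedding.injective hzy
    rw [← this]
    exact hz
  · intro h
    exact ⟨y, h, rfl⟩

variable (M : X.Modules)

/-- a section of `M` over `f ''ᵁ W'` viewed as a section of the restriction. -/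
def toRes {W' : Y.Opens} (t : Γ(M, f ''ᵁ W')) : Γ(M.restrict f, W') := t

lemma annSec_restrict {W' : Y.Opens} (t : Γ(M, f ''ᵁ W')) :
    annSec M t = (annSec (M.restrict f) (toRes f M t)).comap (f.appIso W').hom.hom := by
  ext a
  rw [Ideal.mem_comap, mem_annSec, mem_annSec]
  have := modRestrict_smul f M W' a t
  constructor
  · intro h
    exact this.trans h
  · intro h
    exact this.symm.trans h

theorem isWeakAssPoint_restrict_iff [M.IsQuasicoherent] (y : Y) :
    Curv2.IsWeakAssPoint (M.restrict f) y ↔ Curv2.IsWeakAssPoint M (f y) := by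
  obtain ⟨_, ⟨W', hW', rfl⟩, hyW', -⟩ :=
    Y.isBasis_affineOpens.exists_subset_of_mem_open (Set.mem_univ y) isOpen_univ
  have hW'' : IsAffineOpen W' := hW'
  have hW := hW''.image_of_isOpenImmersion f
  have hyW : f y ∈ f ''ᵁ W' := ⟨y, hyW', rfl⟩
  rw [isWeakAssPoint_iff_exists_mem_minimalPrimes (M.restrict f) hW'' y hyW',
    isWeakAssPoint_iff_exists_mem_minimalPrimes M hW (f y) hyW]
  have hsurj := appIso_hom_surjective f W'
  have hinj : Function.Injective (Ideal.comap (f.appIso W').hom.hom) :=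
    Ideal.comap_injective_of_surjective _ hsurj
  constructor
  · rintro ⟨t, ht⟩
    refine ⟨(show Γ(M, f ''ᵁ W') from t), ?_⟩
    rw [annSec_restrict f M, primeIdealOf_image f hW'' y hyW']
    exact Ideal.minimalPrimes_comap_of_surjective hsurj ht
  · rintro ⟨t, ht⟩
    refine ⟨toRes f M t, ?_⟩
    rw [annSec_restrict f M, primeIdealOf_image f hW'' y hyW',
      Ideal.comap_minimalPrimes_eq_of_surjective hsurj] at ht
    obtain ⟨q, hq, hqe⟩ := ht
    have := hinj hqe
    rwa [this] at hq

/-- weak associatedness is invariant under isomorphisms (quasi-coherent case). -/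
theorem isWeakAssPoint_of_iso {M M' : X.Modules} [M.IsQuasicoherent] [M'.IsQuasicoherent]
    (e : M ≅ M') (x : X) (h : Curv2.IsWeakAssPoint M x) : Curv2.IsWeakAssPoint M' x := by
  obtain ⟨_, ⟨W, hW, rfl⟩, hxW, -⟩ :=
    X.isBasis_affineOpens.exists_subset_of_mem_open (Set.mem_univ x) isOpen_univ
  have hW' : IsAffineOpen W := hW
  rw [isWeakAssPoint_iff_exists_mem_minimalPrimes _ hW' x hxW] at h ⊢
  obtain ⟨t, ht⟩ := h
  refine ⟨appLinearEquiv e W t, ?_⟩
  have : annSec M' (appLinearEquiv e W t) = annSec M t := by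
    ext a
    rw [mem_annSec, mem_annSec, ← map_smul]
    exact (appLinearEquiv e W).map_eq_zero_iff
  rwa [this]

end Groth.Agent.Helper13.WeakAssRestrict
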