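import Mathlib
import Groth.Prelude.Def_ClSub2
import Groth.Agent.Lib.Helper13.AssMono
import Groth.Agent.Lib.Helper13.WeakAssRestrict
import Groth.Agent.Lib.Helper13.FreeMod
import Groth.Agent.Lib.Helper13.EpiStalk
import Groth.Agent.Lib.Helper13.QCohPush
import Groth.Agent.Lib.Helper28.CohACC

/-!
# Associated points and monomorphisms from the reduced closure (helper13)

* `eq_zero_of_app_affine`, `epi_of_app_surjective`: morphisms of modules tested on affine opens;
* `exists_mono_of_ker_eq`: if `c : A ⟶ N` is an epimorphism and `h : A ⟶ M` has the same kernel on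
  sections over affine opens, then `h` factors as `c` followed by a monomorphism;
* `secHom`: the morphism `O_Y ⟶ M|_Y` attached to a section of `M` over an open containing `Y`;
* `exists_mono_restrict`: if `x` lies in the affine open `W` and `n ∈ Γ(F, W)` has annihilator the
  prime of `x`, there is a monomorphism `(i_* O_Z)|_W ⟶ F|_W`, `Z` the reduced closure of `x`;
* `isWeakAssPoint_of_mono`: conversely a monomorphism `(i_* O_Z)|_Y ⟶ F|_Y` over an open
  neighbourhood `Y` of `x` makes `x` a (weakly) associated point of `F`.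
-/

set_option autoImplicit false
universe u
open CategoryTheory CategoryTheory.Limits AlgebraicGeometry Opposite TopologicalSpace
open Groth.Agent.Helper13.QCoh Groth.Agent.Helper13.FinType

namespace Groth.Agent.Helper13.AssMono

section General

variable {Y : Scheme.{u}}

/-- a morphism of modules vanishing on sections over all affine opens is zero. -/
theorem eq_zero_of_app_affine {A B : Y.Modules} (φ : A ⟶ B)
    (h : ∀ V : Y.Opens, IsAffineOpen V → ∀ s : Γ(A, V), φ.app V s = 0) : φ = 0 := by
  apply hom_ext_stalk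
  intro y m
  rw [Groth.Agent.Helper13.PbInv.stalkMap_zero]
  obtain ⟨U, hyU, t, rfl⟩ := TopCat.Presheaf.exists_germ_eq A.presheaf m
  obtain ⟨_, ⟨V, hV, rfl⟩, hyV, hVU⟩ :=
    Y.isBasis_affineOpens.exists_subset_of_mem_open hyU U.isOpen
  have hV' : IsAffineOpen V := hV
  have e := TopCat.Presheaf.germ_res_apply A.presheaf (homOfLE hVU) y hyV t
  rw [← e, stalkMap_germ, h V hV', map_zero]

/-- a morphism to a quasi-coherent module which is surjective on sections over affine opens is an
epimorphism. -/
theorem epi_of_app_surjective {A B : Y.Modules} [B.IsQuasicoherent] (φ : A ⟶ B)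
    (h : ∀ V : Y.Opens, IsAffineOpen V → Function.Surjective (φ.app V)) : Epi φ := by
  apply epi_of_stalkMap_surjective
  intro y
  obtain ⟨_, ⟨V, hV, rfl⟩, hyV, -⟩ :=
    Y.isBasis_affineOpens.exists_subset_of_mem_open (Set.mem_univ y) isOpen_univ
  have hV' : IsAffineOpen V := hV
  exact Groth.Agent.Helper28.CohACC.stalkMap_surjective_of_app_surjective φ hV' (h V hV') y hyV

/-- if `c` is an epimorphism and `h` has the same kernel as `c` on sections over affine opens,
then `h = c ≫ β` with `β` a monomorphism. -/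
theorem exists_mono_of_ker_eq {A M N : Y.Modules} (h : A ⟶ M) (c : A ⟶ N) [Epi c]
    (hk : ∀ V : Y.Opens, IsAffineOpen V → ∀ a : Γ(A, V), h.app V a = 0 ↔ c.app V a = 0) :
    ∃ β : N ⟶ M, Mono β ∧ c ≫ β = h := by
  have w : kernel.ι c ≫ h = 0 := by
    apply eq_zero_of_app_affine
    intro V hV s
    rw [LocFree.app_comp_apply, hk V hV, ← LocFree.app_comp_apply, kernel.condition]
    rfl
  refine ⟨Abelian.epiDesc c h w, ?_, Abelian.comp_epiDesc c h w⟩
  apply Preadditive.mono_of_cancel_zero
  intro T t ht
  haveI : Epi (pullback.fst t c) := inferInstance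
  rw [← cancel_epi (pullback.fst t c), comp_zero, pullback.condition]
  apply eq_zero_of_app_affine
  intro V hV s
  rw [LocFree.app_comp_apply, ← hk V hV, ← LocFree.app_comp_apply,
    ← Abelian.comp_epiDesc c h w, ← Category.assoc, ← pullback.condition, Category.assoc, ht,
    comp_zero]
  rfl

end General

section Restrict

variable {X Y : Scheme.{u}} (f : Y ⟶ X) [IsOpenImmersion f] (M : X.Modules)

/-- a section of `M` over an open containing the image of `f`, as a global section of the
restriction. -/
noncomputable def resTop {W : X.Opens} (hW : f ''ᵁ ⊤ ≤ W) (s : Γ(M, W)) : Γ(M.restrict f, ⊤) :=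
  M.presheaf.map (homOfLE hW).op s

/-- the morphism `O_Y ⟶ M|_Y` attached to a section of `M` over `W ⊇ f(Y)`. -/
noncomputable def secHom {W : X.Opens} (hW : f ''ᵁ ⊤ ≤ W) (s : Γ(M, W)) :
    Coh.structureModule Y ⟶ M.restrict f :=
  LocFree.homOfSec (M.restrict f) (resTop f M hW s)

lemma secHom_app {W : X.Opens} (hW : f ''ᵁ ⊤ ≤ W) (s : Γ(M, W)) (V' : Y.Opens)
    (a : Γ(X, f ''ᵁ V')) :
    (secHom f M hW s).app V' (LocFree.toO V' ((f.appIso V').hom a)) =
      WeakAssRestrict.toRes f M
        (a • M.presheaf.map (homOfLE ((f.image_mono le_top).trans hW)).op s) := by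
  rw [secHom, LocFree.homOfSec_app]
  have e : (M.restrict f).presheaf.map (homOfLE (le_top : V' ≤ ⊤)).op (resTop f M hW s) =
      WeakAssRestrict.toRes f M
        (M.presheaf.map (homOfLE ((f.image_mono le_top).trans hW)).op s) := by
    change M.presheaf.map _ (M.presheaf.map _ s) = M.presheaf.map _ s
    rw [← ConcreteCategory.comp_apply, ← Functor.map_comp]
    rfl
  rw [e]
  exact LocFree.modRestrict_smul f M V' a _

end Restrict

section Main

variable {X : Scheme.{u}} (x : X)

lemma isQuasicoherent_quotMod : (ClSub.quotMod (redClosure x)).IsQuasicoherent := by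
  haveI : (Coh.structureModule (redClosure x).subscheme).IsQuasicoherent :=
    Groth.Agent.Helper13.QCoh.isQuasicoherent_unit _
  exact Groth.Agent.Helper13.QCohPush.isQuasicoherent_pushforward _ _

/-- the unit section of `i_* O_Z` over `W`. -/
noncomputable def oneSec (W : X.Opens) : Γ(ClSub.quotMod (redClosure x), W) :=
  (ClSub.unitToPush (redClosure x).subschemeι).app W (LocFree.toO W 1)

lemma res_oneSec {W V : X.Opens} (hVW : V ≤ W) :
    (ClSub.quotMod (redClosure x)).presheaf.map (homOfLE hVW).op (oneSec x W) = oneSec x V := by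
  unfold oneSec
  have h := (ClSub.unitToPush (redClosure x).subschemeι).mapPresheaf.naturality (homOfLE hVW).op
  have h2 : (ClSub.unitToPush (redClosure x).subschemeι).app V
      ((Coh.structureModule X).presheaf.map (homOfLE hVW).op (LocFree.toO W 1)) =
      (ClSub.quotMod (redClosure x)).presheaf.map (homOfLE hVW).op
        ((ClSub.unitToPush (redClosure x).subschemeι).app W (LocFree.toO W 1)) :=
    congrArg (fun ψ => ψ (LocFree.toO W 1)) h
  rw [← h2]
  congr 1
  exact map_one (X.presheaf.map (homOfLE hVW).op).hom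

lemma smul_oneSec {V : X.Opens} (a : Γ(X, V)) :
    a • oneSec x V = (ClSub.unitToPush (redClosure x).subschemeι).app V (LocFree.toO V a) := by
  unfold oneSec
  rw [← Scheme.Modules.Hom.app_smul]
  congr 1
  exact mul_one a

section Forward

variable (F : X.Modules) [F.IsQuasicoherent] {W : X.Opens} (hW : IsAffineOpen W)
  (hxW : x ∈ W) (n : Γ(F, W)) (hn : annSec F n = (hW.primeIdealOf ⟨x, hxW⟩).asIdeal)
  {Y : Scheme.{u}} (f : Y ⟶ X) [IsOpenImmersion f] (hfW : f ''ᵁ ⊤ ≤ W)

include hn in
lemma secHom_app_eq_zero_iff {V' : Y.Opens} (hV' : IsAffineOpen V')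
    (a' : Γ(Coh.structureModule Y, V')) :
    (secHom f F hfW n).app V' a' = 0 ↔
      (secHom f (ClSub.quotMod (redClosure x)) hfW (oneSec x W)).app V' a' = 0 := by
  obtain ⟨a, rfl⟩ := WeakAssRestrict.appIso_hom_surjective f V' a'
  have hV := hV'.image_of_isOpenImmersion f
  have hVW : f ''ᵁ V' ≤ W := (f.image_mono le_top).trans hfW
  have h1 := secHom_app f F hfW n V' a
  have h2 := secHom_app f (ClSub.quotMod (redClosure x)) hfW (oneSec x W) V' a
  have h3 : a • (ClSub.quotMod (redClosure x)).presheaf.map (homOfLE hVW).op (oneSec x W) =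
      (ClSub.unitToPush (redClosure x).subschemeι).app (f ''ᵁ V') (LocFree.toO _ a) := by
    rw [res_oneSec x hVW, smul_oneSec]
  constructor
  · intro h
    have h' : a • F.presheaf.map (homOfLE hVW).op n = 0 := h1.symm.trans h
    have h4 := (smul_res_eq_zero_iff F hW x hxW n hn hV hVW a).1 h'
    have h5 := (unitToPush_app_eq_zero_iff x hV a).2 h4
    exact h2.trans (h3.trans h5)
  · intro h
    have h' : a • (ClSub.quotMod (redClosure x)).presheaf.map (homOfLE hVW).op (oneSec x W) = 0 :=
      h2.symm.trans h
    have h5 := (unitToPush_app_eq_zero_iff x hV a).1 (h3.symm.trans h')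
    have h4 := (smul_res_eq_zero_iff F hW x hxW n hn hV hVW a).2 h5
    exact h1.trans h4

lemma epi_secHom_oneSec {W : X.Opens} (hfW : f ''ᵁ ⊤ ≤ W) :
    Epi (secHom f (ClSub.quotMod (redClosure x)) hfW (oneSec x W)) := by
  haveI := isQuasicoherent_quotMod x
  haveI : ((ClSub.quotMod (redClosure x)).restrict f).IsQuasicoherent := inferInstance
  apply epi_of_app_surjective
  intro V' hV' t
  have hV := hV'.image_of_isOpenImmersion f
  have hVW : f ''ᵁ V' ≤ W := (f.image_mono le_top).trans hfW
  obtain ⟨a, ha⟩ := (redClosure x).subschemeι.app_surjective (f ''ᵁ V') hV t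
  refine ⟨LocFree.toO V' ((f.appIso V').hom a), ?_⟩
  refine (secHom_app f _ hfW (oneSec x W) V' a).trans ?_
  change a • (ClSub.quotMod (redClosure x)).presheaf.map (homOfLE hVW).op (oneSec x W) = t
  rw [res_oneSec x hVW, smul_oneSec]
  exact ha

include hn hfW in
/-- if `n ∈ Γ(F, W)` has annihilator the prime of `x`, the structure sheaf of the reduced closure
of `x` embeds into `F` over (any open subscheme contained in) `W`. -/
theorem exists_mono_restrict :
    ∃ β : (ClSub.quotMod (redClosure x)).restrict f ⟶ F.restrict f, Mono β := by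
  haveI := epi_secHom_oneSec x f hfW
  obtain ⟨β, hβ, -⟩ := exists_mono_of_ker_eq (secHom f F hfW n)
    (secHom f (ClSub.quotMod (redClosure x)) hfW (oneSec x W))
    (fun V' hV' a' => secHom_app_eq_zero_iff x F hW hxW n hn f hfW hV' a')
  exact ⟨β, hβ⟩

end Forward

section Backward

variable (F : X.Modules) [F.IsQuasicoherent] {Y : Scheme.{u}} (f : Y ⟶ X) [IsOpenImmersion f]

/-- a monomorphism `(i_* O_Z)|_Y ⟶ F|_Y` over an open neighbourhood `Y` of `x` makes `x` a weakly
associated point of `F`. -/
theorem isWeakAssPoint_of_mono (y : Y) (hy : f y = x)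
    (β : (ClSub.quotMod (redClosure x)).restrict f ⟶ F.restrict f) [Mono β] :
    Curv2.IsWeakAssPoint F x := by
  obtain ⟨_, ⟨V', hV', rfl⟩, hyV', -⟩ :=
    Y.isBasis_affineOpens.exists_subset_of_mem_open (Set.mem_univ y) isOpen_univ
  have hV'' : IsAffineOpen V' := hV'
  have hV := hV''.image_of_isOpenImmersion f
  have hxV : x ∈ f ''ᵁ V' := ⟨y, hyV', hy⟩
  have hinj : Function.Injective (β.app V') := (mono_iff_app_injective β).1 inferInstance V'
  let t : Γ(F, f ''ᵁ V') := β.app V' (WeakAssRestrict.toRes f _ (oneSec x (f ''ᵁ V')))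
  have hann : annSec F t = (hV.primeIdealOf ⟨x, hxV⟩).asIdeal := by
    ext a
    rw [mem_annSec]
    have e1 : a • t = β.app V' (WeakAssRestrict.toRes f _ (a • oneSec x (f ''ᵁ V'))) := by
      have s1 := LocFree.modRestrict_smul f F V' a t
      have s2 := LocFree.modRestrict_smul f (ClSub.quotMod (redClosure x)) V' a
        (oneSec x (f ''ᵁ V'))
      refine s1.symm.trans ?_
      refine (Scheme.Modules.Hom.app_smul β ((f.appIso V').hom a)
        (WeakAssRestrict.toRes f _ (oneSec x (f ''ᵁ V')))).symm.trans ?_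
      exact congrArg (β.app V') s2
    rw [e1]
    constructor
    · intro h
      have h0 : a • oneSec x (f ''ᵁ V') = 0 := hinj (h.trans (map_zero _).symm)
      rw [smul_oneSec] at h0
      exact (unitToPush_app_eq_zero_iff x hV a).1 h0 hxV
    · intro h
      have h0 : a • oneSec x (f ''ᵁ V') = 0 := by
        rw [smul_oneSec]
        exact (unitToPush_app_eq_zero_iff x hV a).2 (fun _ => h)
      have : WeakAssRestrict.toRes f (ClSub.quotMod (redClosure x)) (a • oneSec x (f ''ᵁ V')) = 0 :=
        h0
      rw [this, map_zero]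
      rfl
  refine (isWeakAssPoint_iff_exists_mem_minimalPrimes F hV x hxV).2 ⟨t, ?_⟩
  rw [hann, Ideal.minimalPrimes_eq_subsingleton_self]
  exact Set.mem_singleton _

end Backward

end Main

end Groth.Agent.Helper13.AssMono
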