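import Mathlib
import Groth.Prelude.Def_Coh
import Groth.Prelude.Def_FDesc
import Groth.Agent.Lib.Helper13.AssMono2
import Groth.Agent.Lib.Helper13.KerSec
import Groth.Agent.S1576

/-!
# Uniqueness of the primary components at non-embedded points (helper13)

* `exists_weakAss_specializes_of_germ_ne_zero`: a section with non-zero germ at `x` has a weakly
  associated point specializing to `x`;
* modules whose only associated point is `y₀`: sections vanish away from the closure of `y₀`
  (`germ_eq_zero_of_not_specializes`, `eq_zero_of_notMem`) and are detected by their germ at `y₀`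
  (`eq_zero_of_germ_eq_zero`);
* `eq_zero_of_joint`: sections killed by a jointly monomorphic family are zero;
* `app_eq_zero_iff`: for a primary decomposition `(q y : M ⟶ G y)` of a coherent module without
  embedded points, the kernel of `q x` consists of the sections with zero germ at `x`.
-/

set_option autoImplicit false
universe u
open CategoryTheory CategoryTheory.Limits AlgebraicGeometry Opposite TopologicalSpace
open Groth.Agent.Helper13.QCoh Groth.Agent.Helper13.FinType Groth.Agent.Helper13.KerSec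

namespace Groth.Agent.Helper13.AssUniq

variable {X : Scheme.{u}}

section Support

variable (F : X.Modules) [F.IsQuasicoherent] {V : X.Opens} (hV : IsAffineOpen V)

include hV in
lemma exists_weakAss_specializes_of_germ_ne_zero (x : X) (hxV : x ∈ V) (t : Γ(F, V))
    (ht : F.presheaf.germ V x hxV t ≠ 0) :
    ∃ y, y ∈ V ∧ Curv2.IsWeakAssPoint F y ∧ y ⤳ x := by
  have hle : annSec F t ≤ (hV.primeIdealOf ⟨x, hxV⟩).asIdeal := by
    intro a ha
    rw [mem_annSec] at ha
    by_contra hna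
    have hxa : x ∈ X.basicOpen a := (mem_basicOpen_iff_notMem_primeIdealOf hV x hxV a).2 hna
    apply ht
    apply eq_zero_of_germ_smul_eq_zero F x hxV a hxa
    rw [← germ_smul, ha, map_zero]
  obtain ⟨p, hp, hpx⟩ := Ideal.exists_minimalPrimes_le hle
  have hpp : p.IsPrime := hp.1.1
  have hyV : hV.fromSpec ⟨p, hpp⟩ ∈ V := Groth.Agent.Helper13.WeakAss.fromSpec_mem hV _
  have hqe : hV.primeIdealOf ⟨hV.fromSpec ⟨p, hpp⟩, hyV⟩ = ⟨p, hpp⟩ :=
    hV.fromSpec.isOpenEmbedding.injective (hV.fromSpec_primeIdealOf ⟨hV.fromSpec ⟨p, hpp⟩, hyV⟩)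
  refine ⟨hV.fromSpec ⟨p, hpp⟩, hyV,
    (isWeakAssPoint_iff_exists_mem_minimalPrimes F hV _ hyV).2 ⟨t, by rw [hqe]; exact hp⟩, ?_⟩
  rw [← primeIdealOf_le_iff hV _ x hyV hxV, hqe]
  exact hpx

variable (y₀ : X) (hass : ∀ y, Curv2.IsWeakAssPoint F y → y = y₀)

include hV hass in
lemma germ_eq_zero_of_not_specializes (x : X) (hxV : x ∈ V) (t : Γ(F, V)) (hns : ¬ y₀ ⤳ x) :
    F.presheaf.germ V x hxV t = 0 := by
  by_contra ht
  obtain ⟨y, -, hy, hyx⟩ := exists_weakAss_specializes_of_germ_ne_zero F hV x hxV t ht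
  rw [hass y hy] at hyx
  exact hns hyx

include hV hass in
lemma eq_zero_of_notMem (hy₀ : y₀ ∉ V) (t : Γ(F, V)) : t = 0 := by
  apply TopCat.Presheaf.section_ext ⟨F.presheaf, F.isSheaf⟩
  intro x hxV
  rw [map_zero]
  by_contra ht
  obtain ⟨y, hyV, hy, -⟩ := exists_weakAss_specializes_of_germ_ne_zero F hV x hxV t ht
  rw [hass y hy] at hyV
  exact hy₀ hyV

include hV hass in
lemma eq_zero_of_germ_eq_zero [IsLocallyNoetherian X] (t : Γ(F, V))
    (ht : ∀ hx : y₀ ∈ V, F.presheaf.germ V y₀ hx t = 0) : t = 0 := by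
  haveI : IsNoetherianRing Γ(X, V) := IsLocallyNoetherian.component_noetherian ⟨V, hV⟩
  by_contra ht0
  let N : Submodule Γ(X, V) Γ(F, V) := Submodule.span Γ(X, V) {t}
  haveI : Nontrivial N :=
    ⟨⟨⟨t, Submodule.mem_span_singleton_self t⟩, 0, fun h => ht0 (congrArg Subtype.val h)⟩⟩
  obtain ⟨P, hP⟩ := associatedPrimes.nonempty Γ(X, V) N
  obtain ⟨hPp, z, hz⟩ := isAssociatedPrime_iff.1 hP
  obtain ⟨r, hr⟩ := Submodule.mem_span_singleton.1 z.2
  have hann : annSec F (z : Γ(F, V)) = P := by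
    ext a
    rw [mem_annSec, hz, Submodule.mem_colon_singleton, Submodule.mem_bot]
    constructor
    · intro h
      exact Subtype.ext h
    · intro h
      exact congrArg Subtype.val h
  have hyV : hV.fromSpec ⟨P, hPp⟩ ∈ V := Groth.Agent.Helper13.WeakAss.fromSpec_mem hV _
  have hqe : hV.primeIdealOf ⟨hV.fromSpec ⟨P, hPp⟩, hyV⟩ = ⟨P, hPp⟩ :=
    hV.fromSpec.isOpenEmbedding.injective (hV.fromSpec_primeIdealOf ⟨hV.fromSpec ⟨P, hPp⟩, hyV⟩)
  have hann' : annSec F (z : Γ(F, V)) =
      (hV.primeIdealOf ⟨hV.fromSpec ⟨P, hPp⟩, hyV⟩).asIdeal := by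
    rw [hann, hqe]
  have hyass : Curv2.IsWeakAssPoint F (hV.fromSpec ⟨P, hPp⟩) := by
    refine (isWeakAssPoint_iff_exists_mem_minimalPrimes F hV _ hyV).2 ⟨z, ?_⟩
    rw [hann', Ideal.minimalPrimes_eq_subsingleton_self]
    exact Set.mem_singleton _
  have hgne := Groth.Agent.Helper13.AssMono.germ_ne_zero F hV _ hyV z hann'
  have hy0 := hass _ hyass
  subst hy0
  apply hgne
  rw [← hr, germ_smul, ht hyV, smul_zero]

end Support

section JointKer

variable {ι : Type*} (M : X.Modules) (G : ι → X.Modules) (q : ∀ i, M ⟶ G i)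

/-- sections killed by all `q i`. -/
noncomputable def jointKerSub : PresheafOfModules.Submodule M.val where
  obj V := ⨅ i, (kerSub (q i)).obj V
  map := by
    intro V W f t ht
    rw [Submodule.mem_comap, Submodule.mem_iInf]
    intro i
    exact (kerSub (q i)).map f ((Submodule.mem_iInf _).1 ht i)

lemma mem_jointKerSub (V : X.Opens) (s : Γ(M, V)) :
    s ∈ (jointKerSub M G q).obj (op V) ↔ ∀ i, (q i).app V s = 0 := by
  constructor
  · intro h i
    have h' : (show M.val.obj (op V) from s) ∈ ⨅ i, (kerSub (q i)).obj (op V) := h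
    rw [Submodule.mem_iInf] at h'
    exact h' i
  · intro h
    show (show M.val.obj (op V) from s) ∈ ⨅ i, (kerSub (q i)).obj (op V)
    rw [Submodule.mem_iInf]
    intro i
    exact h i

lemma isLocalSub_jointKerSub : IsLocalSub M (jointKerSub M G q) := by
  intro V t h
  rw [mem_jointKerSub]
  intro i
  exact isLocalSub_kerSub (q i) V t (fun y hy => by
    obtain ⟨W, hW, hyW, hm⟩ := h y hy
    exact ⟨W, hW, hyW, (mem_jointKerSub M G q W _).1 hm i⟩)

/-- sections killed by a jointly monomorphic family vanish. -/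
theorem eq_zero_of_joint
    (hm : ∀ (T : X.Modules) (a : T ⟶ M), (∀ i, a ≫ q i = 0) → a = 0)
    (V : X.Opens) (s : Γ(M, V)) (hs : ∀ i, (q i).app V s = 0) : s = 0 := by
  have hloc := isLocalSub_jointKerSub M G q
  have hι : subsheafι M _ hloc = 0 := hm _ _ (fun i => by
    apply Scheme.Modules.hom_ext
    intro U
    ext t
    exact (mem_jointKerSub M G q U _).1 (subsheafι_app_mem M _ hloc U t) i)
  obtain ⟨t, ht⟩ := exists_of_mem M _ hloc V s ((mem_jointKerSub M G q V s).2 hs)
  rw [← ht, hι]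
  rfl

end JointKer

section Main

variable [IsLocallyNoetherian X] (M : X.Modules) (hM : Coh.IsCoh M) (hne : AssSch.NoEmbedded M)
  (G : ↥(AssSch.Ass M) → X.Modules) (q : ∀ x, M ⟶ G x)
  (hG : ∀ x, (G x).IsQuasicoherent) (hA : ∀ x, AssSch.Ass (G x) = {x.1})
  (hm : ∀ (T : X.Modules) (a : T ⟶ M), (∀ x, a ≫ q x = 0) → a = 0)

include hA in
lemma weakAss_eq (y : ↥(AssSch.Ass M)) (z : X) (hz : Curv2.IsWeakAssPoint (G y) z) : z = y.1 := by
  have h : z ∈ AssSch.Ass (G y) := (isAssPoint_iff_isWeakAssPoint _ z).2 hz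
  rw [hA y] at h
  exact h

include hM hne hG hA hm in
/-- in a primary decomposition without embedded points, a section killed by `q x` has zero germ at
`x`. -/
theorem germ_eq_zero_of_app_eq_zero (x : ↥(AssSch.Ass M)) {V : X.Opens} (hV : IsAffineOpen V)
    (hxV : x.1 ∈ V) (s : Γ(M, V)) (hs : (q x).app V s = 0) :
    M.presheaf.germ V x.1 hxV s = 0 := by
  classical
  haveI : M.IsQuasicoherent := hM.1
  have hfin := Groth.Agent.S1576.finite_ass_affine X M hM hV
  have key : ∀ y : ↥(AssSch.Ass M), y ≠ x →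
      ∃ a : Γ(X, V), x.1 ∈ X.basicOpen a ∧ a • (q y).app V s = 0 := by
    intro y hyx
    haveI := hG y
    have hns : ¬ y.1 ⤳ x.1 := fun hsp => hyx (Subtype.ext (hne x.1 x.2 y.1 y.2 hsp).symm)
    have hg := germ_eq_zero_of_not_specializes (G y) hV y.1 (weakAss_eq M G hA y) x.1 hxV
      ((q y).app V s) hns
    exact exists_smul_eq_zero_of_germ_eq_zero (G y) hV x.1 hxV _ hg
  have hTfin : {y : ↥(AssSch.Ass M) | y.1 ∈ V}.Finite := by
    have h1 := hfin.preimage (f := (Subtype.val : ↥(AssSch.Ass M) → X))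
      Subtype.val_injective.injOn
    exact h1.subset (fun y hy => ⟨hy, y.2⟩)
  let S : Finset ↥(AssSch.Ass M) := hTfin.toFinset.erase x
  have hS : ¬ (S.inf (fun y => annSec (G y) ((q y).app V s)) ≤
      (hV.primeIdealOf ⟨x.1, hxV⟩).asIdeal) := by
    rw [(hV.primeIdealOf ⟨x.1, hxV⟩).isPrime.inf_le']
    rintro ⟨y, hyS, hle⟩
    have hyx : y ≠ x := (Finset.mem_erase.1 hyS).1
    obtain ⟨a, hxa, ha⟩ := key y hyx
    exact (mem_basicOpen_iff_notMem_primeIdealOf hV x.1 hxV a).1 hxa
      (hle ((mem_annSec _ _ a).2 ha))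
  obtain ⟨a, haS, hax⟩ := SetLike.not_le_iff_exists.1 hS
  have hxa : x.1 ∈ X.basicOpen a := (mem_basicOpen_iff_notMem_primeIdealOf hV x.1 hxV a).2 hax
  have hall : ∀ y, (q y).app V (a • s) = 0 := by
    intro y
    rw [Scheme.Modules.Hom.app_smul]
    by_cases hyx : y = x
    · rw [hyx, hs, smul_zero]
    · by_cases hyV : y.1 ∈ V
      · have hyS : y ∈ S := Finset.mem_erase.2 ⟨hyx, hTfin.mem_toFinset.2 hyV⟩
        have hle := Finset.inf_le (f := fun y => annSec (G y) ((q y).app V s)) hyS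
        exact (mem_annSec _ _ a).1 (hle haS)
      · haveI := hG y
        rw [eq_zero_of_notMem (G y) hV y.1 (weakAss_eq M G hA y) hyV ((q y).app V s), smul_zero]
  have h0 := eq_zero_of_joint M G q hm V (a • s) hall
  apply eq_zero_of_germ_smul_eq_zero M x.1 hxV a hxa
  rw [← germ_smul, h0, map_zero]

include hM hne hG hA hm in
/-- the kernel of `q x` on sections over affine opens. -/
theorem app_eq_zero_iff (x : ↥(AssSch.Ass M)) {V : X.Opens} (hV : IsAffineOpen V)
    (s : Γ(M, V)) :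
    (q x).app V s = 0 ↔ ∀ hx : x.1 ∈ V, M.presheaf.germ V x.1 hx s = 0 := by
  constructor
  · intro hs hx
    exact germ_eq_zero_of_app_eq_zero M hM hne G q hG hA hm x hV hx s hs
  · intro h
    haveI := hG x
    apply eq_zero_of_germ_eq_zero (G x) hV x.1 (weakAss_eq M G hA x)
    intro hx
    rw [← stalkMap_germ, h hx, map_zero]

end Main

end Groth.Agent.Helper13.AssUniq
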