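import Groth.Agent.Lib.Helper13.CartierMax

set_option autoImplicit false
universe u
open CategoryTheory CategoryTheory.Limits AlgebraicGeometry TopologicalSpace

namespace Groth.Agent.Helper13.CartierMax

open Groth.Agent.Helper13.WeakAss Groth.Agent.Helper13.MeroLib Groth.Agent.Helper13.EffCartier

section Main

variable {X : Scheme.{u}} {I : Type u} (𝓓 : I → X.IdealSheafData)

/-- the product ideal -/
noncomputable abbrev prodD (a : I →₀ ℕ) : X.IdealSheafData := a.prod (fun i n => 𝓓 i ^ n)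

lemma prodD_add_single (a : I →₀ ℕ) (i : I) :
    prodD 𝓓 (a + Finsupp.single i 1) = prodD 𝓓 a * 𝓓 i := by
  classical
  unfold prodD
  rw [Finsupp.prod_add_index' (h := fun i n => 𝓓 i ^ n) (fun _ => pow_zero _)
    (fun _ _ _ => pow_add _ _ _),
    Finsupp.prod_single_index (h := fun i n => 𝓓 i ^ n) (pow_zero _), pow_one]

lemma isEffCartierIdeal_pow (𝓘 : X.IdealSheafData) (h : BlowUp.IsEffCartierIdeal 𝓘) (n : ℕ) :
    BlowUp.IsEffCartierIdeal (𝓘 ^ n) := by
  induction n with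
  | zero => rw [pow_zero]; exact isEffCartierIdeal_top X
  | succ n ih => rw [pow_succ]; exact isEffCartierIdeal_mul _ _ ih h

lemma isEffCartierIdeal_prodD (hD : ∀ i, BlowUp.IsEffCartierIdeal (𝓓 i)) (a : I →₀ ℕ) :
    BlowUp.IsEffCartierIdeal (prodD 𝓓 a) := by
  unfold prodD Finsupp.prod
  refine Finset.prod_induction _ (fun 𝓘 => BlowUp.IsEffCartierIdeal 𝓘) ?_ ?_ ?_
  · intro 𝓘 𝓙 h1 h2; exact isEffCartierIdeal_mul _ _ h1 h2
  · exact isEffCartierIdeal_top X
  · intro i _; exact isEffCartierIdeal_pow _ (hD i) _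

lemma mul_le_left' (𝓘 𝓙 : X.IdealSheafData) : 𝓘 * 𝓙 ≤ 𝓘 := by
  intro V
  rw [Scheme.IdealSheafData.ideal_mul, Pi.mul_apply]
  exact Ideal.mul_le_left (I := 𝓘.ideal V) (J := 𝓙.ideal V)

end Main

end Groth.Agent.Helper13.CartierMax

namespace Groth.Agent.Helper13.CartierMax

open Groth.Agent.Helper13.WeakAss Groth.Agent.Helper13.MeroLib Groth.Agent.Helper13.EffCartier

section Main2

variable {X : Scheme.{u}} (𝓩 : X.IdealSheafData) {I : Type u} (𝓓 : I → X.IdealSheafData)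
  (hD : ∀ i, BlowUp.IsEffCartierIdeal (𝓓 i))
  (Z' : Set X)
  (hcodim : ∀ z ∈ Z', (∀ y ∈ Z', y ⤳ z → y = z) →
    (2 : WithBot ℕ∞) ≤ ringKrullDim (X.presheaf.stalk z))
  (hcover : (𝓩.support : Set X) ⊆ Z' ∪ ⋃ i, ((𝓓 i).support : Set X))

include hD hcodim hcover in
/-- (E0) no point of the support of `𝓩` is without proper generizations -/
lemma not_generic_of_mem_support (ξ : X) (hξ : ξ ∈ 𝓩.support) (hgen : ∀ y : X, y ⤳ ξ → y = ξ) :
    False := by
  rcases hcover hξ with h | h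
  · have h2 := hcodim ξ h (fun y _ hy => hgen y hy)
    have h0 := ringKrullDim_le_zero_of_generic ξ hgen
    have h3 : (2 : WithBot ℕ∞) ≤ 0 := h2.trans h0
    have h4 : ((2 : ℕ∞) : WithBot ℕ∞) ≤ ((0 : ℕ∞) : WithBot ℕ∞) := h3
    rw [WithBot.coe_le_coe] at h4
    exact absurd h4 (by norm_num)
  · obtain ⟨i, hi⟩ := Set.mem_iUnion.1 h
    exact not_generic_of_mem_support_effCartier (𝓓 i) (hD i) ξ hi hgen

include hD hcodim hcover in
/-- (E0') the support of `𝓩` contains no nonempty open -/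
lemma not_open_subset_support [IsLocallyNoetherian X] (W : X.Opens) (x : X) (hx : x ∈ W)
    (hWs : (W : Set X) ⊆ 𝓩.support) : False := by
  obtain ⟨ξ, hξx, hgen⟩ := exists_generic_specializes x
  have hξW : ξ ∈ W := hξx.mem_open W.2 hx
  exact not_generic_of_mem_support 𝓩 𝓓 hD Z' hcodim hcover ξ (hWs hξW) hgen

end Main2

end Groth.Agent.Helper13.CartierMax

namespace Groth.Agent.Helper13.CartierMax

open Groth.Agent.Helper13.WeakAss Groth.Agent.Helper13.MeroLib Groth.Agent.Helper13.EffCartier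

section Nak

variable {X : Scheme.{u}} [IsLocallyNoetherian X]

omit [IsLocallyNoetherian X] in
/-- a common chart for two effective Cartier ideals -/
lemma exists_common_chart (𝓔 𝓓 : X.IdealSheafData) (hE : BlowUp.IsEffCartierIdeal 𝓔)
    (hDc : BlowUp.IsEffCartierIdeal 𝓓) (η : X) :
    ∃ V : X.affineOpens, η ∈ V.1 ∧ ∃ f ∈ nonZeroDivisors Γ(X, V.1), ∃ t ∈ nonZeroDivisors Γ(X, V.1),
      𝓔.ideal V = Ideal.span {f} ∧ 𝓓.ideal V = Ideal.span {t} := by
  obtain ⟨V₁, hηV₁, t, ht, hDt⟩ := hDc η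
  obtain ⟨V, hηV, hVV₁, f, hf, hEf⟩ := exists_chart_le hE η V₁.1 hηV₁
  obtain ⟨ht', hDt'⟩ := chart_restrict 𝓓 (U := V) (V := V₁) hVV₁ t ht hDt
  exact ⟨V, hηV, f, hf, _, ht', hEf, hDt'⟩

/-- (N) Nakayama step: if enlarging the divisor by `𝓓` does not change the colon sheaf, then `𝓩`
vanishes on a neighbourhood of the generic point of `𝓓`. -/
lemma exists_open_subset_support_of_colon_eq (𝓩 𝓔 𝓓 : X.IdealSheafData)
    (hE : BlowUp.IsEffCartierIdeal 𝓔) (hDc : BlowUp.IsEffCartierIdeal 𝓓) [IsIntegral 𝓓.subscheme]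
    (hle : 𝓩 ≤ 𝓔 * 𝓓) (hcol : colonSheaf 𝓩 (𝓔 * 𝓓) = colonSheaf 𝓩 𝓔) :
    ∃ W : X.Opens, genPt 𝓓 ∈ W ∧ (W : Set X) ⊆ 𝓩.support := by
  set η := genPt 𝓓 with hη
  obtain ⟨V, hηV, f, hf, t', ht', hEf, hDt'⟩ := exists_common_chart 𝓔 𝓓 hE hDc η
  have hN : IsNoetherianRing Γ(X, V.1) := IsLocallyNoetherian.component_noetherian V
  have hEDV : (𝓔 * 𝓓).ideal V = Ideal.span {f * t'} := by
    rw [Scheme.IdealSheafData.ideal_mul, Pi.mul_apply, hEf, hDt',
      Ideal.span_singleton_mul_span_singleton]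
  set J : Ideal Γ(X, V.1) := colonI (𝓩.ideal V) (𝓔.ideal V) with hJ
  have hJ' : J = colonI (𝓩.ideal V) ((𝓔 * 𝓓).ideal V) := by
    have := congrArg (fun 𝓘 : X.IdealSheafData => 𝓘.ideal V) hcol
    exact this.symm
  have hJt : J ≤ Ideal.span {t'} • J := by
    intro g hg
    have hgf : g * f ∈ 𝓩.ideal V := mem_colonI.1 hg f (hEf ▸ Ideal.mem_span_singleton_self f)
    have hgf' : g * f ∈ Ideal.span {f * t'} := hEDV ▸ hle V hgf
    obtain ⟨c, hc⟩ := Ideal.mem_span_singleton'.1 hgf'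
    have hgc : g = t' * c := by
      have h1 : f * (g - t' * c) = 0 := by
        have : f * (g - t' * c) = g * f - c * (f * t') := by ring
        rw [this, hc, sub_self]
      have h2 := (mem_nonZeroDivisors_iff.1 hf).1 _ h1
      exact sub_eq_zero.1 h2
    have hcJ : c ∈ J := by
      rw [hJ', mem_colonI]
      intro e he
      rw [hEDV] at he
      obtain ⟨d, rfl⟩ := Ideal.mem_span_singleton'.1 he
      have : c * (d * (f * t')) = d * (g * f) := by rw [← hc]; ring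
      rw [this]
      exact Ideal.mul_mem_left _ _ hgf
    rw [hgc]
    exact Submodule.smul_mem_smul (Ideal.mem_span_singleton_self t') hcJ
  obtain ⟨r, hr1, hrJ⟩ := Submodule.exists_sub_one_mem_and_smul_eq_zero_of_fg_of_le_smul
    (Ideal.span {t'}) J (IsNoetherian.noetherian J) hJt
  refine ⟨X.basicOpen r, ?_, ?_⟩
  · by_contra hηr
    have h1 : r ∈ 𝓓.ideal V := mem_ideal_of_genPt_notMem_basicOpen 𝓓 V r hηr
    rw [hDt'] at h1
    have h2 : (1 : Γ(X, V.1)) ∈ Ideal.span {t'} := by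
      have : (1 : Γ(X, V.1)) = r - (r - 1) := by ring
      rw [this]
      exact Submodule.sub_mem _ h1 hr1
    have h3 : 𝓓.ideal V = ⊤ := by
      rw [hDt']; exact (Ideal.eq_top_iff_one _).2 h2
    have h4 := genPt_mem_support 𝓓
    rw [Scheme.IdealSheafData.mem_support_iff_of_mem (U := V) hηV, h3, Scheme.mem_zeroLocus_iff] at h4
    have h5 := h4 1 Submodule.mem_top
    rw [Scheme.basicOpen_one] at h5
    exact h5 hηV
  · intro x hx
    have hxV : x ∈ V.1 := X.basicOpen_le r hx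
    change x ∈ 𝓩.support
    rw [Scheme.IdealSheafData.mem_support_iff_of_mem (U := V) hxV, Scheme.mem_zeroLocus_iff]
    intro z hz hxz
    have hzE : z ∈ Ideal.span {f} := hEf ▸ hle.trans (mul_le_left' 𝓔 𝓓) V hz
    obtain ⟨g, hg⟩ := Ideal.mem_span_singleton'.1 hzE
    have hgJ : g ∈ J := by
      rw [hJ, mem_colonI]
      intro e he
      rw [hEf] at he
      obtain ⟨d, rfl⟩ := Ideal.mem_span_singleton'.1 he
      have : g * (d * f) = d * z := by rw [← hg]; ring
      rw [this]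
      exact Ideal.mul_mem_left _ _ hz
    have hrz : r * z = 0 := by
      rw [← hg, ← mul_assoc]
      have := hrJ g hgJ
      rw [smul_eq_mul] at this
      rw [this, zero_mul]
    have h6 : x ∈ X.basicOpen (r * z) := by
      rw [Scheme.basicOpen_mul]; exact ⟨hx, hxz⟩
    rw [hrz, Scheme.basicOpen_zero] at h6
    exact h6

end Nak

end Groth.Agent.Helper13.CartierMax

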