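import Groth.Agent.Lib.Helper13.CartierMax2
import Groth.Agent.Lib.Helper13.IdealComap
import Mathlib.RingTheory.Ideal.Height

set_option autoImplicit false
universe u
open CategoryTheory CategoryTheory.Limits AlgebraicGeometry TopologicalSpace

namespace Groth.Agent.Helper13.CartierMax

open Groth.Agent.Helper13.WeakAss Groth.Agent.Helper13.MeroLib Groth.Agent.Helper13.EffCartier

section Dagger

variable {X : Scheme.{u}}

/-- the open where two ideal sheaves agree (union of the affine opens on which they agree) -/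
noncomputable def eqOpen (𝓩 𝓔 : X.IdealSheafData) : X.Opens :=
  ⨆ W : {W : X.affineOpens // 𝓩.ideal W = 𝓔.ideal W}, (W.1.1 : X.Opens)

lemma mem_eqOpen {𝓩 𝓔 : X.IdealSheafData} {x : X} :
    x ∈ eqOpen 𝓩 𝓔 ↔ ∃ W : X.affineOpens, x ∈ W.1 ∧ 𝓩.ideal W = 𝓔.ideal W := by
  unfold eqOpen
  rw [Opens.mem_iSup]
  constructor
  · rintro ⟨⟨W, hW⟩, hx⟩; exact ⟨W, hx, hW⟩
  · rintro ⟨W, hx, hW⟩; exact ⟨⟨W, hW⟩, hx⟩

variable [IsLocallyNoetherian X]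

/-- (†a) -/
lemma colonSheaf_le_of_genPt_notMem_eqOpen (𝓩 𝓔 𝓓 : X.IdealSheafData) [IsIntegral 𝓓.subscheme]
    (hle : 𝓩 ≤ 𝓔) (hη : genPt 𝓓 ∉ eqOpen 𝓩 𝓔) : colonSheaf 𝓩 𝓔 ≤ 𝓓 := by
  intro V g hg
  by_contra hgD
  apply hη
  have hηg : genPt 𝓓 ∈ X.basicOpen g := by
    by_contra h
    exact hgD (mem_ideal_of_genPt_notMem_basicOpen 𝓓 V g h)
  rw [mem_eqOpen]
  refine ⟨X.affineBasicOpen g, hηg, le_antisymm (hle _) ?_⟩
  have h1 : (X.presheaf.map (homOfLE (X.basicOpen_le g)).op).hom g ∈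
      (colonSheaf 𝓩 𝓔).ideal (X.affineBasicOpen g) := by
    rw [← (colonSheaf 𝓩 𝓔).map_ideal_basicOpen V g]
    exact Ideal.mem_map_of_mem _ hg
  have hloc : IsLocalization.Away g Γ(X, X.basicOpen g) := V.2.isLocalization_basicOpen g
  have hu : IsUnit ((X.presheaf.map (homOfLE (X.basicOpen_le g)).op).hom g) :=
    IsLocalization.Away.algebraMap_isUnit g
  have h2 : (colonSheaf 𝓩 𝓔).ideal (X.affineBasicOpen g) = ⊤ := Ideal.eq_top_of_isUnit_mem _ h1 hu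
  have h3 := (Ideal.eq_top_iff_one _).1 h2
  rw [colonSheaf_ideal, mem_colonI] at h3
  intro e he
  have := h3 e he
  rwa [one_mul] at this

/-- (†b) -/
lemma le_mul_of_colonSheaf_le (𝓩 𝓔 𝓓 : X.IdealSheafData) (hE : BlowUp.IsEffCartierIdeal 𝓔)
    (hle : 𝓩 ≤ 𝓔) (hcol : colonSheaf 𝓩 𝓔 ≤ 𝓓) : 𝓩 ≤ 𝓔 * 𝓓 := by
  choose V hxV f hf hEf using hE
  refine Scheme.IdealSheafData.le_of_iSup_eq_top V ?_ ?_
  · rw [eq_top_iff]
    intro x _
    exact Opens.mem_iSup.2 ⟨x, hxV x⟩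
  · intro x z hz
    have hzE : z ∈ Ideal.span {f x} := hEf x ▸ hle (V x) hz
    obtain ⟨g, hg⟩ := Ideal.mem_span_singleton'.1 hzE
    have hgc : g ∈ (colonSheaf 𝓩 𝓔).ideal (V x) := by
      rw [colonSheaf_ideal, mem_colonI]
      intro e he
      rw [hEf x] at he
      obtain ⟨d, rfl⟩ := Ideal.mem_span_singleton'.1 he
      have : g * (d * f x) = d * z := by rw [← hg]; ring
      rw [this]
      exact Ideal.mul_mem_left _ _ hz
    rw [Scheme.IdealSheafData.ideal_mul, Pi.mul_apply, ← hg, mul_comm g (f x)]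
    have hfE : f x ∈ 𝓔.ideal (V x) := by rw [hEf x]; exact Ideal.mem_span_singleton_self _
    exact Ideal.mul_mem_mul hfE (hcol (V x) hgc)

end Dagger

end Groth.Agent.Helper13.CartierMax

namespace Groth.Agent.Helper13.CartierMax

open Groth.Agent.Helper13.WeakAss Groth.Agent.Helper13.MeroLib Groth.Agent.Helper13.EffCartier

section MaxSel

variable {X : Scheme.{u}} [IsNoetherian X] (𝓩 : X.IdealSheafData) {I : Type u}
  (𝓓 : I → X.IdealSheafData)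

omit [AlgebraicGeometry.IsNoetherian X] in
lemma le_prodD_zero : 𝓩 ≤ prodD 𝓓 0 := by
  unfold prodD
  rw [Finsupp.prod_zero_index]
  exact le_top (a := 𝓩)

lemma exists_maximal_valid :
    ∃ a : I →₀ ℕ, 𝓩 ≤ prodD 𝓓 a ∧ ∀ b : I →₀ ℕ, 𝓩 ≤ prodD 𝓓 b →
      colonSheaf 𝓩 (prodD 𝓓 a) ≤ colonSheaf 𝓩 (prodD 𝓓 b) →
        colonSheaf 𝓩 (prodD 𝓓 b) = colonSheaf 𝓩 (prodD 𝓓 a) := by
  have hwf := (wellFoundedGT_idealSheafData X).wf
  let S : Set X.IdealSheafData := {𝓙 | ∃ a : I →₀ ℕ, 𝓩 ≤ prodD 𝓓 a ∧ 𝓙 = colonSheaf 𝓩 (prodD 𝓓 a)}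
  have hS : S.Nonempty := ⟨_, 0, le_prodD_zero 𝓩 𝓓, rfl⟩
  obtain ⟨m, ⟨a, ha, rfl⟩, hmin⟩ := hwf.has_min S hS
  refine ⟨a, ha, ?_⟩
  intro b hb hle
  have h1 := hmin (colonSheaf 𝓩 (prodD 𝓓 b)) ⟨b, hb, rfl⟩
  exact (eq_of_le_of_not_lt hle h1).symm

end MaxSel

end Groth.Agent.Helper13.CartierMax


namespace Groth.Agent.Helper13.CartierMax

open Groth.Agent.Helper13.WeakAss Groth.Agent.Helper13.MeroLib Groth.Agent.Helper13.EffCartier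

section Star

variable {X : Scheme.{u}} [IsNoetherian X] (𝓩 : X.IdealSheafData) {I : Type u}
  (𝓓 : I → X.IdealSheafData)
  (hD : ∀ i, BlowUp.IsEffCartierIdeal (𝓓 i))
  (Z' : Set X)
  (hcodim : ∀ z ∈ Z', (∀ y ∈ Z', y ⤳ z → y = z) →
    (2 : WithBot ℕ∞) ≤ ringKrullDim (X.presheaf.stalk z))
  (hcover : (𝓩.support : Set X) ⊆ Z' ∪ ⋃ i, ((𝓓 i).support : Set X))

include hD hcodim hcover in
/-- (*) -/
lemma genPt_mem_eqOpen_of_maximal (a : I →₀ ℕ) (ha : 𝓩 ≤ prodD 𝓓 a)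
    (hmax : ∀ b : I →₀ ℕ, 𝓩 ≤ prodD 𝓓 b →
      colonSheaf 𝓩 (prodD 𝓓 a) ≤ colonSheaf 𝓩 (prodD 𝓓 b) →
        colonSheaf 𝓩 (prodD 𝓓 b) = colonSheaf 𝓩 (prodD 𝓓 a))
    (i : I) [IsIntegral (𝓓 i).subscheme] : genPt (𝓓 i) ∈ eqOpen 𝓩 (prodD 𝓓 a) := by
  by_contra hη
  have h1 := colonSheaf_le_of_genPt_notMem_eqOpen 𝓩 (prodD 𝓓 a) (𝓓 i) ha hη
  have hE := isEffCartierIdeal_prodD 𝓓 hD a
  have h2 := le_mul_of_colonSheaf_le 𝓩 (prodD 𝓓 a) (𝓓 i) hE ha h1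
  have h3 : 𝓩 ≤ prodD 𝓓 (a + Finsupp.single i 1) := by rw [prodD_add_single]; exact h2
  have h4 : colonSheaf 𝓩 (prodD 𝓓 a) ≤ colonSheaf 𝓩 (prodD 𝓓 (a + Finsupp.single i 1)) := by
    rw [prodD_add_single]
    exact colonSheaf_mono_right 𝓩 (mul_le_left' _ _)
  have h5 := hmax _ h3 h4
  rw [prodD_add_single] at h5
  obtain ⟨W, hW, hWs⟩ := exists_open_subset_support_of_colon_eq 𝓩 (prodD 𝓓 a) (𝓓 i) hE (hD i) h2 h5
  exact not_open_subset_support 𝓩 𝓓 hD Z' hcodim hcover W _ hW hWs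

end Star

section Comap

variable {X : Scheme.{u}}

lemma comap_ι_eqOpen (𝓩 𝓔 : X.IdealSheafData) :
    𝓔.comap (eqOpen 𝓩 𝓔).ι = 𝓩.comap (eqOpen 𝓩 𝓔).ι := by
  set U := eqOpen 𝓩 𝓔 with hU
  have hle : ∀ W : {W : X.affineOpens // 𝓩.ideal W = 𝓔.ideal W}, W.1.1 ≤ U := by
    intro W
    exact le_iSup (fun W : {W : X.affineOpens // 𝓩.ideal W = 𝓔.ideal W} => (W.1.1 : X.Opens)) W
  have haff : ∀ W : {W : X.affineOpens // 𝓩.ideal W = 𝓔.ideal W},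
      IsAffineOpen (U.ι ⁻¹ᵁ W.1.1) := by
    intro W
    rw [← Scheme.Hom.isAffineOpen_iff_of_isOpenImmersion U.ι, Scheme.Hom.image_preimage_eq_opensRange_inf,
      Scheme.Opens.opensRange_ι, inf_eq_right.2 (hle W)]
    exact W.1.2
  refine Scheme.IdealSheafData.ext_of_iSup_eq_top
    (fun W : {W : X.affineOpens // 𝓩.ideal W = 𝓔.ideal W} => (⟨U.ι ⁻¹ᵁ W.1.1, haff W⟩ : (U : Scheme).affineOpens))
    ?_ ?_
  · rw [eq_top_iff]
    rintro ⟨x, hx⟩ -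
    obtain ⟨W, hxW, hW⟩ := mem_eqOpen.1 hx
    exact Opens.mem_iSup.2 ⟨⟨W, hW⟩, hxW⟩
  · intro W
    rw [IdealComap.ideal_comap U.ι 𝓔 W.1 _ le_rfl, IdealComap.ideal_comap U.ι 𝓩 W.1 _ le_rfl, W.2]

end Comap

end Groth.Agent.Helper13.CartierMax

namespace Groth.Agent.Helper13.CartierMax

open Groth.Agent.Helper13.WeakAss Groth.Agent.Helper13.MeroLib Groth.Agent.Helper13.EffCartier

section Codim

variable {X : Scheme.{u}}

lemma ringKrullDim_stalk_eq_height {V : X.Opens} (hV : IsAffineOpen V) (z : X) (hz : z ∈ V) :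
    ringKrullDim (X.presheaf.stalk z) = ((hV.primeIdealOf ⟨z, hz⟩).asIdeal.height : WithBot ℕ∞) := by
  let _ := TopCat.Presheaf.algebra_section_stalk X.presheaf ⟨z, hz⟩
  have := hV.isLocalization_stalk ⟨z, hz⟩
  exact IsLocalization.AtPrime.ringKrullDim_eq_height (hV.primeIdealOf ⟨z, hz⟩).asIdeal
    (X.presheaf.stalk z)

lemma primeIdealOf_le_iff {V : X.Opens} (hV : IsAffineOpen V) (y z : X) (hy : y ∈ V) (hz : z ∈ V) :
    (hV.primeIdealOf ⟨y, hy⟩).asIdeal ≤ (hV.primeIdealOf ⟨z, hz⟩).asIdeal ↔ y ⤳ z := by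
  have h := PrimeSpectrum.le_iff_specializes (hV.primeIdealOf ⟨y, hy⟩) (hV.primeIdealOf ⟨z, hz⟩)
  have h' : hV.primeIdealOf ⟨y, hy⟩ ≤ hV.primeIdealOf ⟨z, hz⟩ ↔
      (hV.primeIdealOf ⟨y, hy⟩).asIdeal ≤ (hV.primeIdealOf ⟨z, hz⟩).asIdeal := Iff.rfl
  have h2 : hV.fromSpec (hV.primeIdealOf ⟨y, hy⟩) ⤳ hV.fromSpec (hV.primeIdealOf ⟨z, hz⟩) ↔
      hV.primeIdealOf ⟨y, hy⟩ ⤳ hV.primeIdealOf ⟨z, hz⟩ :=
    hV.fromSpec.isOpenEmbedding.toIsInducing.specializes_iff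
  have e1 : hV.fromSpec (hV.primeIdealOf ⟨y, hy⟩) = y := hV.fromSpec_primeIdealOf ⟨y, hy⟩
  have e2 : hV.fromSpec (hV.primeIdealOf ⟨z, hz⟩) = z := hV.fromSpec_primeIdealOf ⟨z, hz⟩
  rw [e1, e2] at h2
  exact h'.symm.trans (h.trans h2.symm)

lemma exists_generic_of_mem_closed (Z' : Set X) (hZ' : IsClosed Z') (z : X) (hz : z ∈ Z') :
    ∃ z₀ ∈ Z', z₀ ⤳ z ∧ ∀ y ∈ Z', y ⤳ z₀ → y = z₀ := by
  obtain ⟨_, ⟨V, hV0, rfl⟩, hzV, -⟩ :=
    X.isBasis_affineOpens.exists_subset_of_mem_open (Set.mem_univ z) isOpen_univ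
  have hV : IsAffineOpen V := hV0
  clear hV0
  set S : Set (PrimeSpectrum Γ(X, V)) := hV.fromSpec ⁻¹' Z' with hS
  have hSc : IsClosed S := hZ'.preimage hV.fromSpec.continuous
  set J := PrimeSpectrum.vanishingIdeal S with hJ
  have hJS : PrimeSpectrum.zeroLocus (J : Set Γ(X, V)) = S := by
    rw [hJ, PrimeSpectrum.zeroLocus_vanishingIdeal_eq_closure, hSc.closure_eq]
  have hmemS : ∀ (y : X) (hy : y ∈ V), hV.primeIdealOf ⟨y, hy⟩ ∈ S ↔ y ∈ Z' := by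
    intro y hy
    rw [hS, Set.mem_preimage, hV.fromSpec_primeIdealOf ⟨y, hy⟩]
  have hJq : J ≤ (hV.primeIdealOf ⟨z, hzV⟩).asIdeal := by
    have h1 : hV.primeIdealOf ⟨z, hzV⟩ ∈ PrimeSpectrum.zeroLocus (J : Set Γ(X, V)) := by
      rw [hJS]; exact (hmemS z hzV).2 hz
    exact (PrimeSpectrum.mem_zeroLocus _ _).1 h1
  obtain ⟨p, hp, hpq⟩ := Ideal.exists_minimalPrimes_le hJq
  have hpp : p.IsPrime := hp.1.1
  have hz₀V : hV.fromSpec ⟨p, hpp⟩ ∈ V := fromSpec_mem hV _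
  have hprime : hV.primeIdealOf ⟨hV.fromSpec ⟨p, hpp⟩, hz₀V⟩ = ⟨p, hpp⟩ := by
    apply hV.fromSpec.isOpenEmbedding.injective
    rw [hV.fromSpec_primeIdealOf ⟨_, hz₀V⟩]
  refine ⟨hV.fromSpec ⟨p, hpp⟩, ?_, ?_, ?_⟩
  · have h1 : (⟨p, hpp⟩ : PrimeSpectrum Γ(X, V)) ∈ PrimeSpectrum.zeroLocus (J : Set Γ(X, V)) :=
      (PrimeSpectrum.mem_zeroLocus _ _).2 hp.1.2
    rw [hJS] at h1
    exact h1
  · rw [← primeIdealOf_le_iff hV _ _ hz₀V hzV, hprime]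
    exact hpq
  · intro y hy hyz
    have hyV : y ∈ V := hyz.mem_open V.2 hz₀V
    have h1 := (primeIdealOf_le_iff hV _ _ hyV hz₀V).2 hyz
    rw [hprime] at h1
    have h2 : J ≤ (hV.primeIdealOf ⟨y, hyV⟩).asIdeal := by
      have h3 : hV.primeIdealOf ⟨y, hyV⟩ ∈ PrimeSpectrum.zeroLocus (J : Set Γ(X, V)) := by
        rw [hJS]; exact (hmemS y hyV).2 hy
      exact (PrimeSpectrum.mem_zeroLocus _ _).1 h3
    have h4 : p ≤ (hV.primeIdealOf ⟨y, hyV⟩).asIdeal :=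
      hp.2 ⟨(hV.primeIdealOf ⟨y, hyV⟩).2, h2⟩ h1
    have h5 : hV.primeIdealOf ⟨y, hyV⟩ = ⟨p, hpp⟩ := PrimeSpectrum.ext (le_antisymm h1 h4)
    have e1 : hV.fromSpec (hV.primeIdealOf ⟨y, hyV⟩) = y := hV.fromSpec_primeIdealOf ⟨y, hyV⟩
    rw [h5] at e1
    exact e1.symm

lemma ringKrullDim_stalk_mono (y z : X) (h : y ⤳ z) :
    ringKrullDim (X.presheaf.stalk y) ≤ ringKrullDim (X.presheaf.stalk z) := by
  obtain ⟨_, ⟨V, hV0, rfl⟩, hzV, -⟩ :=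
    X.isBasis_affineOpens.exists_subset_of_mem_open (Set.mem_univ z) isOpen_univ
  have hV : IsAffineOpen V := hV0
  clear hV0
  have hyV : y ∈ V := h.mem_open V.2 hzV
  rw [ringKrullDim_stalk_eq_height hV y hyV, ringKrullDim_stalk_eq_height hV z hzV,
    WithBot.coe_le_coe]
  exact Ideal.height_mono ((primeIdealOf_le_iff hV y z hyV hzV).2 h)

lemma two_le_dim_of_mem_closed (Z' : Set X) (hZ' : IsClosed Z')
    (hcodim : ∀ z ∈ Z', (∀ y ∈ Z', y ⤳ z → y = z) →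
      (2 : WithBot ℕ∞) ≤ ringKrullDim (X.presheaf.stalk z)) (z : X) (hz : z ∈ Z') :
    (2 : WithBot ℕ∞) ≤ ringKrullDim (X.presheaf.stalk z) := by
  obtain ⟨z₀, hz₀, hz₀z, hgen⟩ := exists_generic_of_mem_closed Z' hZ' z hz
  exact (hcodim z₀ hz₀ hgen).trans (ringKrullDim_stalk_mono z₀ z hz₀z)

lemma two_le_dim_of_mem_support_effCartier (𝓓 : X.IdealSheafData)
    (hD : BlowUp.IsEffCartierIdeal 𝓓) [IsIntegral 𝓓.subscheme] (z : X) (hz : z ∈ 𝓓.support)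
    (hne : genPt 𝓓 ≠ z) : (2 : WithBot ℕ∞) ≤ ringKrullDim (X.presheaf.stalk z) := by
  obtain ⟨V, hzV, t, ht, hIt⟩ := hD z
  have hηz : genPt 𝓓 ⤳ z := genPt_specializes 𝓓 z hz
  have hηV : genPt 𝓓 ∈ V.1 := hηz.mem_open V.1.2 hzV
  set P := V.2.primeIdealOf ⟨genPt 𝓓, hηV⟩ with hP
  set q := V.2.primeIdealOf ⟨z, hzV⟩ with hq
  have hPq : P.asIdeal ≤ q.asIdeal := (primeIdealOf_le_iff V.2 _ _ hηV hzV).2 hηz
  have hPq' : P.asIdeal < q.asIdeal := by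
    refine lt_of_le_of_ne hPq ?_
    intro heq
    apply hne
    have : P = q := PrimeSpectrum.ext heq
    have e1 : V.2.fromSpec P = genPt 𝓓 := V.2.fromSpec_primeIdealOf ⟨genPt 𝓓, hηV⟩
    have e2 : V.2.fromSpec q = z := V.2.fromSpec_primeIdealOf ⟨z, hzV⟩
    rw [← e1, ← e2, this]
  have htP : t ∈ P.asIdeal := by
    have h1 := genPt_mem_support 𝓓
    rw [Scheme.IdealSheafData.mem_support_iff_of_mem (U := V) hηV, hIt, Scheme.zeroLocus_span,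
      Scheme.zeroLocus_singleton] at h1
    by_contra h2
    apply h1
    change genPt 𝓓 ∈ X.basicOpen t
    exact (MeroLib.mem_basicOpen_iff_notMem_primeIdealOf V.2 (genPt 𝓓) hηV t).2 h2
  obtain ⟨P', hP', hP'P⟩ := Ideal.exists_minimalPrimes_le (bot_le : (⊥ : Ideal Γ(X, V.1)) ≤ P.asIdeal)
  have hP'p : P'.IsPrime := hP'.1.1
  have hP'P' : P' < P.asIdeal := by
    refine lt_of_le_of_ne hP'P ?_
    intro heq
    have h1 : P' ∈ minimalPrimes Γ(X, V.1) := hP'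
    have h2 := Ideal.disjoint_nonZeroDivisors_of_mem_minimalPrimes h1
    exact Set.disjoint_left.1 h2 (heq ▸ htP) ht
  rw [ringKrullDim_stalk_eq_height V.2 z hzV]
  have h1 := Ideal.height_add_one_le_of_lt_of_isPrime hP'P'
  have h2 := Ideal.height_add_one_le_of_lt_of_isPrime hPq'
  have h3 : (2 : ℕ∞) ≤ q.asIdeal.height := by
    calc (2 : ℕ∞) = 0 + 1 + 1 := by norm_num
      _ ≤ P'.height + 1 + 1 := by gcongr; exact bot_le
      _ ≤ P.asIdeal.height + 1 := by gcongr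
      _ ≤ q.asIdeal.height := h2
  exact WithBot.coe_le_coe.2 h3

end Codim

end Groth.Agent.Helper13.CartierMax
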