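import Mathlib
import Groth.Agent.Lib.Helper28.CechContract

/-!
# Čech complexes of presheaves which invert inclusions that are equalities after meeting with
one member of the family: extra codegeneracy and the resulting contraction identities.
-/

set_option autoImplicit false
universe u
open CategoryTheory CategoryTheory.Limits Opposite TopologicalSpace Simplicial AlgebraicTopology

namespace Groth.Agent.Helper13.CechExtra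

variable {T : Type u} [TopologicalSpace T] {A : Type*} [Category A] [Preadditive A]
  [HasZeroObject A] [HasProducts.{u} A] {ι : Type u} (𝒰 : ι → Opens T) (G : (Opens T)ᵒᵖ ⥤ A)

/-- the Čech cosimplicial object of `G` for the family `𝒰` -/
noncomputable abbrev Y : CosimplicialObject A :=
  (FormalCoproduct.cosimplicialObjectFunctor (FormalCoproduct.mk _ 𝒰).cech).obj G

/-- the factors of the degree `n` term -/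
noncomputable abbrev Zf (n : ℕ) (a : Fin (n + 1) → ι) : A := G.obj (op (∏ᶜ (𝒰 ∘ a)))

lemma pi_le {n : ℕ} (a : Fin (n + 1) → ι) (k : Fin (n + 1)) :
    (∏ᶜ (𝒰 ∘ a) : Opens T) ≤ 𝒰 (a k) :=
  leOfHom (Pi.π (𝒰 ∘ a) k)

lemma le_pi {n : ℕ} (a : Fin (n + 1) → ι) (W : Opens T) (h : ∀ k, W ≤ 𝒰 (a k)) :
    W ≤ ∏ᶜ (𝒰 ∘ a) :=
  leOfHom (Pi.lift fun k => homOfLE (h k))

lemma Y_map_π {n m : ℕ} (f : ⦋n⦌ ⟶ ⦋m⦌) (b : Fin (m + 1) → ι) :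
    (Y 𝒰 G).map f ≫ Pi.π (Zf 𝒰 G m) b =
      Pi.π (Zf 𝒰 G n) (b ∘ f.toOrderHom) ≫
      G.map (Pi.lift (fun k => Pi.π (𝒰 ∘ b) (f.toOrderHom k)) :
        (∏ᶜ (𝒰 ∘ b) : Opens T) ⟶ ∏ᶜ (𝒰 ∘ (b ∘ f.toOrderHom))).op :=
  Pi.lift_π _ _

lemma π_map_congr {n : ℕ} {c c' : Fin (n + 1) → ι} (h : c = c') {W : Opens T}
    (x : W ⟶ ∏ᶜ (𝒰 ∘ c)) (x' : W ⟶ ∏ᶜ (𝒰 ∘ c')) :
    Pi.π (Zf 𝒰 G n) c ≫ G.map x.op = Pi.π (Zf 𝒰 G n) c' ≫ G.map x'.op := by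
  subst h
  rw [Subsingleton.elim x x']

lemma map_map_thin {W₁ W₂ W₃ : Opens T} (x : W₁ ⟶ W₂) (y : W₂ ⟶ W₃) (z : W₁ ⟶ W₃) :
    G.map y.op ≫ G.map x.op = G.map z.op := by
  rw [← G.map_comp, ← op_comp, Subsingleton.elim (x ≫ y) z]

/-- the cofaces, typed between the explicit products -/
noncomputable def dl {n : ℕ} (j : Fin (n + 2)) : ∏ᶜ (Zf 𝒰 G n) ⟶ ∏ᶜ (Zf 𝒰 G (n + 1)) :=
  (Y 𝒰 G).δ j

lemma Y_δ_π {n : ℕ} (j : Fin (n + 2)) (b : Fin (n + 2) → ι)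
    (x : (∏ᶜ (𝒰 ∘ b) : Opens T) ⟶ ∏ᶜ (𝒰 ∘ (b ∘ j.succAbove))) :
    dl 𝒰 G j ≫ Pi.π (Zf 𝒰 G (n + 1)) b =
      Pi.π (Zf 𝒰 G n) (b ∘ j.succAbove) ≫ G.map x.op := by
  have h := Y_map_π 𝒰 G (SimplexCategory.δ j) b
  rw [Subsingleton.elim x _]
  exact h

section Index

variable (i₀ : ι)

lemma cons_comp_zero {n : ℕ} (a : Fin (n + 1) → ι) :
    (Fin.cons i₀ a : Fin (n + 2) → ι) ∘ (0 : Fin (n + 2)).succAbove = a := by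
  funext k
  simp

lemma cons_comp_one (a : Fin 1 → ι) :
    (Fin.cons i₀ a : Fin 2 → ι) ∘ (1 : Fin 2).succAbove = fun _ => i₀ := by
  funext k
  fin_cases k
  rfl

lemma cons_comp_succ {n : ℕ} (b : Fin (n + 2) → ι) (i : Fin (n + 2)) :
    (Fin.cons i₀ b : Fin (n + 3) → ι) ∘ i.succ.succAbove =
      Fin.cons i₀ (b ∘ i.succAbove) := by
  funext k
  refine Fin.cases ?_ (fun k' => ?_) k
  · simp
  · simp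

end Index

variable (i₀ : ι)

/-- the presheaf inverts the inclusions `W' ≤ W` with `W ⊓ 𝒰 i₀ ≤ W'` -/
def HInv : Prop := ∀ ⦃W W' : Opens T⦄ (m : W' ⟶ W), W ⊓ 𝒰 i₀ ≤ W' → IsIso (G.map m.op)

/-- the inclusion `U_{i₀ a} ≤ U_a` -/
noncomputable def rr {n : ℕ} (a : Fin (n + 1) → ι) :
    (∏ᶜ (𝒰 ∘ (Fin.cons i₀ a : Fin (n + 2) → ι)) : Opens T) ⟶ ∏ᶜ (𝒰 ∘ a) :=
  homOfLE (le_pi 𝒰 a _ fun k => by
    simpa using pi_le 𝒰 (Fin.cons i₀ a : Fin (n + 2) → ι) k.succ)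

variable {𝒰 G i₀}

lemma isIso_rr (hG : HInv 𝒰 G i₀) {n : ℕ} (a : Fin (n + 1) → ι) :
    IsIso (G.map (rr 𝒰 i₀ a).op) :=
  hG _ (le_pi 𝒰 _ _ (Fin.cases (by simpa using inf_le_right)
    (fun k => by simpa using inf_le_left.trans (pi_le 𝒰 a k))))

/-- the extra codegeneracies -/
noncomputable def τ (hG : HInv 𝒰 G i₀) (n : ℕ) :
    ∏ᶜ (Zf 𝒰 G (n + 1)) ⟶ ∏ᶜ (Zf 𝒰 G n) :=
  Pi.lift fun a => Pi.π (Zf 𝒰 G (n + 1)) (Fin.cons i₀ a) ≫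
    (haveI := isIso_rr hG a; inv (G.map (rr 𝒰 i₀ a).op))

lemma τ_π (hG : HInv 𝒰 G i₀) (n : ℕ) (a : Fin (n + 1) → ι) :
    τ hG n ≫ Pi.π (Zf 𝒰 G n) a = Pi.π (Zf 𝒰 G (n + 1)) (Fin.cons i₀ a) ≫
      (haveI := isIso_rr hG a; inv (G.map (rr 𝒰 i₀ a).op)) :=
  Pi.lift_π _ _

variable (𝒰 G)

/-- the coaugmentation -/
noncomputable def ε : G.obj (op ⊤) ⟶ ∏ᶜ (Zf 𝒰 G 0) :=
  Pi.lift fun a : Fin 1 → ι => G.map (homOfLE le_top : (∏ᶜ (𝒰 ∘ a) : Opens T) ⟶ ⊤).op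

lemma ε_π (a : Fin 1 → ι) :
    ε 𝒰 G ≫ Pi.π (Zf 𝒰 G 0) a = G.map (homOfLE le_top : (∏ᶜ (𝒰 ∘ a) : Opens T) ⟶ ⊤).op :=
  Pi.lift_π _ _

variable (i₀)

/-- the inclusion `U_{i₀} ≤ ⊤` -/
noncomputable def tt : (∏ᶜ (𝒰 ∘ (fun _ : Fin 1 => i₀)) : Opens T) ⟶ ⊤ := homOfLE le_top

variable {𝒰 G i₀}

lemma isIso_tt (hG : HInv 𝒰 G i₀) : IsIso (G.map (tt 𝒰 i₀).op) :=
  hG _ (le_pi 𝒰 _ _ (fun _ => inf_le_right))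

/-- the retraction of the coaugmentation -/
noncomputable def σ' (hG : HInv 𝒰 G i₀) : ∏ᶜ (Zf 𝒰 G 0) ⟶ G.obj (op ⊤) :=
  Pi.π (Zf 𝒰 G 0) (fun _ => i₀) ≫ (haveI := isIso_tt hG; inv (G.map (tt 𝒰 i₀).op))

lemma hom_ext_Y {Z : A} {n : ℕ} {f g : Z ⟶ ∏ᶜ (Zf 𝒰 G n)}
    (h : ∀ b, f ≫ Pi.π (Zf 𝒰 G n) b = g ≫ Pi.π (Zf 𝒰 G n) b) : f = g :=
  Pi.hom_ext _ _ h

lemma hε : ε 𝒰 G ≫ dl 𝒰 G 0 = ε 𝒰 G ≫ dl 𝒰 G 1 := by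
  apply hom_ext_Y
  intro b
  rw [Category.assoc, Category.assoc,
    Y_δ_π 𝒰 G 0 b (homOfLE (le_pi 𝒰 _ _ fun k => pi_le 𝒰 b _)),
    Y_δ_π 𝒰 G 1 b (homOfLE (le_pi 𝒰 _ _ fun k => pi_le 𝒰 b _)),
    ← Category.assoc, ← Category.assoc, ε_π, ε_π, map_map_thin G _ _ (homOfLE le_top),
    map_map_thin G _ _ (homOfLE le_top)]

lemma h1 (hG : HInv 𝒰 G i₀) : ε 𝒰 G ≫ σ' hG = 𝟙 _ := by
  haveI := isIso_tt hG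
  unfold σ'
  rw [← Category.assoc, ε_π]
  exact IsIso.hom_inv_id (G.map (tt 𝒰 i₀).op)

lemma h3 (hG : HInv 𝒰 G i₀) (n : ℕ) : dl 𝒰 G 0 ≫ τ hG n = 𝟙 _ := by
  apply hom_ext_Y
  intro a
  haveI := isIso_rr hG a
  rw [Category.assoc, τ_π, Category.id_comp, ← cancel_mono (G.map (rr 𝒰 i₀ a).op),
    Category.assoc, Category.assoc, IsIso.inv_hom_id, Category.comp_id,
    Y_δ_π 𝒰 G 0 (Fin.cons i₀ a) (homOfLE (le_pi 𝒰 _ _ fun k => pi_le 𝒰 _ _))]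
  exact π_map_congr 𝒰 G (cons_comp_zero i₀ a) _ _

lemma h2 (hG : HInv 𝒰 G i₀) : dl 𝒰 G 1 ≫ τ hG 0 = σ' hG ≫ ε 𝒰 G := by
  apply hom_ext_Y
  intro a
  haveI := isIso_rr hG a
  haveI := isIso_tt hG
  rw [Category.assoc, τ_π, Category.assoc, ε_π, ← cancel_mono (G.map (rr 𝒰 i₀ a).op),
    Category.assoc, Category.assoc, IsIso.inv_hom_id, Category.comp_id,
    Y_δ_π 𝒰 G 1 (Fin.cons i₀ a) (homOfLE (le_pi 𝒰 _ _ fun k => pi_le 𝒰 _ _))]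
  unfold σ'
  rw [Category.assoc, Category.assoc]
  have e : inv (G.map (tt 𝒰 i₀).op) ≫
      G.map (homOfLE le_top : (∏ᶜ (𝒰 ∘ a) : Opens T) ⟶ ⊤).op ≫ G.map (rr 𝒰 i₀ a).op =
      G.map (homOfLE (le_pi 𝒰 (fun _ : Fin 1 => i₀) _ (fun _ => by
        simpa using pi_le 𝒰 (Fin.cons i₀ a : Fin 2 → ι) 0)) :
          (∏ᶜ (𝒰 ∘ (Fin.cons i₀ a : Fin 2 → ι)) : Opens T) ⟶ _).op := by
    rw [IsIso.inv_comp_eq, map_map_thin G _ _ (homOfLE le_top),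
      map_map_thin G _ _ (homOfLE le_top)]
  rw [e]
  exact π_map_congr 𝒰 G (cons_comp_one i₀ a) _ _

lemma h4 (hG : HInv 𝒰 G i₀) (n : ℕ) (i : Fin (n + 2)) :
    dl 𝒰 G i.succ ≫ τ hG (n + 1) = τ hG n ≫ dl 𝒰 G i := by
  apply hom_ext_Y
  intro b
  haveI := isIso_rr hG b
  haveI := isIso_rr hG (b ∘ i.succAbove)
  rw [Category.assoc, τ_π, Category.assoc,
    Y_δ_π 𝒰 G i b (homOfLE (le_pi 𝒰 _ _ fun k => pi_le 𝒰 b _)), ← Category.assoc (τ hG n), τ_π,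
    ← cancel_mono (G.map (rr 𝒰 i₀ b).op), Category.assoc, Category.assoc, IsIso.inv_hom_id,
    Category.comp_id, Category.assoc, Category.assoc,
    Y_δ_π 𝒰 G i.succ (Fin.cons i₀ b) (homOfLE (le_pi 𝒰 _ _ fun k => pi_le 𝒰 _ _))]
  have e : inv (G.map (rr 𝒰 i₀ (b ∘ i.succAbove)).op) ≫
      G.map (homOfLE (le_pi 𝒰 _ _ fun k => pi_le 𝒰 b _) :
        (∏ᶜ (𝒰 ∘ b) : Opens T) ⟶ ∏ᶜ (𝒰 ∘ (b ∘ i.succAbove))).op ≫ G.map (rr 𝒰 i₀ b).op =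
      G.map (homOfLE (le_pi 𝒰 (Fin.cons i₀ (b ∘ i.succAbove) : Fin (n + 2) → ι) _
        (Fin.cases (by simpa using pi_le 𝒰 (Fin.cons i₀ b : Fin (n + 3) → ι) 0)
          (fun k => by
            simpa using pi_le 𝒰 (Fin.cons i₀ b : Fin (n + 3) → ι) (i.succAbove k).succ))) :
          (∏ᶜ (𝒰 ∘ (Fin.cons i₀ b : Fin (n + 3) → ι)) : Opens T) ⟶ _).op := by
    rw [IsIso.inv_comp_eq, map_map_thin G _ _ (homOfLE (le_pi 𝒰 _ _ fun k => by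
        simpa using pi_le 𝒰 (Fin.cons i₀ b : Fin (n + 3) → ι) (i.succAbove k).succ)),
      map_map_thin G _ _ (homOfLE (le_pi 𝒰 _ _ fun k => by
        simpa using pi_le 𝒰 (Fin.cons i₀ b : Fin (n + 3) → ι) (i.succAbove k).succ))]
  rw [e]
  exact π_map_congr 𝒰 G (cons_comp_succ i₀ b i) _ _

variable (𝒰 G)

/-- the Čech complex -/
noncomputable abbrev K : CochainComplex A ℕ := (cechComplexFunctor 𝒰).obj G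

/-- the differential, typed between the explicit products -/
noncomputable def dK (n : ℕ) : ∏ᶜ (Zf 𝒰 G n) ⟶ ∏ᶜ (Zf 𝒰 G (n + 1)) := (K 𝒰 G).d n (n + 1)

lemma dK_eq (n : ℕ) : dK 𝒰 G n = ∑ i : Fin (n + 2), (-1 : ℤ) ^ (i : ℕ) • dl 𝒰 G i :=
  Groth.Agent.Helper28.CechContract.obj_d (Y 𝒰 G) n

lemma ε_d : ε 𝒰 G ≫ dK 𝒰 G 0 = 0 :=
  Groth.Agent.Helper28.CechContract.hεd (Y 𝒰 G) _ (ε 𝒰 G) hε

variable {𝒰 G}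

lemma id_zero (hG : HInv 𝒰 G i₀) :
    σ' hG ≫ ε 𝒰 G + dK 𝒰 G 0 ≫ τ hG 0 = 𝟙 (∏ᶜ (Zf 𝒰 G 0)) := by
  have h : σ' hG ≫ ε 𝒰 G = (∑ i : Fin (0 + 2), (-1 : ℤ) ^ (i : ℕ) • dl 𝒰 G i) ≫ (-τ hG 0) + 0 +
      𝟙 (∏ᶜ (Zf 𝒰 G 0)) :=
    Groth.Agent.Helper28.CechContract.key0 (Y 𝒰 G) _ (ε 𝒰 G) (σ' hG) (τ hG) (h2 hG) (h3 hG)
  have hd := dK_eq 𝒰 G 0
  rw [h, hd, Preadditive.comp_neg]
  abel

lemma id_succ (hG : HInv 𝒰 G i₀) (n : ℕ) :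
    dK 𝒰 G (n + 1) ≫ τ hG (n + 1) + τ hG n ≫ dK 𝒰 G n = 𝟙 (∏ᶜ (Zf 𝒰 G (n + 1))) := by
  have h : (0 : ∏ᶜ (Zf 𝒰 G (n + 1)) ⟶ ∏ᶜ (Zf 𝒰 G (n + 1))) =
      (∑ j : Fin (n + 1 + 2), (-1 : ℤ) ^ (j : ℕ) • dl 𝒰 G j) ≫ (-τ hG (n + 1)) +
        (-τ hG n) ≫ (∑ i : Fin (n + 2), (-1 : ℤ) ^ (i : ℕ) • dl 𝒰 G i) +
          𝟙 (∏ᶜ (Zf 𝒰 G (n + 1))) :=
    Groth.Agent.Helper28.CechContract.keyS (Y 𝒰 G) (τ hG) (h3 hG) (h4 hG) n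
  have hd := dK_eq 𝒰 G n
  have hd' := dK_eq 𝒰 G (n + 1)
  rw [hd, hd']
  rw [Preadditive.comp_neg, Preadditive.neg_comp] at h
  have h' := sub_eq_zero.mp (show 𝟙 (∏ᶜ (Zf 𝒰 G (n + 1))) -
      ((∑ j : Fin (n + 1 + 2), (-1 : ℤ) ^ (j : ℕ) • dl 𝒰 G j) ≫ τ hG (n + 1) +
        τ hG n ≫ (∑ i : Fin (n + 2), (-1 : ℤ) ^ (i : ℕ) • dl 𝒰 G i)) = 0 by
    rw [h]
    abel)
  exact h'.symm

section Functorial

variable {G' : (Opens T)ᵒᵖ ⥤ A} (φ : G ⟶ G')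

lemma map_f_eq (n : ℕ) :
    ((cechComplexFunctor 𝒰).map φ).f n =
      Limits.Pi.map (fun a : Fin (n + 1) → ι => φ.app (op (∏ᶜ (𝒰 ∘ a)))) := by
  rfl

/-- the map induced by a morphism of presheaves, typed between the explicit products -/
noncomputable def mapK (n : ℕ) : ∏ᶜ (Zf 𝒰 G n) ⟶ ∏ᶜ (Zf 𝒰 G' n) :=
  ((cechComplexFunctor 𝒰).map φ).f n

lemma mapK_eq (n : ℕ) :
    mapK φ n = Limits.Pi.map (fun a : Fin (n + 1) → ι => φ.app (op (∏ᶜ (𝒰 ∘ a)))) := rfl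

lemma mapK_comm (n : ℕ) : dK 𝒰 G n ≫ mapK φ (n + 1) = mapK φ n ≫ dK 𝒰 G' n :=
  (((cechComplexFunctor 𝒰).map φ).comm n (n + 1)).symm

lemma mapK_π (n : ℕ) (a : Fin (n + 1) → ι) :
    mapK φ n ≫ Pi.π (Zf 𝒰 G' n) a = Pi.π (Zf 𝒰 G n) a ≫ φ.app (op (∏ᶜ (𝒰 ∘ a))) := by
  rw [mapK_eq]
  exact Limits.Pi.map_π _ _

end Functorial

end Groth.Agent.Helper13.CechExtra
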