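import Mathlib
import Groth.Prelude.Def_Coh
import Groth.Prelude.Def_CohTop
import Groth.Agent.Lib.Helper13.CechQCoh
import Groth.Agent.Lib.Helper13.Qcqs

universe u
set_option linter.unusedSectionVars false
set_option autoImplicit false
open CategoryTheory CategoryTheory.Limits Opposite TopologicalSpace AlgebraicGeometry

namespace Groth.Agent.Helper13.CechQcqs

open Groth.Agent.Helper13.CechAcyc Groth.Agent.Helper13.CechQCoh Groth.Agent.Helper13.Qcqs

variable {X : Scheme.{u}} (M : X.Modules) {U₀ : X.Opens}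

lemma isCompact_iInf_basicOpen [QuasiSeparatedSpace X] {ι : Type u} (f : ι → Γ(X, U₀))
    (hqc : ∀ k, IsCompact (X.basicOpen (f k) : Set X)) :
    ∀ (n : ℕ) (a : Fin (n+1) → ι), IsCompact ((⨅ k, X.basicOpen (f (a k)) : X.Opens) : Set X) := by
  intro n
  induction n with
  | zero =>
    intro a
    have : (⨅ k, X.basicOpen (f (a k)) : X.Opens) = X.basicOpen (f (a 0)) := by
      refine le_antisymm (iInf_le _ 0) (le_iInf fun k => ?_)
      have : k = 0 := Fin.fin_one_eq_zero k
      rw [this]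
    rw [this]
    exact hqc _
  | succ n ih =>
    intro a
    have : (⨅ k, X.basicOpen (f (a k)) : X.Opens) =
        X.basicOpen (f (a 0)) ⊓ ⨅ k : Fin (n+1), X.basicOpen (f (a k.succ)) := by
      apply le_antisymm
      · exact le_inf (iInf_le _ 0) (le_iInf fun k => iInf_le _ k.succ)
      · refine le_iInf fun k => ?_
        refine Fin.cases inf_le_left (fun i => ?_) k
        exact inf_le_right.trans (iInf_le _ i)
    rw [this]
    exact QuasiSeparatedSpace.inter_isCompact (α := X) _ _ (X.basicOpen _).isOpen (hqc _)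
      (Opens.isOpen _) (ih (fun k => a k.succ))

theorem isZero_cechH_basicOpen_qcqs [M.IsQuasicoherent] [QuasiSeparatedSpace X]
    {ι : Type u} [Finite ι]
    (f : ι → Γ(X, U₀)) (hqc : ∀ k, IsCompact (X.basicOpen (f k) : Set X))
    (hspan : Ideal.span (Set.range f) = ⊤) (n : ℕ) :
    IsZero (CohTop.cechH M.presheaf (fun k => X.basicOpen (f k)) (n+1)) := by
  haveI := Fintype.ofFinite ι
  refine isZero_cechH (fun k => X.basicOpen (f k)) M.presheaf (pact M U₀) f
    (fun T => IsCompact (T : Set X) ∧ T ≤ U₀) (fun k => X.basicOpen_le _) ?_ ?_ ?_ ?_ n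
  · intro m a
    rw [Va_eq_iInf]
    exact ⟨isCompact_iInf_basicOpen f hqc m a, (iInf_le _ 0).trans (X.basicOpen_le _)⟩
  · rintro k T ⟨hT, hTU⟩ m
    have hW : X.basicOpen (f k) ⊓ T = X.basicOpen (X.presheaf.map (homOfLE hTU).op (f k)) := by
      rw [Scheme.basicOpen_res, inf_comm]
    obtain ⟨N, t, ht⟩ := exists_pow_smul_eq_res_of_qcqs M hT
      (IsQuasiSeparated.of_quasiSeparatedSpace _) (X.presheaf.map (homOfLE hTU).op (f k))
      (X.basicOpen (f k) ⊓ T) hW inf_le_right m
    refine ⟨N, t, ?_⟩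
    rw [pact_sm M U₀ (inf_le_right.trans hTU), map_pow]
    refine ht.trans ?_
    congr 2
    show (X.presheaf.map _) ((X.presheaf.map _) (f k)) = _
    rw [← ConcreteCategory.comp_apply, ← X.presheaf.map_comp]
    rfl
  · rintro k T ⟨hT, hTU⟩ m hm
    have hW : X.basicOpen (f k) ⊓ T = X.basicOpen (X.presheaf.map (homOfLE hTU).op (f k)) := by
      rw [Scheme.basicOpen_res, inf_comm]
    obtain ⟨N, hN⟩ := exists_pow_smul_eq_zero_of_isCompact M hT
      (X.presheaf.map (homOfLE hTU).op (f k)) (X.basicOpen (f k) ⊓ T) hW inf_le_right m hm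
    refine ⟨N, ?_⟩
    rw [pact_sm M U₀ hTU, map_pow]
    exact hN
  · intro N
    have h2 := Ideal.span_pow_eq_top (Set.range f) hspan N
    rw [← Set.range_comp] at h2
    have h3 : (1 : Γ(X, U₀)) ∈ Ideal.span (Set.range ((fun x => x ^ N) ∘ f)) := by
      rw [h2]; trivial
    obtain ⟨c, hc⟩ := (Ideal.mem_span_range_iff_exists_fun).1 h3
    exact ⟨c, hc⟩

end Groth.Agent.Helper13.CechQcqs
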