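import Mathlib
import Groth.Agent.Lib.Helper5.StalkCx4
import Groth.Prelude.Def_CechOX

/-!
# Exactness and monomorphisms of `O_X`-modules from sections over a neighbourhood basis
-/

set_option autoImplicit false
universe u
open CategoryTheory CategoryTheory.Limits AlgebraicGeometry Opposite TopologicalSpace

namespace Groth.Agent.Helper13.SecExact

variable {X : Scheme.{u}}

/-- a set of opens containing arbitrarily small neighbourhoods of every point -/
def IsNbhdBasis (ℬ : Set X.Opens) : Prop :=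
  ∀ (x : X) (U : X.Opens), x ∈ U → ∃ W ∈ ℬ, x ∈ W ∧ W ≤ U

theorem exact_of_sections (S : ShortComplex X.Modules) (ℬ : Set X.Opens) (hB : IsNbhdBasis ℬ)
    (hS : ∀ W ∈ ℬ, ∀ m : S.X₂.presheaf.obj (op W), S.g.app W m = 0 →
      ∃ l : S.X₁.presheaf.obj (op W), S.f.app W l = m) : S.Exact := by
  apply Groth.Agent.Helper5.StalkCx.exact_of_stalks
  intro x
  rw [ShortComplex.moduleCat_exact_iff]
  intro x₂ hx₂
  obtain ⟨U, hxU, s, rfl⟩ := TopCat.Presheaf.exists_germ_eq S.X₂.presheaf x₂
  have h1 : S.X₃.presheaf.germ U x hxU (S.g.app U s) = S.X₃.presheaf.germ U x hxU 0 := by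
    rw [← DerSch.stalkFunctor_map_germ, map_zero]
    exact hx₂
  obtain ⟨U', hxU', i₁, i₂, e⟩ := TopCat.Presheaf.germ_eq S.X₃.presheaf x hxU hxU _ _ h1
  obtain ⟨W, hW, hxW, hWU'⟩ := hB x U' hxU'
  have hWU : W ≤ U := hWU'.trans i₁.le
  have e2 : S.g.app W (S.X₂.presheaf.map (homOfLE hWU).op s) = 0 := by
    have hn := ConcreteCategory.congr_hom (CechOX.app_naturality S.g (homOfLE hWU).op) s
    rw [ConcreteCategory.comp_apply, ConcreteCategory.comp_apply] at hn
    rw [hn]
    have e3 : (homOfLE hWU).op = i₁.op ≫ (homOfLE hWU').op := Subsingleton.elim _ _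
    rw [e3, Functor.map_comp, ConcreteCategory.comp_apply, e, map_zero, map_zero]
  obtain ⟨l, hl⟩ := hS W hW _ e2
  refine ⟨S.X₁.presheaf.germ W x hxW l, ?_⟩
  have h3 := DerSch.stalkFunctor_map_germ x S.f W hxW l
  rw [hl, TopCat.Presheaf.germ_res_apply] at h3
  exact h3

theorem mono_of_sections {A B : X.Modules} (f : A ⟶ B) (ℬ : Set X.Opens) (hB : IsNbhdBasis ℬ)
    (hf : ∀ W ∈ ℬ, ∀ m : A.presheaf.obj (op W), f.app W m = 0 → m = 0) : Mono f := by
  let S : ShortComplex X.Modules := ShortComplex.mk (0 : A ⟶ A) f zero_comp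
  have hS : S.Exact := by
    apply exact_of_sections S ℬ hB
    intro W hW m hm
    exact ⟨0, by rw [hf W hW m hm, map_zero]⟩
  exact (S.exact_iff_mono rfl).mp hS

end Groth.Agent.Helper13.SecExact
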