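import Mathlib
import Groth.Prelude.Def_CechOX
import Groth.Agent.Lib.Helper13.CechExtra
import Groth.Agent.Lib.Helper13.SecExact

/-!
# The Čech complex of sheaves of a covering is a resolution
-/

set_option autoImplicit false
universe u
open CategoryTheory CategoryTheory.Limits AlgebraicGeometry Opposite TopologicalSpace

namespace Groth.Agent.Helper13.CechRes

open Groth.Agent.Helper13.CechExtra Groth.Agent.Helper13.SecExact

section General

variable {C D : Type*} [Category C] [Category D]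

lemma isIso_map_piMap (Φ : C ⥤ D) {J : Type*} (Z Z' : J → C) [HasProduct Z] [HasProduct Z']
    [HasProduct fun a => Φ.obj (Z a)] [HasProduct fun a => Φ.obj (Z' a)]
    [PreservesLimit (Discrete.functor Z) Φ] [PreservesLimit (Discrete.functor Z') Φ]
    [HasProductsOfShape J D]
    (p : ∀ a, Z a ⟶ Z' a) (hp : ∀ a, IsIso (Φ.map (p a))) :
    IsIso (Φ.map (Limits.Pi.map p)) := by
  have e : Φ.map (Limits.Pi.map p) ≫ piComparison Φ Z' =
      piComparison Φ Z ≫ Limits.Pi.map (fun a => Φ.map (p a)) := by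
    apply Pi.hom_ext
    intro a
    rw [Category.assoc, Category.assoc, piComparison_comp_π, Limits.Pi.map_π,
      ← Category.assoc, piComparison_comp_π, ← Functor.map_comp, ← Functor.map_comp,
      Limits.Pi.map_π]
  have e' : Φ.map (Limits.Pi.map p) =
      (piComparison Φ Z ≫ Limits.Pi.map (fun a => Φ.map (p a))) ≫ inv (piComparison Φ Z') := by
    rw [← e, Category.assoc, IsIso.hom_inv_id, Category.comp_id]
  rw [e']
  infer_instance

end General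

variable {X : Scheme.{u}}

section Sections

/-- sections over `V` as a functor to abelian groups -/
noncomputable abbrev Φ (V : X.Opens) : X.Modules ⥤ Ab.{u} :=
  Scheme.Modules.toPresheaf X ⋙ (evaluation (Opens X)ᵒᵖ Ab.{u}).obj (op V)

lemma Φ_map (V : X.Opens) {M N : X.Modules} (φ : M ⟶ N) : (Φ V).map φ = φ.app V := rfl

instance (V : X.Opens) (J : Type u) : PreservesLimitsOfShape (Discrete J) (Φ V) := by
  haveI : PreservesLimitsOfShape (Discrete J)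
      ((evaluation (Opens X)ᵒᵖ Ab.{u}).obj (op V)) := inferInstance
  haveI : PreservesLimitsOfShape (Discrete J) (Scheme.Modules.toPresheaf X) := inferInstance
  exact comp_preservesLimitsOfShape _ _

lemma comp_app_apply {M N L : X.Modules} (φ : M ⟶ N) (ψ : N ⟶ L) (W : X.Opens)
    (m : M.presheaf.obj (op W)) : (φ ≫ ψ).app W m = ψ.app W (φ.app W m) := rfl

lemma add_app_apply {M N : X.Modules} (φ ψ : M ⟶ N) (W : X.Opens)
    (m : M.presheaf.obj (op W)) : (φ + ψ).app W m = φ.app W m + ψ.app W m := by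
  rw [Scheme.Modules.Hom.add_app]
  rfl

lemma id_app_apply {M : X.Modules} (W : X.Opens) (m : M.presheaf.obj (op W)) :
    (𝟙 M : M ⟶ M).app W m = m := by
  rw [Scheme.Modules.Hom.id_app]
  rfl

lemma zero_app_apply {M N : X.Modules} (W : X.Opens) (m : M.presheaf.obj (op W)) :
    (0 : M ⟶ N).app W m = 0 := by
  rw [Scheme.Modules.Hom.zero_app]
  rfl

end Sections

section Main

variable {ι : Type u} (𝒰 : ι → X.Opens) (F : X.Modules)

/-- the presheaf of modules `W ↦ (j_W)_*(F|_W)` -/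
noncomputable abbrev P : (X.Opens)ᵒᵖ ⥤ X.Modules := CechOX.pushRestrFam.flip.obj F

lemma P_map_app {W W' : X.Opens} (f : W' ⟶ W) (V : X.Opens) :
    ((P F).map f.op).app V =
      F.presheaf.map (homOfLE (CechOX.image_preimage_mono (leOfHom f) V)).op := rfl

/-- the unit `F ⟶ (j_W)_*(F|_W)` -/
noncomputable def unitW (W : X.Opens) : F ⟶ (P F).obj (op W) :=
  (Scheme.Modules.restrictAdjunction W.ι).unit.app F

lemma unitW_app (W V : X.Opens) :
    (unitW F W).app V = F.presheaf.map (homOfLE (W.ι.image_preimage_le V)).op := rfl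

lemma presheaf_map_thin {A B C : X.Opens} (x : A ⟶ B) (y : B ⟶ C) (z : A ⟶ C) :
    F.presheaf.map y.op ≫ F.presheaf.map x.op = F.presheaf.map z.op := by
  rw [← F.presheaf.map_comp, ← op_comp, Subsingleton.elim (x ≫ y) z]

lemma unitW_map {W W' : X.Opens} (f : W' ⟶ W) :
    unitW F W ≫ (P F).map f.op = unitW F W' := by
  apply Scheme.Modules.hom_ext
  intro V
  rw [Scheme.Modules.Hom.comp_app, P_map_app, unitW_app, unitW_app]
  exact presheaf_map_thin F _ _ _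

lemma isIso_presheaf_map {A B : X.Opens} (h : A ≤ B) (h' : B ≤ A) :
    IsIso (F.presheaf.map (homOfLE h).op) := by
  haveI : IsIso (homOfLE h) := ⟨⟨homOfLE h', Subsingleton.elim _ _, Subsingleton.elim _ _⟩⟩
  infer_instance

/-- `W ↦ W ⊓ u` -/
def interF (u : X.Opens) : X.Opens ⥤ X.Opens :=
  Monotone.functor (f := fun W => W ⊓ u) (fun _ _ h => inf_le_inf_right u h)

/-- the presheaf of modules `W ↦ (j_{W ∩ u})_*(F|_{W ∩ u})` -/
noncomputable abbrev Pu (u : X.Opens) : (X.Opens)ᵒᵖ ⥤ X.Modules := (interF u).op ⋙ P F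

/-- restriction from `W` to `W ∩ u` -/
noncomputable def ρ (u : X.Opens) : P F ⟶ Pu F u where
  app W := (P F).map (homOfLE (inf_le_left : W.unop ⊓ u ≤ W.unop)).op
  naturality W W' f := by
    change (P F).map f ≫ (P F).map _ = (P F).map _ ≫ (P F).map ((interF u).op.map f)
    rw [← Functor.map_comp, ← Functor.map_comp]
    congr 1

lemma ρ_app (u W : X.Opens) :
    (ρ F u).app (op W) = (P F).map (homOfLE (inf_le_left : W ⊓ u ≤ W)).op := rfl

lemma hInv (i₀ : ι) : HInv 𝒰 (Pu F (𝒰 i₀)) i₀ := by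
  intro W W' m h
  haveI : IsIso ((interF (𝒰 i₀)).map m) :=
    ⟨⟨homOfLE (le_inf h inf_le_right), Subsingleton.elim _ _, Subsingleton.elim _ _⟩⟩
  change IsIso ((P F).map ((interF (𝒰 i₀)).map m).op)
  infer_instance

lemma isIso_ρ_app (u V W : X.Opens) (hV : V ≤ u) : IsIso (((ρ F u).app (op W)).app V) := by
  change IsIso (F.presheaf.map
    (homOfLE (CechOX.image_preimage_mono (inf_le_left : W ⊓ u ≤ W) V)).op)
  apply isIso_presheaf_map
  rw [Scheme.Hom.image_preimage_eq_opensRange_inf, Scheme.Hom.image_preimage_eq_opensRange_inf,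
    Scheme.Opens.opensRange_ι, Scheme.Opens.opensRange_ι]
  exact le_inf (le_inf inf_le_left (inf_le_right.trans hV)) inf_le_right

lemma isIso_unitW_app (u V : X.Opens) (hV : V ≤ u) : IsIso ((unitW F u).app V) := by
  rw [unitW_app]
  apply isIso_presheaf_map
  rw [Scheme.Hom.image_preimage_eq_opensRange_inf, Scheme.Opens.opensRange_ι]
  exact le_inf hV le_rfl

/-- the coaugmentation, typed into the explicit product -/
noncomputable def aug : F ⟶ ∏ᶜ (Zf 𝒰 (P F) 0) := CechOX.cechShAug 𝒰 F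

lemma aug_π (a : Fin 1 → ι) :
    aug 𝒰 F ≫ Pi.π (Zf 𝒰 (P F) 0) a = unitW F (∏ᶜ (𝒰 ∘ a)) :=
  Pi.lift_π _ _

lemma aug_dl (j : Fin 2) (b : Fin 2 → ι) :
    aug 𝒰 F ≫ dl 𝒰 (P F) j ≫ Pi.π (Zf 𝒰 (P F) (0 + 1)) b = unitW F (∏ᶜ (𝒰 ∘ b)) := by
  rw [Y_δ_π 𝒰 (P F) j b (homOfLE (le_pi 𝒰 _ _ fun k => pi_le 𝒰 b _)), ← Category.assoc, aug_π,
    unitW_map]

lemma aug_d : aug 𝒰 F ≫ dK 𝒰 (P F) 0 = 0 :=
  Groth.Agent.Helper28.CechContract.hεd (Y 𝒰 (P F)) F (aug 𝒰 F) (by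
    change aug 𝒰 F ≫ dl 𝒰 (P F) 0 = aug 𝒰 F ≫ dl 𝒰 (P F) 1
    apply hom_ext_Y
    intro b
    rw [Category.assoc, Category.assoc, aug_dl, aug_dl])

/-- the unit into `(Pu F u).obj (op ⊤)` -/
noncomputable def η (u : X.Opens) : F ⟶ (Pu F u).obj (op ⊤) := unitW F (⊤ ⊓ u)

lemma isIso_η_app (u V : X.Opens) (hV : V ≤ u) : IsIso ((η F u).app V) :=
  isIso_unitW_app F _ V (le_inf le_top hV)

lemma aug_mapK (u : X.Opens) :
    aug 𝒰 F ≫ mapK (ρ F u) 0 = η F u ≫ ε 𝒰 (Pu F u) := by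
  apply hom_ext_Y
  intro a
  rw [Category.assoc, Category.assoc, mapK_π, ε_π, ← Category.assoc, aug_π, ρ_app]
  exact (unitW_map F (homOfLE inf_le_left)).trans
    (unitW_map F ((interF u).map (homOfLE le_top))).symm

variable {𝒰 F}

lemma bij_mapK (i₀ : ι) (W : X.Opens) (hW : W ≤ 𝒰 i₀) (n : ℕ) :
    Function.Bijective ((mapK (𝒰 := 𝒰) (ρ F (𝒰 i₀)) n).app W) := by
  have h : IsIso ((Φ W).map (mapK (𝒰 := 𝒰) (ρ F (𝒰 i₀)) n)) := by
    rw [mapK_eq]
    exact isIso_map_piMap (Φ W) _ _ _ (fun a => isIso_ρ_app F _ W _ hW)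
  exact (ConcreteCategory.isIso_iff_bijective _).1 h

lemma exact_succ (i₀ : ι) (W : X.Opens) (hW : W ≤ 𝒰 i₀) (p : ℕ)
    (m : (∏ᶜ (Zf 𝒰 (P F) (p + 1))).presheaf.obj (op W))
    (hm : (dK 𝒰 (P F) (p + 1)).app W m = 0) :
    ∃ l : (∏ᶜ (Zf 𝒰 (P F) p)).presheaf.obj (op W), (dK 𝒰 (P F) p).app W l = m := by
  have hG := hInv 𝒰 F i₀
  obtain ⟨hinj, -⟩ := bij_mapK (𝒰 := 𝒰) (F := F) i₀ W hW (p + 1)
  obtain ⟨-, hsurj⟩ := bij_mapK (𝒰 := 𝒰) (F := F) i₀ W hW p
  have hm' : (dK 𝒰 (Pu F (𝒰 i₀)) (p + 1)).app W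
      ((mapK (𝒰 := 𝒰) (ρ F (𝒰 i₀)) (p + 1)).app W m) = 0 := by
    rw [← comp_app_apply, ← mapK_comm, comp_app_apply, hm, map_zero]
  have hid := congrArg (fun φ => φ.app W ((mapK (𝒰 := 𝒰) (ρ F (𝒰 i₀)) (p + 1)).app W m))
    (id_succ hG p)
  simp only at hid
  rw [add_app_apply, comp_app_apply, comp_app_apply, id_app_apply, hm', map_zero, zero_add]
    at hid
  obtain ⟨l, hl⟩ := hsurj ((τ hG p).app W ((mapK (𝒰 := 𝒰) (ρ F (𝒰 i₀)) (p + 1)).app W m))
  refine ⟨l, hinj ?_⟩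
  rw [← comp_app_apply, mapK_comm, comp_app_apply, hl, hid]

lemma exact_zero (i₀ : ι) (W : X.Opens) (hW : W ≤ 𝒰 i₀)
    (m : (∏ᶜ (Zf 𝒰 (P F) 0)).presheaf.obj (op W))
    (hm : (dK 𝒰 (P F) 0).app W m = 0) :
    ∃ s : F.presheaf.obj (op W), (aug 𝒰 F).app W s = m := by
  have hG := hInv 𝒰 F i₀
  obtain ⟨hinj, -⟩ := bij_mapK (𝒰 := 𝒰) (F := F) i₀ W hW 0
  have hm' : (dK 𝒰 (Pu F (𝒰 i₀)) 0).app W
      ((mapK (𝒰 := 𝒰) (ρ F (𝒰 i₀)) 0).app W m) = 0 := by
    rw [← comp_app_apply, ← mapK_comm, comp_app_apply, hm, map_zero]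
  have hid := congrArg (fun φ => φ.app W ((mapK (𝒰 := 𝒰) (ρ F (𝒰 i₀)) 0).app W m))
    (id_zero hG)
  simp only at hid
  rw [add_app_apply, comp_app_apply, comp_app_apply, id_app_apply, hm', map_zero, add_zero]
    at hid
  have hη : IsIso ((η F (𝒰 i₀)).app W) := isIso_η_app F _ W hW
  obtain ⟨s, hs⟩ := ((ConcreteCategory.isIso_iff_bijective _).1 hη).2
    ((σ' hG).app W ((mapK (𝒰 := 𝒰) (ρ F (𝒰 i₀)) 0).app W m))
  refine ⟨s, hinj ?_⟩
  rw [← comp_app_apply, aug_mapK, comp_app_apply, hs, hid]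

lemma inj_aug (i₀ : ι) (W : X.Opens) (hW : W ≤ 𝒰 i₀) (s : F.presheaf.obj (op W))
    (hs : (aug 𝒰 F).app W s = 0) : s = 0 := by
  have hG := hInv 𝒰 F i₀
  have hη : IsIso ((η F (𝒰 i₀)).app W) := isIso_η_app F _ W hW
  have h0 : (ε 𝒰 (Pu F (𝒰 i₀))).app W ((η F (𝒰 i₀)).app W s) = 0 := by
    rw [← comp_app_apply, ← aug_mapK, comp_app_apply, hs, map_zero]
  have h1' := congrArg (fun φ => φ.app W ((η F (𝒰 i₀)).app W s)) (h1 hG)
  simp only at h1'
  rw [comp_app_apply, h0, map_zero, id_app_apply] at h1'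
  apply ((ConcreteCategory.isIso_iff_bijective _).1 hη).1
  rw [← h1', map_zero]

variable (𝒰) in
/-- the opens contained in a member of the family -/
def ℬ : Set X.Opens := {V | ∃ i, V ≤ 𝒰 i}

lemma isNbhdBasis (h𝒰 : ⨆ i, 𝒰 i = ⊤) : IsNbhdBasis (ℬ 𝒰) := by
  intro x U hx
  have hx' : x ∈ ⨆ i, 𝒰 i := by
    rw [h𝒰]
    trivial
  obtain ⟨i, hi⟩ := Opens.mem_iSup.mp hx'
  exact ⟨U ⊓ 𝒰 i, ⟨i, inf_le_right⟩, ⟨hx, hi⟩, inf_le_left⟩

theorem main (h𝒰 : ⨆ i, 𝒰 i = ⊤) :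
    Mono (CechOX.cechShAug 𝒰 F) ∧
    CechOX.cechShAug 𝒰 F ≫ ((CechOX.cechSh 𝒰).obj F).d 0 1 = 0 ∧
    (∀ (G : X.Modules) (g : G ⟶ ((CechOX.cechSh 𝒰).obj F).X 0),
      g ≫ ((CechOX.cechSh 𝒰).obj F).d 0 1 = 0 →
      ∃! g' : G ⟶ F, g' ≫ CechOX.cechShAug 𝒰 F = g) ∧
    ∀ p : ℕ, IsZero (((CechOX.cechSh 𝒰).obj F).homology (p + 1)) := by
  have hB := isNbhdBasis h𝒰
  have hmono : Mono (aug 𝒰 F) :=
    mono_of_sections _ (ℬ 𝒰) hB (fun W hW s hs => by
      obtain ⟨i, hi⟩ := hW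
      exact inj_aug i W hi s hs)
  have hS : (ShortComplex.mk (aug 𝒰 F) (dK 𝒰 (P F) 0) (aug_d 𝒰 F)).Exact :=
    exact_of_sections _ (ℬ 𝒰) hB (fun W hW m hm => by
      obtain ⟨i, hi⟩ := hW
      exact exact_zero i W hi m hm)
  refine ⟨hmono, aug_d 𝒰 F, ?_, ?_⟩
  · intro G g hg
    haveI := hmono
    refine ⟨hS.lift g hg, hS.lift_f g hg, fun g' hg' => ?_⟩
    exact (cancel_mono (aug 𝒰 F)).1 (hg'.trans (hS.lift_f g hg).symm)
  · intro p
    rw [← HomologicalComplex.exactAt_iff_isZero_homology,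
      HomologicalComplex.exactAt_iff' _ p (p + 1) (p + 2) (by simp) (by simp)]
    exact exact_of_sections _ (ℬ 𝒰) hB (fun W hW m hm => by
      obtain ⟨i, hi⟩ := hW
      exact exact_succ i W hi p m hm)

end Main

end Groth.Agent.Helper13.CechRes
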