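import Mathlib
import Groth.Agent.Lib.Helper13.CechRes

/-!
# The Čech complex of sheaves of a covering is a resolution: exactness statements
-/

set_option autoImplicit false
universe u
open CategoryTheory CategoryTheory.Limits AlgebraicGeometry Opposite TopologicalSpace

namespace Groth.Agent.Helper13.CechRes

open Groth.Agent.Helper13.CechExtra Groth.Agent.Helper13.SecExact

variable {X : Scheme.{u}} {ι : Type u} {𝒰 : ι → X.Opens} {F : X.Modules}

theorem aug_comp_d (𝒰 : ι → X.Opens) (F : X.Modules) :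
    CechOX.cechShAug 𝒰 F ≫ ((CechOX.cechSh 𝒰).obj F).d 0 1 = 0 :=
  aug_d 𝒰 F

theorem mono_aug (h𝒰 : ⨆ i, 𝒰 i = ⊤) : Mono (CechOX.cechShAug 𝒰 F) :=
  (main (F := F) h𝒰).1

theorem exact_aug (h𝒰 : ⨆ i, 𝒰 i = ⊤) :
    (ShortComplex.mk (CechOX.cechShAug 𝒰 F) (((CechOX.cechSh 𝒰).obj F).d 0 1)
      (aug_comp_d 𝒰 F)).Exact :=
  exact_of_sections (ShortComplex.mk (aug 𝒰 F) (dK 𝒰 (P F) 0) (aug_d 𝒰 F)) (ℬ 𝒰)
    (isNbhdBasis h𝒰) (fun W hW m hm => by
      obtain ⟨i, hi⟩ := hW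
      exact exact_zero i W hi m hm)

theorem exactAt_succ (h𝒰 : ⨆ i, 𝒰 i = ⊤) (p : ℕ) :
    ((CechOX.cechSh 𝒰).obj F).ExactAt (p + 1) := by
  rw [HomologicalComplex.exactAt_iff_isZero_homology]
  exact (main (F := F) h𝒰).2.2.2 p

end Groth.Agent.Helper13.CechRes
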