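import Mathlib
import Groth.Prelude.Def_LambdaSp

namespace Groth.Agent.Helper13.Iso
open MvPolynomial

section gen
variable {R M σ τ : Type*} [CommSemiring R] [AddCommMonoid M]

lemma aeval_isWeightedHomogeneous (w : σ → M) (w' : τ → M) (f : σ → MvPolynomial τ R)
    (hf : ∀ k, IsWeightedHomogeneous w' (f k) (w k)) {P : MvPolynomial σ R} {m : M}
    (hP : IsWeightedHomogeneous w P m) : IsWeightedHomogeneous w' (aeval f P) m := by
  classical
  rw [P.as_sum, map_sum]
  apply IsWeightedHomogeneous.sum
  intro d hd
  rw [aeval_monomial]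
  have hc : coeff d P ≠ 0 := mem_support_iff.mp hd
  rw [← hP hc, ← zero_add (Finsupp.weight w d)]
  refine IsWeightedHomogeneous.mul (isWeightedHomogeneous_C w' _) ?_
  rw [Finsupp.weight_apply, Finsupp.prod, Finsupp.sum]
  exact IsWeightedHomogeneous.prod _ _ _ fun i _ => (hf i).pow (d i)

lemma aeval_component (w : σ → M) (w' : τ → M) (f : σ → MvPolynomial τ R)
    (hf : ∀ k, IsWeightedHomogeneous w' (f k) (w k)) (Q₀ : MvPolynomial σ R)
    {G : MvPolynomial τ R} {m : M}
    (hG : IsWeightedHomogeneous w' G m) (h : aeval f Q₀ = G) :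
    aeval f (weightedHomogeneousComponent w m Q₀) = G := by
  classical
  have hfin := weightedHomogeneousComponent_finsupp (w := w) Q₀
  have h1 : Q₀ = ∑ n ∈ hfin.toFinset, weightedHomogeneousComponent w n Q₀ := by
    conv_lhs => rw [← sum_weightedHomogeneousComponent w Q₀]
    exact finsum_eq_sum _ hfin
  have h2 : G = ∑ n ∈ hfin.toFinset, aeval f (weightedHomogeneousComponent w n Q₀) := by
    rw [← h, ← map_sum, ← h1]
  have h3 := congrArg (weightedHomogeneousComponent w' m) h2
  rw [weightedHomogeneousComponent_eq_self hG, map_sum] at h3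
  have h4 : ∀ n ∈ hfin.toFinset, weightedHomogeneousComponent w' m
      (aeval f (weightedHomogeneousComponent w n Q₀)) =
      if m = n then aeval f (weightedHomogeneousComponent w n Q₀) else 0 := by
    intro n _
    exact weightedHomogeneousComponent_of_mem
      (aeval_isWeightedHomogeneous w w' f hf (weightedHomogeneousComponent_isWeightedHomogeneous n Q₀))
  rw [Finset.sum_congr rfl h4, Finset.sum_ite_eq] at h3
  split_ifs at h3 with hm
  · exact h3.symm
  · have : weightedHomogeneousComponent w m Q₀ = 0 := by
      by_contra hne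
      exact hm (hfin.mem_toFinset.mpr hne)
    rw [this, map_zero, h3]

end gen

lemma map_multiset_esymm {R S : Type*} [CommSemiring R] [CommSemiring S] (g : R →+* S)
    (m : Multiset R) (k : ℕ) : g (m.esymm k) = (m.map g).esymm k := by
  rw [Multiset.esymm, Multiset.esymm, map_multiset_sum, Multiset.powersetCard_map,
    Multiset.map_map, Multiset.map_map]
  congr 1
  apply Multiset.map_congr rfl
  intro s _
  simp [map_multiset_prod]

end Groth.Agent.Helper13.Iso
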