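import Mathlib
import Groth.Prelude.Def_LambdaSp
import Groth.Agent.Lib.Helper13.EsymmIso

namespace Groth.Agent.Helper13.Iso
open MvPolynomial

lemma prod_X_isHomogeneous {σ R : Type*} [CommSemiring R] (s : Finset σ) :
    (∏ a ∈ s, (X a : MvPolynomial σ R)).IsHomogeneous s.card := by
  have := IsHomogeneous.prod s (fun a => (X a : MvPolynomial σ R)) (fun _ => 1)
    (fun a _ => isHomogeneous_X R a)
  simpa using this

lemma esymm_isHomogeneous (σ R : Type*) [CommSemiring R] [Fintype σ] (n : ℕ) :
    (esymm σ R n).IsHomogeneous n := by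
  unfold esymm
  apply IsHomogeneous.sum
  intro t ht
  rw [Finset.mem_powersetCard] at ht
  have := prod_X_isHomogeneous (R := R) t
  rwa [ht.2] at this

lemma compGen_isSymmetric (N i j : ℕ) : (LambdaRing.compGen N i j).IsSymmetric := by
  classical
  intro e
  unfold LambdaRing.compGen
  have := map_multiset_esymm ((rename e : MvPolynomial (Fin N) ℤ →ₐ[ℤ] MvPolynomial (Fin N) ℤ) : 
      MvPolynomial (Fin N) ℤ →+* MvPolynomial (Fin N) ℤ)
  simp only [RingHom.coe_coe] at this
  rw [this, Multiset.map_map]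
  have h1 : ∀ s : Finset (Fin N), rename e (∏ a ∈ s, (X a : MvPolynomial (Fin N) ℤ)) =
      ∏ a ∈ s.map e.toEmbedding, X a := by
    intro s
    rw [map_prod, Finset.prod_map]
    simp
  have h2 : ((Finset.univ : Finset (Fin N)).powersetCard i).map
      (Finset.mapEmbedding e.toEmbedding).toEmbedding = (Finset.univ : Finset (Fin N)).powersetCard i := by
    ext t
    simp only [Finset.mem_map, Finset.mem_powersetCard, Finset.subset_univ, true_and]
    constructor
    · rintro ⟨s, hs, rfl⟩
      simpa using hs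
    · intro ht
      refine ⟨t.map e.symm.toEmbedding, by simpa using ht, ?_⟩
      ext x
      simp
  conv_rhs => rw [← h2, Finset.map_val, Multiset.map_map]
  apply congrArg (fun m => Multiset.esymm m j)
  apply Multiset.map_congr rfl
  intro s _
  simp only [Function.comp_apply, h1]
  rfl

lemma compGen_isHomogeneous (N i j : ℕ) : (LambdaRing.compGen N i j).IsHomogeneous (i * j) := by
  classical
  unfold LambdaRing.compGen
  rw [Finset.esymm_map_val]
  apply IsHomogeneous.sum
  intro T hT
  rw [Finset.mem_powersetCard] at hT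
  have h1 : ∀ s ∈ T, (∏ a ∈ s, (X a : MvPolynomial (Fin N) ℤ)).IsHomogeneous i := by
    intro s hs
    have hs' := hT.1 hs
    rw [Finset.mem_powersetCard] at hs'
    have := IsHomogeneous.prod s (fun a => (X a : MvPolynomial (Fin N) ℤ)) (fun _ => 1)
      (fun a _ => isHomogeneous_X ℤ a)
    simpa [hs'.2] using this
  have := IsHomogeneous.prod T (fun s => ∏ a ∈ s, (X a : MvPolynomial (Fin N) ℤ)) (fun _ => i) h1
  simpa [hT.2, mul_comm] using this

theorem exists_isCompPoly (i j : ℕ) :
    ∃ Q : MvPolynomial (Fin (i * j)) ℤ, LambdaRing.IsCompPoly i j Q := by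
  obtain ⟨Q₀, hQ₀⟩ := esymmAlgHom_fin_surjective ℤ (le_refl (i * j))
    ⟨LambdaRing.compGen (i * j) i j, compGen_isSymmetric _ _ _⟩
  have h := congrArg Subtype.val hQ₀
  rw [esymmAlgHom_apply] at h
  refine ⟨weightedHomogeneousComponent (fun k : Fin (i * j) => (k : ℕ) + 1) (i * j) Q₀, ?_,
    weightedHomogeneousComponent_isWeightedHomogeneous _ _⟩
  exact aeval_component (fun k : Fin (i * j) => (k : ℕ) + 1) 1
    (fun k : Fin (i * j) => esymm (Fin (i * j)) ℤ ((k : ℕ) + 1))
    (fun k => esymm_isHomogeneous _ _ _) Q₀ (compGen_isHomogeneous _ _ _) h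

end Groth.Agent.Helper13.Iso
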