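import Mathlib
import Groth.Prelude.Def_CohSite
import Groth.Agent.Lib.Helper13.RpushShf

universe u
set_option linter.unusedSectionVars false
open CategoryTheory CategoryTheory.Limits Opposite

namespace Groth.Agent.Helper13.RpushColim

open Groth.Agent.Helper13.DeltaPsh Groth.Agent.Helper13.RpushShf

section Site
variable {C D : Type u} [SmallCategory C] [SmallCategory D]
  (J : GrothendieckTopology C) (K : GrothendieckTopology D) (u : D ⥤ C)

/-- sheafification inverts a map of presheaves which is bijective on the members of a covering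
family of every object -/
lemma isIso_sheafify_of_local {P Q : Dᵒᵖ ⥤ AddCommGrpCat.{u}} (θ : P ⟶ Q)
    (h : ∀ V : D, ∃ (κ : Type u) (Y : κ → D) (g : ∀ k, Y k ⟶ V), Sieve.ofArrows Y g ∈ K V ∧
      ∀ k, Function.Bijective (θ.app (op (Y k)))) :
    IsIso ((presheafToSheaf K AddCommGrpCat.{u}).map θ) := by
  rw [← GrothendieckTopology.W_iff]
  haveI : Presheaf.IsLocallyInjective K θ := by
    constructor
    intro X x y hxy
    obtain ⟨κ, Y, g, hg, hb⟩ := h X.unop
    refine K.superset_covering ?_ hg
    rw [Sieve.ofArrows, Sieve.generate_le_iff]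
    rintro W f ⟨k⟩
    show P.map (g k).op x = P.map (g k).op y
    apply (hb k).1
    rw [NatTrans.naturality_apply, NatTrans.naturality_apply, hxy]
  haveI : Presheaf.IsLocallySurjective K θ := by
    constructor
    intro U s
    obtain ⟨κ, Y, g, hg, hb⟩ := h U
    refine K.superset_covering ?_ hg
    rw [Sieve.ofArrows, Sieve.generate_le_iff]
    rintro W f ⟨k⟩
    obtain ⟨t, ht⟩ := (hb k).2 (Q.map (g k).op s)
    exact ⟨t, ht⟩
  exact GrothendieckTopology.W_of_isLocallyBijective K θ

/-- if the evaluations of `P` on covering families preserve the colimit of `F`, then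
`P` followed by sheafification preserves the colimit of `F` -/
lemma preservesColimit_comp_sheafify {A : Type (u + 1)} [Category.{u} A] {ι : Type u}
    [SmallCategory ι] (F : ι ⥤ A) [HasColimit F] (P : A ⥤ Dᵒᵖ ⥤ AddCommGrpCat.{u})
    (h : ∀ V : D, ∃ (κ : Type u) (Y : κ → D) (g : ∀ k, Y k ⟶ V), Sieve.ofArrows Y g ∈ K V ∧
      ∀ k, PreservesColimit F (P ⋙ (evaluation Dᵒᵖ AddCommGrpCat.{u}).obj (op (Y k)))) :
    PreservesColimit F (P ⋙ presheafToSheaf K AddCommGrpCat.{u}) := by
  apply preservesColimit_of_preserves_colimit_cocone (colimit.isColimit F)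
  let θ : colimit (F ⋙ P) ⟶ P.obj (colimit F) := colimit.desc (F ⋙ P) (P.mapCocone (colimit.cocone F))
  have hθ : IsIso ((presheafToSheaf K AddCommGrpCat.{u}).map θ) := by
    apply isIso_sheafify_of_local
    intro V
    obtain ⟨κ, Y, g, hg, hp⟩ := h V
    refine ⟨κ, Y, g, hg, fun k => ?_⟩
    haveI := hp k
    have hc1 : IsColimit (((evaluation Dᵒᵖ AddCommGrpCat.{u}).obj (op (Y k))).mapCocone
        (colimit.cocone (F ⋙ P))) :=
      isColimitOfPreserves _ (colimit.isColimit _)
    have hc2 : IsColimit ((P ⋙ (evaluation Dᵒᵖ AddCommGrpCat.{u}).obj (op (Y k))).mapCocone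
        (colimit.cocone F)) :=
      isColimitOfPreserves _ (colimit.isColimit F)
    have e : θ.app (op (Y k)) = (IsColimit.coconePointUniqueUpToIso hc1 hc2).hom := by
      apply hc1.hom_ext
      intro j
      rw [IsColimit.comp_coconePointUniqueUpToIso_hom]
      show (colimit.ι (F ⋙ P) j).app (op (Y k)) ≫ θ.app (op (Y k)) = _
      rw [← NatTrans.comp_app, colimit.ι_desc]
      rfl
    rw [e]
    exact ConcreteCategory.bijective_of_isIso _
  have hc3 : IsColimit ((presheafToSheaf K AddCommGrpCat.{u}).mapCocone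
      (colimit.cocone (F ⋙ P))) :=
    isColimitOfPreserves _ (colimit.isColimit _)
  have e : hc3.desc ((P ⋙ presheafToSheaf K AddCommGrpCat.{u}).mapCocone (colimit.cocone F)) =
      (presheafToSheaf K AddCommGrpCat.{u}).map θ := by
    apply hc3.hom_ext
    intro j
    rw [hc3.fac]
    show _ = (presheafToSheaf K AddCommGrpCat.{u}).map (colimit.ι (F ⋙ P) j) ≫ _
    rw [← Functor.map_comp, colimit.ι_desc]
    rfl
  haveI : IsIso (hc3.desc ((P ⋙ presheafToSheaf K AddCommGrpCat.{u}).mapCocone
      (colimit.cocone F))) := by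
    rw [e]; exact hθ
  exact IsColimit.ofPointIso hc3

variable [u.IsContinuous K J]

theorem mainFunctor (i : ℕ) :
    Nonempty (CohSite.Rpush J K u i ≅
      (Tpsh J u).F i ⋙ presheafToSheaf K AddCommGrpCat.{u}) := by
  obtain ⟨Δ⟩ := Groth.Agent.S16463.result (CohSite.push J K u)
  have hU := Groth.Agent.S16465.result (CohSite.push J K u) Δ
  exact iso_of_universal Δ.toCohDeltaFunctor (Tshf J K u) hU (Tshf_universal J K u)
    ((CohSite.push J K u).rightDerivedZeroIsoSelf ≪≫ e0 J K u) i

theorem main {ι : Type u} [SmallCategory ι] (F : ι ⥤ Sheaf J AddCommGrpCat.{u}) (p : ℕ)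
    (h : ∀ V : D, ∃ (κ : Type u) (Y : κ → D) (g : ∀ k, Y k ⟶ V), Sieve.ofArrows Y g ∈ K V ∧
      ∀ k, PreservesColimit F
        ((Sheaf.cohomologyPresheafFunctor J p).flip.obj (op (u.obj (Y k))))) :
    PreservesColimit F (CohSite.Rpush J K u p) := by
  obtain ⟨e⟩ := mainFunctor J K u p
  haveI : PreservesColimit F ((Tpsh J u).F p ⋙ presheafToSheaf K AddCommGrpCat.{u}) := by
    apply preservesColimit_comp_sheafify
    intro V
    obtain ⟨κ, Y, g, hg, hp⟩ := h V
    refine ⟨κ, Y, g, hg, fun k => ?_⟩
    haveI := hp k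
    exact preservesColimit_of_natIso F
      (NatIso.ofComponents (fun G => Iso.refl _) (fun {G G'} φ => by
        simp only [Iso.refl_hom, Category.comp_id, Category.id_comp]
        rfl) :
      (Sheaf.cohomologyPresheafFunctor J p).flip.obj (op (u.obj (Y k))) ≅
        (Tpsh J u).F p ⋙ (evaluation Dᵒᵖ AddCommGrpCat.{u}).obj (op (Y k)))
  exact preservesColimit_of_natIso F e.symm

end Site

end Groth.Agent.Helper13.RpushColim
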