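import Mathlib
import Groth.Prelude.Def_CohTop
import Groth.Agent.Lib.Helper13.RpushColim
import Groth.Agent.Lib.Helper13.LerayBase
import Groth.Agent.Lib.Helper24.Flasque

universe u
set_option linter.unusedSectionVars false
open CategoryTheory CategoryTheory.Limits Opposite TopologicalSpace

namespace Groth.Agent.Helper13.ConstIrr

variable (X : TopCat.{u}) (A : Type u) [AddCommGroup A]

/-- constant functions on `U` -/
def constFns (U : Opens X) : AddSubgroup (U → A) where
  carrier := {f | ∀ x y, f x = f y}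
  zero_mem' := fun _ _ => rfl
  add_mem' := fun {f g} hf hg x y => by
    show f x + g x = f y + g y
    rw [hf x y, hg x y]
  neg_mem' := fun {f} hf x y => by
    show - f x = - f y
    rw [hf x y]

/-- restriction of constant functions -/
def resFn {U V : Opens X} (h : V ≤ U) : constFns X A U →+ constFns X A V where
  toFun f := ⟨fun x => f.1 ⟨x.1, h x.2⟩, fun x y => f.2 _ _⟩
  map_zero' := rfl
  map_add' _ _ := rfl

/-- the presheaf of constant functions -/
def Q : (Opens X)ᵒᵖ ⥤ AddCommGrpCat.{u} where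
  obj U := AddCommGrpCat.of (constFns X A U.unop)
  map {U V} i := AddCommGrpCat.ofHom (resFn X A i.unop.le)
  map_id U := rfl
  map_comp f g := rfl

lemma Q_map_apply {U V : (Opens X)ᵒᵖ} (i : U ⟶ V) (f : constFns X A U.unop) (x : V.unop) :
    (((Q X A).map i).hom f).1 x = f.1 ⟨x.1, i.unop.le x.2⟩ := rfl

variable [IrreducibleSpace X]

lemma Q_isSheaf : Presheaf.IsSheaf (Opens.grothendieckTopology X) (Q X A) := by
  refine (TopCat.Presheaf.isSheaf_iff_isSheafUniqueGluing (Q X A)).2 ?_
  intro ι U sf hsf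
  -- the glued function
  have hmem : ∀ x : (iSup U : Opens X), ∃ i, x.1 ∈ U i := fun x => Opens.mem_iSup.1 x.2
  have key : ∀ (i j : ι) (x : U i) (y : U j), (sf i).1 x = (sf j).1 y := by
    intro i j x y
    obtain ⟨z, hz1, hz2⟩ := nonempty_preirreducible_inter (U i).2 (U j).2 ⟨x.1, x.2⟩ ⟨y.1, y.2⟩
    have h1 := congrArg (fun s => s.1 ⟨z, ⟨hz1, hz2⟩⟩) (hsf i j)
    simp only [Q_map_apply] at h1
    rw [(sf i).2 x ⟨z, hz1⟩, (sf j).2 y ⟨z, hz2⟩]
    exact h1
  refine ⟨⟨fun x => (sf (hmem x).choose).1 ⟨x.1, (hmem x).choose_spec⟩, fun x y => key _ _ _ _⟩,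
    ?_, ?_⟩
  · intro i
    apply Subtype.ext
    funext x
    exact key _ _ _ _
  · intro s hs
    apply Subtype.ext
    funext x
    have h1 := congrArg (fun s => s.1 ⟨x.1, (hmem x).choose_spec⟩) (hs (hmem x).choose)
    simp only [Q_map_apply] at h1
    exact h1

/-- the sheaf of constant functions -/
def Qs : CohTop.Ab X := ⟨Q X A, Q_isSheaf X A⟩

omit [IrreducibleSpace X] in
/-- constant presheaf to constant functions -/
def θ : (Functor.const (Opens X)ᵒᵖ).obj (AddCommGrpCat.of A) ⟶ Q X A where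
  app U := AddCommGrpCat.ofHom
    { toFun := fun a => ⟨fun _ => a, fun _ _ => rfl⟩
      map_zero' := rfl
      map_add' := fun _ _ => rfl }
  naturality U V i := rfl

omit [IrreducibleSpace X] in
lemma θ_bijective (U : Opens X) (hU : (U : Set X).Nonempty) :
    Function.Bijective ((θ X A).app (op U)) := by
  obtain ⟨x, hx⟩ := hU
  constructor
  · intro a b hab
    exact congrArg (fun s : constFns X A U => s.1 ⟨x, hx⟩) hab
  · intro f
    refine ⟨(f : constFns X A U).1 ⟨x, hx⟩, ?_⟩
    apply Subtype.ext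
    funext y
    exact (f : constFns X A U).2 _ _

omit [IrreducibleSpace X] in
lemma isIso_sheafify_θ :
    IsIso ((presheafToSheaf (Opens.grothendieckTopology X) AddCommGrpCat.{u}).map (θ X A)) := by
  apply RpushColim.isIso_sheafify_of_local
  intro V
  refine ⟨{W : Opens X // W ≤ V ∧ (W : Set X).Nonempty}, fun k => k.1, fun k => homOfLE k.2.1, ?_,
    fun k => θ_bijective X A k.1 k.2.2⟩
  intro x hx
  exact ⟨V, 𝟙 V, Sieve.ofArrows_mk _ _ (⟨V, le_rfl, ⟨x, hx⟩⟩ :
    {W : Opens X // W ≤ V ∧ (W : Set X).Nonempty}), hx⟩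

/-- the constant sheaf on an irreducible space is the sheaf of constant functions -/
noncomputable def constIso : CohTop.const X A ≅ Qs X A :=
  @asIso _ _ _ _ _ (isIso_sheafify_θ X A) ≪≫
    ((sheafificationNatIso (Opens.grothendieckTopology X) AddCommGrpCat.{u}).app (Qs X A)).symm

omit [IrreducibleSpace X] in
lemma Q_flasque : TopCat.Presheaf.IsFlasque (Q X A) where
  epi {U V} i := by
    rw [AddCommGrpCat.epi_iff_surjective]
    intro g
    by_cases hV : (V.unop : Set X).Nonempty
    · obtain ⟨x, hx⟩ := hV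
      refine ⟨⟨fun _ => (g : constFns X A V.unop).1 ⟨x, hx⟩, fun _ _ => rfl⟩, ?_⟩
      apply Subtype.ext
      funext y
      exact (g : constFns X A V.unop).2 _ _
    · refine ⟨0, ?_⟩
      apply Subtype.ext
      funext y
      exact absurd ⟨y.1, y.2⟩ hV

theorem main (p : ℕ) : Subsingleton (CohTop.H (CohTop.const X A) (p + 1)) :=
  LerayBase.subsingleton_H_of_iso (constIso X A) (p + 1)
    (Groth.Agent.Helper24.Flasque.H_succ_subsingleton p (Qs X A) (Q_flasque X A))

end Groth.Agent.Helper13.ConstIrr
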