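import Mathlib
import Groth.Agent.Lib.Helper13.WeakAss
import Groth.Agent.Lib.Helper13.ExtSheaf
import Groth.Agent.Lib.Helper13.StalkBasis

set_option autoImplicit false
set_option maxHeartbeats 400000
universe u
open CategoryTheory CategoryTheory.Limits AlgebraicGeometry Opposite TopologicalSpace
open Groth.Agent.Helper13.QCoh Groth.Agent.Helper13.FinType

namespace Groth.Agent.Helper13.IdealGen

section Alg

/-- in a Noetherian ring, the saturation of an ideal at a prime is reached by one denominator. -/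
lemma exists_uniform_mul {A : Type*} [CommRing A] [IsNoetherianRing A] (p : Ideal A) [p.IsPrime]
    (B : Type*) [CommRing B] [Algebra A B] [IsLocalization.AtPrime B p] (I : Ideal A) :
    ∃ t ∈ p.primeCompl, ∀ b : A,
      algebraMap A B b ∈ Ideal.map (algebraMap A B) I → t * b ∈ I := by
  classical
  set J : Ideal A := Ideal.comap (algebraMap A B) (Ideal.map (algebraMap A B) I) with hJ
  obtain ⟨c, hc⟩ : J.FG := IsNoetherian.noetherian J
  have h : ∀ b : A, ∃ t ∈ p.primeCompl, b ∈ J → t * b ∈ I := by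
    intro b
    by_cases hb : b ∈ J
    · have hb' := hb
      rw [hJ, Ideal.mem_comap, IsLocalization.mem_map_algebraMap_iff p.primeCompl B] at hb'
      obtain ⟨⟨i, m⟩, hx⟩ := hb'
      rw [← map_mul, IsLocalization.eq_iff_exists p.primeCompl B] at hx
      obtain ⟨c', hc'⟩ := hx
      refine ⟨(c' : A) * (m : A), p.primeCompl.mul_mem c'.2 m.2, fun _ => ?_⟩
      have : (c' : A) * (m : A) * b = c' * i := by
        rw [mul_assoc, mul_comm (m : A) b]; exact hc'
      rw [this]
      exact Ideal.mul_mem_left _ _ i.2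
    · exact ⟨1, Submonoid.one_mem _, fun h' => absurd h' hb⟩
  choose τ hτ1 hτ2 using h
  refine ⟨∏ b ∈ c, τ b, Submonoid.prod_mem _ (fun b _ => hτ1 b), ?_⟩
  intro b hb
  have hbJ : b ∈ J := hb
  let K : Ideal A := Submodule.comap ((∏ b ∈ c, τ b) • (LinearMap.id : A →ₗ[A] A)) I
  have hle : J ≤ K := by
    rw [← hc]
    refine Submodule.span_le.2 ?_
    intro b' hb'
    obtain ⟨w, hw⟩ := Finset.dvd_prod_of_mem τ hb'
    change (∏ b ∈ c, τ b) • b' ∈ I
    rw [smul_eq_mul, hw, mul_comm (τ b') w, mul_assoc]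
    exact Ideal.mul_mem_left _ _ (hτ2 b' (hc ▸ Submodule.subset_span hb'))
  exact hle hbJ

end Alg

variable {X : Scheme.{u}} (G : X.Modules) (ι : G ⟶ Coh.structureModule X)

/-- the stalk of the inclusion, with values in the local ring. -/
noncomputable def jx (x : X) :
    G.presheaf.stalk x →ₗ[X.presheaf.stalk x] X.presheaf.stalk x :=
  (Groth.Agent.Helper13.WeakAss.unitStalkEquiv x).toLinearMap ∘ₗ stalkLinearMap ι x

lemma jx_germ (x : X) (U : X.Opens) (hx : x ∈ U) (σ : Γ(G, U)) :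
    jx G ι x (G.presheaf.germ U x hx σ) = X.presheaf.germ U x hx (ι.app U σ) := by
  change Groth.Agent.Helper13.WeakAss.unitStalkEquiv x
    (stalkMap ι x (G.presheaf.germ U x hx σ)) = _
  rw [stalkMap_germ, Groth.Agent.Helper13.WeakAss.unitStalkEquiv_germ]

lemma jx_injective [Mono ι] (x : X) : Function.Injective (jx G ι x) := by
  intro a b h
  apply Groth.Agent.Helper13.Ext.stalkMap_injective_of_mono ι x
  exact (Groth.Agent.Helper13.WeakAss.unitStalkEquiv x).injective h

/-- the germs at `x` of a family of local sections. -/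
def germSet (S : Set (Σ U : X.Opens, Γ(G, U))) (x : X) : Set (G.presheaf.stalk x) :=
  {g | ∃ p ∈ S, ∃ hx : x ∈ p.1, g = G.presheaf.germ p.1 x hx p.2}

/-- the family generates the stalk at `x`. -/
def Gen (S : Set (Σ U : X.Opens, Γ(G, U))) (x : X) : Prop :=
  Submodule.span (X.presheaf.stalk x) (germSet G S x) = ⊤

variable {G} in
lemma Gen.mono {S S' : Set (Σ U : X.Opens, Γ(G, U))} (h : S ⊆ S') {x : X} (hg : Gen G S x) :
    Gen G S' x := by
  unfold Gen at hg ⊢
  rw [eq_top_iff, ← hg]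
  apply Submodule.span_mono
  rintro g ⟨p, hp, hx, rfl⟩
  exact ⟨p, h hp, hx, rfl⟩

/-- finitely many local sections generate all stalks at points of `Z`. -/
def P (Z : Set X) : Prop :=
  ∃ S : Set (Σ U : X.Opens, Γ(G, U)), S.Finite ∧ ∀ x ∈ Z, Gen G S x

lemma P_empty : P G (∅ : Set X) := ⟨∅, Set.finite_empty, fun x hx => hx.elim⟩

lemma P_union {Z₁ Z₂ : Set X} (h₁ : P G Z₁) (h₂ : P G Z₂) : P G (Z₁ ∪ Z₂) := by
  obtain ⟨S₁, hf₁, hS₁⟩ := h₁
  obtain ⟨S₂, hf₂, hS₂⟩ := h₂
  refine ⟨S₁ ∪ S₂, hf₁.union hf₂, ?_⟩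
  rintro x (hx | hx)
  · exact (hS₁ x hx).mono Set.subset_union_left
  · exact (hS₂ x hx).mono Set.subset_union_right

lemma P_mono {Z Z' : Set X} (h : Z ⊆ Z') (hP : P G Z') : P G Z := by
  obtain ⟨S, hf, hS⟩ := hP
  exact ⟨S, hf, fun x hx => hS x (h hx)⟩


/-- **local step**: near a point `ξ`, finitely many sections generate the stalks at all
specializations of `ξ`. -/
theorem key [IsNoetherian X] [Mono ι] (ξ : X) :
    ∃ V : X.Opens, ξ ∈ V ∧ ∃ S : Set (Σ U : X.Opens, Γ(G, U)), S.Finite ∧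
      ∀ y ∈ V, y ∈ closure ({ξ} : Set X) → Gen G S y := by
  classical
  haveI : Module.Finite (X.presheaf.stalk ξ) (G.presheaf.stalk ξ) :=
    Module.Finite.of_injective (jx G ι ξ) (jx_injective G ι ξ)
  obtain ⟨n, m, hm⟩ := Module.Finite.exists_fin (R := X.presheaf.stalk ξ)
    (M := G.presheaf.stalk ξ)
  obtain ⟨V₀, hξV₀, t₀, ht₀⟩ := Groth.Agent.Helper13.StalkBasis.exists_common_germ G ξ m
  obtain ⟨U, hUaff, hξU, hUV₀⟩ := Opens.isBasis_iff_nbhd.mp X.isBasis_affineOpens hξV₀
  have hUaff' : IsAffineOpen U := hUaff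
  let s : Fin n → Γ(G, U) := fun j => G.presheaf.map (homOfLE hUV₀).op (t₀ j)
  have hs : ∀ j, G.presheaf.germ U ξ hξU (s j) = m j := fun j => by
    rw [← ht₀ j]
    exact TopCat.Presheaf.germ_res_apply G.presheaf (homOfLE hUV₀) ξ hξU (t₀ j)
  let a : Fin n → Γ(X, U) := fun j => (show Γ(X, U) from ι.app U (s j))
  let I' : Ideal Γ(X, U) := Ideal.span (Set.range a)
  haveI : IsNoetherianRing Γ(X, U) := IsLocallyNoetherian.component_noetherian ⟨U, hUaff'⟩
  letI algξ := X.presheaf.algebra_section_stalk ⟨ξ, hξU⟩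
  haveI locξ := hUaff'.isLocalization_stalk ⟨ξ, hξU⟩
  obtain ⟨t, htp, ht⟩ := exists_uniform_mul (hUaff'.primeIdealOf ⟨ξ, hξU⟩).asIdeal
    (X.presheaf.stalk ξ) I'
  -- everything in the image of `jx ξ` lies in `I' O_ξ`
  have hB : ∀ g : G.presheaf.stalk ξ, jx G ι ξ g ∈
      Ideal.map (algebraMap Γ(X, U) (X.presheaf.stalk ξ)) I' := by
    intro g
    have hg : g ∈ Submodule.span (X.presheaf.stalk ξ) (Set.range m) := by rw [hm]; trivial
    induction hg using Submodule.span_induction with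
    | mem x hx =>
      obtain ⟨j, rfl⟩ := hx
      rw [← hs j, jx_germ]
      exact Ideal.mem_map_of_mem _ (Ideal.subset_span ⟨j, rfl⟩)
    | zero => rw [map_zero]; exact Submodule.zero_mem _
    | add x y _ _ hx hy => rw [map_add]; exact Submodule.add_mem _ hx hy
    | smul r x _ hx => rw [map_smul]; exact Ideal.mul_mem_left _ _ hx
  refine ⟨X.basicOpen t, ?_, Set.range (fun j => (⟨U, s j⟩ : Σ U : X.Opens, Γ(G, U))),
    Set.finite_range _, ?_⟩
  · rw [X.mem_basicOpen t ξ hξU]
    exact IsLocalization.map_units (X.presheaf.stalk ξ)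
      (⟨t, htp⟩ : (hUaff'.primeIdealOf ⟨ξ, hξU⟩).asIdeal.primeCompl)
  · intro y hyt hyξ
    have hyU : y ∈ U := X.basicOpen_le t hyt
    letI algy := X.presheaf.algebra_section_stalk ⟨y, hyU⟩
    haveI locy := hUaff'.isLocalization_stalk ⟨y, hyU⟩
    unfold Gen
    rw [eq_top_iff]
    intro g _
    obtain ⟨W, hyW, σ, rfl⟩ := TopCat.Presheaf.exists_germ_eq G.presheaf g
    set N : Submodule (X.presheaf.stalk y) (G.presheaf.stalk y) :=
      Submodule.span (X.presheaf.stalk y)
        (germSet G (Set.range (fun j => (⟨U, s j⟩ : Σ U : X.Opens, Γ(G, U)))) y) with hN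
    have hA : Ideal.map (algebraMap Γ(X, U) (X.presheaf.stalk y)) I' ≤
        Submodule.map (jx G ι y) N := by
      rw [Ideal.map_le_iff_le_comap]
      refine Ideal.span_le.2 ?_
      rintro _ ⟨j, rfl⟩
      refine ⟨G.presheaf.germ U y hyU (s j),
        Submodule.subset_span ⟨⟨U, s j⟩, ⟨j, rfl⟩, hyU, rfl⟩, ?_⟩
      exact jx_germ G ι y U hyU (s j)
    obtain ⟨⟨a0, u⟩, hz⟩ := IsLocalization.surj
      (hUaff'.primeIdealOf ⟨y, hyU⟩).asIdeal.primeCompl
      (X.presheaf.germ W y hyW (show Γ(X, W) from ι.app W σ))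
    simp only at hz
    let W₁ : X.Opens := W ⊓ U
    have hyW₁ : y ∈ W₁ := ⟨hyW, hyU⟩
    let lhs : Γ(X, W₁) := X.presheaf.map (homOfLE (inf_le_left : W₁ ≤ W)).op
        (show Γ(X, W) from ι.app W σ) *
      X.presheaf.map (homOfLE (inf_le_right : W₁ ≤ U)).op (u : Γ(X, U))
    let rhs : Γ(X, W₁) := X.presheaf.map (homOfLE (inf_le_right : W₁ ≤ U)).op a0
    have hgerm : X.presheaf.germ W₁ y hyW₁ lhs = X.presheaf.germ W₁ y hyW₁ rhs := by
      simp only [lhs, rhs]
      rw [map_mul, TopCat.Presheaf.germ_res_apply, TopCat.Presheaf.germ_res_apply,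
        TopCat.Presheaf.germ_res_apply]
      exact hz
    obtain ⟨W', hyW', i₁, i₂, heq⟩ :=
      TopCat.Presheaf.germ_eq X.presheaf y hyW₁ hyW₁ lhs rhs hgerm
    have hξW' : ξ ∈ W' := by
      obtain ⟨z, hzW', hzξ⟩ := mem_closure_iff.1 hyξ W' W'.isOpen hyW'
      rw [Set.mem_singleton_iff] at hzξ
      exact hzξ ▸ hzW'
    have hξW : ξ ∈ W := (i₁.le hξW').1
    have e2 := congrArg (X.presheaf.germ W' ξ hξW') heq
    simp only [lhs, rhs] at e2
    rw [TopCat.Presheaf.germ_res_apply, map_mul, TopCat.Presheaf.germ_res_apply,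
      TopCat.Presheaf.germ_res_apply, TopCat.Presheaf.germ_res_apply,
      TopCat.Presheaf.germ_res_apply] at e2
    have ha0 : algebraMap Γ(X, U) (X.presheaf.stalk ξ) a0 ∈
        Ideal.map (algebraMap Γ(X, U) (X.presheaf.stalk ξ)) I' := by
      change X.presheaf.germ U ξ hξU a0 ∈ _
      rw [← e2, ← jx_germ G ι ξ W hξW σ]
      exact Ideal.mul_mem_right _ _ (hB _)
    have hta := ht a0 ha0
    obtain ⟨g', hg'N, hg'⟩ := hA (Ideal.mem_map_of_mem _ hta)
    have ut : IsUnit (X.presheaf.germ U y hyU t) := (X.mem_basicOpen t y hyU).1 hyt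
    have uu : IsUnit (X.presheaf.germ U y hyU (u : Γ(X, U))) :=
      IsLocalization.map_units (X.presheaf.stalk y) u
    obtain ⟨v1, hv1⟩ := isUnit_iff_exists_inv'.1 ut
    obtain ⟨v2, hv2⟩ := isUnit_iff_exists_inv'.1 uu
    have hfin : G.presheaf.germ W y hyW σ = (v1 * v2) • g' := by
      apply jx_injective G ι y
      rw [map_smul, hg', jx_germ, smul_eq_mul]
      change _ = v1 * v2 * X.presheaf.germ U y hyU (t * a0)
      rw [map_mul]
      have hz' : X.presheaf.germ W y hyW (show Γ(X, W) from ι.app W σ) *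
          X.presheaf.germ U y hyU (u : Γ(X, U)) = X.presheaf.germ U y hyU a0 := hz
      rw [← hz']
      set zz := X.presheaf.germ W y hyW (show Γ(X, W) from ι.app W σ)
      set Uu := X.presheaf.germ U y hyU (u : Γ(X, U))
      set T := X.presheaf.germ U y hyU t
      linear_combination (-(zz * v2 * Uu)) * hv1 - zz * hv2
    rw [hfin]
    exact Submodule.smul_mem _ _ hg'N


/-- **Noetherian induction**: finitely many local sections generate all stalks at points of any
closed subset. -/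
theorem P_closeds [IsNoetherian X] [Mono ι] (Z : Closeds X) : P G (Z : Set X) := by
  apply wellFounded_lt.induction Z
  intro s H
  rcases eq_or_ne s ⊥ with rfl | h₀
  · rw [Closeds.coe_bot]
    exact P_empty G
  · by_cases h₁ : IsPreirreducible (s : Set X)
    · have hirr : IsIrreducible (s : Set X) := ⟨Closeds.coe_nonempty.2 h₀, h₁⟩
      obtain ⟨ξ, hξ⟩ := QuasiSober.sober hirr s.isClosed
      obtain ⟨V, hξV, S, hSfin, hS⟩ := key G ι ξ
      let s' : Closeds X := s ⊓ ⟨(V : Set X)ᶜ, V.isOpen.isClosed_compl⟩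
      have hξs : ξ ∈ (s : Set X) := by
        rw [← hξ.def]
        exact subset_closure rfl
      have hlt : s' < s := by
        refine lt_of_le_of_ne inf_le_left ?_
        intro heq
        have h2 : ξ ∈ (s' : Set X) := by rw [heq]; exact hξs
        exact h2.2 hξV
      obtain ⟨S', hS'fin, hS'⟩ := H s' hlt
      refine ⟨S ∪ S', hSfin.union hS'fin, fun x hx => ?_⟩
      by_cases hxV : x ∈ V
      · exact (hS x hxV (by rw [hξ.def]; exact hx)).mono Set.subset_union_left
      · exact (hS' x ⟨hx, hxV⟩).mono Set.subset_union_right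
    · simp only [isPreirreducible_iff_isClosed_union_isClosed, not_forall, not_or] at h₁
      obtain ⟨z₁, z₂, hz₁, hz₂, h, hz₁', hz₂'⟩ := h₁
      lift z₁ to Closeds X using hz₁
      lift z₂ to Closeds X using hz₂
      have h1 := H (s ⊓ z₁) (inf_lt_left.2 hz₁')
      have h2 := H (s ⊓ z₂) (inf_lt_left.2 hz₂')
      refine P_mono G ?_ (P_union G h1 h2)
      intro x hx
      rcases h hx with hx1 | hx2
      · exact Or.inl ⟨hx, hx1⟩
      · exact Or.inr ⟨hx, hx2⟩

end Groth.Agent.Helper13.IdealGen
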