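import Mathlib
import Groth.Agent.Lib.Helper13.IdealGen

set_option autoImplicit false
set_option maxHeartbeats 400000
universe u
open CategoryTheory CategoryTheory.Limits AlgebraicGeometry Opposite TopologicalSpace
open Groth.Agent.Helper13.QCoh Groth.Agent.Helper13.FinType

namespace Groth.Agent.Helper13.IdealGen

variable {X : Scheme.{u}} (G : X.Modules) (ι : G ⟶ Coh.structureModule X)

/-- the ideal of the local ring at `x` cut out by `ι`. -/
noncomputable abbrev Jr (x : X) : Submodule (X.presheaf.stalk x) (X.presheaf.stalk x) :=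
  LinearMap.range (jx G ι x)

lemma jx_comp {G H : X.Modules} (f : G ⟶ H) (κ : H ⟶ Coh.structureModule X) (x : X)
    (g : G.presheaf.stalk x) : jx H κ x (stalkMap f x g) = jx G (f ≫ κ) x g := by
  change Groth.Agent.Helper13.WeakAss.unitStalkEquiv x (stalkMap κ x (stalkMap f x g)) =
    Groth.Agent.Helper13.WeakAss.unitStalkEquiv x (stalkMap (f ≫ κ) x g)
  rw [Groth.Agent.Helper13.PbInv.stalkMap_comp]

/-- **local step, comparison form**: near `ξ`, every ideal subsheaf whose stalk at `ξ` is contained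
in that of `G` has its stalks at specializations of `ξ` contained in those of `G`. -/
theorem key' [IsNoetherian X] (ξ : X) :
    ∃ V : X.Opens, ξ ∈ V ∧ ∀ (H : X.Modules) (κ : H ⟶ Coh.structureModule X),
      Jr H κ ξ ≤ Jr G ι ξ → ∀ y ∈ V, y ∈ closure ({ξ} : Set X) → Jr H κ y ≤ Jr G ι y := by
  classical
  have hfg : (Jr G ι ξ).FG := IsNoetherian.noetherian _
  obtain ⟨n, sgen, hsgen⟩ := Submodule.fg_iff_exists_fin_generating_family.1 hfg
  have hmem : ∀ k, sgen k ∈ Jr G ι ξ := fun k => hsgen ▸ Submodule.subset_span ⟨k, rfl⟩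
  choose m hmk using hmem
  obtain ⟨V₀, hξV₀, t₀, ht₀⟩ := Groth.Agent.Helper13.StalkBasis.exists_common_germ G ξ m
  obtain ⟨U, hUaff, hξU, hUV₀⟩ := Opens.isBasis_iff_nbhd.mp X.isBasis_affineOpens hξV₀
  have hUaff' : IsAffineOpen U := hUaff
  let s : Fin n → Γ(G, U) := fun j => G.presheaf.map (homOfLE hUV₀).op (t₀ j)
  have hs : ∀ j, G.presheaf.germ U ξ hξU (s j) = m j := fun j => by
    rw [← ht₀ j]
    exact TopCat.Presheaf.germ_res_apply G.presheaf (homOfLE hUV₀) ξ hξU (t₀ j)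
  let a : Fin n → Γ(X, U) := fun j => (show Γ(X, U) from ι.app U (s j))
  let I' : Ideal Γ(X, U) := Ideal.span (Set.range a)
  haveI : IsNoetherianRing Γ(X, U) := IsLocallyNoetherian.component_noetherian ⟨U, hUaff'⟩
  letI algξ := X.presheaf.algebra_section_stalk ⟨ξ, hξU⟩
  haveI locξ := hUaff'.isLocalization_stalk ⟨ξ, hξU⟩
  obtain ⟨t, htp, ht⟩ := exists_uniform_mul (hUaff'.primeIdealOf ⟨ξ, hξU⟩).asIdeal
    (X.presheaf.stalk ξ) I'
  have hB : Jr G ι ξ ≤ Ideal.map (algebraMap Γ(X, U) (X.presheaf.stalk ξ)) I' := by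
    rw [← hsgen]
    refine Submodule.span_le.2 ?_
    rintro _ ⟨k, rfl⟩
    rw [← hmk k, ← hs k, jx_germ]
    exact Ideal.mem_map_of_mem _ (Ideal.subset_span ⟨k, rfl⟩)
  refine ⟨X.basicOpen t, ?_, ?_⟩
  · rw [X.mem_basicOpen t ξ hξU]
    exact IsLocalization.map_units (X.presheaf.stalk ξ)
      (⟨t, htp⟩ : (hUaff'.primeIdealOf ⟨ξ, hξU⟩).asIdeal.primeCompl)
  · intro H κ hHG y hyt hyξ
    have hyU : y ∈ U := X.basicOpen_le t hyt
    letI algy := X.presheaf.algebra_section_stalk ⟨y, hyU⟩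
    haveI locy := hUaff'.isLocalization_stalk ⟨y, hyU⟩
    rintro _ ⟨h, rfl⟩
    obtain ⟨W, hyW, σ, rfl⟩ := TopCat.Presheaf.exists_germ_eq H.presheaf h
    rw [jx_germ]
    have hA : Ideal.map (algebraMap Γ(X, U) (X.presheaf.stalk y)) I' ≤ Jr G ι y := by
      rw [Ideal.map_le_iff_le_comap]
      refine Ideal.span_le.2 ?_
      rintro _ ⟨j, rfl⟩
      exact ⟨G.presheaf.germ U y hyU (s j), jx_germ G ι y U hyU (s j)⟩
    obtain ⟨⟨a0, u⟩, hz⟩ := IsLocalization.surj
      (hUaff'.primeIdealOf ⟨y, hyU⟩).asIdeal.primeCompl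
      (X.presheaf.germ W y hyW (show Γ(X, W) from κ.app W σ))
    simp only at hz
    let W₁ : X.Opens := W ⊓ U
    have hyW₁ : y ∈ W₁ := ⟨hyW, hyU⟩
    let lhs : Γ(X, W₁) := X.presheaf.map (homOfLE (inf_le_left : W₁ ≤ W)).op
        (show Γ(X, W) from κ.app W σ) *
      X.presheaf.map (homOfLE (inf_le_right : W₁ ≤ U)).op (u : Γ(X, U))
    let rhs : Γ(X, W₁) := X.presheaf.map (homOfLE (inf_le_right : W₁ ≤ U)).op a0
    have hgerm : X.presheaf.germ W₁ y hyW₁ lhs = X.presheaf.germ W₁ y hyW₁ rhs := by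
      simp only [lhs, rhs]
      rw [map_mul, TopCat.Presheaf.germ_res_apply, TopCat.Presheaf.germ_res_apply,
        TopCat.Presheaf.germ_res_apply]
      exact hz
    obtain ⟨W', hyW', i₁, i₂, heq⟩ :=
      TopCat.Presheaf.germ_eq X.presheaf y hyW₁ hyW₁ lhs rhs hgerm
    have hξW' : ξ ∈ W' := by
      obtain ⟨z, hzW', hzξ⟩ := mem_closure_iff.1 hyξ W' W'.isOpen hyW'
      rw [Set.mem_singleton_iff] at hzξ
      exact hzξ ▸ hzW'
    have hξW : ξ ∈ W := (i₁.le hξW').1
    have e2 := congrArg (X.presheaf.germ W' ξ hξW') heq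
    simp only [lhs, rhs] at e2
    rw [TopCat.Presheaf.germ_res_apply, map_mul, TopCat.Presheaf.germ_res_apply,
      TopCat.Presheaf.germ_res_apply, TopCat.Presheaf.germ_res_apply,
      TopCat.Presheaf.germ_res_apply] at e2
    have ha0 : algebraMap Γ(X, U) (X.presheaf.stalk ξ) a0 ∈
        Ideal.map (algebraMap Γ(X, U) (X.presheaf.stalk ξ)) I' := by
      change X.presheaf.germ U ξ hξU a0 ∈ _
      rw [← e2, ← jx_germ H κ ξ W hξW σ]
      exact Ideal.mul_mem_right _ _ (hB (hHG ⟨_, rfl⟩))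
    have hta := ht a0 ha0
    have h5 : algebraMap Γ(X, U) (X.presheaf.stalk y) (t * a0) ∈ Jr G ι y :=
      hA (Ideal.mem_map_of_mem _ hta)
    have ut : IsUnit (X.presheaf.germ U y hyU t) := (X.mem_basicOpen t y hyU).1 hyt
    have uu : IsUnit (X.presheaf.germ U y hyU (u : Γ(X, U))) :=
      IsLocalization.map_units (X.presheaf.stalk y) u
    obtain ⟨v1, hv1⟩ := isUnit_iff_exists_inv'.1 ut
    obtain ⟨v2, hv2⟩ := isUnit_iff_exists_inv'.1 uu
    have hfin : X.presheaf.germ W y hyW (show Γ(X, W) from κ.app W σ) =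
        (v1 * v2) • algebraMap Γ(X, U) (X.presheaf.stalk y) (t * a0) := by
      change _ = (v1 * v2) • X.presheaf.germ U y hyU (t * a0)
      rw [map_mul, smul_eq_mul]
      have hz' : X.presheaf.germ W y hyW (show Γ(X, W) from κ.app W σ) *
          X.presheaf.germ U y hyU (u : Γ(X, U)) = X.presheaf.germ U y hyU a0 := hz
      rw [← hz']
      set zz := X.presheaf.germ W y hyW (show Γ(X, W) from κ.app W σ)
      set Uu := X.presheaf.germ U y hyU (u : Γ(X, U))
      set T := X.presheaf.germ U y hyU t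
      linear_combination (-(zz * v2 * Uu)) * hv1 - zz * hv2
    rw [hfin]
    exact Submodule.smul_mem _ _ h5

/-- **stabilization of ascending chains of ideal subsheaves** on a Noetherian scheme, stalkwise
and uniformly. -/
theorem chain_stabilizes [IsNoetherian X] (G : ℕ → X.Modules)
    (ι : ∀ n, G n ⟶ Coh.structureModule X)
    (hmono : ∀ n m, n ≤ m → ∀ x : X, Jr (G n) (ι n) x ≤ Jr (G m) (ι m) x) :
    ∃ N, ∀ m, N ≤ m → ∀ x : X, Jr (G m) (ι m) x ≤ Jr (G N) (ι N) x := by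
  suffices H : ∀ Z : Closeds X, ∃ N, ∀ m, N ≤ m → ∀ x ∈ (Z : Set X),
      Jr (G m) (ι m) x ≤ Jr (G N) (ι N) x by
    obtain ⟨N, hN⟩ := H ⊤
    exact ⟨N, fun m hm x => hN m hm x trivial⟩
  intro Z
  apply wellFounded_lt.induction Z
  intro s H
  rcases eq_or_ne s ⊥ with rfl | h₀
  · exact ⟨0, fun m _ x hx => hx.elim⟩
  · by_cases h₁ : IsPreirreducible (s : Set X)
    · have hirr : IsIrreducible (s : Set X) := ⟨Closeds.coe_nonempty.2 h₀, h₁⟩
      obtain ⟨ξ, hξ⟩ := QuasiSober.sober hirr s.isClosed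
      obtain ⟨N₀, hN₀⟩ := monotone_stabilizes_iff_noetherian.2
        (inferInstance : IsNoetherian (X.presheaf.stalk ξ) (X.presheaf.stalk ξ))
        ⟨fun n => Jr (G n) (ι n) ξ, fun a b hab => hmono a b hab ξ⟩
      obtain ⟨V, hξV, hV⟩ := key' (G N₀) (ι N₀) ξ
      let s' : Closeds X := s ⊓ ⟨(V : Set X)ᶜ, V.isOpen.isClosed_compl⟩
      have hξs : ξ ∈ (s : Set X) := by
        rw [← hξ.def]
        exact subset_closure rfl
      have hlt : s' < s := by
        refine lt_of_le_of_ne inf_le_left ?_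
        intro heq
        have h2 : ξ ∈ (s' : Set X) := by rw [heq]; exact hξs
        exact h2.2 hξV
      obtain ⟨N', hN'⟩ := H s' hlt
      refine ⟨max N₀ N', fun m hm x hx => ?_⟩
      by_cases hxV : x ∈ V
      · refine le_trans ?_ (hmono N₀ _ (le_max_left _ _) x)
        refine hV (G m) (ι m) ?_ x hxV (by rw [hξ.def]; exact hx)
        exact (hN₀ m ((le_max_left _ _).trans hm)).symm.le
      · refine le_trans ?_ (hmono N' _ (le_max_right _ _) x)
        exact hN' m ((le_max_right _ _).trans hm) x ⟨hx, hxV⟩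
    · simp only [isPreirreducible_iff_isClosed_union_isClosed, not_forall, not_or] at h₁
      obtain ⟨z₁, z₂, hz₁, hz₂, h, hz₁', hz₂'⟩ := h₁
      lift z₁ to Closeds X using hz₁
      lift z₂ to Closeds X using hz₂
      obtain ⟨N₁, hN₁⟩ := H (s ⊓ z₁) (inf_lt_left.2 hz₁')
      obtain ⟨N₂, hN₂⟩ := H (s ⊓ z₂) (inf_lt_left.2 hz₂')
      refine ⟨max N₁ N₂, fun m hm x hx => ?_⟩
      rcases h hx with hx1 | hx2
      · refine le_trans ?_ (hmono N₁ _ (le_max_left _ _) x)
        exact hN₁ m ((le_max_left _ _).trans hm) x ⟨hx, hx1⟩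
      · refine le_trans ?_ (hmono N₂ _ (le_max_right _ _) x)
        exact hN₂ m ((le_max_right _ _).trans hm) x ⟨hx, hx2⟩

end Groth.Agent.Helper13.IdealGen
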