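import Mathlib
import Groth.Agent.Lib.Helper13.IdealGen2
import Groth.Agent.Lib.Helper13.EpiStalk
import Groth.Agent.Lib.Helper13.ExtSheaf

set_option autoImplicit false
set_option maxHeartbeats 400000
universe u
open CategoryTheory CategoryTheory.Limits AlgebraicGeometry Opposite TopologicalSpace
open Groth.Agent.Helper13.QCoh Groth.Agent.Helper13.FinType

namespace Groth.Agent.Helper13.CoprodInj

variable {X : Scheme.{u}}

section StalkSub

variable (N : X.Modules)
  (S : ∀ y : X, Submodule (X.presheaf.stalk y) (N.presheaf.stalk y))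

/-- sections of `N` all of whose germs lie in prescribed submodules of the stalks. -/
noncomputable def stalkSub : PresheafOfModules.Submodule N.val where
  obj V :=
    { carrier := {t | ∀ (y : X) (hy : y ∈ V.unop), N.presheaf.germ V.unop y hy t ∈ S y}
      add_mem' := by
        intro a b ha hb y hy
        have := Submodule.add_mem _ (ha y hy) (hb y hy)
        rw [← map_add] at this
        exact this
      zero_mem' := by
        intro y hy
        have : N.presheaf.germ V.unop y hy 0 = 0 := map_zero _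
        exact Eq.mpr (congrArg (fun z => z ∈ S y) this) (Submodule.zero_mem _)
      smul_mem' := by
        intro r a ha y hy
        have := germ_smul (F := N) V.unop y hy r a
        exact Eq.mpr (congrArg (fun z => z ∈ S y) this) (Submodule.smul_mem _ _ (ha y hy)) }
  map := by
    intro V W f t ht y hy
    have hyV : y ∈ V.unop := f.unop.le hy
    have := TopCat.Presheaf.germ_res_apply N.presheaf f.unop y hy t
    exact Eq.mpr (congrArg (fun z => z ∈ S y) this) (ht y hyV)

lemma isLocalSub_stalkSub : IsLocalSub N (stalkSub N S) := by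
  intro V t h y hy
  obtain ⟨W, hW, hyW, hm⟩ := h y hy
  have := hm y hyW
  rwa [TopCat.Presheaf.germ_res_apply] at this

end StalkSub

section Coprod

variable {ι : Type u} (M : ι → X.Modules)

/-- the inclusion of a finite sub-coproduct. -/
noncomputable def incl (F : Finset ι) : (∐ fun j : F => M j) ⟶ ∐ M :=
  Sigma.desc (fun j : F => Sigma.ι M j)

lemma ι_incl (F : Finset ι) (j : F) :
    Sigma.ι (fun j : F => M j) j ≫ incl M F = Sigma.ι M j := by
  simp [incl]

open Classical in
/-- the retraction onto a finite sub-coproduct. -/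
noncomputable def retr (F : Finset ι) : ∐ M ⟶ ∐ fun j : F => M j :=
  Sigma.desc (fun j => if h : j ∈ F then Sigma.ι (fun j : F => M j) ⟨j, h⟩ else 0)

lemma incl_retr (F : Finset ι) : incl M F ≫ retr M F = 𝟙 _ := by
  apply Sigma.hom_ext
  intro j
  rw [← Category.assoc, ι_incl, Category.comp_id]
  simp [retr, j.2]

instance (F : Finset ι) : Mono (incl M F) := mono_of_mono_fac (incl_retr M F)

/-- the germs coming from a finite sub-coproduct. -/
noncomputable abbrev Rg (F : Finset ι) (y : X) :
    Submodule (X.presheaf.stalk y) ((∐ M).presheaf.stalk y) :=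
  LinearMap.range (stalkLinearMap (incl M F) y)

lemma Rg_mono {F F' : Finset ι} (h : F' ⊆ F) (y : X) : Rg M F' y ≤ Rg M F y := by
  have hfac : incl M F' = Sigma.desc (fun j : F' =>
      Sigma.ι (fun j : F => M j) ⟨j.1, h j.2⟩) ≫ incl M F := by
    apply Sigma.hom_ext
    intro j
    rw [ι_incl, ← Category.assoc, Sigma.ι_desc, ι_incl]
  rintro _ ⟨m, rfl⟩
  refine ⟨stalkMap (Sigma.desc (fun j : F' =>
      Sigma.ι (fun j : F => M j) ⟨j.1, h j.2⟩)) y m, ?_⟩
  change stalkMap (incl M F) y _ = stalkMap (incl M F') y m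
  rw [hfac, Groth.Agent.Helper13.PbInv.stalkMap_comp]

lemma range_ι_le (F : Finset ι) (j : ι) (hj : j ∈ F) (y : X) :
    LinearMap.range (stalkLinearMap (Sigma.ι M j) y) ≤ Rg M F y := by
  rintro _ ⟨m, rfl⟩
  refine ⟨stalkMap (Sigma.ι (fun j : F => M j) ⟨j, hj⟩) y m, ?_⟩
  change stalkMap (incl M F) y _ = stalkMap (Sigma.ι M j) y m
  rw [← Groth.Agent.Helper13.PbInv.stalkMap_comp, ι_incl]

/-- **stalks of a coproduct are generated by the components.** -/
theorem germ_mem_iSup (V : X.Opens) (σ : Γ(∐ M, V)) (y : X) (hy : y ∈ V) :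
    (∐ M).presheaf.germ V y hy σ ∈
      ⨆ j, LinearMap.range (stalkLinearMap (Sigma.ι M j) y) := by
  let S : ∀ y : X, Submodule (X.presheaf.stalk y) ((∐ M).presheaf.stalk y) :=
    fun y => ⨆ j, LinearMap.range (stalkLinearMap (Sigma.ι M j) y)
  have hloc := isLocalSub_stalkSub (∐ M) S
  let ι' := subsheafι (∐ M) (stalkSub (∐ M) S) hloc
  let lam : ∀ j, M j ⟶ subsheaf (∐ M) (stalkSub (∐ M) S) hloc := fun j =>
    subsheafLift (∐ M) (stalkSub (∐ M) S) hloc (Sigma.ι M j) (fun W m z hz =>
      (le_iSup (fun j => LinearMap.range (stalkLinearMap (Sigma.ι M j) z)) j)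
        ⟨(M j).presheaf.germ W z hz m, stalkMap_germ (Sigma.ι M j) z W hz m⟩)
  have hD : Sigma.desc lam ≫ ι' = 𝟙 _ := by
    apply Sigma.hom_ext
    intro j
    rw [← Category.assoc, Sigma.ι_desc, Category.comp_id]
    exact subsheafLift_ι _ _ _ _ _
  have h1 : ι'.app V ((Sigma.desc lam).app V σ) = σ := by
    have := congrArg (fun ψ : (∐ M) ⟶ (∐ M) => ψ.app V σ) hD
    exact this
  have h2 := subsheafι_app_mem (∐ M) (stalkSub (∐ M) S) hloc V ((Sigma.desc lam).app V σ)
  rw [h1] at h2
  exact h2 y hy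

/-- every germ of a coproduct comes from a finite sub-coproduct. -/
theorem exists_finset_mem_Rg (y : X) (x : (∐ M).presheaf.stalk y) :
    ∃ F : Finset ι, x ∈ Rg M F y := by
  classical
  obtain ⟨V, hy, σ, rfl⟩ := TopCat.Presheaf.exists_germ_eq (∐ M).presheaf x
  have h := germ_mem_iSup M V σ y hy
  refine Submodule.iSup_induction (fun j => LinearMap.range (stalkLinearMap (Sigma.ι M j) y))
    (motive := fun x => ∃ F : Finset ι, x ∈ Rg M F y) h ?_ ?_ ?_
  · intro j x hx
    exact ⟨{j}, range_ι_le M {j} j (Finset.mem_singleton_self j) y hx⟩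
  · exact ⟨∅, Submodule.zero_mem _⟩
  · rintro a b ⟨F₁, h₁⟩ ⟨F₂, h₂⟩
    exact ⟨F₁ ∪ F₂, Submodule.add_mem _ (Rg_mono M Finset.subset_union_left y h₁)
      (Rg_mono M Finset.subset_union_right y h₂)⟩

/-- a section of a coproduct over a quasi-compact open comes, germwise, from a finite
sub-coproduct. -/
theorem exists_finset_of_isCompact (V : X.Opens) (hV : IsCompact (V : Set X))
    (σ : Γ(∐ M, V)) :
    ∃ F : Finset ι, ∀ (y : X) (hy : y ∈ V), (∐ M).presheaf.germ V y hy σ ∈ Rg M F y := by
  classical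
  have key : ∀ y : V, ∃ (F : Finset ι) (W : X.Opens), y.1 ∈ W ∧ W ≤ V ∧
      ∀ (z : X) (hz : z ∈ V), z ∈ W → (∐ M).presheaf.germ V z hz σ ∈ Rg M F z := by
    rintro ⟨y, hy⟩
    obtain ⟨F, n, hn⟩ := exists_finset_mem_Rg M y ((∐ M).presheaf.germ V y hy σ)
    obtain ⟨W, hyW, ν, rfl⟩ := TopCat.Presheaf.exists_germ_eq (∐ fun j : F => M j).presheaf n
    have hn' : (∐ M).presheaf.germ W y hyW ((incl M F).app W ν) =
        (∐ M).presheaf.germ V y hy σ := by
      rw [← hn]
      exact (stalkMap_germ (incl M F) y W hyW ν).symm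
    obtain ⟨W', hyW', i₁, i₂, heq⟩ := TopCat.Presheaf.germ_eq (∐ M).presheaf y hyW hy _ _ hn'
    refine ⟨F, W', hyW', i₂.le, ?_⟩
    intro z hz hzW'
    have e1 := congrArg ((∐ M).presheaf.germ W' z hzW') heq
    rw [TopCat.Presheaf.germ_res_apply, TopCat.Presheaf.germ_res_apply] at e1
    rw [← e1]
    exact ⟨(∐ fun j : F => M j).presheaf.germ W z (i₁.le hzW') ν,
      stalkMap_germ (incl M F) z W (i₁.le hzW') ν⟩
  choose F W hyW hWV hW using key
  obtain ⟨t, ht⟩ := hV.elim_finite_subcover (fun y : V => (W y : Set X))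
    (fun y => (W y).isOpen) (fun z hz => Set.mem_iUnion.2 ⟨⟨z, hz⟩, hyW ⟨z, hz⟩⟩)
  refine ⟨t.biUnion F, ?_⟩
  intro y hy
  obtain ⟨i, hi, hyi⟩ := Set.mem_iUnion₂.1 (ht hy)
  exact Rg_mono M (Finset.subset_biUnion_of_mem F hi) y (hW i y hy hyi)

end Coprod


section Factor

variable {ι : Type u} (M : ι → X.Modules)

/-- **finiteness**: on a Noetherian scheme, a morphism from an ideal subsheaf to a coproduct
factors through a finite sub-coproduct. -/
theorem exists_factor [IsNoetherian X] (G : X.Modules) (ιG : G ⟶ Coh.structureModule X)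
    [Mono ιG] (f : G ⟶ ∐ M) :
    ∃ (F : Finset ι) (f' : G ⟶ ∐ fun j : F => M j), f' ≫ incl M F = f := by
  classical
  obtain ⟨S, hfin, hS⟩ := Groth.Agent.Helper13.IdealGen.P_closeds G ιG ⊤
  have h1 : ∀ p : Σ U : X.Opens, Γ(G, U), ∃ F : Finset ι, ∀ (y : X) (hy : y ∈ p.1),
      (∐ M).presheaf.germ p.1 y hy (f.app p.1 p.2) ∈ Rg M F y := fun p =>
    exists_finset_of_isCompact M p.1 (NoetherianSpace.isCompact _) (f.app p.1 p.2)
  choose Fp hFp using h1
  let F : Finset ι := hfin.toFinset.biUnion Fp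
  have h2 : ∀ (y : X) (m : G.presheaf.stalk y), stalkMap f y m ∈ Rg M F y := by
    intro y m
    have hm : m ∈ Submodule.span (X.presheaf.stalk y)
        (Groth.Agent.Helper13.IdealGen.germSet G S y) := by
      have := hS y trivial
      unfold Groth.Agent.Helper13.IdealGen.Gen at this
      rw [this]
      trivial
    induction hm using Submodule.span_induction with
    | mem x hx =>
      obtain ⟨p, hp, hyp, rfl⟩ := hx
      rw [stalkMap_germ]
      exact Rg_mono M (Finset.subset_biUnion_of_mem Fp (hfin.mem_toFinset.2 hp)) y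
        (hFp p y hyp)
    | zero => rw [map_zero]; exact Submodule.zero_mem _
    | add a b _ _ ha hb => rw [map_add]; exact Submodule.add_mem _ ha hb
    | smul r a _ ha =>
      rw [stalkMap_smul]
      exact Submodule.smul_mem _ _ ha
  obtain ⟨f', hf'⟩ := Groth.Agent.Helper13.Ext.exists_lift_of_stalk_range_le f (incl M F)
    (fun y m => h2 y m)
  exact ⟨F, f', hf'⟩

/-- **extension**: on a Noetherian scheme, a morphism from an ideal subsheaf to a coproduct of
injectives extends to the structure sheaf. -/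
theorem exists_extension [IsNoetherian X] (I : ι → X.Modules) (hI : ∀ j, Injective (I j))
    (G : X.Modules) (ιG : G ⟶ Coh.structureModule X) [Mono ιG] (f : G ⟶ ∐ I) :
    ∃ h : Coh.structureModule X ⟶ ∐ I, ιG ≫ h = f := by
  obtain ⟨F, f', hf'⟩ := exists_factor I G ιG f
  haveI : ∀ j : F, Injective (I j) := fun j => hI j
  haveI : HasFiniteBiproducts X.Modules := HasFiniteBiproducts.of_hasFiniteProducts
  haveI : HasBiproductsOfShape (↥F) X.Modules := hasBiproductsOfShape_finite X.Modules
  haveI : Injective (∐ fun j : F => I j) :=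
    Injective.of_iso (biproduct.isoCoproduct (fun j : F => I j)) inferInstance
  refine ⟨Injective.factorThru f' ιG ≫ incl I F, ?_⟩
  rw [← Category.assoc, Injective.comp_factorThru, hf']

end Factor

end Groth.Agent.Helper13.CoprodInj
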