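import Mathlib
import Groth.Agent.Lib.Helper13.CoprodInj
import Groth.Agent.Lib.Helper13.FreeMod
import Groth.Agent.Lib.Helper26.LocInj

set_option autoImplicit false
set_option maxHeartbeats 400000
universe u
open CategoryTheory CategoryTheory.Limits AlgebraicGeometry Opposite TopologicalSpace ZeroObject
open Groth.Agent.Helper13.QCoh Groth.Agent.Helper13.FinType

namespace Groth.Agent.Helper13.CoprodInj

variable {Y : Scheme.{u}}

/-- open subschemes of a Noetherian scheme are Noetherian. -/
lemma isNoetherian_opens [IsNoetherian Y] (V : Y.Opens) : IsNoetherian (V : Scheme.{u}) := by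
  haveI : IsLocallyNoetherian (V : Scheme.{u}) := isLocallyNoetherian_of_isOpenImmersion V.ι
  haveI : CompactSpace (V : Scheme.{u}) :=
    isCompact_iff_compactSpace.1 (NoetherianSpace.isCompact (V : Set Y))
  exact {}

/-- on a Noetherian scheme, morphisms from submodules of `j_! O_V` to a coproduct of injectives
extend to `j_! O_V`. -/
theorem exists_extension_extZero [IsNoetherian Y] {ι : Type u} (I : ι → Y.Modules)
    (hI : ∀ j, Injective (I j)) (V : Y.Opens) {Q : Y.Modules}
    (q : Q ⟶ (CxOX.extZero V.ι).obj (Coh.structureModule (V : Scheme.{u}))) [Mono q]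
    (w : Q ⟶ ∐ I) :
    ∃ l : (CxOX.extZero V.ι).obj (Coh.structureModule (V : Scheme.{u})) ⟶ ∐ I, q ≫ l = w := by
  haveI := isNoetherian_opens V
  haveI hε : IsIso ((CxOX.extZeroAdj V.ι).counit.app Q) := Groth.Agent.Helper26.LocInj.isIso_counit_of_mono V (Coh.structureModule (V : Scheme.{u})) q
  haveI hη : IsIso ((CxOX.extZeroAdj V.ι).unit.app (Coh.structureModule (V : Scheme.{u}))) := inferInstance
  let θ : (Scheme.Modules.restrictFunctor V.ι).obj (∐ I) ≅ ∐ fun j => (Scheme.Modules.restrictFunctor V.ι).obj (I j) := PreservesCoproduct.iso (Scheme.Modules.restrictFunctor V.ι) I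
  let k : (Scheme.Modules.restrictFunctor V.ι).obj Q ⟶ (Coh.structureModule (V : Scheme.{u})) := (Scheme.Modules.restrictFunctor V.ι).map q ≫ inv ((CxOX.extZeroAdj V.ι).unit.app (Coh.structureModule (V : Scheme.{u})))
  haveI : Mono ((Scheme.Modules.restrictFunctor V.ι).map q) := inferInstance
  haveI : Mono k := mono_comp _ _
  have hRI : ∀ j, Injective ((Scheme.Modules.restrictFunctor V.ι).obj (I j)) := fun j =>
    Groth.Agent.Helper17.IR.main11327 Y V (I j) (hI j)
  obtain ⟨h, hh⟩ := exists_extension (fun j => (Scheme.Modules.restrictFunctor V.ι).obj (I j)) hRI ((Scheme.Modules.restrictFunctor V.ι).obj Q) k ((Scheme.Modules.restrictFunctor V.ι).map w ≫ θ.hom)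
  let lsh : (Coh.structureModule (V : Scheme.{u})) ⟶ (Scheme.Modules.restrictFunctor V.ι).obj (∐ I) := h ≫ θ.inv
  let l := ((CxOX.extZeroAdj V.ι).homEquiv (Coh.structureModule (V : Scheme.{u})) (∐ I)).symm lsh
  have hl : (CxOX.extZeroAdj V.ι).unit.app (Coh.structureModule (V : Scheme.{u})) ≫ (Scheme.Modules.restrictFunctor V.ι).map l = lsh :=
    ((CxOX.extZeroAdj V.ι).homEquiv_unit (X := (Coh.structureModule (V : Scheme.{u}))) (Y := ∐ I) (f := l)).symm.trans
      (((CxOX.extZeroAdj V.ι).homEquiv (Coh.structureModule (V : Scheme.{u})) (∐ I)).apply_symm_apply lsh)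
  have hRl : (Scheme.Modules.restrictFunctor V.ι).map l = inv ((CxOX.extZeroAdj V.ι).unit.app (Coh.structureModule (V : Scheme.{u}))) ≫ lsh := by
    rw [IsIso.eq_inv_comp]
    exact hl
  refine ⟨l, ?_⟩
  rw [← cancel_epi ((CxOX.extZeroAdj V.ι).counit.app Q)]
  apply ((CxOX.extZeroAdj V.ι).homEquiv ((Scheme.Modules.restrictFunctor V.ι).obj Q) (∐ I)).injective
  rw [Adjunction.homEquiv_unit, Adjunction.homEquiv_unit, Functor.map_comp, Functor.map_comp,
    Functor.map_comp]
  have htri := (CxOX.extZeroAdj V.ι).right_triangle_components Q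
  rw [reassoc_of% htri, reassoc_of% htri, hRl]
  change ((Scheme.Modules.restrictFunctor V.ι).map q ≫ inv ((CxOX.extZeroAdj V.ι).unit.app (Coh.structureModule (V : Scheme.{u})))) ≫ h ≫ θ.inv = (Scheme.Modules.restrictFunctor V.ι).map w
  rw [reassoc_of% hh, Iso.hom_inv_id, Category.comp_id]


/-- **coproducts of injectives are injective** on a Noetherian scheme. -/
theorem injective_coprod_of_isNoetherian [IsNoetherian Y] {ι : Type u} (I : ι → Y.Modules)
    (hI : ∀ j, Injective (I j)) : Injective (∐ I) := by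
  apply Groth.Agent.Helper26.BaerStep.injective_of_steps.{u}
  intro A B p _ hp
  have hne : ¬ Epi p := fun h => hp (isIso_of_mono_of_epi p)
  have hns : ¬ ∀ y, Function.Surjective (stalkMap p y) :=
    fun h => hne (epi_of_stalkMap_surjective p h)
  simp only [Function.Surjective, not_forall, not_exists] at hns
  obtain ⟨y, b₀, hb₀⟩ := hns
  obtain ⟨(V : Y.Opens), hyV, b, rfl⟩ := TopCat.Presheaf.exists_germ_eq B.presheaf b₀
  have hle : V.ι ''ᵁ ⊤ ≤ V := by rw [V.ι_image_top]
  have hy' : y ∈ V.ι ''ᵁ ⊤ := by rw [V.ι_image_top]; exact hyV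
  let b' : Γ((Scheme.Modules.restrictFunctor V.ι).obj B, ⊤) := B.presheaf.map (homOfLE hle).op b
  let β : (Coh.structureModule (V : Scheme.{u})) ⟶ (Scheme.Modules.restrictFunctor V.ι).obj B := Groth.Agent.Helper13.LocFree.homOfSec ((Scheme.Modules.restrictFunctor V.ι).obj B) b'
  let g : (CxOX.extZero V.ι).obj (Coh.structureModule (V : Scheme.{u})) ⟶ B := ((CxOX.extZeroAdj V.ι).homEquiv (Coh.structureModule (V : Scheme.{u})) B).symm β
  have hg : (CxOX.extZeroAdj V.ι).homEquiv (Coh.structureModule (V : Scheme.{u})) B g = β := ((CxOX.extZeroAdj V.ι).homEquiv (Coh.structureModule (V : Scheme.{u})) B).apply_symm_apply β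
  haveI : Mono (pullback.snd p g) := inferInstance
  have hpo := IsPushout.of_hasPushout (pullback.fst p g) (pullback.snd p g)
  let p' := pushout.desc p g pullback.condition
  have h1 : pushout.inl (pullback.fst p g) (pullback.snd p g) ≫ p' = p :=
    pushout.inl_desc _ _ _
  have h2 : pushout.inr (pullback.fst p g) (pullback.snd p g) ≫ p' = g :=
    pushout.inr_desc _ _ _
  refine ⟨pushout (pullback.fst p g) (pullback.snd p g), pushout.inl _ _, p', ?_, ?_, ?_, h1⟩
  · haveI : HasLiftingProperty (pullback.snd p g) (0 : ∐ I ⟶ (0 : Y.Modules)) :=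
      ⟨fun {f₁ f₂} sq => ⟨⟨{
        l := (exists_extension_extZero I hI V (pullback.snd p g) f₁).choose
        fac_left := (exists_extension_extZero I hI V (pullback.snd p g) f₁).choose_spec
        fac_right := (isZero_zero _).eq_of_tgt _ _ }⟩⟩⟩
    exact hpo.hasLiftingProperty _
  · intro hi
    let g' : (CxOX.extZero V.ι).obj (Coh.structureModule (V : Scheme.{u})) ⟶ A :=
      pushout.inr (pullback.fst p g) (pullback.snd p g) ≫
        inv (pushout.inl (pullback.fst p g) (pullback.snd p g))
    have hg' : g' ≫ p = g := by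
      calc g' ≫ p = g' ≫ (pushout.inl (pullback.fst p g) (pullback.snd p g) ≫ p') := by rw [h1]
      _ = g := by
        simp only [g', Category.assoc, IsIso.inv_hom_id_assoc]
        exact h2
    have hβ : β = (CxOX.extZeroAdj V.ι).homEquiv (Coh.structureModule (V : Scheme.{u})) A g' ≫ (Scheme.Modules.restrictFunctor V.ι).map p := by
      rw [← hg, ← hg', Adjunction.homEquiv_naturality_right]
    let a' : Γ((Scheme.Modules.restrictFunctor V.ι).obj A, ⊤) := ((CxOX.extZeroAdj V.ι).homEquiv (Coh.structureModule (V : Scheme.{u})) A g').app ⊤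
      (Groth.Agent.Helper13.LocFree.toO ⊤ 1)
    have e1 : β.app ⊤ (Groth.Agent.Helper13.LocFree.toO ⊤ 1) = b' := by
      have := Groth.Agent.Helper13.LocFree.homOfSec_app_one ((Scheme.Modules.restrictFunctor V.ι).obj B) b' ⊤
      rw [this]
      exact congrArg (fun φ => φ b') (((Scheme.Modules.restrictFunctor V.ι).obj B).presheaf.map_id (op ⊤)) |>.trans rfl
    have e2 : β.app ⊤ (Groth.Agent.Helper13.LocFree.toO ⊤ 1) = p.app (V.ι ''ᵁ ⊤) a' := by
      rw [hβ]
      rfl
    apply hb₀ (A.presheaf.germ (V.ι ''ᵁ ⊤) y hy' a')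
    rw [stalkMap_germ, ← e2, e1]
    exact TopCat.Presheaf.germ_res_apply B.presheaf (homOfLE hle) y hy' b
  · exact hpo.mono_of_isPullback_of_mono (IsPullback.of_hasPullback p g) p' h1 h2

/-- **coproducts of injectives are injective** on a locally Noetherian scheme. -/
theorem injective_coprod {X : Scheme.{u}} [IsLocallyNoetherian X] {ι : Type u}
    (I : ι → X.Modules) (hI : ∀ j, Injective (I j)) : Injective (∐ I) := by
  apply Groth.Agent.Helper26.LocInj.main
  intro x
  obtain ⟨(U : X.Opens), hUaff, hxU, -⟩ := Opens.isBasis_iff_nbhd.mp X.isBasis_affineOpens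
    (show x ∈ (⊤ : X.Opens) from trivial)
  refine ⟨U, hxU, ?_⟩
  have hUaff' : IsAffineOpen U := hUaff
  haveI : IsAffine (U : Scheme.{u}) := hUaff'
  haveI : IsLocallyNoetherian (U : Scheme.{u}) := isLocallyNoetherian_of_isOpenImmersion U.ι
  haveI : IsNoetherian (U : Scheme.{u}) := {}
  have hRI : ∀ j, Injective ((Scheme.Modules.restrictFunctor U.ι).obj (I j)) := fun j =>
    Groth.Agent.Helper17.IR.main11327 X U (I j) (hI j)
  exact Injective.of_iso (PreservesCoproduct.iso (Scheme.Modules.restrictFunctor U.ι) I).symm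
    (injective_coprod_of_isNoetherian _ hRI)

end Groth.Agent.Helper13.CoprodInj
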