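import Mathlib
import Groth.Prelude.Def_LCI2
import Groth.Agent.Lib.Helper13.CounitGen
import Groth.Agent.Lib.Helper13.FinTypeRestrict
import Groth.Agent.Lib.Helper13.AmpleBasis

set_option autoImplicit false
universe u
open CategoryTheory CategoryTheory.Limits AlgebraicGeometry Opposite TopologicalSpace
open Groth.Agent.Helper13.CounitGen Groth.Agent.Helper13.Tensor Groth.Agent.Helper13.Inv
open Groth.Agent.Helper13.Ample Groth.Agent.Helper13.GlobGen Groth.Agent.Helper13.GenLoc
open Groth.Agent.Helper13.FinType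

namespace Groth.Agent.Helper13.CounitTwist

variable {X Y : Scheme.{u}} (f : X ⟶ Y)

/-- relative Serre: over an affine open of the base, high twists are globally generated. -/
theorem exists_isGloballyGenerated_restrict_twist (L : X.Modules) (hL : RelAmple.IsRelAmple f L)
    (F : X.Modules) [F.IsQuasicoherent] [SheafOfModules.IsFiniteType (R := X.ringCatSheaf) F]
    (V : Y.affineOpens) :
    ∃ n₀ : ℕ, ∀ n, n₀ ≤ n → Curv2.IsGloballyGenerated
      ((CohB1.tensorMod F (CohB1.tensorPow L n)).restrict (f ⁻¹ᵁ V.1).ι) := by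
  haveI : (F.restrict (f ⁻¹ᵁ V.1).ι).IsQuasicoherent :=
    Scheme.Modules.isQuasicoherent_restrictFunctor (f ⁻¹ᵁ V.1).ι F
  haveI := isFiniteType_restrict (f ⁻¹ᵁ V.1).ι F
  obtain ⟨n₀, h⟩ := exists_isGloballyGenerated_twist _ (hL.2 V) (F.restrict (f ⁻¹ᵁ V.1).ι)
  refine ⟨n₀, fun n hn => ?_⟩
  exact isGloballyGenerated_of_iso
    (restrictIso (f ⁻¹ᵁ V.1).ι F (CohB1.tensorPow L n) ≪≫
      mapIso (Iso.refl _) (powRestrict (f ⁻¹ᵁ V.1).ι L n)).symm (h n hn)

/-- relative Serre: over a quasi-compact base, the counit of high twists is an epimorphism. -/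
theorem exists_epi_counit_twist [CompactSpace Y] (L : X.Modules) (hL : RelAmple.IsRelAmple f L)
    (F : X.Modules) [F.IsQuasicoherent] [SheafOfModules.IsFiniteType (R := X.ringCatSheaf) F] :
    ∃ N : ℕ, ∀ n : ℕ, N ≤ n →
      Epi ((Scheme.Modules.pullbackPushforwardAdjunction f).counit.app
        (CohB1.tensorMod F (CohB1.tensorPow L n))) := by
  classical
  choose n₀ hn₀ using exists_isGloballyGenerated_restrict_twist f L hL F
  obtain ⟨T, hT⟩ := isCompact_univ.elim_finite_subcover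
    (fun V : Y.affineOpens => ((V.1 : Y.Opens) : Set Y)) (fun V => V.1.2)
    (fun y _ => by
      obtain ⟨V, hV, hyV, -⟩ := exists_isAffineOpen_mem_and_subset (x := y) (U := ⊤) trivial
      exact Set.mem_iUnion.2 ⟨⟨V, hV⟩, hyV⟩)
  refine ⟨T.sup n₀, fun n hn => ?_⟩
  apply epi_of_isGloballyGenerated_restrict f (CohB1.tensorMod F (CohB1.tensorPow L n))
  intro x
  obtain ⟨V, hVT, hxV⟩ : ∃ V ∈ T, f x ∈ V.1 := by
    have := hT (Set.mem_univ (f x))
    simpa using this
  exact ⟨V.1, hxV, hn₀ V n ((Finset.le_sup hVT).trans hn)⟩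

end Groth.Agent.Helper13.CounitTwist
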