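import Mathlib
import Groth.Agent.Lib.Helper13.CounitTwist

set_option autoImplicit false
universe u
open CategoryTheory CategoryTheory.Limits AlgebraicGeometry Opposite TopologicalSpace
open Groth.Agent.Helper13.CounitGen Groth.Agent.Helper13.Tensor Groth.Agent.Helper13.Inv
open Groth.Agent.Helper13.Ample Groth.Agent.Helper13.GlobGen Groth.Agent.Helper13.GenLoc
open Groth.Agent.Helper13.FinType

namespace Groth.Agent.Helper13.CounitTwist

variable {X Y : Scheme.{u}} (f : X ⟶ Y)

/-- relative Serre: with quasi-compact source, the counit of high twists is an epimorphism. -/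
theorem exists_epi_counit_twist' [CompactSpace X] (L : X.Modules) (hL : RelAmple.IsRelAmple f L)
    (F : X.Modules) [F.IsQuasicoherent] [SheafOfModules.IsFiniteType (R := X.ringCatSheaf) F] :
    ∃ N : ℕ, ∀ n : ℕ, N ≤ n →
      Epi ((Scheme.Modules.pullbackPushforwardAdjunction f).counit.app
        (CohB1.tensorMod F (CohB1.tensorPow L n))) := by
  classical
  choose n₀ hn₀ using exists_isGloballyGenerated_restrict_twist f L hL F
  obtain ⟨T, hT⟩ := isCompact_univ.elim_finite_subcover
    (fun V : Y.affineOpens => ((f ⁻¹ᵁ V.1 : X.Opens) : Set X)) (fun V => (f ⁻¹ᵁ V.1).2)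
    (fun x _ => by
      obtain ⟨V, hV, hyV, -⟩ := exists_isAffineOpen_mem_and_subset (x := f x) (U := ⊤) trivial
      exact Set.mem_iUnion.2 ⟨⟨V, hV⟩, hyV⟩)
  refine ⟨T.sup n₀, fun n hn => ?_⟩
  apply epi_of_isGloballyGenerated_restrict f (CohB1.tensorMod F (CohB1.tensorPow L n))
  intro x
  obtain ⟨V, hVT, hxV⟩ : ∃ V ∈ T, f x ∈ V.1 := by
    have := hT (Set.mem_univ x)
    simpa using this
  exact ⟨V.1, hxV, hn₀ V n ((Finset.le_sup hVT).trans hn)⟩

end Groth.Agent.Helper13.CounitTwist
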