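import Mathlib
import Groth.Prelude.Def_Curv2
import Groth.Agent.Lib.Helper13.CurveGen4
import Groth.Agent.Lib.Helper14.DimFT

set_option autoImplicit false
universe u
open CategoryTheory CategoryTheory.Limits AlgebraicGeometry Opposite TopologicalSpace

namespace Groth.Agent.Helper13.CurveBir

open Groth.Agent.Helper13.CurveGen

/-- a morphism restricting to an isomorphism over `U` is injective on the preimage of `U`. -/
theorem eq_of_isIso_restrict {X X' : Scheme.{u}} (f : X' ⟶ X) (U : X.Opens)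
    (hfU : IsIso (f ∣_ U)) (y₁ y₂ : X') (h₁ : f y₁ ∈ U) (h : f y₁ = f y₂) : y₁ = y₂ := by
  have h₂ : f y₂ ∈ U := h ▸ h₁
  let z₁ : (f ⁻¹ᵁ U : X'.Opens) := ⟨y₁, h₁⟩
  let z₂ : (f ⁻¹ᵁ U : X'.Opens) := ⟨y₂, h₂⟩
  have hinj : Function.Injective (f ∣_ U) :=
    (Scheme.homeoOfIso (asIso (f ∣_ U))).injective
  have e : ∀ z : (f ⁻¹ᵁ U : X'.Opens), U.ι ((f ∣_ U) z) = f ((f ⁻¹ᵁ U).ι z) := by
    intro z
    rw [← Scheme.Hom.comp_apply, ← Scheme.Hom.comp_apply, morphismRestrict_ι]
  have hz : (f ∣_ U) z₁ = (f ∣_ U) z₂ := by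
    apply U.ι.isOpenEmbedding.injective
    rw [e, e]
    exact h
  have := hinj hz
  exact congrArg Subtype.val this

theorem isFinite_of_iso_over_dense (k : Type u) [Field k] (X X' : Scheme.{u})
    [X.Over (Spec (CommRingCat.of k))] [X'.Over (Spec (CommRingCat.of k))]
    [IsProper (X ↘ (Spec (CommRingCat.of k)))] (hdim : topologicalKrullDim X ≤ 1) (f : X' ⟶ X)
    [IsProper f] (hf : f ≫ (X ↘ (Spec (CommRingCat.of k))) = X' ↘ (Spec (CommRingCat.of k)))
    (U : X.Opens) (hU' : Dense ((f ⁻¹ᵁ U : X'.Opens) : Set X')) (hfU : IsIso (f ∣_ U)) :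
    IsFinite f := by
  haveI : IsProper (X' ↘ (Spec (CommRingCat.of k))) := by rw [← hf]; infer_instance
  haveI : IsLocallyNoetherian X' :=
    LocallyOfFiniteType.isLocallyNoetherian (X' ↘ (Spec (CommRingCat.of k)))
  haveI : CompactSpace X' :=
    QuasiCompact.compactSpace_of_compactSpace (X' ↘ Spec (CommRingCat.of k))
  haveI : IsNoetherian X' := ⟨⟩
  have hdim' : topologicalKrullDim X' ≤ 1 := by
    rw [← Groth.Agent.Helper14.DimFT.dim_opens_eq_of_dense k (X' ↘ Spec (CommRingCat.of k))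
      (f ⁻¹ᵁ U) hU']
    have h1 : topologicalKrullDim ↥(f ⁻¹ᵁ U : X'.Opens) = topologicalKrullDim ↥U :=
      IsHomeomorph.topologicalKrullDim_eq _ (Scheme.homeoOfIso (asIso (f ∣_ U))).isHomeomorph
    rw [h1]
    exact (topologicalKrullDim_subspace_le X (U : Set X)).trans hdim
  have hT' : (((f ⁻¹ᵁ U : X'.Opens) : Set X')ᶜ).Finite :=
    Groth.Agent.Helper13.DiscSupp.finite_of_closed_points _
      (f ⁻¹ᵁ U).isOpen.isClosed_compl
      (fun y hy => isClosed_singleton_of_notMem_dense hdim' (f ⁻¹ᵁ U) hU' y hy)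
  haveI : LocallyQuasiFinite f := by
    apply LocallyQuasiFinite.of_finite_preimage_singleton
    intro x
    by_cases hx : x ∈ U
    · apply Set.Subsingleton.finite
      intro y₁ hy₁ y₂ hy₂
      have e₁ : f y₁ = x := hy₁
      have e₂ : f y₂ = x := hy₂
      exact eq_of_isIso_restrict f U hfU y₁ y₂ (by rw [e₁]; exact hx) (e₁.trans e₂.symm)
    · apply hT'.subset
      intro y hy hyU
      have e₁ : f y = x := hy
      apply hx
      rw [← e₁]
      exact hyU
  exact IsFinite.of_isProper_of_locallyQuasiFinite f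

theorem main1602 (k : Type u) [Field k] (X X' : Scheme.{u})
    [X.Over (Spec (CommRingCat.of k))] [X'.Over (Spec (CommRingCat.of k))]
    [IsProper (X ↘ (Spec (CommRingCat.of k)))] (hdim : topologicalKrullDim X ≤ 1) (f : X' ⟶ X)
    [IsProper f] (hf : f ≫ (X ↘ (Spec (CommRingCat.of k))) = X' ↘ (Spec (CommRingCat.of k)))
    (U : X.Opens) (hU : Dense (U : Set X)) (hU' : Dense ((f ⁻¹ᵁ U : X'.Opens) : Set X'))
    (hfU : IsIso (f ∣_ U)) :
    Curv2.genus k X' ≤ Curv2.genus k X := by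
  haveI := isFinite_of_iso_over_dense k X X' hdim f hf U hU' hfU
  haveI := hfU
  exact main1566 k X X' hdim f hf U hU inferInstance

end Groth.Agent.Helper13.CurveBir
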