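import Mathlib
import Groth.Prelude.Def_Curv2
import Groth.Agent.Lib.Helper13.CurveBir1

set_option autoImplicit false
universe u
open CategoryTheory CategoryTheory.Limits AlgebraicGeometry Opposite TopologicalSpace

namespace Groth.Agent.Helper13.CurveBir

open Groth.Agent.Helper13.CurveGen Groth.Agent.Helper13.QCoh

theorem isIso_comp_eqToHom' {C : Type*} [Category C] {A B B' : C} (a : A ⟶ B) (p : B = B')
    (h : IsIso (a ≫ eqToHom p)) : IsIso a := by
  subst p
  simpa using h

/-- if `f` is an isomorphism over `U`, then `f` is bijective on sections over opens of the form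
`U.ι ''ᵁ W'`. -/
theorem isIso_app_image {X X' : Scheme.{u}} (f : X' ⟶ X) (U : X.Opens)
    (hfU : IsIso (f ∣_ U)) (W' : (U : Scheme.{u}).Opens) : IsIso (f.app (U.ι ''ᵁ W')) := by
  haveI := hfU
  have h1 : IsIso ((f ∣_ U).app W') := inferInstance
  rw [morphismRestrict_app, eqToHom_op, eqToHom_map] at h1
  exact isIso_comp_eqToHom' _ _ h1

/-- on a reduced scheme, a morphism which is an isomorphism over a dense open is injective on
sections. -/
theorem app_injective_of_dense {X X' : Scheme.{u}} [IsReduced X] (f : X' ⟶ X) (U : X.Opens)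
    (hU : Dense (U : Set X)) (hfU : IsIso (f ∣_ U)) (V : X.Opens) :
    Function.Injective (f.app V).hom := by
  rw [injective_iff_map_eq_zero]
  intro a ha
  rw [← basicOpen_eq_bot_iff]
  by_contra hne
  have hne' : ((X.basicOpen a : X.Opens) : Set X).Nonempty := by
    rw [Set.nonempty_iff_ne_empty]
    intro h0
    apply hne
    ext z
    simp [h0]
  obtain ⟨y, hyb, hyU⟩ := hU.inter_open_nonempty _ (X.basicOpen a).isOpen hne'
  have hyV : y ∈ V := X.basicOpen_le a hyb
  let W' : (U : Scheme.{u}).Opens := U.ι ⁻¹ᵁ V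
  have hWV : U.ι ''ᵁ W' ≤ V := by
    rintro _ ⟨z, hz, rfl⟩
    exact hz
  have hyW : y ∈ U.ι ''ᵁ W' := ⟨⟨y, hyU⟩, hyV, rfl⟩
  haveI := isIso_app_image f U hfU W'
  have hinj : Function.Injective (f.app (U.ι ''ᵁ W')).hom :=
    ((ConcreteCategory.isIso_iff_bijective (f.app (U.ι ''ᵁ W'))).mp inferInstance).1
  have hres : X.presheaf.map (homOfLE hWV).op a = 0 := by
    apply hinj
    rw [map_zero]
    have hn := congr($(f.naturality (homOfLE hWV).op) a)
    refine hn.trans ?_
    change (X'.presheaf.map _).hom ((f.app V).hom a) = 0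
    rw [ha, map_zero]
  have hmem : y ∈ X.basicOpen (X.presheaf.map (homOfLE hWV).op a) := by
    rw [Scheme.basicOpen_res]
    exact ⟨hyW, hyb⟩
  rw [hres, Scheme.basicOpen_zero] at hmem
  exact hmem

end Groth.Agent.Helper13.CurveBir
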