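import Mathlib
import Groth.Prelude.Def_Curv2
import Groth.Agent.Lib.Helper13.CurveBir2

set_option autoImplicit false
universe u
open CategoryTheory CategoryTheory.Limits AlgebraicGeometry Opposite TopologicalSpace

namespace Groth.Agent.Helper13.CurveBir

open Groth.Agent.Helper13.CurveGen Groth.Agent.Helper13.QCoh

theorem mono_unitToPush {X X' : Scheme.{u}} [IsReduced X] (f : X' ⟶ X) (U : X.Opens)
    (hU : Dense (U : Set X)) (hfU : IsIso (f ∣_ U)) : Mono (ClSub.unitToPush f) := by
  rw [mono_iff_app_injective]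
  intro V
  exact app_injective_of_dense f U hU hfU V

/-- a flasque module without nonzero global sections is zero. -/
theorem isZero_of_flasque {X : Scheme.{u}} (C : X.Modules)
    (hfl : TopCat.Sheaf.IsFlasque (X := X.toTopCat) (Coh.toAb C))
    (h0 : Subsingleton ((Coh.toAb C).obj.obj (op (⊤ : X.Opens)))) : IsZero C := by
  rw [isZero_iff_stalk]
  intro x
  refine ⟨fun a b => ?_⟩
  have key : ∀ m : C.presheaf.stalk x, m = 0 := by
    intro m
    obtain ⟨V, hV, s, rfl⟩ := TopCat.Presheaf.exists_germ_eq C.presheaf m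
    have hepi : Epi ((Coh.toAb C).obj.map (homOfLE (le_top : V ≤ ⊤)).op) :=
      hfl.epi (homOfLE (le_top : V ≤ ⊤)).op
    obtain ⟨t, ht⟩ := (AddCommGrpCat.epi_iff_surjective
      ((Coh.toAb C).obj.map (homOfLE (le_top : V ≤ ⊤)).op)).1 hepi s
    have ht0 : t = 0 := Subsingleton.elim (α := (Coh.toAb C).obj.obj (op (⊤ : X.Opens))) _ _
    rw [ht0, map_zero] at ht
    have hs : s = 0 := ht.symm
    rw [hs, map_zero]
  rw [key a, key b]

end Groth.Agent.Helper13.CurveBir
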