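import Mathlib
import Groth.Prelude.Def_Curv2
import Groth.Agent.Lib.Helper13.CurveBir3

set_option autoImplicit false
universe u
open CategoryTheory CategoryTheory.Limits AlgebraicGeometry Opposite TopologicalSpace

namespace Groth.Agent.Helper13.CurveBir

open Groth.Agent.Helper13.CurveGen Groth.Agent.Helper13.QCoh

theorem isIso_comp_eqToHom_of {C : Type*} [Category C] {A B B' : C} (a : A ⟶ B) (p : B = B')
    (h : IsIso a) : IsIso (a ≫ eqToHom p) := by
  subst p
  simpa using h

/-- an affine morphism inducing isomorphisms on all sections is an isomorphism. -/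
theorem isIso_of_isIso_app {X X' : Scheme.{u}} (f : X' ⟶ X) [IsAffineHom f]
    (h : ∀ V : X.Opens, IsIso (f.app V)) : IsIso f := by
  have hP : MorphismProperty.isomorphisms Scheme f := by
    rw [HasAffineProperty.eq_targetAffineLocally (P := MorphismProperty.isomorphisms Scheme)]
    intro V
    refine ⟨(V.2.preimage f : IsAffineOpen (f ⁻¹ᵁ V.1)), ?_⟩
    rw [morphismRestrict_appTop, eqToHom_op, eqToHom_map]
    exact isIso_comp_eqToHom_of _ _ (h (V.1.ι ''ᵁ ⊤))
  exact hP

theorem isIso_of_isIso_unitToPush {X X' : Scheme.{u}} (f : X' ⟶ X) [IsAffineHom f]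
    (h : IsIso (ClSub.unitToPush f)) : IsIso f := by
  apply isIso_of_isIso_app
  intro V
  rw [Scheme.Modules.Hom.isIso_iff_isIso_app] at h
  have h1 := h V
  rw [ConcreteCategory.isIso_iff_bijective] at h1 ⊢
  exact h1

end Groth.Agent.Helper13.CurveBir
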