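import Mathlib
import Groth.Prelude.Def_Curv2
import Groth.Agent.Lib.Helper13.CurveBir4

set_option autoImplicit false
universe u
open CategoryTheory CategoryTheory.Limits AlgebraicGeometry Opposite TopologicalSpace

namespace Groth.Agent.Helper13.CurveBir

open Groth.Agent.Helper13.CurveGen Groth.Agent.Helper13.QCoh Groth.Agent.Helper13.ToAbExact

theorem HHlin_zero_surjective (k : Type u) [Field k] {X X' : Scheme.{u}}
    [X.Over (Spec (CommRingCat.of k))] (f : X' ⟶ X)
    (h0 : Function.Surjective (f.app ⊤).hom) :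
    Function.Surjective (Canon.HHlin k (ClSub.unitToPush f) 0) := by
  intro y
  let eA := Sheaf.H.equiv₀ (Coh.toAb ((Scheme.Modules.pushforward f).obj (Coh.structureModule X')))
    (T := (⊤ : Opens X)) isTerminalTop
  let eO := Sheaf.H.equiv₀ (Coh.toAb (Coh.structureModule X)) (T := (⊤ : Opens X)) isTerminalTop
  obtain ⟨a, ha⟩ := h0 (eA y)
  refine ⟨eO.symm a, ?_⟩
  apply eA.injective
  have h1 := Sheaf.H.equiv₀_naturality (T := (⊤ : Opens X)) isTerminalTop
    ((toAbF X).map (ClSub.unitToPush f)) (eO.symm a)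
  rw [Groth.Agent.Helper26.DualFun.HHlin_apply']
  refine h1.symm.trans ?_
  have h2 : eO (eO.symm a) = a := eO.apply_symm_apply a
  refine Eq.trans ?_ ha
  exact congrArg (fun t => (f.app ⊤).hom t) h2

end Groth.Agent.Helper13.CurveBir

namespace Groth.Agent.Helper13.CurveBir

open Groth.Agent.Helper13.CurveGen Groth.Agent.Helper13.QCoh Groth.Agent.Helper13.ToAbExact

theorem main1603 (k : Type u) [Field k] (X X' : Scheme.{u})
    [X.Over (Spec (CommRingCat.of k))] [X'.Over (Spec (CommRingCat.of k))]
    [IsProper (X ↘ (Spec (CommRingCat.of k)))] [IsReduced X]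
    (hdim : topologicalKrullDim X ≤ 1) (f : X' ⟶ X)
    [IsProper f] (hf : f ≫ (X ↘ (Spec (CommRingCat.of k))) = X' ↘ (Spec (CommRingCat.of k)))
    (U : X.Opens) (hU : Dense (U : Set X)) (hU' : Dense ((f ⁻¹ᵁ U : X'.Opens) : Set X'))
    (hfU : IsIso (f ∣_ U))
    (h0 : Function.Surjective (f.app ⊤).hom) (h1 : Curv2.genus k X' = Curv2.genus k X) :
    IsIso f := by
  haveI := isFinite_of_iso_over_dense k X X' hdim f hf U hU' hfU
  haveI := hfU
  have hcl : IsClosedImmersion (f ∣_ U) := inferInstance
  haveI : IsLocallyNoetherian X :=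
    LocallyOfFiniteType.isLocallyNoetherian (X ↘ (Spec (CommRingCat.of k)))
  obtain ⟨η, hη⟩ : ∃ η : Coh.structureModule X ⟶
      (Scheme.Modules.pushforward f).obj (Coh.structureModule X'), η = ClSub.unitToPush f :=
    ⟨_, rfl⟩
  haveI hmono : Mono η := by rw [hη]; exact mono_unitToPush f U hU hfU
  have hsupp : ∀ x : X, x ∉ ((U : Set X)ᶜ) → Subsingleton ((cokernel η).presheaf.stalk x) := by
    intro x hx
    rw [hη]
    exact stalk_cokernel_unitToPush_subsingleton f U hcl x (by simpa using hx)
  have hT0 : ∀ x ∈ ((U : Set X)ᶜ), IsClosed ({x} : Set X) :=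
    fun x hx => isClosed_singleton_of_notMem_dense hdim U hU x hx
  have hfl := isFlasque_of_support_subset (cokernel η) ((U : Set X)ᶜ) U.isOpen.isClosed_compl
    hT0 hsupp
  have vC : Subsingleton (Coh.HH X (cokernel η) 1) :=
    HH_subsingleton_of_support_subset (cokernel η) ((U : Set X)ᶜ) U.isOpen.isClosed_compl
      hT0 hsupp 1 Nat.one_pos
  have hS : (ShortComplex.mk η (cokernel.π η) (cokernel.condition η)).ShortExact :=
    ShortComplex.ShortExact.mk' (ShortComplex.exact_of_g_is_cokernel _ (cokernelIsCokernel η))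
      (inferInstanceAs (Mono η)) (inferInstanceAs (Epi (cokernel.π η)))
  -- surjectivity on H¹ and equality of dimensions
  have s₁ : Function.Surjective (Canon.HHlin k η 1) := by
    intro y
    exact Groth.Agent.Helper26.LesDim.exact₂ k
      (ShortComplex.mk η (cokernel.π η) (cokernel.condition η)) hS 1 y
      (Subsingleton.elim (α := Coh.HH X (cokernel η) 1) _ _)
  haveI : Module.Finite k (Coh.HH X (Coh.structureModule X) 1) :=
    Groth.Agent.Helper13.FinProj.finite_HH_of_isProper k X _
      (Groth.Agent.Helper13.CohRoof.isCoh_structureModule X) 1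
  haveI : Module.Finite k
      (Coh.HH X ((Scheme.Modules.pushforward f).obj (Coh.structureModule X')) 1) :=
    Module.Finite.of_surjective _ s₁
  haveI hqOY : (Coh.structureModule X').IsQuasicoherent :=
    (Groth.Agent.Helper13.CohRoof.isCoh_structureModule X').1
  have hb := Groth.Agent.Helper13.PushEdgeSch.pushEdge_bijective f (Coh.structureModule X') 1
    (fun q => Groth.Agent.S0028.result f (Coh.structureModule X') (q + 1) (Nat.succ_pos q))
  let e := LinearEquiv.ofBijective
    (Groth.Agent.Helper13.FinProj.pushEdgeLin f k hf (Coh.structureModule X') 1) hb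
  have hfr : Module.finrank k (Coh.HH X (Coh.structureModule X) 1) =
      Module.finrank k
        (Coh.HH X ((Scheme.Modules.pushforward f).obj (Coh.structureModule X')) 1) := by
    rw [e.finrank_eq]
    exact h1.symm
  have i₁ : Function.Injective (Canon.HHlin k η 1) :=
    (LinearMap.injective_iff_surjective_of_finrank_eq_finrank hfr).2 s₁
  have s₀ : Function.Surjective (Canon.HHlin k η 0) := by
    rw [hη]; exact HHlin_zero_surjective k f h0
  -- H⁰ of the cokernel vanishes
  have v0 : Subsingleton (Coh.HH X (cokernel η) 0) := by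
    refine subsingleton_of_forall_eq 0 fun z => ?_
    have hd : Groth.Agent.Helper26.PnFin.deltaLin k
        (ShortComplex.mk η (cokernel.π η) (cokernel.condition η)) hS 0 z = 0 := by
      apply i₁
      rw [map_zero]
      exact Groth.Agent.Helper26.LesDim.f_deltaLin k
        (ShortComplex.mk η (cokernel.π η) (cokernel.condition η)) hS 0 z
    obtain ⟨y, rfl⟩ := Groth.Agent.Helper26.PnFin.deltaLin_exact k
      (ShortComplex.mk η (cokernel.π η) (cokernel.condition η)) hS 0 z hd
    obtain ⟨x, rfl⟩ := s₀ y
    exact Groth.Agent.Helper26.LesDim.HHlin_g_f k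
      (ShortComplex.mk η (cokernel.π η) (cokernel.condition η)) 0 x
  have hΓ : Subsingleton ((Coh.toAb (cokernel η)).obj.obj (op (⊤ : X.Opens))) :=
    (Sheaf.H.equiv₀ (Coh.toAb (cokernel η)) (T := (⊤ : Opens X))
      isTerminalTop).symm.injective.subsingleton
  have hz : IsZero (cokernel η) := isZero_of_flasque (cokernel η) hfl hΓ
  haveI : Epi η := Abelian.epi_of_cokernel_π_eq_zero η (hz.eq_of_tgt _ _)
  haveI : IsIso η := isIso_of_mono_of_epi η
  apply isIso_of_isIso_unitToPush f
  rw [← hη]
  infer_instance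

end Groth.Agent.Helper13.CurveBir
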