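import Mathlib
import Groth.Prelude.Def_Curv2
import Groth.Agent.Lib.Helper13.CurveGG1
import Groth.Agent.Lib.Helper13.AcycEmbed
import Groth.Agent.Lib.Helper13.FinProj7

set_option autoImplicit false
universe u
open CategoryTheory CategoryTheory.Limits AlgebraicGeometry Opposite TopologicalSpace

namespace Groth.Agent.Helper13.CurveGG

open Groth.Agent.Helper13.CurveGen Groth.Agent.Helper13.QCoh Groth.Agent.Helper13.ToAbExact

/-- a class in `H⁰` is killed by the quotient by the corresponding section. -/
theorem exists_hom_killing (k : Type u) [Field k] {X : Scheme.{u}}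
    [X.Over (Spec (CommRingCat.of k))] (Q : X.Modules) (x : Coh.HH X Q 0) :
    ∃ t : Coh.structureModule X ⟶ Q, Canon.HHlin k (cokernel.π t) 0 x = 0 := by
  let e := Sheaf.H.equiv₀ (Coh.toAb Q) (T := (⊤ : Opens X)) isTerminalTop
  refine ⟨Groth.Agent.Helper13.LocFree.homOfSec Q (e x), ?_⟩
  set t := Groth.Agent.Helper13.LocFree.homOfSec Q (e x) with ht
  let e' := Sheaf.H.equiv₀ (Coh.toAb (cokernel t)) (T := (⊤ : Opens X)) isTerminalTop
  apply e'.injective
  rw [map_zero, Groth.Agent.Helper26.DualFun.HHlin_apply']
  have h1 := Sheaf.H.equiv₀_naturality (T := (⊤ : Opens X)) isTerminalTop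
    ((toAbF X).map (cokernel.π t)) x
  refine h1.symm.trans ?_
  have h2 := Groth.Agent.Helper13.LocFree.homOfSec_app_one Q (e x) ⊤
  have h3 : Q.presheaf.map (homOfLE (le_top : (⊤ : X.Opens) ≤ ⊤)).op (e x) = e x := by
    have : (homOfLE (le_top : (⊤ : X.Opens) ≤ ⊤)).op = 𝟙 _ := rfl
    rw [this, Q.presheaf.map_id]
    rfl
  rw [h3] at h2
  have h4 : (cokernel.π t).app ⊤ (t.app ⊤ (Groth.Agent.Helper13.LocFree.toO ⊤ 1)) =
      (t ≫ cokernel.π t).app ⊤ (Groth.Agent.Helper13.LocFree.toO ⊤ 1) := rfl
  rw [cokernel.condition] at h4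
  rw [h2] at h4
  exact h4.trans rfl

end Groth.Agent.Helper13.CurveGG

namespace Groth.Agent.Helper13.CurveGG

open Groth.Agent.Helper13.CurveGen Groth.Agent.Helper13.QCoh Groth.Agent.Helper13.ToAbExact

/-- on a proper scheme of dimension at most one over a field with `H¹(O) = 0`, globally
generated coherent modules have vanishing `H¹`. -/
theorem H1_subsingleton_of_gg (k : Type u) [Field k] (X : Scheme.{u})
    [X.Over (Spec (CommRingCat.of k))] [IsProper (X ↘ Spec (CommRingCat.of k))]
    (hdim : topologicalKrullDim X ≤ 1)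
    (hg : Subsingleton (Coh.HH X (Coh.structureModule X) 1)) :
    ∀ (n : ℕ) (Q : X.Modules), Coh.IsCoh Q → Curv2.IsGloballyGenerated Q →
      Module.finrank k (Coh.HH X Q 0) = n → Subsingleton (Coh.HH X Q 1) := by
  haveI : IsLocallyNoetherian X :=
    LocallyOfFiniteType.isLocallyNoetherian (X ↘ (Spec (CommRingCat.of k)))
  haveI : CompactSpace X :=
    QuasiCompact.compactSpace_of_compactSpace (X ↘ Spec (CommRingCat.of k))
  haveI : IsNoetherian X := ⟨⟩
  haveI hqO : (Coh.structureModule X).IsQuasicoherent :=
    (Groth.Agent.Helper13.CohRoof.isCoh_structureModule X).1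
  intro n
  induction n using Nat.strong_induction_on with
  | _ n ih =>
    intro Q hQ hgg hn
    haveI := hQ.1
    haveI := hQ.2
    by_cases h0 : Subsingleton (Coh.HH X Q 0)
    · exact Groth.Agent.Helper13.AcycEmbed.subsingleton_HH_of_isZero Q
        (isZero_of_gg_of_subsingleton Q hgg h0) 1
    · rw [not_subsingleton_iff_nontrivial] at h0
      obtain ⟨x, hx⟩ := exists_ne (0 : Coh.HH X Q 0)
      obtain ⟨t, ht⟩ := exists_hom_killing k Q x
      haveI hqK : (kernel t).IsQuasicoherent :=
        Groth.Agent.Helper13.QCohLocal.isQuasicoherent_kernel t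
      have hQ' : Coh.IsCoh (cokernel t) :=
        ⟨Groth.Agent.Helper13.QCohLocal.isQuasicoherent_cokernel t,
          Groth.Agent.Helper13.FinType.isFiniteType_of_epi (cokernel.π t)⟩
      have hgg' : Curv2.IsGloballyGenerated (cokernel t) := by
        obtain ⟨ι, p, hp⟩ := hgg
        have hπ : Epi (cokernel.π t) := inferInstance
        exact ⟨ι, p ≫ cokernel.π t, @epi_comp _ _ _ _ _ p hp (cokernel.π t) hπ⟩
      have vK : Subsingleton (Coh.HH X (kernel t) (1 + 1)) :=
        HH_subsingleton_of_two_le (X ↘ Spec (CommRingCat.of k)) hdim _ (1 + 1) le_rfl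
      have hS₂ : (ShortComplex.mk (kernel.ι (cokernel.π t)) (cokernel.π t)
          (kernel.condition _)).ShortExact :=
        { exact := ShortComplex.exact_of_f_is_kernel _ (kernelIsKernel _)
          mono_f := inferInstanceAs (Mono (kernel.ι (cokernel.π t)))
          epi_g := inferInstanceAs (Epi (cokernel.π t)) }
      have hz : kernel.ι t ≫ Abelian.factorThruImage t = 0 := by
        rw [← cancel_mono (Abelian.image.ι t), Category.assoc, Abelian.image.fac,
          kernel.condition, zero_comp]
      have hS₁ : (ShortComplex.mk (kernel.ι t) (Abelian.factorThruImage t) hz).ShortExact :=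
        { exact := ShortComplex.exact_of_f_is_kernel _
            (isKernelOfComp (Abelian.image.ι t) t (kernelIsKernel t) hz (Abelian.image.fac t))
          mono_f := inferInstanceAs (Mono (kernel.ι t))
          epi_g := inferInstanceAs (Epi (Abelian.factorThruImage t)) }
      have s₁ : Function.Surjective (Canon.HHlin k (Abelian.factorThruImage t) 1) :=
        Groth.Agent.Helper26.DualFun.HHlin_surjective_of_vanish k 1
          (ShortComplex.mk (kernel.ι t) (Abelian.factorThruImage t) hz) hS₁ vK
      have vI : Subsingleton (Coh.HH X (kernel (cokernel.π t)) (0 + 1)) :=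
        s₁.subsingleton
      have s₀ : Function.Surjective (Canon.HHlin k (cokernel.π t) 0) :=
        Groth.Agent.Helper26.DualFun.HHlin_surjective_of_vanish k 0
          (ShortComplex.mk (kernel.ι (cokernel.π t)) (cokernel.π t) (kernel.condition _)) hS₂ vI
      haveI : Module.Finite k (Coh.HH X Q 0) :=
        Groth.Agent.Helper13.FinProj.finite_HH_of_isProper k X Q hQ 0
      have hlt : Module.finrank k (Coh.HH X (cokernel t) 0) < n := by
        have h := LinearMap.finrank_range_add_finrank_ker (Canon.HHlin k (cokernel.π t) 0)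
        rw [LinearMap.range_eq_top.2 s₀, finrank_top, hn] at h
        have hpos : 0 < Module.finrank k (LinearMap.ker (Canon.HHlin k (cokernel.π t) 0)) := by
          rw [Module.finrank_pos_iff_exists_ne_zero]
          refine ⟨⟨x, ht⟩, fun h0 => hx ?_⟩
          exact congrArg Subtype.val h0
        omega
      have vQ' : Subsingleton (Coh.HH X (cokernel t) 1) :=
        ih _ hlt (cokernel t) hQ' hgg' rfl
      exact Groth.Agent.Helper13.AcycEmbed.HH_subsingleton_of_shortExact
        (ShortComplex.mk (kernel.ι (cokernel.π t)) (cokernel.π t) (kernel.condition _)) hS₂ 1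
        vI vQ'

end Groth.Agent.Helper13.CurveGG
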