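import Mathlib
import Groth.Prelude.Def_Curv2
import Groth.Agent.Lib.Helper13.CurveGen4
import Groth.Agent.Lib.Helper13.EpiStalk
import Groth.Agent.Lib.Helper26.DualFun

/-!
# Maps of modules on a curve which are surjective on stalks away from finitely many closed points
are surjective on `H¹`
-/

set_option autoImplicit false
universe u
open CategoryTheory CategoryTheory.Limits AlgebraicGeometry Opposite TopologicalSpace

namespace Groth.Agent.Helper13.CurveSV

open Groth.Agent.Helper13.QCoh Groth.Agent.Helper13.FinType Groth.Agent.Helper13.CurveGen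

theorem stalk_cokernel_subsingleton {X : Scheme.{u}} {F G : X.Modules} (φ : F ⟶ G) (x : X)
    (h : Function.Surjective (stalkMap φ x)) :
    Subsingleton ((cokernel φ).presheaf.stalk x) := by
  refine ⟨fun a b => ?_⟩
  have key : ∀ m : (cokernel φ).presheaf.stalk x, m = 0 := by
    intro m
    obtain ⟨l, rfl⟩ := stalkMap_surjective_of_epi (cokernel.π φ) x m
    obtain ⟨a, rfl⟩ := h l
    obtain ⟨U, hU, a₀, rfl⟩ := TopCat.Presheaf.exists_germ_eq F.presheaf a
    rw [stalkMap_germ, stalkMap_germ]
    have h1 : (cokernel.π φ).app U (φ.app U a₀) = (φ ≫ cokernel.π φ).app U a₀ := rfl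
    rw [h1, cokernel.condition]
    exact map_zero _
  rw [key a, key b]

theorem HHlin_one_surjective (k : Type u) [Field k] (X : Scheme.{u})
    [X.Over (Spec (CommRingCat.of k))] [IsProper (X ↘ (Spec (CommRingCat.of k)))]
    (hdim : topologicalKrullDim X ≤ 1) {F G : X.Modules} [F.IsQuasicoherent] [G.IsQuasicoherent]
    (η : F ⟶ G) (T : Set X) (hT : IsClosed T) (h0 : ∀ x ∈ T, IsClosed ({x} : Set X))
    (hη : ∀ x : X, x ∉ T → Function.Surjective (stalkMap η x)) :
    Function.Surjective (Canon.HHlin k η 1) := by
  haveI : IsLocallyNoetherian X :=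
    LocallyOfFiniteType.isLocallyNoetherian (X ↘ (Spec (CommRingCat.of k)))
  haveI : CompactSpace X :=
    QuasiCompact.compactSpace_of_compactSpace (X ↘ Spec (CommRingCat.of k))
  haveI : IsNoetherian X := ⟨⟩
  haveI hqK : (kernel η).IsQuasicoherent := Groth.Agent.Helper13.QCohLocal.isQuasicoherent_kernel η
  have vK : Subsingleton (Coh.HH X (kernel η) (1 + 1)) :=
    HH_subsingleton_of_two_le (X ↘ Spec (CommRingCat.of k)) hdim _ (1 + 1) le_rfl
  have vC : Subsingleton (Coh.HH X (cokernel η) 1) := by
    apply HH_subsingleton_of_support_subset (cokernel η) T hT h0 _ 1 Nat.one_pos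
    intro x hx
    exact stalk_cokernel_subsingleton η x (hη x hx)
  have hS₂ : (ShortComplex.mk (kernel.ι (cokernel.π η)) (cokernel.π η)
      (kernel.condition _)).ShortExact :=
    { exact := ShortComplex.exact_of_f_is_kernel _ (kernelIsKernel _)
      mono_f := inferInstanceAs (Mono (kernel.ι (cokernel.π η)))
      epi_g := inferInstanceAs (Epi (cokernel.π η)) }
  have hz : kernel.ι η ≫ Abelian.factorThruImage η = 0 := by
    rw [← cancel_mono (Abelian.image.ι η), Category.assoc, Abelian.image.fac, kernel.condition,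
      zero_comp]
  have hS₁ : (ShortComplex.mk (kernel.ι η) (Abelian.factorThruImage η) hz).ShortExact :=
    { exact := ShortComplex.exact_of_f_is_kernel _
        (isKernelOfComp (Abelian.image.ι η) η (kernelIsKernel η) hz (Abelian.image.fac η))
      mono_f := inferInstanceAs (Mono (kernel.ι η))
      epi_g := inferInstanceAs (Epi (Abelian.factorThruImage η)) }
  have s₁ : Function.Surjective (Canon.HHlin k (Abelian.factorThruImage η) 1) :=
    Groth.Agent.Helper26.DualFun.HHlin_surjective_of_vanish k 1
      (ShortComplex.mk (kernel.ι η) (Abelian.factorThruImage η) hz) hS₁ vK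
  have s₂ : Function.Surjective (Canon.HHlin k (kernel.ι (cokernel.π η)) 1) := by
    intro y
    exact Groth.Agent.Helper26.LesDim.exact₂ k
      (ShortComplex.mk (kernel.ι (cokernel.π η)) (cokernel.π η) (kernel.condition _)) hS₂ 1 y
      (Subsingleton.elim (α := Coh.HH X (cokernel η) 1) _ _)
  have hfac : Abelian.factorThruImage η ≫ kernel.ι (cokernel.π η) = η := Abelian.image.fac η
  have hcomp := Groth.Agent.Helper26.DualFun.HHlin_comp k (Abelian.factorThruImage η)
    (kernel.ι (cokernel.π η)) 1
  rw [hfac] at hcomp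
  rw [hcomp]
  exact s₂.comp s₁

end Groth.Agent.Helper13.CurveSV
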