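import Mathlib
import Groth.Prelude.Def_Curv2
import Groth.Agent.Lib.Helper13.TensorUnit
import Groth.Agent.Lib.Helper13.TwistSES
import Groth.Agent.Lib.Helper13.SerreCrit1
import Groth.Agent.Lib.Helper18.InvEnd3

/-!
# Multiplication of a module by a section of another module
-/

set_option autoImplicit false
universe u
open CategoryTheory CategoryTheory.Limits AlgebraicGeometry Opposite TopologicalSpace TensorProduct

namespace Groth.Agent.Helper13.CurveSV

open Groth.Agent.Helper13.QCoh Groth.Agent.Helper13.FinType Groth.Agent.Helper13.Tensor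
open Groth.Agent.Helper18.InvEnd

variable {X : Scheme.{u}}

lemma map_add_right {M M' N N' : X.Modules} (f : M ⟶ M') (g g' : N ⟶ N') :
    Tensor.map f (g + g') = Tensor.map f g + Tensor.map f g' := by
  apply Tensor.hom_ext
  intro U m n
  rw [Scheme.Modules.Hom.add_app]
  change _ = (Tensor.map f g).app U (tmul M N m n) + (Tensor.map f g').app U (tmul M N m n)
  rw [map_app_tmul, map_app_tmul, map_app_tmul, Scheme.Modules.Hom.add_app]
  exact tmul_add_right M' N' (f.app U m) (g.app U n) (g'.app U n)

lemma smulEnd_app (M : X.Modules) (r : Coh.Γtop X) (U : X.Opens) (m : Γ(M, U)) :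
    (smulEnd M r).app U m = X.presheaf.map (homOfLE le_top : U ⟶ ⊤).op r • m := rfl

lemma map_id_smulEnd (N L : X.Modules) (r : Coh.Γtop X) :
    Tensor.map (𝟙 N) (smulEnd L r) = smulEnd (CohB1.tensorMod N L) r := by
  apply Tensor.hom_ext
  intro U m n
  rw [map_app_tmul, smulEnd_app, smulEnd_app, tmul_smul_right]
  rfl

variable (N : X.Modules) {L : X.Modules}

/-- multiplication by a section of `L` -/
noncomputable def mulBy (t : Coh.structureModule X ⟶ L) : N ⟶ CohB1.tensorMod N L :=
  (rid N).inv ≫ Tensor.map (𝟙 N) t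

lemma mulBy_add (t t' : Coh.structureModule X ⟶ L) :
    mulBy N (t + t') = mulBy N t + mulBy N t' := by
  unfold mulBy
  rw [map_add_right, Preadditive.comp_add]

lemma mulBy_comp_smulEnd (t : Coh.structureModule X ⟶ L) (r : Coh.Γtop X) :
    mulBy N (t ≫ smulEnd L r) = mulBy N t ≫ smulEnd (CohB1.tensorMod N L) r := by
  unfold mulBy
  have h1 : Tensor.map (𝟙 N) (t ≫ smulEnd L r) =
      Tensor.map (𝟙 N) t ≫ Tensor.map (𝟙 N) (smulEnd L r) := by
    rw [← Tensor.map_comp, Category.comp_id]
  rw [h1, map_id_smulEnd, Category.assoc]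

lemma stalkMap_bijective_of_iso {A B : X.Modules} (e : A ≅ B) (x : X) :
    Function.Bijective (stalkMap e.hom x) := by
  rw [Function.bijective_iff_has_inverse]
  refine ⟨stalkMap e.inv x, fun a => ?_, fun b => ?_⟩
  · rw [← SerreCrit.stalkMap_comp', e.hom_inv_id, TwistSES.stalkMap_id]
  · rw [← SerreCrit.stalkMap_comp', e.inv_hom_id, TwistSES.stalkMap_id]

lemma stalkMap_mulBy_surjective (t : Coh.structureModule X ⟶ L) (x : X)
    (h : Function.Surjective (stalkMap t x)) : Function.Surjective (stalkMap (mulBy N t) x) := by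
  have h1 : Function.Surjective (stalkMap (Tensor.map (𝟙 N) t) x) := by
    intro z
    obtain ⟨w, rfl⟩ := (stalkTensorEquiv N L x).surjective z
    have hs : Function.Surjective (TensorProduct.map (stalkLinearMap (𝟙 N) x)
        (stalkLinearMap t x)) := by
      apply TensorProduct.map_surjective
      · rw [TwistSES.stalkLinearMap_id]
        exact Function.surjective_id
      · exact h
    obtain ⟨v, rfl⟩ := hs w
    exact ⟨stalkTensorEquiv N (Coh.structureModule X) x v, stalkMap_map (𝟙 N) t x v⟩
  have h2 : Function.Surjective (stalkMap (rid N).inv x) :=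
    (stalkMap_bijective_of_iso (rid N).symm x).2
  intro z
  obtain ⟨w, rfl⟩ := h1 z
  obtain ⟨v, rfl⟩ := h2 w
  exact ⟨v, SerreCrit.stalkMap_comp' _ _ x v⟩

end Groth.Agent.Helper13.CurveSV
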