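import Mathlib
import Groth.Prelude.Def_Curv2
import Groth.Agent.Lib.Helper13.CurveSV1
import Groth.Agent.Lib.Helper13.CurveSV2
import Groth.Agent.Lib.Helper13.KerSec
import Groth.Agent.Lib.Helper13.CurveDeg2
import Groth.Agent.Lib.Helper13.CurveVan2
import Groth.Agent.S0020
import Groth.Agent.Lib.Helper13.TensorQCoh
import Groth.Agent.Lib.Helper13.InvQCoh

/-!
# Multiplication by a nonzero section of an invertible module on an integral curve is surjective
on `H¹`
-/

set_option autoImplicit false
universe u
open CategoryTheory CategoryTheory.Limits AlgebraicGeometry Opposite TopologicalSpace TensorProduct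

namespace Groth.Agent.Helper13.CurveSV

open Groth.Agent.Helper13.QCoh Groth.Agent.Helper13.FinType Groth.Agent.Helper13.Tensor

theorem stalkMap_surjective_of_stalk_cokernel {X : Scheme.{u}} {F G : X.Modules} (φ : F ⟶ G)
    (x : X) (h : Subsingleton ((cokernel φ).presheaf.stalk x)) :
    Function.Surjective (stalkMap φ x) := by
  intro g
  obtain ⟨U, hxU, g₀, rfl⟩ := TopCat.Presheaf.exists_germ_eq G.presheaf g
  have h0 : (cokernel φ).presheaf.germ U x hxU ((cokernel.π φ).app U g₀) =
      (cokernel φ).presheaf.germ U x hxU 0 := Subsingleton.elim _ _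
  obtain ⟨V, hxV, i₁, i₂, hres⟩ := TopCat.Presheaf.germ_eq _ x hxU hxU _ _ h0
  have hz : (cokernel.π φ).app V (G.presheaf.map i₁.op g₀) = 0 := by
    have h1 := Groth.Agent.Helper18.PbCompat.hom_naturality (cokernel.π φ) i₁.op g₀
    rw [h1]
    refine hres.trans ?_
    exact map_zero _
  obtain ⟨κ, hκ⟩ := Groth.Agent.Helper13.KerSec.exists_kernel_section (cokernel.π φ) V _ hz
  obtain ⟨f, hf⟩ := stalkMap_surjective_of_epi (Abelian.factorThruImage φ) x
    ((kernel (cokernel.π φ)).presheaf.germ V x hxV κ)
  refine ⟨f, ?_⟩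
  have hfac : Abelian.factorThruImage φ ≫ kernel.ι (cokernel.π φ) = φ := Abelian.image.fac φ
  rw [← hfac, Groth.Agent.Helper13.SerreCrit.stalkMap_comp', hf, stalkMap_germ, hκ]
  exact TopCat.Presheaf.germ_res_apply G.presheaf i₁ x hxV g₀

section

variable (k : Type u) [Field k] (X : Scheme.{u}) [X.Over (Spec (CommRingCat.of k))]
  [IsIntegral X] [IsProper (X ↘ Spec (CommRingCat.of k))]

theorem HHlin_mulBy_surjective (hdim : topologicalKrullDim X = 1) (N : X.Modules)
    [N.IsQuasicoherent] (L : X.Modules) (hL : PicF.IsInvertible L)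
    (t : Coh.structureModule X ⟶ L) (ht : t ≠ 0) :
    Function.Surjective (Canon.HHlin k (mulBy N t) 1) := by
  have hO : PicF.IsInvertible (Coh.structureModule X) :=
    Groth.Agent.Helper13.Inv.isInvertible_structureModule
  have hTcl : IsClosed (CohB1.support (cokernel t)) :=
    Groth.Agent.S0020.result X _
      (Groth.Agent.Helper13.CurveDeg.isCoh_cokernel X _ L hO hL t).2
  have hTne : CohB1.support (cokernel t) ≠ Set.univ := fun h =>
    Groth.Agent.Helper13.CurveDeg.genericPoint_notMem_support_cokernel _ L hO hL t ht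
      (h ▸ Set.mem_univ _)
  haveI : L.IsQuasicoherent := Groth.Agent.Helper13.Inv.isQuasicoherent_of_isInvertible L hL
  haveI : (CohB1.tensorMod N L).IsQuasicoherent := inferInstance
  refine HHlin_one_surjective k X hdim.le (mulBy N t) _ hTcl
    (fun x hx => Groth.Agent.Helper13.CurveVan.isClosed_singleton_of_mem_closed hdim.le _ hTcl
      hTne x hx) (fun x hx => ?_)
  apply stalkMap_mulBy_surjective
  apply stalkMap_surjective_of_stalk_cokernel
  exact not_not.1 hx

end

end Groth.Agent.Helper13.CurveSV
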