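import Mathlib
import Groth.Prelude.Def_Curv2
import Groth.Agent.Lib.Helper13.CurveSV3
import Groth.Agent.Lib.Helper3.CurveHopfA
import Groth.Agent.Lib.Helper26.HomVan

/-!
# The pairing `H⁰(L) → H¹(N ⊗ L)` attached to a class in `H¹(N)`
-/

set_option autoImplicit false
universe u
open CategoryTheory CategoryTheory.Limits AlgebraicGeometry Opposite TopologicalSpace TensorProduct

namespace Groth.Agent.Helper13.CurveSV

open Groth.Agent.Helper13.QCoh Groth.Agent.Helper13.FinType Groth.Agent.Helper13.Tensor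
open Groth.Agent.Helper18.InvEnd Groth.Agent.Helper3.CurveHopf Groth.Agent.Helper26.DualFun

variable {X : Scheme.{u}} (k : Type u) [Field k] [X.Over (Spec (CommRingCat.of k))]

theorem secHom_smul (L : X.Modules) (c : k) (u : Coh.HH X L 0) :
    secHom L (c • u) =
      secHom L u ≫ smulEnd L (Coh.toGlobal (X ↘ Spec (CommRingCat.of k)) c) := by
  set r := Coh.toGlobal (X ↘ Spec (CommRingCat.of k)) c with hr
  have h1 : e0 L (c • u) = (Coh.smulAb L r).hom.app (op ⊤) (e0 L u) :=
    (Sheaf.H.equiv₀_naturality (Coh.smulAb L r)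
      (hT := (isTerminalTop : IsTerminal (⊤ : Opens X))) u).symm
  apply (SheafOfModules.toSheaf X.ringCatSheaf).map_injective
  have h2 : (SheafOfModules.toSheaf X.ringCatSheaf).map (secHom L u ≫ smulEnd L r) =
      (SheafOfModules.toSheaf X.ringCatSheaf).map (secHom L u) ≫ Coh.smulAb L r :=
    CategoryTheory.Functor.map_comp _ _ _
  refine Eq.trans ?_ h2.symm
  unfold secHom
  rw [h1]
  exact toSheaf_homOfSec_smul L r (e0 L u)

theorem HHlin_smulEnd (M : X.Modules) (c : k) (p : ℕ) (y : Coh.HH X M p) :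
    Canon.HHlin k (smulEnd M (Coh.toGlobal (X ↘ Spec (CommRingCat.of k)) c)) p y = c • y := rfl

/-- the pairing with a fixed class `ξ`. -/
noncomputable def Phi (N L : X.Modules) (p : ℕ) (ξ : Coh.HH X N p) :
    Coh.HH X L 0 →ₗ[k] Coh.HH X (CohB1.tensorMod N L) p where
  toFun u := Canon.HHlin k (mulBy N (secHom L u)) p ξ
  map_add' u v := by
    rw [secHom_add, mulBy_add, HHlin_add]
    rfl
  map_smul' c u := by
    rw [secHom_smul, mulBy_comp_smulEnd, HHlin_comp, LinearMap.comp_apply, HHlin_smulEnd]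
    rfl

theorem Phi_apply (N L : X.Modules) (p : ℕ) (ξ : Coh.HH X N p) (u : Coh.HH X L 0) :
    Phi k N L p ξ u = Canon.HHlin k (mulBy N (secHom L u)) p ξ := rfl

end Groth.Agent.Helper13.CurveSV
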