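import Mathlib
import Groth.Prelude.Def_Curv2
import Groth.Agent.Lib.Helper13.CurveSV4
import Groth.Agent.Lib.Helper13.CurveVan3
import Groth.Agent.Lib.Helper13.FinProj7
import Groth.Agent.Lib.Helper13.TensorPow
import Groth.Agent.Lib.Helper13.TensorAssoc
import Groth.Agent.Lib.Helper13.InvTensor
import Groth.Agent.Lib.Lead.IntNumDimOne
import Groth.Agent.Lib.Lead.DegTensor
import Groth.Agent.Lib.Lead.EffDeg
import Groth.Agent.Lib.Lead.EulerK0

/-!
# Serre vanishing for `H¹` on an integral proper curve, for invertible modules of positive degree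
-/

set_option autoImplicit false
universe u
open CategoryTheory CategoryTheory.Limits AlgebraicGeometry Opposite TopologicalSpace TensorProduct

namespace Groth.Agent.Helper13.CurveSV

open Groth.Agent.Helper13.QCoh Groth.Agent.Helper13.FinType Groth.Agent.Helper13.Tensor
open Groth.Agent.Helper18.InvEnd Groth.Agent.Helper3.CurveHopf Groth.Agent.Helper26.DualFun

variable (k : Type u) [Field k] (X : Scheme.{u}) [X.Over (Spec (CommRingCat.of k))]
  [IsIntegral X] [IsProper (X ↘ Spec (CommRingCat.of k))]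

theorem isCoh_pow (L : X.Modules) (hL : PicF.IsInvertible L) (n : ℕ) :
    Coh.IsCoh (CohB1.tensorPow L n) :=
  Groth.Agent.Helper13.CurveDeg.isCoh_of_isInvertible _
    (Groth.Agent.Helper13.Inv.isInvertible_tensorPow L hL n)

include k in
theorem isCoh_tensor_pow (N : X.Modules) (hN : Coh.IsCoh N) (L : X.Modules)
    (hL : PicF.IsInvertible L) (n : ℕ) :
    Coh.IsCoh (CohB1.tensorMod N (CohB1.tensorPow L n)) := by
  haveI : IsNoetherian X := Groth.Agent.Lead.EulerK0.isNoetherian_of_proper' k X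
  exact Groth.Agent.Lead.DegTensor.isCoh_tensor_right (CohB1.tensorPow L n) 1
    (Groth.Agent.Lead.EffDeg.isFinLocFreeOfRank_one_of_isInvertible _
      (Groth.Agent.Helper13.Inv.isInvertible_tensorPow L hL n)) N hN

theorem euler_pow (hdim : topologicalKrullDim X = 1) (L : X.Modules)
    (hL : PicF.IsInvertible L) (n : ℕ) :
    Curv2.euler k X (CohB1.tensorPow L n) =
      Curv2.euler k X (Coh.structureModule X) + n * Curv2.deg k X L 1 := by
  haveI : IsNoetherian X := Groth.Agent.Lead.EulerK0.isNoetherian_of_proper' k X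
  have hO : Coh.IsCoh (Coh.structureModule X) := isCoh_pow X L hL 0
  have hL1 : Coh.IsCoh L := Groth.Agent.Helper13.CurveDeg.isCoh_of_isInvertible _ hL
  have hd : topologicalKrullDim ↥(CohB1.support (Coh.structureModule X)) ≤
      ((1 : ℕ) : WithBot ℕ∞) := by
    rw [Nat.cast_one]
    exact (topologicalKrullDim_subspace_le X _).trans hdim.le
  have h := Groth.Agent.Lead.IntNumDimOne.euler_tensorPow_linear k (Coh.structureModule X) hO hd
    L hL n
  have e1 := Groth.Agent.Lead.EulerK0.euler_iso k (Tensor.lid (CohB1.tensorPow L n))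
    (isCoh_tensor_pow k X _ hO L hL n) (isCoh_pow X L hL n)
  have e2 := Groth.Agent.Lead.EulerK0.euler_iso k (Tensor.lid L)
    (Groth.Agent.Lead.DegTensor.isCoh_tensor_right L 1
      (Groth.Agent.Lead.EffDeg.isFinLocFreeOfRank_one_of_isInvertible _ hL) _ hO) hL1
  rw [e1, e2] at h
  rw [h]
  unfold Curv2.deg
  push_cast
  ring

theorem h0_lower (hdim : topologicalKrullDim X = 1) (L : X.Modules)
    (hL : PicF.IsInvertible L) (hdeg : 0 < Curv2.deg k X L 1) (m : ℕ) :
    Curv2.euler k X (Coh.structureModule X) + m ≤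
      (Module.finrank k (Coh.HH X (CohB1.tensorPow L m) 0) : ℤ) := by
  haveI := (isCoh_pow X L hL m).1
  have h1 := Groth.Agent.Helper13.CurveVan.euler_eq_sub k X hdim.le (CohB1.tensorPow L m)
  rw [euler_pow k X hdim L hL m] at h1
  have h2 : (m : ℤ) ≤ m * Curv2.deg k X L 1 := by
    have : (0 : ℤ) ≤ m := Int.natCast_nonneg m
    nlinarith
  have := Int.natCast_nonneg (Module.finrank k (Coh.HH X (CohB1.tensorPow L m) 1))
  linarith

/-- `(N ⊗ L^a) ⊗ L^m ≅ N ⊗ L^{a+m}`. -/
noncomputable def shiftIso (N L : X.Modules) (a m : ℕ) :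
    CohB1.tensorMod (CohB1.tensorMod N (CohB1.tensorPow L a)) (CohB1.tensorPow L m) ≅
      CohB1.tensorMod N (CohB1.tensorPow L (a + m)) :=
  Tensor.assoc N _ _ ≪≫ Tensor.mapIso (Iso.refl N) (Tensor.powAdd L a m).symm

theorem H1_surj (hdim : topologicalKrullDim X = 1) (N : X.Modules) (hN : Coh.IsCoh N)
    (L : X.Modules) (hL : PicF.IsInvertible L) (a m : ℕ)
    (u : Coh.HH X (CohB1.tensorPow L m) 0) (hu : u ≠ 0) :
    Function.Surjective (Canon.HHlin k
      (mulBy (CohB1.tensorMod N (CohB1.tensorPow L a)) (secHom (CohB1.tensorPow L m) u)) 1) := by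
  haveI := (isCoh_tensor_pow k X N hN L hL a).1
  exact HHlin_mulBy_surjective k X hdim _ (CohB1.tensorPow L m)
    (Groth.Agent.Helper13.Inv.isInvertible_tensorPow L hL m) _ (secHom_ne_zero _ u hu)

theorem finrank_shift_le (hdim : topologicalKrullDim X = 1) (N : X.Modules) (hN : Coh.IsCoh N)
    (L : X.Modules) (hL : PicF.IsInvertible L) (a m : ℕ)
    (u : Coh.HH X (CohB1.tensorPow L m) 0) (hu : u ≠ 0) :
    Module.finrank k (Coh.HH X (CohB1.tensorMod N (CohB1.tensorPow L (a + m))) 1) ≤
      Module.finrank k (Coh.HH X (CohB1.tensorMod N (CohB1.tensorPow L a)) 1) := by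
  haveI := Groth.Agent.Helper13.FinProj.finite_HH_of_isProper k X _
    (isCoh_tensor_pow k X N hN L hL a) 1
  rw [← Groth.Agent.Helper26.HomVan.finrank_HH_of_iso k (shiftIso X N L a m) 1]
  exact LinearMap.finrank_le_finrank_of_surjective (H1_surj k X hdim N hN L hL a m u hu)

theorem H1_vanishing (hdim : topologicalKrullDim X = 1) (L : X.Modules)
    (hL : PicF.IsInvertible L) (hdeg : 0 < Curv2.deg k X L 1) (N : X.Modules)
    (hN : Coh.IsCoh N) :
    ∃ n₀ : ℕ, ∀ n ≥ n₀, Subsingleton (Coh.HH X (CohB1.tensorMod N (CohB1.tensorPow L n)) 1) := by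
  classical
  set h : ℕ → ℕ := fun m =>
    Module.finrank k (Coh.HH X (CohB1.tensorMod N (CohB1.tensorPow L m)) 1) with hh
  set a := Function.argmin h with ha
  have hmin : ∀ m, h a ≤ h m := fun m => Function.argmin_le h m
  set χ := Curv2.euler k X (Coh.structureModule X) with hχ
  have hN' : Coh.IsCoh (CohB1.tensorMod N (CohB1.tensorPow L a)) :=
    isCoh_tensor_pow k X N hN L hL a
  haveI finA := Groth.Agent.Helper13.FinProj.finite_HH_of_isProper k X _ hN' 1
  have hzero : h a = 0 := by
    by_contra hne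
    have hpos : 0 < h a := Nat.pos_of_ne_zero hne
    haveI : Nontrivial (Coh.HH X (CohB1.tensorMod N (CohB1.tensorPow L a)) 1) :=
      Module.nontrivial_of_finrank_pos (R := k) hpos
    obtain ⟨ξ, hξ⟩ := exists_ne (0 : Coh.HH X (CohB1.tensorMod N (CohB1.tensorPow L a)) 1)
    set m := ((h a : ℤ) + 1 - χ).toNat with hm
    have hm1 : (h a : ℤ) < (Module.finrank k (Coh.HH X (CohB1.tensorPow L m) 0) : ℤ) := by
      have h1 := h0_lower k X hdim L hL hdeg m
      have h2 := Int.self_le_toNat ((h a : ℤ) + 1 - χ)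
      rw [← hm] at h2
      linarith
    have hm2 : h a < Module.finrank k (Coh.HH X (CohB1.tensorPow L m) 0) := by exact_mod_cast hm1
    haveI : Nontrivial (Coh.HH X (CohB1.tensorPow L m) 0) :=
      Module.nontrivial_of_finrank_pos (R := k) (lt_of_le_of_lt (Nat.zero_le _) hm2)
    obtain ⟨u₀, hu₀⟩ := exists_ne (0 : Coh.HH X (CohB1.tensorPow L m) 0)
    haveI finB := Groth.Agent.Helper13.FinProj.finite_HH_of_isProper k X _
      (isCoh_tensor_pow k X _ hN' L hL m) 1
    have hfr : Module.finrank k (Coh.HH X (CohB1.tensorMod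
        (CohB1.tensorMod N (CohB1.tensorPow L a)) (CohB1.tensorPow L m)) 1) = h (a + m) :=
      Groth.Agent.Helper26.HomVan.finrank_HH_of_iso k (shiftIso X N L a m) 1
    have hinj : Function.Injective
        (Phi k (CohB1.tensorMod N (CohB1.tensorPow L a)) (CohB1.tensorPow L m) 1 ξ) := by
      rw [injective_iff_map_eq_zero]
      intro u hu0
      by_contra hune
      have hs := H1_surj k X hdim N hN L hL a m u hune
      have heq : Module.finrank k (Coh.HH X (CohB1.tensorMod N (CohB1.tensorPow L a)) 1) =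
          Module.finrank k (Coh.HH X (CohB1.tensorMod
            (CohB1.tensorMod N (CohB1.tensorPow L a)) (CohB1.tensorPow L m)) 1) := by
        rw [hfr]
        exact le_antisymm (hmin (a + m)) (finrank_shift_le k X hdim N hN L hL a m u hune)
      have hi := (LinearMap.injective_iff_surjective_of_finrank_eq_finrank heq).2 hs
      apply hξ
      apply hi
      rw [map_zero]
      exact hu0
    have hle := LinearMap.finrank_le_finrank_of_injective hinj
    rw [hfr] at hle
    have h3 := finrank_shift_le k X hdim N hN L hL a m u₀ hu₀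
    have h4 : h (a + m) ≤ h a := h3
    omega
  refine ⟨a + ((1 : ℤ) - χ).toNat, fun n hn => ?_⟩
  obtain ⟨m, rfl⟩ : ∃ m, n = a + m := ⟨n - a, by omega⟩
  have hm0 : ((1 : ℤ) - χ).toNat ≤ m := by omega
  have hpos : 0 < Module.finrank k (Coh.HH X (CohB1.tensorPow L m) 0) := by
    have h1 := h0_lower k X hdim L hL hdeg m
    have h2 := Int.self_le_toNat ((1 : ℤ) - χ)
    have h3 : (((1 : ℤ) - χ).toNat : ℤ) ≤ m := by exact_mod_cast hm0
    have h4 : (0 : ℤ) < (Module.finrank k (Coh.HH X (CohB1.tensorPow L m) 0) : ℤ) := by linarith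
    exact_mod_cast h4
  haveI : Nontrivial (Coh.HH X (CohB1.tensorPow L m) 0) :=
    Module.nontrivial_of_finrank_pos (R := k) hpos
  obtain ⟨u₀, hu₀⟩ := exists_ne (0 : Coh.HH X (CohB1.tensorPow L m) 0)
  have h3 := finrank_shift_le k X hdim N hN L hL a m u₀ hu₀
  have h4 : h (a + m) ≤ h a := h3
  have h5 : Module.finrank k (Coh.HH X (CohB1.tensorMod N (CohB1.tensorPow L (a + m))) 1) = 0 := by
    have : h (a + m) = 0 := by omega
    exact this
  haveI := Groth.Agent.Helper13.FinProj.finite_HH_of_isProper k X _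
    (isCoh_tensor_pow k X N hN L hL (a + m)) 1
  exact Module.finrank_zero_iff.1 h5

end Groth.Agent.Helper13.CurveSV
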