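import Mathlib
import Groth.Prelude.Def_Curv2
import Groth.Prelude.Def_ClSub2
import Groth.Agent.Lib.Lead.EffDeg
import Groth.Agent.Lib.Lead.DegTensor
import Groth.Agent.Lib.Helper13.InvDual
import Groth.Agent.Lib.Helper13.CurveSV5

/-!
# Euler characteristic of `I_Z ⊗ P` and degrees of duals on a proper curve
-/

set_option autoImplicit false
universe u
open CategoryTheory CategoryTheory.Limits AlgebraicGeometry Opposite TopologicalSpace

namespace Groth.Agent.Helper13.CurveRR

open Groth.Agent.Helper13.Tensor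

variable (k : Type u) [Field k] (X : Scheme.{u}) [X.Over (Spec (CommRingCat.of k))]
  [IsProper (X ↘ Spec (CommRingCat.of k))]

/-- `χ(I_Z ⊗ P) = χ(P) − h⁰(O_Z)` for `P` invertible and `Z` of dimension `≤ 0`. -/
theorem euler_idealMod_tensor (Z : X.IdealSheafData)
    (hZ : topologicalKrullDim (Z.support : Set X) ≤ 0)
    (P : X.Modules) (hP : PicF.IsInvertible P) :
    Curv2.euler k X (CohB1.tensorMod (ClSub.idealMod Z) P) =
      Curv2.euler k X P - (Module.finrank k (Coh.HH X (ClSub.quotMod Z) 0) : ℤ) := by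
  haveI : IsNoetherian X := Groth.Agent.Lead.EulerK0.isNoetherian_of_proper' k X
  have hPc : Coh.IsCoh P := Groth.Agent.Helper13.CurveDeg.isCoh_of_isInvertible P hP
  have hI : Coh.IsCoh (ClSub.idealMod Z) := Groth.Agent.Helper24.PtIdeal.isCoh_idealMod Z
  have hQ : Coh.IsCoh (ClSub.quotMod Z) := Groth.Agent.Helper24.PtIdeal.isCoh_quotMod Z
  have hP1 : FlatMod.IsFinLocFreeOfRank 1 P :=
    Groth.Agent.Lead.EffDeg.isFinLocFreeOfRank_one_of_isInvertible P hP
  have hT := Groth.Agent.Helper13.TensorFunctor.tensorSC_shortExact_of_flat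
    (Groth.Agent.Helper24.PtIdeal.idealSC Z) (Groth.Agent.Helper24.PtIdeal.idealSC_shortExact Z)
    P (fun x => Groth.Agent.Lead.EffDeg.flat_stalk_of_rank _ 1 hP1 x)
  have h₁ : Coh.IsCoh (CohB1.tensorMod (ClSub.idealMod Z) P) :=
    Groth.Agent.Lead.DegTensor.isCoh_tensor_right P 1 hP1 _ hI
  have h₂ : Coh.IsCoh (CohB1.tensorMod (Coh.structureModule X) P) :=
    Groth.Agent.Lead.EffDeg.isCoh_of_iso (Groth.Agent.Helper13.Tensor.lid _).symm hPc
  have h₃ : Coh.IsCoh (CohB1.tensorMod (ClSub.quotMod Z) P) :=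
    Groth.Agent.Lead.DegTensor.isCoh_tensor_right P 1 hP1 _ hQ
  have hadd := Groth.Agent.Helper13.EulerAdd.euler_additive k _ hT h₁ h₂ h₃
  change Curv2.euler k X (CohB1.tensorMod (Coh.structureModule X) P) =
    Curv2.euler k X (CohB1.tensorMod (ClSub.idealMod Z) P) +
    Curv2.euler k X (CohB1.tensorMod (ClSub.quotMod Z) P) at hadd
  have e₂ := Groth.Agent.Lead.EulerK0.euler_iso k (Groth.Agent.Helper13.Tensor.lid P) h₂ hPc
  have hsQ : topologicalKrullDim ↥(CohB1.support (ClSub.quotMod Z)) ≤ 0 :=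
    (Groth.Agent.Helper13.DimLemma.dim_subset_le
      (Groth.Agent.Helper24.PtIdeal.support_quotMod_subset Z)).trans hZ
  have e₃ := Groth.Agent.Lead.EulerK0.euler_tensor_right k P 1 hP1 (ClSub.quotMod Z) hQ hsQ
  have e₄ := Groth.Agent.Helper13.EulerAdd.euler_eq_sum k (ClSub.quotMod Z) 1
    (fun p hp => Groth.Agent.S1526.result k X (ClSub.quotMod Z) hQ hsQ p hp)
  rw [Finset.sum_range_one, pow_zero, one_mul] at e₄
  rw [e₂, e₃, e₄] at hadd
  rw [hadd]
  push_cast
  ring

/-- `deg (A ⊗ B) = deg A + deg B` for invertible modules on a proper scheme of dimension `≤ 1`. -/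
theorem deg_tensor (hdim : topologicalKrullDim X ≤ 1) (A B : X.Modules)
    (hA : PicF.IsInvertible A) (hB : PicF.IsInvertible B) :
    Curv2.deg k X (CohB1.tensorMod A B) 1 = Curv2.deg k X A 1 + Curv2.deg k X B 1 := by
  haveI : IsNoetherian X := Groth.Agent.Lead.EulerK0.isNoetherian_of_proper' k X
  have h := Groth.Agent.Lead.DegTensor.euler_tensor_locFree k hdim 1 1 A B
    (Groth.Agent.Lead.EffDeg.isFinLocFreeOfRank_one_of_isInvertible A hA)
    (Groth.Agent.Lead.EffDeg.isFinLocFreeOfRank_one_of_isInvertible B hB)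
  unfold Curv2.deg
  rw [h]
  push_cast
  ring

theorem deg_of_iso (A B : X.Modules) (e : A ≅ B) (hA : PicF.IsInvertible A)
    (hB : PicF.IsInvertible B) : Curv2.deg k X A 1 = Curv2.deg k X B 1 := by
  unfold Curv2.deg
  rw [Groth.Agent.Lead.EulerK0.euler_iso k e
    (Groth.Agent.Helper13.CurveDeg.isCoh_of_isInvertible A hA)
    (Groth.Agent.Helper13.CurveDeg.isCoh_of_isInvertible B hB)]

theorem deg_structure : Curv2.deg k X (Coh.structureModule X) 1 = 0 := by
  unfold Curv2.deg
  push_cast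
  ring

/-- `deg (dual L) = − deg L`. -/
theorem deg_dual (hdim : topologicalKrullDim X ≤ 1) (L : X.Modules) (hL : PicF.IsInvertible L) :
    Curv2.deg k X (Groth.Agent.Helper13.InvDual.dual L) 1 = - Curv2.deg k X L 1 := by
  have hd := Groth.Agent.Helper13.InvDual.isInvertible_dual L hL
  have h1 := deg_tensor k X hdim L _ hL hd
  have h2 := deg_of_iso k X _ _ (Groth.Agent.Helper13.InvDual.evIso L hL)
    (Groth.Agent.Helper13.Inv.isInvertible_tensorMod _ _ hL hd)
    Groth.Agent.Helper13.Inv.isInvertible_structureModule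
  rw [deg_structure] at h2
  linarith

end Groth.Agent.Helper13.CurveRR
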