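import Mathlib
import Groth.Prelude.Def_Curv2
import Groth.Agent.Lib.Helper13.CurveSV4

/-!
# The dual pairing: `H⁰(M)` embeds into the dual of `H¹(G)` when `H¹(G ⊗ M) ≠ 0`
-/

set_option autoImplicit false
universe u
open CategoryTheory CategoryTheory.Limits AlgebraicGeometry Opposite TopologicalSpace

namespace Groth.Agent.Helper13.CurveRR

open Groth.Agent.Helper13.CurveSV Groth.Agent.Helper3.CurveHopf Groth.Agent.Helper26.DualFun

variable (k : Type u) [Field k] (X : Scheme.{u}) [X.Over (Spec (CommRingCat.of k))]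
  [IsIntegral X] [IsProper (X ↘ Spec (CommRingCat.of k))]

/-- the bilinear multiplication `H¹(G) × H⁰(M) → H¹(G ⊗ M)`. -/
noncomputable def mulB (G M : X.Modules) :
    Coh.HH X G 1 →ₗ[k] Coh.HH X M 0 →ₗ[k] Coh.HH X (CohB1.tensorMod G M) 1 :=
  LinearMap.mk₂ k (fun ξ u => Phi k G M 1 ξ u)
    (fun ξ ξ' u => by
      rw [Phi_apply, Phi_apply, Phi_apply, map_add])
    (fun c ξ u => by
      rw [Phi_apply, Phi_apply, map_smul])
    (fun ξ u u' => map_add _ u u')
    (fun c ξ u => map_smul _ c u)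

theorem mulB_apply (G M : X.Modules) (ξ : Coh.HH X G 1) (u : Coh.HH X M 0) :
    mulB k X G M ξ u = Canon.HHlin k (mulBy G (secHom M u)) 1 ξ := rfl

theorem finrank_H0_le_finrank_H1 (hdim : topologicalKrullDim X = 1) (G : X.Modules)
    [G.IsQuasicoherent] (M : X.Modules) (hM : PicF.IsInvertible M)
    [Module.Finite k (Coh.HH X G 1)]
    (hne : Nontrivial (Coh.HH X (CohB1.tensorMod G M) 1)) :
    Module.finrank k (Coh.HH X M 0) ≤ Module.finrank k (Coh.HH X G 1) := by
  obtain ⟨v, hv⟩ := exists_ne (0 : Coh.HH X (CohB1.tensorMod G M) 1)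
  haveI hfree : Module.Free k (Coh.HH X (CohB1.tensorMod G M) 1) :=
    Module.Free.of_divisionRing k _
  haveI hproj : Module.Projective k (Coh.HH X (CohB1.tensorMod G M) 1) :=
    Module.Projective.of_free
  obtain ⟨ω, hω⟩ : ∃ ω : Module.Dual k (Coh.HH X (CohB1.tensorMod G M) 1), ω v ≠ 0 := by
    by_contra hcon
    push Not at hcon
    exact hv ((Module.forall_dual_apply_eq_zero_iff k v).1 hcon)
  let Ψ : Coh.HH X M 0 →ₗ[k] Module.Dual k (Coh.HH X G 1) :=
    ((mulB k X G M).flip).compr₂ ω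
  have hinj : Function.Injective Ψ := by
    rw [injective_iff_map_eq_zero]
    intro t ht
    by_contra htne
    have hs := HHlin_mulBy_surjective k X hdim G M hM (secHom M t) (secHom_ne_zero M t htne)
    obtain ⟨ξ, hξ⟩ := hs v
    apply hω
    have h1 : Ψ t ξ = 0 := by rw [ht]; rfl
    have h2 : Ψ t ξ = ω (Canon.HHlin k (mulBy G (secHom M t)) 1 ξ) := rfl
    rw [h2, hξ] at h1
    exact h1
  have hle := LinearMap.finrank_le_finrank_of_injective hinj
  rwa [Subspace.dual_finrank_eq] at hle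

end Groth.Agent.Helper13.CurveRR
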