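import Mathlib
import Groth.Prelude.Def_Curv2
import Groth.Agent.Lib.Helper13.CurveVan3
import Groth.Agent.Lib.Helper13.CurveDeg3
import Groth.Agent.Lib.Helper13.AcycEmbed
import Groth.Agent.Lib.Helper13.CohRoof

set_option autoImplicit false
universe u
open CategoryTheory CategoryTheory.Limits AlgebraicGeometry Opposite TopologicalSpace

namespace Groth.Agent.Helper13.CurveVan

open Groth.Agent.Helper13.CurveDeg

variable (k : Type u) [Field k] (X : Scheme.{u}) [X.Over (Spec (CommRingCat.of k))]
  [IsIntegral X] [IsProper (X ↘ Spec (CommRingCat.of k))]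

theorem euler_structure_of_genus_zero (hdim : topologicalKrullDim X = 1)
    (h0 : Module.finrank k (Coh.HH X (Coh.structureModule X) 0) = 1)
    (hg : Curv2.genus k X = 0) : Curv2.euler k X (Coh.structureModule X) = 1 := by
  haveI := (Groth.Agent.Helper13.CohRoof.isCoh_structureModule X).1
  rw [euler_eq_sub k X hdim.le, h0]
  unfold Curv2.genus at hg
  rw [hg]
  simp

theorem main6540 (hdim : topologicalKrullDim X = 1)
    (h0 : Module.finrank k (Coh.HH X (Coh.structureModule X) 0) = 1) (hg : Curv2.genus k X = 0)
    (L : X.Modules) (hL : PicF.IsInvertible L) (hdeg : Curv2.deg k X L 1 = 0) :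
    Nonempty (L ≅ Coh.structureModule X) := by
  haveI := (isCoh_of_isInvertible L hL).1
  have hO := euler_structure_of_genus_zero k X hdim h0 hg
  have hχ : Curv2.euler k X L = 1 := by
    unfold Curv2.deg at hdeg
    rw [hO] at hdeg
    push_cast at hdeg
    linarith
  rw [euler_eq_sub k X hdim.le] at hχ
  have hpos : 0 < Module.finrank k (Coh.HH X L 0) := by
    have : (0 : ℤ) < (Module.finrank k (Coh.HH X L 0) : ℤ) := by
      have := Int.natCast_nonneg (Module.finrank k (Coh.HH X L 1))
      linarith
    exact_mod_cast this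
  haveI : Nontrivial (Coh.HH X L 0) := Module.nontrivial_of_finrank_pos (R := k) hpos
  obtain ⟨s, hs⟩ := exists_hom_ne_zero L inferInstance
  exact main1520 k X hdim L hL s hs hdeg.le

theorem main1635 (hdim : topologicalKrullDim X = 1)
    (h0 : Module.finrank k (Coh.HH X (Coh.structureModule X) 0) = 1) (hg : Curv2.genus k X = 0)
    (L : X.Modules) (hL : PicF.IsInvertible L) (d : ℕ) (hd : 0 < d)
    (hdeg : Curv2.deg k X L 1 = d) :
    Module.finrank k (Coh.HH X L 0) = d + 1 ∧ Subsingleton (Coh.HH X L 1) := by
  haveI := (isCoh_of_isInvertible L hL).1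
  have hOc := Groth.Agent.Helper13.CohRoof.isCoh_structureModule X
  have hO := euler_structure_of_genus_zero k X hdim h0 hg
  have hχ : Curv2.euler k X L = d + 1 := by
    unfold Curv2.deg at hdeg
    rw [hO] at hdeg
    push_cast at hdeg
    linarith
  rw [euler_eq_sub k X hdim.le] at hχ
  have hpos : 0 < Module.finrank k (Coh.HH X L 0) := by
    have : (0 : ℤ) < (Module.finrank k (Coh.HH X L 0) : ℤ) := by
      have := Int.natCast_nonneg (Module.finrank k (Coh.HH X L 1))
      have := Int.natCast_nonneg d
      linarith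
    exact_mod_cast this
  haveI : Nontrivial (Coh.HH X L 0) := Module.nontrivial_of_finrank_pos (R := k) hpos
  obtain ⟨s, hs⟩ := exists_hom_ne_zero L inferInstance
  have hOinv := Groth.Agent.Helper13.Inv.isInvertible_structureModule (X := X)
  haveI := mono_of_ne_zero (Coh.structureModule X) L hOinv hL s hs
  have hQ := isCoh_cokernel X (Coh.structureModule X) L hOinv hL s
  have hQd := dim_support_cokernel X (Coh.structureModule X) L hOinv hL s hdim hs
  have hS : (ShortComplex.mk s (cokernel.π s) (cokernel.condition s)).ShortExact :=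
    ShortComplex.ShortExact.mk' (ShortComplex.exact_of_g_is_cokernel _ (cokernelIsCokernel s))
      (inferInstanceAs (Mono s)) (inferInstanceAs (Epi (cokernel.π s)))
  haveI : Module.Finite k (Coh.HH X (Coh.structureModule X) 1) :=
    Groth.Agent.Helper13.FinProj.finite_HH_of_isProper k X _ hOc 1
  have h1O : Subsingleton (Coh.HH X (Coh.structureModule X) 1) := by
    unfold Curv2.genus at hg
    exact Module.finrank_zero_iff.mp hg
  have h1Q : Subsingleton (Coh.HH X (cokernel s) 1) :=
    Groth.Agent.S1526.result k X (cokernel s) hQ hQd 1 le_rfl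
  have h1L : Subsingleton (Coh.HH X L 1) :=
    Groth.Agent.Helper13.AcycEmbed.HH_subsingleton_of_shortExact _ hS 1 h1O h1Q
  refine ⟨?_, h1L⟩
  have : Module.finrank k (Coh.HH X L 1) = 0 := Module.finrank_zero_of_subsingleton
  rw [this] at hχ
  have : (Module.finrank k (Coh.HH X L 0) : ℤ) = ((d + 1 : ℕ) : ℤ) := by
    push_cast at hχ ⊢
    linarith
  exact_mod_cast this

end Groth.Agent.Helper13.CurveVan
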