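import Mathlib
import Groth.Prelude.Def_Curv2
import Groth.Prelude.Def_ClSub2
import Groth.Agent.Lib.Helper13.CurveRR1
import Groth.Agent.Lib.Helper13.CurveRR2
import Groth.Agent.Lib.Helper13.CurveVan4
import Groth.Agent.Lib.Helper13.FinProj7
import Groth.Agent.Lib.Helper3.IdealTwistH0
import Groth.Agent.Lib.Helper26.HomVan

/-!
# `deg L ≤ 2g − 2 + h⁰(O_Z)` when `H¹(I_Z ⊗ L) ≠ 0`, over an arbitrary field, without duality
-/

set_option autoImplicit false
universe u
open CategoryTheory CategoryTheory.Limits AlgebraicGeometry Opposite TopologicalSpace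

namespace Groth.Agent.Helper13.CurveRR

open Groth.Agent.Helper13.Tensor

variable (k : Type u) [Field k] (X : Scheme.{u}) [X.Over (Spec (CommRingCat.of k))]
  [IsIntegral X] [IsProper (X ↘ Spec (CommRingCat.of k))]

theorem euler_structure (hdim : topologicalKrullDim X = 1)
    (h0 : Module.finrank k (Coh.HH X (Coh.structureModule X) 0) = 1) :
    Curv2.euler k X (Coh.structureModule X) = 1 - (Curv2.genus k X : ℤ) := by
  haveI := (Groth.Agent.Helper13.CohRoof.isCoh_structureModule X).1
  rw [Groth.Agent.Helper13.CurveVan.euler_eq_sub k X hdim.le, h0]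
  unfold Curv2.genus
  simp

include k in
theorem isCoh_idealMod_tensor (Z : X.IdealSheafData) (P : X.Modules) (hP : PicF.IsInvertible P) :
    Coh.IsCoh (CohB1.tensorMod (ClSub.idealMod Z) P) := by
  haveI : IsNoetherian X := Groth.Agent.Lead.EulerK0.isNoetherian_of_proper' k X
  exact Groth.Agent.Lead.DegTensor.isCoh_tensor_right P 1
    (Groth.Agent.Lead.EffDeg.isFinLocFreeOfRank_one_of_isInvertible P hP) _
    (Groth.Agent.Helper24.PtIdeal.isCoh_idealMod Z)

/-- `h¹(I_Z ⊗ P) = h⁰(I_Z ⊗ P) − deg P − (1 − g) + h⁰(O_Z)`. -/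
theorem h1_formula (hdim : topologicalKrullDim X = 1)
    (h0 : Module.finrank k (Coh.HH X (Coh.structureModule X) 0) = 1)
    (Z : X.IdealSheafData) (hZ : topologicalKrullDim (Z.support : Set X) ≤ 0)
    (P : X.Modules) (hP : PicF.IsInvertible P) :
    (Module.finrank k (Coh.HH X (CohB1.tensorMod (ClSub.idealMod Z) P) 1) : ℤ) =
      (Module.finrank k (Coh.HH X (CohB1.tensorMod (ClSub.idealMod Z) P) 0) : ℤ)
        - Curv2.deg k X P 1 - (1 - (Curv2.genus k X : ℤ))
        + (Module.finrank k (Coh.HH X (ClSub.quotMod Z) 0) : ℤ) := by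
  haveI := (isCoh_idealMod_tensor k X Z P hP).1
  have h1 := Groth.Agent.Helper13.CurveVan.euler_eq_sub k X hdim.le
    (CohB1.tensorMod (ClSub.idealMod Z) P)
  have h2 := euler_idealMod_tensor k X Z hZ P hP
  have h3 := euler_structure k X hdim h0
  have h4 : Curv2.deg k X P 1 = Curv2.euler k X P - Curv2.euler k X (Coh.structureModule X) := by
    unfold Curv2.deg
    push_cast
    ring
  linarith

theorem main1531 (hdim : topologicalKrullDim X = 1)
    (h0 : Module.finrank k (Coh.HH X (Coh.structureModule X) 0) = 1)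
    (L : X.Modules) (hL : PicF.IsInvertible L) (Z : X.IdealSheafData)
    (hZ : topologicalKrullDim (Z.support : Set X) ≤ 0)
    (h1 : Nontrivial (Coh.HH X (CohB1.tensorMod (ClSub.idealMod Z) L) 1))
    (hS : Subsingleton (Coh.HH X (Coh.structureModule X) 1) →
      Nontrivial (Coh.HH X (ClSub.idealMod Z) 1) →
      2 ≤ Module.finrank k (Coh.HH X (ClSub.quotMod Z) 0)) :
    Curv2.deg k X L 1 ≤ 2 * (Curv2.genus k X : ℤ) - 2 +
      Module.finrank k (Coh.HH X (ClSub.quotMod Z) 0) := by
  have hg0 : (0 : ℤ) ≤ (Curv2.genus k X : ℤ) := Int.natCast_nonneg _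
  have hz0 : (0 : ℤ) ≤ (Module.finrank k (Coh.HH X (ClSub.quotMod Z) 0) : ℤ) :=
    Int.natCast_nonneg _
  have hFc := isCoh_idealMod_tensor k X Z L hL
  haveI hfin1 := Groth.Agent.Helper13.FinProj.finite_HH_of_isProper k X _ hFc 1
  have hF1 : (1 : ℤ) ≤ (Module.finrank k (Coh.HH X (CohB1.tensorMod (ClSub.idealMod Z) L) 1) : ℤ) := by
    have : 0 < Module.finrank k (Coh.HH X (CohB1.tensorMod (ClSub.idealMod Z) L) 1) :=
      Module.finrank_pos
    exact_mod_cast this
  have hform := h1_formula k X hdim h0 Z hZ L hL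
  rcases lt_trichotomy (Curv2.deg k X L 1) 0 with hneg | hzero | hpos
  · -- negative degree
    haveI := Groth.Agent.Helper3.IdealTwistH0.subsingleton_H0_idealMod_tensor k X hdim Z L hL hneg
    have hz : Module.finrank k (Coh.HH X (CohB1.tensorMod (ClSub.idealMod Z) L) 0) = 0 :=
      Module.finrank_zero_of_subsingleton
    rw [hz] at hform
    push_cast at hform
    linarith
  · -- degree zero
    by_cases hg : Curv2.genus k X = 0
    · obtain ⟨eL⟩ := Groth.Agent.Helper13.CurveVan.main6540 k X hdim h0 hg L hL hzero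
      let e : CohB1.tensorMod (ClSub.idealMod Z) L ≅ ClSub.idealMod Z :=
        Tensor.mapIso (Iso.refl _) eL ≪≫ Tensor.rid _
      haveI : Nontrivial (Coh.HH X (ClSub.idealMod Z) 1) :=
        (Groth.Agent.Helper26.HomVan.HHlinEquiv k e 1).symm.toEquiv.nontrivial
      have hOc := Groth.Agent.Helper13.CohRoof.isCoh_structureModule X
      haveI := Groth.Agent.Helper13.FinProj.finite_HH_of_isProper k X _ hOc 1
      have hsub : Subsingleton (Coh.HH X (Coh.structureModule X) 1) := by
        exact (Module.finrank_zero_iff (R := k)).1 hg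
      have h2 := hS hsub inferInstance
      have h2' : (2 : ℤ) ≤ (Module.finrank k (Coh.HH X (ClSub.quotMod Z) 0) : ℤ) := by
        exact_mod_cast h2
      rw [hzero, hg]
      push_cast
      linarith
    · have hg1 : (1 : ℤ) ≤ (Curv2.genus k X : ℤ) := by
        have : 0 < Curv2.genus k X := Nat.pos_of_ne_zero hg
        exact_mod_cast this
      rw [hzero]
      linarith
  · -- positive degree
    have hdualinv := Groth.Agent.Helper13.InvDual.isInvertible_dual L hL
    have hMinv : PicF.IsInvertible (CohB1.tensorMod L L) :=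
      Groth.Agent.Helper13.Inv.isInvertible_tensorMod _ _ hL hL
    have hdegP := deg_dual k X hdim.le L hL
    have hdegM := deg_tensor k X hdim.le L L hL hL
    have hPneg : Curv2.deg k X (Groth.Agent.Helper13.InvDual.dual L) 1 < 0 := by
      rw [hdegP]; linarith
    -- G ⊗ M ≅ F
    let eGM : CohB1.tensorMod (CohB1.tensorMod (ClSub.idealMod Z)
        (Groth.Agent.Helper13.InvDual.dual L)) (CohB1.tensorMod L L) ≅
        CohB1.tensorMod (ClSub.idealMod Z) L :=
      Tensor.assoc _ _ _ ≪≫
        Tensor.mapIso (Iso.refl _)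
          ((Tensor.assoc _ _ _).symm ≪≫
            Tensor.mapIso (Groth.Agent.Helper13.InvDual.evIso' L hL) (Iso.refl L) ≪≫
            Tensor.lid L)
    haveI hne : Nontrivial (Coh.HH X (CohB1.tensorMod (CohB1.tensorMod (ClSub.idealMod Z)
        (Groth.Agent.Helper13.InvDual.dual L)) (CohB1.tensorMod L L)) 1) :=
      (Groth.Agent.Helper26.HomVan.HHlinEquiv k eGM 1).toEquiv.nontrivial
    have hGc := isCoh_idealMod_tensor k X Z _ hdualinv
    haveI := hGc.1
    haveI := Groth.Agent.Helper13.FinProj.finite_HH_of_isProper k X _ hGc 1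
    have hC := finrank_H0_le_finrank_H1 k X hdim
      (CohB1.tensorMod (ClSub.idealMod Z) (Groth.Agent.Helper13.InvDual.dual L))
      (CohB1.tensorMod L L) hMinv hne
    have hformG := h1_formula k X hdim h0 Z hZ _ hdualinv
    haveI := Groth.Agent.Helper3.IdealTwistH0.subsingleton_H0_idealMod_tensor k X hdim Z _
      hdualinv hPneg
    have hzG : Module.finrank k (Coh.HH X (CohB1.tensorMod (ClSub.idealMod Z)
        (Groth.Agent.Helper13.InvDual.dual L)) 0) = 0 :=
      Module.finrank_zero_of_subsingleton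
    rw [hzG, hdegP] at hformG
    -- lower bound for h⁰(M)
    haveI := (Groth.Agent.Helper13.CurveDeg.isCoh_of_isInvertible _ hMinv).1
    have hχM := Groth.Agent.Helper13.CurveVan.euler_eq_sub k X hdim.le (CohB1.tensorMod L L)
    have hχO := euler_structure k X hdim h0
    have hdM : Curv2.deg k X (CohB1.tensorMod L L) 1 =
        Curv2.euler k X (CohB1.tensorMod L L) - Curv2.euler k X (Coh.structureModule X) := by
      unfold Curv2.deg
      push_cast
      ring
    have hh1M := Int.natCast_nonneg (Module.finrank k (Coh.HH X (CohB1.tensorMod L L) 1))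
    have hC' : (Module.finrank k (Coh.HH X (CohB1.tensorMod L L) 0) : ℤ) ≤
        (Module.finrank k (Coh.HH X (CohB1.tensorMod (ClSub.idealMod Z)
          (Groth.Agent.Helper13.InvDual.dual L)) 1) : ℤ) := by
      exact_mod_cast hC
    push_cast at hformG
    linarith

end Groth.Agent.Helper13.CurveRR
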