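import Mathlib
import Groth.Prelude.Def_Curv2
import Groth.Prelude.Def_ClSub2
import Groth.Agent.Lib.Helper13.CurveRR3

/-!
# Vanishing of `H¹(I_Z ⊗ L)` for `deg L > 2g − 2 + h⁰(O_Z)`
-/

set_option autoImplicit false
universe u
open CategoryTheory CategoryTheory.Limits AlgebraicGeometry Opposite TopologicalSpace

namespace Groth.Agent.Helper13.CurveRR

variable (k : Type u) [Field k] (X : Scheme.{u}) [X.Over (Spec (CommRingCat.of k))]
  [IsIntegral X] [IsProper (X ↘ Spec (CommRingCat.of k))]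

theorem main1532 (hdim : topologicalKrullDim X = 1)
    (h0 : Module.finrank k (Coh.HH X (Coh.structureModule X) 0) = 1)
    (L : X.Modules) (hL : PicF.IsInvertible L) (Z : X.IdealSheafData)
    (hZ : topologicalKrullDim (Z.support : Set X) ≤ 0)
    (hdeg : 2 * (Curv2.genus k X : ℤ) - 2 +
      Module.finrank k (Coh.HH X (ClSub.quotMod Z) 0) < Curv2.deg k X L 1)
    (hS : Subsingleton (Coh.HH X (Coh.structureModule X) 1) →
      Nontrivial (Coh.HH X (ClSub.idealMod Z) 1) →
      2 ≤ Module.finrank k (Coh.HH X (ClSub.quotMod Z) 0)) :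
    Subsingleton (Coh.HH X (CohB1.tensorMod (ClSub.idealMod Z) L) 1) ∧
      (Subsingleton (Coh.HH X (CohB1.tensorMod (ClSub.idealMod Z) L) 0) →
        Curv2.genus k X = 0 ∧ Curv2.deg k X L 1 =
          Module.finrank k (Coh.HH X (ClSub.quotMod Z) 0) - 1) := by
  have hsub1 : Subsingleton (Coh.HH X (CohB1.tensorMod (ClSub.idealMod Z) L) 1) := by
    by_contra hns
    rw [not_subsingleton_iff_nontrivial] at hns
    have := main1531 k X hdim h0 L hL Z hZ hns hS
    linarith
  refine ⟨hsub1, fun hsub0 => ?_⟩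
  have hform := h1_formula k X hdim h0 Z hZ L hL
  have hz1 : Module.finrank k (Coh.HH X (CohB1.tensorMod (ClSub.idealMod Z) L) 1) = 0 :=
    Module.finrank_zero_of_subsingleton
  have hz0 : Module.finrank k (Coh.HH X (CohB1.tensorMod (ClSub.idealMod Z) L) 0) = 0 :=
    Module.finrank_zero_of_subsingleton
  rw [hz1, hz0] at hform
  push_cast at hform
  have hg0 : (0 : ℤ) ≤ (Curv2.genus k X : ℤ) := Int.natCast_nonneg _
  have hg : (Curv2.genus k X : ℤ) = 0 := by linarith
  refine ⟨by exact_mod_cast hg, ?_⟩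
  linarith

end Groth.Agent.Helper13.CurveRR
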