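import Mathlib
import Groth.Prelude.Def_Curv2
import Groth.Prelude.Def_ClSub2
import Groth.Agent.Lib.Helper13.CurveRR4
import Groth.Agent.Lib.Helper11.QuotModRankCore

/-!
# Final forms of the degree bound and of the vanishing of `H¹(I_Z ⊗ L)`
-/

set_option autoImplicit false
universe u
open CategoryTheory CategoryTheory.Limits AlgebraicGeometry Opposite TopologicalSpace

namespace Groth.Agent.Helper13.CurveRR

variable (k : Type u) [Field k] (X : Scheme.{u}) [X.Over (Spec (CommRingCat.of k))]
  [IsIntegral X] [IsProper (X ↘ Spec (CommRingCat.of k))]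

theorem two_le_finrank_quotMod
    (h0 : Module.finrank k (Coh.HH X (Coh.structureModule X) 0) = 1)
    (hg : Subsingleton (Coh.HH X (Coh.structureModule X) 1)) (Z : X.IdealSheafData)
    (h1 : Nontrivial (Coh.HH X (ClSub.idealMod Z) 1)) :
    2 ≤ Module.finrank k (Coh.HH X (ClSub.quotMod Z) 0) := by
  haveI : IsNoetherian X := Groth.Agent.Lead.EulerK0.isNoetherian_of_proper' k X
  have hO := Groth.Agent.Helper13.CohRoof.isCoh_structureModule X
  have hI := Groth.Agent.Helper24.PtIdeal.isCoh_idealMod Z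
  have hQ := Groth.Agent.Helper24.PtIdeal.isCoh_quotMod Z
  haveI := Groth.Agent.Helper13.FinProj.finite_HH_of_isProper k X _ hI 0
  haveI := Groth.Agent.Helper13.FinProj.finite_HH_of_isProper k X _ hI 1
  haveI := Groth.Agent.Helper13.FinProj.finite_HH_of_isProper k X _ hO 0
  haveI := Groth.Agent.Helper13.FinProj.finite_HH_of_isProper k X _ hQ 0
  exact Groth.Agent.Helper11.QuotModRank.two_le_finrank_of_shortExact k (ClSub.idealModι Z)
    (ClSub.toSubscheme Z) (kernel.condition (ClSub.toSubscheme Z))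
    (Groth.Agent.Helper24.PtIdeal.idealSC_shortExact Z) h0 hg h1

theorem result1531 (hdim : topologicalKrullDim X = 1)
    (h0 : Module.finrank k (Coh.HH X (Coh.structureModule X) 0) = 1)
    (L : X.Modules) (hL : PicF.IsInvertible L) (Z : X.IdealSheafData)
    (hZ : topologicalKrullDim (Z.support : Set X) ≤ 0)
    (h1 : Nontrivial (Coh.HH X (CohB1.tensorMod (ClSub.idealMod Z) L) 1)) :
    Curv2.deg k X L 1 ≤ 2 * (Curv2.genus k X : ℤ) - 2 +
      Module.finrank k (Coh.HH X (ClSub.quotMod Z) 0) :=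
  main1531 k X hdim h0 L hL Z hZ h1
    (fun hg h => two_le_finrank_quotMod k X h0 hg Z h)

theorem result1532 (hdim : topologicalKrullDim X = 1)
    (h0 : Module.finrank k (Coh.HH X (Coh.structureModule X) 0) = 1)
    (L : X.Modules) (hL : PicF.IsInvertible L) (Z : X.IdealSheafData)
    (hZ : topologicalKrullDim (Z.support : Set X) ≤ 0)
    (hdeg : 2 * (Curv2.genus k X : ℤ) - 2 +
      Module.finrank k (Coh.HH X (ClSub.quotMod Z) 0) < Curv2.deg k X L 1) :
    Subsingleton (Coh.HH X (CohB1.tensorMod (ClSub.idealMod Z) L) 1) ∧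
      (Subsingleton (Coh.HH X (CohB1.tensorMod (ClSub.idealMod Z) L) 0) →
        Curv2.genus k X = 0 ∧ Curv2.deg k X L 1 =
          Module.finrank k (Coh.HH X (ClSub.quotMod Z) 0) - 1) :=
  main1532 k X hdim h0 L hL Z hZ hdeg
    (fun hg h => two_le_finrank_quotMod k X h0 hg Z h)

end Groth.Agent.Helper13.CurveRR
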