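import Mathlib
import Groth.Prelude.Def_Curv2
import Groth.Agent.Lib.Helper13.CurveSV5
import Groth.Agent.Lib.Helper13.CurveDeg3
import Groth.Agent.Lib.Helper13.GenLocus
import Groth.Agent.Lib.Helper13.PbInv
import Groth.Agent.Lib.Helper13.WeakAss
import Groth.Agent.S0051

/-!
# Ampleness of an invertible module on an integral proper curve is positivity of the degree
-/

set_option autoImplicit false
universe u
open CategoryTheory CategoryTheory.Limits AlgebraicGeometry Opposite TopologicalSpace TensorProduct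

namespace Groth.Agent.Helper13.CurveSV

open Groth.Agent.Helper13.QCoh Groth.Agent.Helper13.FinType Groth.Agent.Helper13.Tensor

theorem not_isAffine_of_dim_one (k : Type u) [Field k] (X : Scheme.{u})
    [X.Over (Spec (CommRingCat.of k))] [IsProper (X ↘ Spec (CommRingCat.of k))]
    (hdim : topologicalKrullDim X = 1) : ¬ IsAffine X := by
  intro hA
  haveI : IsAffineHom (X ↘ Spec (CommRingCat.of k)) := inferInstance
  have hfin : IsFinite (X ↘ Spec (CommRingCat.of k)) :=
    IsFinite.iff_isProper_and_isAffineHom.2 ⟨inferInstance, inferInstance⟩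
  have h2 := (HasAffineProperty.iff_of_isAffine (P := @IsFinite)).mp hfin
  let φ : k →+* Γ(X, ⊤) := ((X ↘ Spec (CommRingCat.of k)).appTop.hom).comp
    (Scheme.ΓSpecIso (CommRingCat.of k)).inv.hom
  have hφ : φ.Finite := by
    refine RingHom.Finite.comp h2.2 (RingHom.Finite.of_surjective _ ?_)
    exact (ConcreteCategory.bijective_of_isIso (Scheme.ΓSpecIso (CommRingCat.of k)).inv).2
  letI : Algebra k Γ(X, ⊤) := φ.toAlgebra
  haveI : Module.Finite k Γ(X, ⊤) := hφ
  haveI : IsArtinianRing Γ(X, ⊤) := IsArtinianRing.of_finite k _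
  have h3 : ringKrullDim Γ(X, ⊤) ≤ 0 := by
    have := (Ring.krullDimLE_iff (n := 0) (R := Γ(X, ⊤))).1 inferInstance
    simpa using this
  have h4 : topologicalKrullDim (PrimeSpectrum Γ(X, ⊤)) ≤ 0 := by
    rw [PrimeSpectrum.topologicalKrullDim_eq_ringKrullDim]
    exact h3
  have h5 : topologicalKrullDim X = topologicalKrullDim (PrimeSpectrum Γ(X, ⊤)) :=
    IsHomeomorph.topologicalKrullDim_eq _ (X.isoSpec.hom.homeomorph).isHomeomorph
  rw [h5] at hdim
  rw [hdim] at h4
  exact absurd h4 (by decide)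

variable (k : Type u) [Field k] (X : Scheme.{u}) [X.Over (Spec (CommRingCat.of k))]
  [IsIntegral X] [IsProper (X ↘ Spec (CommRingCat.of k))]

theorem deg_pos_of_isAmple (hdim : topologicalKrullDim X = 1) (L : X.Modules)
    (hL : PicF.IsInvertible L) (hA : CohB1.IsAmple L) : 0 < Curv2.deg k X L 1 := by
  obtain ⟨_, _, h⟩ := hA
  obtain ⟨x⟩ : Nonempty X := inferInstance
  obtain ⟨n, s, hxs, haff⟩ := h x
  have hLn := Groth.Agent.Helper13.Inv.isInvertible_tensorPow L hL (n + 1)
  have hs : s ≠ 0 := by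
    intro h0
    have hb := Groth.Agent.Helper13.GenLoc.stalkMap_bijective_of_mem_genLocus _ s hxs
    have h1 : (Groth.Agent.Helper13.WeakAss.unitStalkEquiv x).symm 1 =
        (Groth.Agent.Helper13.WeakAss.unitStalkEquiv x).symm 0 := by
      apply hb.1
      rw [h0, Groth.Agent.Helper13.PbInv.stalkMap_zero, Groth.Agent.Helper13.PbInv.stalkMap_zero]
    exact one_ne_zero ((Groth.Agent.Helper13.WeakAss.unitStalkEquiv x).symm.injective h1)
  have hne : ∃ y, y ∉ CohB1.genLocus _ s := by
    by_contra hcon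
    push Not at hcon
    have htop : CohB1.genLocus _ s = ⊤ := by
      apply Opens.ext
      ext y
      simp [hcon y]
    rw [htop] at haff
    haveI : IsAffine ↑(⊤ : X.Opens) := haff
    haveI : IsAffine X := IsAffine.of_isIso X.topIso.inv
    exact not_isAffine_of_dim_one k X hdim inferInstance
  obtain ⟨y, hy⟩ := hne
  have hpos := Groth.Agent.Helper13.CurveDeg.main1519 k X hdim _ hLn s hs y hy
  have he := euler_pow k X hdim L hL (n + 1)
  have h6 : Curv2.deg k X (CohB1.tensorPow L (n + 1)) 1 = ((n + 1 : ℕ) : ℤ) * Curv2.deg k X L 1 := by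
    unfold Curv2.deg at he ⊢
    rw [he]
    push_cast
    ring
  rw [h6] at hpos
  have h7 : (0 : ℤ) < ((n + 1 : ℕ) : ℤ) := by exact_mod_cast Nat.succ_pos n
  exact (mul_pos_iff_of_pos_left h7).1 hpos

theorem isAmple_of_deg_pos (hdim : topologicalKrullDim X = 1) (L : X.Modules)
    (hL : PicF.IsInvertible L) (hdeg : 0 < Curv2.deg k X L 1) : CohB1.IsAmple L := by
  rw [Groth.Agent.S0051.result k X (X ↘ Spec (CommRingCat.of k)) L hL]
  intro M hM
  obtain ⟨n₀, hn₀⟩ := H1_vanishing k X hdim L hL hdeg M hM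
  refine ⟨n₀, fun n hn p hp => ?_⟩
  rcases Nat.lt_or_ge p 2 with h2 | h2
  · have hp1 : p = 1 := by omega
    subst hp1
    exact hn₀ n hn
  · haveI := (isCoh_tensor_pow k X M hM L hL n).1
    exact Groth.Agent.Helper13.CurveVan.HH_subsingleton_of_two_le k X hdim.le _ p h2

theorem main1530 (hdim : topologicalKrullDim X = 1) (L : X.Modules)
    (hL : PicF.IsInvertible L) : CohB1.IsAmple L ↔ 0 < Curv2.deg k X L 1 :=
  ⟨deg_pos_of_isAmple k X hdim L hL, isAmple_of_deg_pos k X hdim L hL⟩

end Groth.Agent.Helper13.CurveSV
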