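import Groth.Prelude.Def_DeltaF
import Mathlib.CategoryTheory.Abelian.Refinements
import Mathlib.CategoryTheory.Abelian.Exact

/-!
Dimension-shifting steps for morphisms of cohomological delta-functors (helper13).
-/

universe v v' u u'

open CategoryTheory CategoryTheory.Limits

namespace Groth.Agent.Helper13

namespace DeltaFLemmas

variable {A : Type u} [Category.{v} A] [Abelian A] {B : Type u'} [Category.{v'} B] [Abelian B]

/-- The short exact sequence attached to a monomorphism. -/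
lemma shortExact_of_mono {X Y : A} (u : X ⟶ Y) [Mono u] :
    (ShortComplex.mk u (cokernel.π u) (cokernel.condition u)).ShortExact :=
  { exact := ShortComplex.exact_cokernel u
    mono_f := by dsimp; infer_instance
    epi_g := by dsimp; infer_instance }

/-- Mono step: a morphism `x` into `T^{i+1}(X₁)` killed by `T^{i+1}(f)` and by `φ^{i+1}` vanishes, provided
`φ^i` is epi on `X₂` and mono on `X₃`. -/
lemma mono_step (T T' : DeltaF.CohDeltaFunctor A B ℕ) (φ : T ⟶ T') (i : ℕ)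
    (S : ShortComplex A) (hS : S.ShortExact)
    (hepi : Epi ((φ.app i).app S.X₂)) (hmono : Mono ((φ.app i).app S.X₃))
    {W : B} (x : W ⟶ (T.F (i + 1)).obj S.X₁) (hx : x ≫ (T.F (i + 1)).map S.f = 0)
    (hx' : x ≫ (φ.app (i + 1)).app S.X₁ = 0) : x = 0 := by
  obtain ⟨W₁, π₁, hπ₁, q₁, hq₁⟩ := (T.exact₁ S hS i (i + 1) rfl).exact_up_to_refinements x hx
  dsimp at q₁ hq₁
  have h1 : (q₁ ≫ (φ.app i).app S.X₃) ≫ T'.δ S hS i (i + 1) rfl = 0 := by
    rw [Category.assoc, ← φ.comm S hS i (i + 1) rfl, ← Category.assoc, ← hq₁, Category.assoc, hx', comp_zero]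
  obtain ⟨W₂, π₂, hπ₂, y', hy'⟩ := (T'.exact₃ S hS i (i + 1) rfl).exact_up_to_refinements _ h1
  dsimp at y' hy'
  obtain ⟨W₃, π₃, hπ₃, y, hy⟩ := surjective_up_to_refinements_of_epi ((φ.app i).app S.X₂) y'
  have h2 : (π₃ ≫ π₂ ≫ q₁) ≫ (φ.app i).app S.X₃ = (y ≫ (T.F i).map S.g) ≫ (φ.app i).app S.X₃ := by
    rw [Category.assoc, Category.assoc, hy', ← Category.assoc π₃, hy, Category.assoc, Category.assoc,
      (φ.app i).naturality]
  have h3 : π₃ ≫ π₂ ≫ q₁ = y ≫ (T.F i).map S.g := (cancel_mono _).1 h2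
  have h4 : (π₃ ≫ π₂ ≫ π₁) ≫ x = 0 := by
    rw [Category.assoc, Category.assoc, hq₁, ← Category.assoc π₂, ← Category.assoc π₃, h3, Category.assoc,
      T.comp_δ S hS i (i + 1) rfl, comp_zero]
  have : Epi (π₃ ≫ π₂ ≫ π₁) := epi_comp _ _
  exact (cancel_epi (π₃ ≫ π₂ ≫ π₁)).1 (by rw [h4, comp_zero])

/-- Epi step: a morphism `x'` into `T'^{i+1}(X₁)` killed by `T'^{i+1}(f)` lifts, up to refinement, through
`φ^{i+1}`, provided `φ^i` is epi on `X₃`. -/
lemma epi_step (T T' : DeltaF.CohDeltaFunctor A B ℕ) (φ : T ⟶ T') (i : ℕ)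
    (S : ShortComplex A) (hS : S.ShortExact)
    (hepi : Epi ((φ.app i).app S.X₃))
    {W : B} (x' : W ⟶ (T'.F (i + 1)).obj S.X₁) (hx : x' ≫ (T'.F (i + 1)).map S.f = 0) :
    ∃ (W' : B) (π : W' ⟶ W) (_ : Epi π) (x : W' ⟶ (T.F (i + 1)).obj S.X₁),
      π ≫ x' = x ≫ (φ.app (i + 1)).app S.X₁ := by
  obtain ⟨W₁, π₁, hπ₁, q', hq'⟩ := (T'.exact₁ S hS i (i + 1) rfl).exact_up_to_refinements x' hx
  dsimp at q' hq'
  obtain ⟨W₂, π₂, hπ₂, q, hq⟩ := surjective_up_to_refinements_of_epi ((φ.app i).app S.X₃) q'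
  refine ⟨W₂, π₂ ≫ π₁, epi_comp _ _, q ≫ T.δ S hS i (i + 1) rfl, ?_⟩
  rw [Category.assoc, hq', ← Category.assoc, hq, Category.assoc, Category.assoc, φ.comm S hS i (i + 1) rfl]

/-- If `T^{i+1}` is effaceable, `φ^i` is an epimorphism and a monomorphism on all objects, then `φ^{i+1}` is a
monomorphism on all objects. -/
lemma mono_succ (T T' : DeltaF.CohDeltaFunctor A B ℕ) (φ : T ⟶ T') (i : ℕ)
    (heff : ∀ X : A, ∃ (Y : A) (u : X ⟶ Y), Mono u ∧ (T.F (i + 1)).map u = 0)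
    (hepi : ∀ X : A, Epi ((φ.app i).app X)) (hmono : ∀ X : A, Mono ((φ.app i).app X)) (X : A) :
    Mono ((φ.app (i + 1)).app X) := by
  obtain ⟨Y, u, hu, hu0⟩ := heff X
  apply Preadditive.mono_of_cancel_zero
  intro W x hx
  exact mono_step T T' φ i _ (shortExact_of_mono u) (hepi _) (hmono _) x (by dsimp; rw [hu0, comp_zero]) hx

/-- If `T'^{i+1}` is effaceable and `φ^i` is an epimorphism on all objects, then `φ^{i+1}` is an epimorphism on
all objects. -/
lemma epi_succ (T T' : DeltaF.CohDeltaFunctor A B ℕ) (φ : T ⟶ T') (i : ℕ)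
    (heff : ∀ X : A, ∃ (Y : A) (u : X ⟶ Y), Mono u ∧ (T'.F (i + 1)).map u = 0)
    (hepi : ∀ X : A, Epi ((φ.app i).app X)) (X : A) :
    Epi ((φ.app (i + 1)).app X) := by
  obtain ⟨Y, u, hu, hu0⟩ := heff X
  rw [epi_iff_surjective_up_to_refinements]
  intro W x'
  exact epi_step T T' φ i _ (shortExact_of_mono u) (hepi _) x' (by dsimp; rw [hu0, comp_zero])

end DeltaFLemmas

end Groth.Agent.Helper13
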