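import Groth.Agent.Lib.Helper13.DeltaF
import Mathlib.Algebra.Category.Grp.Abelian
import Mathlib.Algebra.Homology.ShortComplex.Ab
import Mathlib.Algebra.Category.Grp.EpiMono

/-!
Element-wise dimension-shifting steps for morphisms of cohomological delta-functors with values in abelian
groups (helper13).
-/

universe w v u

open CategoryTheory CategoryTheory.Limits

namespace Groth.Agent.Helper13

namespace DeltaFAb

open DeltaFLemmas

variable {C : Type u} [Category.{v} C] [Abelian C]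
variable (T T' : DeltaF.CohDeltaFunctor C AddCommGrpCat.{w} ℕ) (φ : T ⟶ T')

lemma nat_apply (q : ℕ) {X Y : C} (f : X ⟶ Y) (x : (T.F q).obj X) :
    (φ.app q).app Y ((T.F q).map f x) = (T'.F q).map f ((φ.app q).app X x) := by
  have := (φ.app q).naturality f
  exact ConcreteCategory.congr_hom this x

lemma comm_apply (S : ShortComplex C) (hS : S.ShortExact) (i : ℕ) (x : (T.F i).obj S.X₃) :
    (φ.app (i + 1)).app S.X₁ (T.δ S hS i (i + 1) rfl x) =
      T'.δ S hS i (i + 1) rfl ((φ.app i).app S.X₃ x) := by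
  have := φ.comm S hS i (i + 1) rfl
  exact ConcreteCategory.congr_hom this x

lemma exact₁_apply (S : ShortComplex C) (hS : S.ShortExact) (i : ℕ) (x : (T.F (i + 1)).obj S.X₁)
    (hx : (T.F (i + 1)).map S.f x = 0) : ∃ y : (T.F i).obj S.X₃, T.δ S hS i (i + 1) rfl y = x :=
  (ShortComplex.ab_exact_iff _).1 (T.exact₁ S hS i (i + 1) rfl) x hx

lemma exact₂_apply (S : ShortComplex C) (hS : S.ShortExact) (i : ℕ) (x : (T.F i).obj S.X₂)
    (hx : (T.F i).map S.g x = 0) : ∃ y : (T.F i).obj S.X₁, (T.F i).map S.f y = x :=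
  (ShortComplex.ab_exact_iff _).1 (T.exact₂ S hS i) x hx

lemma exact₃_apply (S : ShortComplex C) (hS : S.ShortExact) (i : ℕ) (x : (T.F i).obj S.X₃)
    (hx : T.δ S hS i (i + 1) rfl x = 0) : ∃ y : (T.F i).obj S.X₂, (T.F i).map S.g y = x :=
  (ShortComplex.ab_exact_iff _).1 (T.exact₃ S hS i (i + 1) rfl) x hx

lemma comp_δ_apply (S : ShortComplex C) (hS : S.ShortExact) (i : ℕ) (x : (T.F i).obj S.X₂) :
    T.δ S hS i (i + 1) rfl ((T.F i).map S.g x) = 0 := by
  have := T.comp_δ S hS i (i + 1) rfl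
  exact ConcreteCategory.congr_hom this x

lemma map_zero_apply (S : ShortComplex C) (i : ℕ) (x : (T.F i).obj S.X₁) :
    (T.F i).map S.g ((T.F i).map S.f x) = 0 := by
  have : (T.F i).map S.f ≫ (T.F i).map S.g = 0 := by
    rw [← Functor.map_comp, S.zero, Functor.map_zero]
  exact ConcreteCategory.congr_hom this x

lemma zeroMono_injective (h0 : T.ZeroMono) (S : ShortComplex C) (hS : S.ShortExact) :
    Function.Injective ((T.F 0).map S.f) :=
  (AddCommGrpCat.mono_iff_injective _).1 (h0 S hS)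

variable {T T'}

/-- Mono step, element-wise. -/
lemma mono_step_ab (i : ℕ) (S : ShortComplex C) (hS : S.ShortExact)
    (hsurj : Function.Surjective ((φ.app i).app S.X₂)) (hinj : Function.Injective ((φ.app i).app S.X₃))
    (x : (T.F (i + 1)).obj S.X₁) (hx : (T.F (i + 1)).map S.f x = 0)
    (hx' : (φ.app (i + 1)).app S.X₁ x = 0) : x = 0 := by
  obtain ⟨q, rfl⟩ := exact₁_apply T S hS i x hx
  rw [comm_apply] at hx'
  obtain ⟨y', hy'⟩ := exact₃_apply T' S hS i _ hx'
  obtain ⟨y, rfl⟩ := hsurj y'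
  rw [← nat_apply] at hy'
  have := hinj hy'
  rw [← this, comp_δ_apply]

/-- Epi step, element-wise. -/
lemma epi_step_ab (i : ℕ) (S : ShortComplex C) (hS : S.ShortExact)
    (hsurj : Function.Surjective ((φ.app i).app S.X₃))
    (x' : (T'.F (i + 1)).obj S.X₁) (hx : (T'.F (i + 1)).map S.f x' = 0) :
    ∃ x : (T.F (i + 1)).obj S.X₁, (φ.app (i + 1)).app S.X₁ x = x' := by
  obtain ⟨q', rfl⟩ := exact₁_apply T' S hS i x' hx
  obtain ⟨q, rfl⟩ := hsurj q'
  exact ⟨T.δ S hS i (i + 1) rfl q, comm_apply T T' φ S hS i q⟩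

/-- Injectivity in degree zero descends along a monomorphism. -/
lemma inj_zero (h0 : T.ZeroMono) (S : ShortComplex C) (hS : S.ShortExact)
    (hinj : Function.Injective ((φ.app 0).app S.X₂)) : Function.Injective ((φ.app 0).app S.X₁) := by
  intro x y hxy
  apply zeroMono_injective T h0 S hS
  apply hinj
  rw [nat_apply, nat_apply, hxy]

/-- The middle step: surjectivity on `X₁` from surjectivity on `X₂`, injectivity on `X₃`, and the fact that
the kernel of `T'^q(f)` is reached. -/
lemma surj_middle (q : ℕ) (S : ShortComplex C) (hS : S.ShortExact)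
    (hsurj : Function.Surjective ((φ.app q).app S.X₂)) (hinj : Function.Injective ((φ.app q).app S.X₃))
    (hker : ∀ z' : (T'.F q).obj S.X₁, (T'.F q).map S.f z' = 0 → ∃ z, (φ.app q).app S.X₁ z = z')
    (x' : (T'.F q).obj S.X₁) : ∃ x, (φ.app q).app S.X₁ x = x' := by
  obtain ⟨m, hm⟩ := hsurj ((T'.F q).map S.f x')
  have h1 : (φ.app q).app S.X₃ ((T.F q).map S.g m) = 0 := by
    rw [nat_apply, hm, map_zero_apply]
  have h2 : (T.F q).map S.g m = 0 := hinj (by rw [h1, map_zero])
  obtain ⟨x, rfl⟩ := exact₂_apply T S hS q m h2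
  rw [nat_apply] at hm
  obtain ⟨z, hz⟩ := hker (x' - (φ.app q).app S.X₁ x) (by rw [map_sub, hm, sub_self])
  refine ⟨x + z, ?_⟩
  rw [map_add, hz]; abel

end DeltaFAb

end Groth.Agent.Helper13
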