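import Mathlib.RingTheory.Etale.Kaehler
import Mathlib.RingTheory.Unramified.Basic
import Mathlib.RingTheory.Derivation.Basic

/-!
# Derivations and (formally) étale algebras

* `exists_derivation_extend`: a `ℤ`-derivation `θ` of `A` extends to a `ℤ`-derivation of a formally
  étale `A`-algebra `B`.
* `derivation_like_eq_zero`: an additive map `δ : B → B'` satisfying the Leibniz rule with respect
  to a ring map `ρ : B → B'` and killing the image of `A`, with `B` formally unramified over `A`,
  is zero.
-/

open TensorProduct KaehlerDifferential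

namespace Groth.Agent.Helper13.DerEt

universe u

theorem exists_derivation_extend (A B : Type u) [CommRing A] [CommRing B] [Algebra A B]
    [Algebra.FormallyEtale A B] (θ : Derivation ℤ A A) :
    ∃ D : Derivation ℤ B B, ∀ a : A, D (algebraMap A B a) = algebraMap A B (θ a) := by
  let ℓ0 : Ω[A⁄ℤ] →ₗ[A] B := (Algebra.linearMap A B).comp θ.liftKaehlerDifferential
  let ℓ : B ⊗[A] Ω[A⁄ℤ] →ₗ[B] B := LinearMap.liftBaseChange B ℓ0
  let e := KaehlerDifferential.tensorKaehlerEquivOfFormallyEtale ℤ A B
  let L : Ω[B⁄ℤ] →ₗ[B] B := ℓ.comp e.symm.toLinearMap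
  refine ⟨L.compDer (KaehlerDifferential.D ℤ B), fun a => ?_⟩
  change ℓ (e.symm (D ℤ B (algebraMap A B a))) = _
  rw [KaehlerDifferential.tensorKaehlerEquivOfFormallyEtale_symm_D_algebraMap]
  simp [ℓ, ℓ0]

theorem derivation_like_eq_zero (A B B' : Type u) [CommRing A] [CommRing B] [CommRing B']
    [Algebra A B] [Algebra.FormallyUnramified A B] (ρ : B →+* B') (δ : B →+ B')
    (hδ : ∀ x y, δ (x * y) = ρ x * δ y + ρ y * δ x)
    (h0 : ∀ a : A, δ (algebraMap A B a) = 0) (b : B) : δ b = 0 := by
  letI : Module B B' := Module.compHom B' ρ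
  have hsm : ∀ (x : B) (y : B'), x • y = ρ x * y := fun _ _ => rfl
  letI : Module A B' := Module.compHom B' (algebraMap A B)
  have hsm' : ∀ (a : A) (y : B'), a • y = ρ (algebraMap A B a) * y := fun _ _ => rfl
  haveI : IsScalarTower A B B' := ⟨fun a x y => by
    rw [hsm', hsm, hsm, Algebra.smul_def, map_mul, mul_assoc]⟩
  have h1 : δ 1 = 0 := by
    have := h0 1
    rwa [map_one] at this
  let δ' : Derivation A B B' :=
    { toFun := δ
      map_add' := δ.map_add
      map_smul' := fun a x => by
        simp only [RingHom.id_apply]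
        rw [Algebra.smul_def, hδ, h0, mul_zero, add_zero, hsm']
      map_one_eq_zero' := h1
      leibniz' := fun x y => by
        change δ (x * y) = x • δ y + y • δ x
        rw [hδ, hsm, hsm] }
  have : δ' = 0 := by
    have h2 := δ'.liftKaehlerDifferential_comp
    have h3 : δ'.liftKaehlerDifferential = 0 := by
      refine LinearMap.ext fun x => ?_
      have : x = 0 := Subsingleton.elim _ _
      rw [this, map_zero, map_zero]
    rw [← h2, h3]
    rfl
  change δ' b = 0
  rw [this]
  rfl

end Groth.Agent.Helper13.DerEt
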