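import Groth.Prelude.Def_Coh
import Mathlib.AlgebraicGeometry.Morphisms.Etale
import Groth.Agent.Lib.Helper13.DerEt1

/-!
# Lifting a derivation of `A` to the structure sheaf of an étale `A`-scheme
-/

open CategoryTheory AlgebraicGeometry Opposite TopologicalSpace

namespace Groth.Agent.Helper13.DerEt

universe u

variable {A : Type u} [CommRing A] {V : Scheme.{u}} (f : V ⟶ Spec (CommRingCat.of A))

/-- The ring map `A → Γ(V, U)`. -/
noncomputable def phi (U : V.Opens) : A →+* Γ(V, U) :=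
  (Coh.resTop V (op U)).comp (Coh.toGlobal f)

theorem phi_eq (U : V.Opens) (e : U ≤ f ⁻¹ᵁ ⊤) :
    phi f U = (f.appLE ⊤ U e).hom.comp (Scheme.ΓSpecIso (CommRingCat.of A)).inv.hom := by
  rfl

theorem phi_res {U U' : V.Opens} (h : U' ≤ U) (a : A) :
    (V.presheaf.map (homOfLE h).op).hom (phi f U a) = phi f U' a :=
  Coh.resTop_comp (op U) (op U') (homOfLE h).op (Coh.toGlobal f a)

theorem phi_etale [Etale f] (U : V.affineOpens) : (phi f U.1).Etale := by
  have e : U.1 ≤ f ⁻¹ᵁ ⊤ := fun _ _ => trivial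
  rw [phi_eq f U.1 e]
  refine RingHom.Etale.stableUnderComposition _ _ ?_ ?_
  · exact RingHom.Etale.of_bijective
      (ConcreteCategory.bijective_of_isIso (Scheme.ΓSpecIso (CommRingCat.of A)).inv)
  · exact Etale.etale_appLE f (isAffineOpen_top _) U.2 e

theorem exists_DU [Etale f] (θ : Derivation ℤ A A) (U : V.affineOpens) :
    ∃ D : Γ(V, U.1) →+ Γ(V, U.1), (∀ x y, D (x * y) = x * D y + y * D x) ∧
      ∀ a, D (phi f U.1 a) = phi f U.1 (θ a) := by
  letI : Algebra A Γ(V, U.1) := (phi f U.1).toAlgebra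
  haveI : Algebra.Etale A Γ(V, U.1) := phi_etale f U
  obtain ⟨D, hD⟩ := exists_derivation_extend A Γ(V, U.1) θ
  exact ⟨D.toLinearMap.toAddMonoidHom, fun x y => D.leibniz x y, hD⟩

/-- The lifted derivation on an affine open. -/
noncomputable def DU [Etale f] (θ : Derivation ℤ A A) (U : V.affineOpens) :
    Γ(V, U.1) →+ Γ(V, U.1) := (exists_DU f θ U).choose

theorem DU_mul [Etale f] (θ : Derivation ℤ A A) (U : V.affineOpens) (x y : Γ(V, U.1)) :
    DU f θ U (x * y) = x * DU f θ U y + y * DU f θ U x :=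
  (exists_DU f θ U).choose_spec.1 x y

theorem DU_phi [Etale f] (θ : Derivation ℤ A A) (U : V.affineOpens) (a : A) :
    DU f θ U (phi f U.1 a) = phi f U.1 (θ a) :=
  (exists_DU f θ U).choose_spec.2 a

theorem DU_res [Etale f] (θ : Derivation ℤ A A) (U U' : V.affineOpens) (h : U'.1 ≤ U.1)
    (x : Γ(V, U.1)) :
    (V.presheaf.map (homOfLE h).op).hom (DU f θ U x) =
      DU f θ U' ((V.presheaf.map (homOfLE h).op).hom x) := by
  letI : Algebra A Γ(V, U.1) := (phi f U.1).toAlgebra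
  haveI : Algebra.Etale A Γ(V, U.1) := phi_etale f U
  let ρ : Γ(V, U.1) →+* Γ(V, U'.1) := (V.presheaf.map (homOfLE h).op).hom
  let δ : Γ(V, U.1) →+ Γ(V, U'.1) :=
    ρ.toAddMonoidHom.comp (DU f θ U) - (DU f θ U').comp ρ.toAddMonoidHom
  have hδ : ∀ y, δ y = ρ (DU f θ U y) - DU f θ U' (ρ y) := fun _ => rfl
  have key := derivation_like_eq_zero A Γ(V, U.1) Γ(V, U'.1) ρ δ ?_ ?_ x
  · rw [hδ, sub_eq_zero] at key
    exact key
  · intro x y
    rw [hδ, hδ, hδ, DU_mul, map_add, map_mul, map_mul, map_mul, DU_mul]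
    ring
  · intro a
    rw [hδ, sub_eq_zero]
    change ρ (DU f θ U (phi f U.1 a)) = DU f θ U' (ρ (phi f U.1 a))
    rw [DU_phi]
    change (V.presheaf.map (homOfLE h).op).hom (phi f U.1 (θ a)) =
      DU f θ U' ((V.presheaf.map (homOfLE h).op).hom (phi f U.1 a))
    rw [phi_res, phi_res, DU_phi]

end Groth.Agent.Helper13.DerEt
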