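import Groth.Prelude.Def_Coh
import Mathlib.AlgebraicGeometry.Morphisms.Etale
import Groth.Agent.Lib.Helper13.DerEt2

/-!
# The lifted derivation as an endomorphism of the abelian sheaf `O_V`
-/

open CategoryTheory AlgebraicGeometry Opposite TopologicalSpace

namespace Groth.Agent.Helper13.DerEt

universe u

variable {A : Type u} [CommRing A] {V : Scheme.{u}} (f : V ⟶ Spec (CommRingCat.of A))

/-- The abelian sheaf underlying `O_V`. -/
noncomputable abbrev OAb (V : Scheme.{u}) : TopCat.Sheaf AddCommGrpCat.{u} V.toTopCat :=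
  Coh.toAb (Coh.structureModule V)

/-- The basis of affine opens, as a family. -/
abbrev Baff (V : Scheme.{u}) : V.affineOpens → Opens V := Subtype.val

theorem isBasis_Baff (V : Scheme.{u}) : Opens.IsBasis (Set.range (Baff V)) := by
  rw [Subtype.range_coe]
  exact V.isBasis_affineOpens

/-- The lifted derivation on the basis of affine opens. -/
noncomputable def alpha [Etale f] (θ : Derivation ℤ A A) :
    (inducedFunctor (Baff V)).op ⋙ (OAb V).obj ⟶ (inducedFunctor (Baff V)).op ⋙ (OAb V).1 where
  app i := AddCommGrpCat.ofHom (DU f θ i.unop)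
  naturality i j g := by
    ext x
    exact (DU_res f θ i.unop j.unop (leOfHom g.unop.hom) x).symm

/-- The lifted derivation as a morphism of abelian sheaves. -/
noncomputable def Dsh [Etale f] (θ : Derivation ℤ A A) :
    Coh.toAb (Coh.structureModule V) ⟶ Coh.toAb (Coh.structureModule V) :=
  ⟨TopCat.Sheaf.restrictHomEquivHom (OAb V).obj (OAb V) (isBasis_Baff V) (alpha f θ)⟩

theorem Dsh_app [Etale f] (θ : Derivation ℤ A A) (U : V.affineOpens) :
    (Dsh f θ).hom.app (op U.1) = AddCommGrpCat.ofHom (DU f θ U) :=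
  TopCat.Sheaf.extend_hom_app (OAb V).obj (OAb V) (isBasis_Baff V) (alpha f θ) U

theorem Dsh_leibniz [Etale f] (θ : Derivation ℤ A A) (a : A) :
    Coh.smulAb (Coh.structureModule V) (Coh.toGlobal f a) ≫ Dsh f θ =
      Coh.smulAb (Coh.structureModule V) (Coh.toGlobal f (θ a)) +
        Dsh f θ ≫ Coh.smulAb (Coh.structureModule V) (Coh.toGlobal f a) := by
  apply Sheaf.hom_ext
  apply TopCat.Sheaf.hom_ext (OAb V).obj (OAb V) (isBasis_Baff V)
  intro U
  ext x
  have key : ∀ y : Γ(V, U.1), DU f θ U (phi f U.1 a * y) =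
      phi f U.1 (θ a) * y + phi f U.1 a * DU f θ U y := by
    intro y
    rw [DU_mul, DU_phi]
    ring
  have h1 : (Dsh f θ).hom.app (op U.1) = AddCommGrpCat.ofHom (DU f θ U) := Dsh_app f θ U
  change ((Dsh f θ).hom.app (op U.1)).hom
      (((Coh.smulAb (Coh.structureModule V) (Coh.toGlobal f a)).hom.app (op U.1)).hom x) =
    ((Coh.smulAb (Coh.structureModule V) (Coh.toGlobal f (θ a))).hom.app (op U.1)).hom x +
      ((Coh.smulAb (Coh.structureModule V) (Coh.toGlobal f a)).hom.app (op U.1)).hom
        (((Dsh f θ).hom.app (op U.1)).hom x)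
  rw [h1]
  exact key x

end Groth.Agent.Helper13.DerEt

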