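import Mathlib
import Groth.Agent.Lib.Helper13.DimLemma

/-!
# Irreducible components of a proper curve without isolated points have dimension one (helper13)
-/

set_option autoImplicit false
set_option linter.unusedSectionVars false
set_option linter.unusedVariables false
set_option linter.style.haveILetI false

universe u
open CategoryTheory CategoryTheory.Limits AlgebraicGeometry TopologicalSpace

namespace Groth.Agent.Helper13.DimMinimal

/-- in a Noetherian quasi-sober space, a maximal point under generization whose closure is itself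
is an open point. -/
theorem isOpen_singleton_of_closure_eq {X : Type*} [TopologicalSpace X] [NoetherianSpace X]
    [QuasiSober X] (ξ : X) (hξ : ∀ y : X, ξ ∈ closure ({y} : Set X) → y = ξ)
    (hcl : closure ({ξ} : Set X) = {ξ}) : IsOpen ({ξ} : Set X) := by
  have hfin : (irreducibleComponents X).Finite := NoetherianSpace.finite_irreducibleComponents
  have hclosed : IsClosed (⋃ Z ∈ {Z ∈ irreducibleComponents X | ξ ∉ Z}, Z) := by
    refine Set.Finite.isClosed_biUnion (hfin.subset (fun Z hZ => hZ.1)) ?_
    intro Z hZ
    exact isClosed_of_mem_irreducibleComponents Z hZ.1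
  have heq : ({ξ} : Set X)ᶜ = ⋃ Z ∈ {Z ∈ irreducibleComponents X | ξ ∉ Z}, Z := by
    ext y
    simp only [Set.mem_compl_iff, Set.mem_singleton_iff, Set.mem_iUnion, Set.mem_ofPred_eq,
      exists_prop]
    constructor
    · intro hy
      refine ⟨irreducibleComponent y, ⟨irreducibleComponent_mem_irreducibleComponents y, ?_⟩,
        mem_irreducibleComponent⟩
      intro hmem
      obtain ⟨η, hη⟩ := QuasiSober.sober (isIrreducible_irreducibleComponent (x := y))
        (isClosed_irreducibleComponent (x := y))
      have h1 : ξ ∈ closure ({η} : Set X) := by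
        rw [hη.def]
        exact hmem
      have h2 : η = ξ := hξ η h1
      have h3 : y ∈ closure ({ξ} : Set X) := by
        rw [← h2, hη.def]
        exact mem_irreducibleComponent
      rw [hcl] at h3
      exact hy h3
    · rintro ⟨Z, ⟨-, hZ⟩, hyZ⟩ rfl
      exact hZ hyZ
  rw [← isClosed_compl_iff, heq]
  exact hclosed

theorem dim_closure_eq_one_of_minimal (k : Type u) [Field k] (X : Scheme.{u})
    [X.Over (Spec (CommRingCat.of k))] [IsProper (X ↘ Spec (CommRingCat.of k))]
    (hdim : topologicalKrullDim X = 1) (hpure : ∀ x : X, ¬ IsOpen ({x} : Set X)) (ξ : X)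
    (hξ : ∀ y : X, ξ ∈ closure ({y} : Set X) → y = ξ) :
    topologicalKrullDim ↥(closure ({ξ} : Set X)) = ((1 : ℕ) : WithBot ℕ∞) := by
  haveI : LocallyOfFiniteType (X ↘ Spec (CommRingCat.of k)) := inferInstance
  haveI : IsLocallyNoetherian X :=
    LocallyOfFiniteType.isLocallyNoetherian (X ↘ Spec (CommRingCat.of k))
  haveI : CompactSpace X :=
    QuasiCompact.compactSpace_of_compactSpace (X ↘ Spec (CommRingCat.of k))
  haveI : IsNoetherian X := {}
  have hne : closure ({ξ} : Set X) ≠ {ξ} := fun hcl =>
    hpure ξ (isOpen_singleton_of_closure_eq ξ hξ hcl)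
  obtain ⟨y, hy, hyξ⟩ : ∃ y, y ∈ closure ({ξ} : Set X) ∧ y ≠ ξ := by
    by_contra hcon
    push Not at hcon
    apply hne
    ext z
    constructor
    · intro hz
      exact Set.mem_singleton_iff.2 (hcon z hz)
    · intro hz
      rw [Set.mem_singleton_iff.1 hz]
      exact subset_closure (Set.mem_singleton ξ)
  have hspec : ξ ⤳ y := specializes_iff_mem_closure.2 hy
  have hne2 : closure ({y} : Set X) ≠ closure ({ξ} : Set X) := by
    intro h
    apply hyξ
    apply hξ y
    rw [h]
    exact subset_closure (Set.mem_singleton ξ)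
  have h1 := Groth.Agent.Helper13.DimLemma.dim_closure_add_one_le hspec hne2
  have h0 : (0 : WithBot ℕ∞) ≤ topologicalKrullDim ↥(closure ({y} : Set X)) := by
    haveI : IrreducibleSpace ↥(closure ({y} : Set X)) :=
      Subtype.irreducibleSpace isIrreducible_singleton.closure
    haveI : Nonempty (IrreducibleCloseds ↥(closure ({y} : Set X))) :=
      ⟨{ carrier := Set.univ
         isIrreducible' := IrreducibleSpace.isIrreducible_univ _
         isClosed' := isClosed_univ }⟩
    exact Order.krullDim_nonneg
  have h2 : topologicalKrullDim ↥(closure ({ξ} : Set X)) ≤ 1 := by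
    rw [← hdim]
    exact topologicalKrullDim_subspace_le X _
  have h3 : (1 : WithBot ℕ∞) ≤ topologicalKrullDim ↥(closure ({ξ} : Set X)) := by
    calc (1 : WithBot ℕ∞) = 0 + 1 := (zero_add 1).symm
      _ ≤ topologicalKrullDim ↥(closure ({y} : Set X)) + 1 := by gcongr
      _ ≤ _ := h1
  rw [Nat.cast_one]
  exact le_antisymm h2 h3

end Groth.Agent.Helper13.DimMinimal
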