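import Mathlib
import Groth.Prelude.Def_Coh
import Groth.Prelude.Def_RelSpec2
import Groth.Agent.Lib.Helper13.ToAbExact
import Groth.Agent.Lib.Helper13.ColimCrit
import Groth.Agent.Lib.Helper13.ColimSec
import Groth.Agent.Lib.Helper13.DeltaFColim

/-!
# Direct image along an affine morphism commutes with filtered colimits (helper13)
-/

set_option autoImplicit false
set_option linter.unusedSectionVars false
universe u
open CategoryTheory CategoryTheory.Limits AlgebraicGeometry Opposite TopologicalSpace

namespace Groth.Agent.Helper13.DirImgColim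

open Groth.Agent.Helper13.ToAbExact Groth.Agent.Helper13.ColimSec

lemma qSep_of_isAffineOpen {X : Scheme.{u}} {V : X.Opens} (hV : IsAffineOpen V) :
    QSep (X := X.toTopCat) V :=
  fun V' W' hV' hW' hVc hWc =>
    hV.isQuasiSeparated (V' : Set X.toTopCat) (W' : Set X.toTopCat) hV' V'.isOpen hVc hW'
      W'.isOpen hWc

variable {X S : Scheme.{u}} (f : X ⟶ S)

/-- sections functor -/
noncomputable abbrev Γ (X : Scheme.{u}) (U : X.Opens) :
    Sheaf (Opens.grothendieckTopology X) AddCommGrpCat.{u} ⥤ AddCommGrpCat.{u} :=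
  sheafToPresheaf (Opens.grothendieckTopology X) AddCommGrpCat.{u} ⋙ (evaluation _ _).obj (op U)

/-- direct image of abelian sheaves along an affine morphism preserves filtered colimits -/
theorem preservesColimit_pushAb [IsAffineHom f] {J : Type u} [SmallCategory J] [IsFiltered J]
    (D : J ⥤ Sheaf (Opens.grothendieckTopology X) AddCommGrpCat.{u}) :
    PreservesColimit D (Coh.pushAb f) := by
  apply preservesColimit_of_preserves_colimit_cocone (colimit.isColimit D)
  have : PrespectralSpace S.toTopCat := inferInstanceAs (PrespectralSpace S)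
  have : PrespectralSpace X.toTopCat := inferInstanceAs (PrespectralSpace X)
  refine (ColimCrit.isColimit_of_basis (X := S.toTopCat) (D ⋙ Coh.pushAb f)
    ((Coh.pushAb f).mapCocone (colimit.cocone D)) S.affineOpens S.isBasis_affineOpens
    (fun V hV => ⟨IsAffineOpen.isCompact hV, qSep_of_isAffineOpen hV⟩) ?_ ?_).some
  · intro V hV t
    have hW : IsAffineOpen (f ⁻¹ᵁ V) := IsAffineOpen.preimage hV f
    have hp : PreservesColimit D (Γ X (f ⁻¹ᵁ V)) :=
      preservesColimit_sections (X := X.toTopCat) D (f ⁻¹ᵁ V) hW.isCompact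
        (qSep_of_isAffineOpen hW)
    obtain ⟨j, s, hs⟩ := DeltaFColim.exists_rep (D ⋙ Γ X (f ⁻¹ᵁ V))
      (isColimitOfPreserves (Γ X (f ⁻¹ᵁ V)) (colimit.isColimit D)) t
    exact ⟨j, s, hs⟩
  · intro V hV j s hs
    have hW : IsAffineOpen (f ⁻¹ᵁ V) := IsAffineOpen.preimage hV f
    have hp : PreservesColimit D (Γ X (f ⁻¹ᵁ V)) :=
      preservesColimit_sections (X := X.toTopCat) D (f ⁻¹ᵁ V) hW.isCompact
        (qSep_of_isAffineOpen hW)
    obtain ⟨k, g, hg⟩ := DeltaFColim.eq_zero_of_rep (D ⋙ Γ X (f ⁻¹ᵁ V))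
      (isColimitOfPreserves (Γ X (f ⁻¹ᵁ V)) (colimit.isColimit D)) s hs
    exact ⟨k, g, hg⟩

/-- forgetting the module structure of the direct image -/
noncomputable def dirImgToAb [QuasiCompact f] [QuasiSeparated f] :
    AMod.dirImg f ⋙ SheafOfModules.toSheaf (AMod.ringSheaf (RelSpec.QCAlg.directImage f)) ≅
      toAbF X ⋙ Coh.pushAb f :=
  NatIso.ofComponents (fun M => Iso.refl _) (by intros; rfl)

theorem isIso_post_dirImg [IsAffineHom f] {J : Type u} [SmallCategory J] [IsFiltered J]
    (D : J ⥤ X.Modules) : IsIso (colimit.post D (AMod.dirImg f)) := by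
  let US := SheafOfModules.toSheaf (AMod.ringSheaf (RelSpec.QCAlg.directImage f))
  suffices h : IsIso (US.map (colimit.post D (AMod.dirImg f))) from isIso_of_reflects_iso _ US
  have h1 : colimit.post (D ⋙ AMod.dirImg f) US ≫ US.map (colimit.post D (AMod.dirImg f)) =
      colimit.post D (AMod.dirImg f ⋙ US) := colimit.post_post D (AMod.dirImg f) US
  -- the composite functor preserves the colimit
  have : PreservesColimit (D ⋙ toAbF X) (Coh.pushAb f) := preservesColimit_pushAb f _
  have : PreservesColimitsOfSize.{u, u} (toAbF X) :=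
    inferInstanceAs (PreservesColimitsOfSize.{u, u} (SheafOfModules.toSheaf X.ringCatSheaf))
  have : PreservesColimit D (toAbF X ⋙ Coh.pushAb f) := comp_preservesColimit _ _
  have : PreservesColimit D (AMod.dirImg f ⋙ US) :=
    preservesColimit_of_natIso D (dirImgToAb f).symm
  have h2 : IsIso (colimit.post D (AMod.dirImg f ⋙ US)) := inferInstance
  have h3 : IsIso (colimit.post (D ⋙ AMod.dirImg f) US) := inferInstance
  have h4 : US.map (colimit.post D (AMod.dirImg f)) =
      inv (colimit.post (D ⋙ AMod.dirImg f) US) ≫ colimit.post D (AMod.dirImg f ⋙ US) := by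
    rw [← h1, IsIso.inv_hom_id_assoc]
  rw [h4]
  infer_instance

end Groth.Agent.Helper13.DirImgColim
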