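import Mathlib
import Groth.Prelude.Def_Coh
import Groth.Prelude.Def_RelSpec2
import Groth.Agent.Lib.Helper13.DirImgColim

/-!
# Direct image along an affine morphism commutes with arbitrary direct sums (helper13)
-/

set_option autoImplicit false
set_option linter.unusedSectionVars false
universe w v₁ v₂ u₁ u₂ u
open CategoryTheory CategoryTheory.Limits AlgebraicGeometry Opposite TopologicalSpace

namespace Groth.Agent.Helper13.DirImgSigma

section Abstract

open CoproductsFromFiniteFiltered

variable {𝒜 : Type u₁} [Category.{v₁} 𝒜] {ℬ : Type u₂} [Category.{v₂} ℬ] (G : 𝒜 ⥤ ℬ)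
  {ι : Type w} (F : ι → 𝒜)

set_option backward.isDefEq.respectTransparency false in
/-- a functor preserving finite coproducts and the filtered colimit of finite subcoproducts preserves the
coproduct -/
theorem isIso_sigmaComparison_of_finite_of_filtered [HasFiniteCoproducts 𝒜] [HasCoproduct F]
    [HasColimitsOfShape (Finset (Discrete ι)) 𝒜] [HasCoproduct fun i => G.obj (F i)]
    [HasFiniteCoproducts ℬ]
    [PreservesFiniteCoproducts G] [PreservesColimitsOfShape (Finset (Discrete ι)) G] :
    IsIso (sigmaComparison G F) := by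
  let c := finiteSubcoproductsCocone F
  have hc : IsColimit (G.mapCocone c) := isColimitOfPreserves G (isColimitFiniteSubproductsCocone F)
  let fS : ∀ S : Finset (Discrete ι), S → 𝒜 := fun S x => F x.1.as
  -- legs of the cocone to the coproduct of the images
  let a : ∀ S : Finset (Discrete ι), G.obj (∐ fS S) ⟶ ∐ fun i => G.obj (F i) :=
    fun S => inv (sigmaComparison G (fS S)) ≫
      Sigma.desc (fun x : S => Sigma.ι (fun i => G.obj (F i)) x.1.as)
  have ha : ∀ (S : Finset (Discrete ι)) (x : S),
      G.map (Sigma.ι (fS S) x) ≫ a S = Sigma.ι (fun i => G.obj (F i)) x.1.as := by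
    intro S x
    show G.map (Sigma.ι (fS S) x) ≫ inv (sigmaComparison G (fS S)) ≫ _ = _
    rw [map_ι_comp_inv_sigmaComparison_assoc]
    exact Sigma.ι_desc _ _
  have hext : ∀ (S : Finset (Discrete ι)) {T : ℬ} (p q : G.obj (∐ fS S) ⟶ T),
      (∀ x : S, G.map (Sigma.ι (fS S) x) ≫ p = G.map (Sigma.ι (fS S) x) ≫ q) → p = q := by
    intro S T p q h
    rw [← cancel_epi (sigmaComparison G (fS S))]
    apply Sigma.hom_ext
    intro x
    rw [ι_comp_sigmaComparison_assoc, ι_comp_sigmaComparison_assoc]
    exact h x
  have hcι : ∀ (S : Finset (Discrete ι)) (x : S),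
      Sigma.ι (fS S) x ≫ c.ι.app S = Sigma.ι F x.1.as := by
    intro S x
    exact Sigma.ι_desc _ _
  have hmap : ∀ {S S' : Finset (Discrete ι)} (h : S ⟶ S') (x : S),
      Sigma.ι (fS S) x ≫ (liftToFinsetObj (Discrete.functor F)).map h =
        Sigma.ι (fS S') ⟨x.1, h.down.down x.2⟩ := by
    intro S S' h x
    exact Sigma.ι_desc _ _
  let t : Cocone (liftToFinsetObj (Discrete.functor F) ⋙ G) :=
    { pt := ∐ fun i => G.obj (F i)
      ι :=
        { app := fun S => a S
          naturality := by
            intro S S' h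
            apply hext S
            intro x
            show G.map (Sigma.ι (fS S) x) ≫ G.map ((liftToFinsetObj (Discrete.functor F)).map h) ≫
              a S' = G.map (Sigma.ι (fS S) x) ≫ a S ≫ 𝟙 _
            rw [← G.map_comp_assoc, hmap, ha, Category.comp_id, ha] } }
  have hfac : ∀ S : Finset (Discrete ι), G.map (c.ι.app S) ≫ hc.desc t = a S := fun S => hc.fac t S
  refine ⟨⟨hc.desc t, ?_, ?_⟩⟩
  · apply Sigma.hom_ext
    intro i
    rw [ι_comp_sigmaComparison_assoc, Category.comp_id]
    let S : Finset (Discrete ι) := {⟨i⟩}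
    let x : S := ⟨⟨i⟩, Finset.mem_singleton_self _⟩
    have h1 : Sigma.ι F i = Sigma.ι (fS S) x ≫ c.ι.app S := (hcι S x).symm
    rw [h1, G.map_comp, Category.assoc, hfac, ha]
  · apply hc.hom_ext
    intro S
    show G.map (c.ι.app S) ≫ hc.desc t ≫ sigmaComparison G F = G.map (c.ι.app S) ≫ 𝟙 _
    rw [reassoc_of% (hfac S), Category.comp_id]
    apply hext S
    intro x
    rw [reassoc_of% (ha S x), ι_comp_sigmaComparison, ← G.map_comp, hcι]

/-- compatibility of the comparison maps for a composite functor -/
lemma sigmaComparison_comp {𝒞 : Type*} [Category 𝒞] (H : ℬ ⥤ 𝒞) [HasCoproduct F]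
    [HasCoproduct fun i => G.obj (F i)] [HasCoproduct fun i => H.obj (G.obj (F i))]
    [HasCoproduct fun i => (G ⋙ H).obj (F i)] :
    sigmaComparison (G ⋙ H) F =
      sigmaComparison H (fun i => G.obj (F i)) ≫ H.map (sigmaComparison G F) := by
  apply Sigma.hom_ext
  intro i
  have h1 : Sigma.ι (fun b => H.obj (G.obj (F b))) i ≫ sigmaComparison H (fun i => G.obj (F i)) ≫
      H.map (sigmaComparison G F) = H.map (G.map (Sigma.ι F i)) := by
    rw [ι_comp_sigmaComparison_assoc, ← H.map_comp, ι_comp_sigmaComparison]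
  have h2 : Sigma.ι (fun b => (G ⋙ H).obj (F b)) i ≫ sigmaComparison (G ⋙ H) F =
      (G ⋙ H).map (Sigma.ι F i) := ι_comp_sigmaComparison (G ⋙ H) F i
  exact h2.trans h1.symm

end Abstract

section Main

open Groth.Agent.Helper13.ToAbExact Groth.Agent.Helper13.DirImgColim

variable {X S : Scheme.{u}} (f : X ⟶ S)

theorem isIso_sigmaComparison_pushAb [IsAffineHom f] {ι : Type u}
    (A : ι → Sheaf (Opens.grothendieckTopology X) AddCommGrpCat.{u}) :
    IsIso (sigmaComparison (Coh.pushAb f) A) := by
  have : PreservesColimitsOfShape (Finset (Discrete ι)) (Coh.pushAb f) :=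
    ⟨fun {D} => preservesColimit_pushAb f D⟩
  exact isIso_sigmaComparison_of_finite_of_filtered (Coh.pushAb f) A

theorem isIso_sigmaComparison_dirImg [IsAffineHom f] {ι : Type u} (F : ι → X.Modules) :
    IsIso (sigmaComparison (AMod.dirImg f) F) := by
  let US := SheafOfModules.toSheaf (AMod.ringSheaf (RelSpec.QCAlg.directImage f))
  suffices h : IsIso (US.map (sigmaComparison (AMod.dirImg f) F)) from isIso_of_reflects_iso _ US
  have h1 := sigmaComparison_comp (AMod.dirImg f) F US
  -- the composite preserves the coproduct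
  have : PreservesColimitsOfSize.{u, u} (toAbF X) :=
    inferInstanceAs (PreservesColimitsOfSize.{u, u} (SheafOfModules.toSheaf X.ringCatSheaf))
  have : IsIso (sigmaComparison (Coh.pushAb f) (fun i => (toAbF X).obj (F i))) :=
    isIso_sigmaComparison_pushAb f _
  have h5 : PreservesColimit (Discrete.functor fun i => (toAbF X).obj (F i)) (Coh.pushAb f) :=
    PreservesCoproduct.of_iso_comparison _ _
  have : PreservesColimit (Discrete.functor ((toAbF X).obj ∘ F)) (Coh.pushAb f) := h5
  have : PreservesColimit (Discrete.functor F ⋙ toAbF X) (Coh.pushAb f) :=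
    preservesColimit_of_iso_diagram _ (Discrete.compNatIsoDiscrete F (toAbF X)).symm
  have : PreservesColimit (Discrete.functor F) (toAbF X ⋙ Coh.pushAb f) := comp_preservesColimit _ _
  have : PreservesColimit (Discrete.functor F) (AMod.dirImg f ⋙ US) :=
    preservesColimit_of_natIso _ (dirImgToAb f).symm
  have h2 : IsIso (sigmaComparison (AMod.dirImg f ⋙ US) F) := inferInstance
  have h3 : IsIso (sigmaComparison US (fun i => (AMod.dirImg f).obj (F i))) := inferInstance
  have h4 : US.map (sigmaComparison (AMod.dirImg f) F) =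
      inv (sigmaComparison US (fun i => (AMod.dirImg f).obj (F i))) ≫
        sigmaComparison (AMod.dirImg f ⋙ US) F := by
    rw [h1, IsIso.inv_hom_id_assoc]
  rw [h4]
  infer_instance

end Main

end Groth.Agent.Helper13.DirImgSigma
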