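import Mathlib
import Groth.Prelude.Def_RDer

universe v₁ v₂ v₃ u₁ u₂ u₃
set_option linter.unusedSectionVars false
open CategoryTheory CategoryTheory.Limits HomologicalComplex

namespace Groth.Agent.Helper13.EdgeInIso

variable {A : Type u₁} [Category.{v₁} A] [Abelian A] [HasInjectiveResolutions A]
  {B : Type u₂} [Category.{v₂} B] [Abelian B] [HasInjectiveResolutions B]
  {C : Type u₃} [Category.{v₃} C] [Abelian C]
  (Φ : A ⥤ B) [Φ.Additive] [Φ.PreservesInjectiveObjects] [PreservesFiniteLimits Φ]
  (Ψ : B ⥤ C) [Ψ.Additive]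

/-- the image under `Φ` of the chosen injective resolution of a `Φ`-acyclic object is an injective
resolution -/
noncomputable def imgRes (X : A) (h : ∀ q : ℕ, IsZero ((Φ.rightDerived (q + 1)).obj X)) :
    InjectiveResolution (Φ.obj X) where
  cocomplex := (Φ.mapHomologicalComplex _).obj (injectiveResolution X).cocomplex
  injective n := Φ.injective_obj _
  ι := RDer.mapAug Φ (injectiveResolution X).ι
  quasiIso := ⟨fun n => by
    cases n with
    | zero =>
      rw [CochainComplex.quasiIsoAt₀_iff,
        ShortComplex.quasiIso_iff_of_zeros _ (by simp; rfl) (by simp; rfl) (by simp; rfl)]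
      let e : ((CochainComplex.single₀ B).obj (Φ.obj X)).X 0 ≅
          Φ.obj (((CochainComplex.single₀ A).obj X).X 0) :=
        (HomologicalComplex.eval _ _ 0).mapIso
          ((HomologicalComplex.singleMapHomologicalComplex Φ (ComplexShape.up ℕ) 0).symm.app X)
      refine (ShortComplex.exact_and_mono_f_iff_of_iso (S₂ := ShortComplex.mk
        (Φ.map ((injectiveResolution X).ι.f 0)) (Φ.map ((injectiveResolution X).cocomplex.d 0 1))
        (by rw [← Φ.map_comp, InjectiveResolution.ι_f_zero_comp_complex_d, Φ.map_zero])) ?_).2 ?_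
      · exact ShortComplex.isoMk e (Iso.refl _) (Iso.refl _) (by simp [e, RDer.mapAug]; erw [Category.comp_id]; rfl) (by simp; erw [Category.id_comp, Category.comp_id])
      · rw [ShortComplex.exact_and_mono_f_iff_f_is_kernel]
        exact ⟨KernelFork.mapIsLimit _ ((injectiveResolution X).isLimitKernelFork) Φ⟩
    | succ n =>
      rw [quasiIsoAt_iff_exactAt]
      · rw [exactAt_iff_isZero_homology]
        exact IsZero.of_iso (h n) ((injectiveResolution X).isoRightDerivedObj Φ (n + 1)).symm
      · apply CochainComplex.exactAt_succ_single_obj⟩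

/-- the first edge map is an isomorphism on `Φ`-acyclic objects -/
theorem isIso_edgeIn (q : ℕ) (X : A) (h : ∀ q : ℕ, IsZero ((Φ.rightDerived (q + 1)).obj X)) :
    IsIso (RDer.edgeIn Φ Ψ q X) := by
  let J := injectiveResolution (Φ.obj X)
  let R := imgRes Φ X h
  let d : J.cocomplex ⟶ R.cocomplex :=
    RDer.descToInjectives (𝟙 (Φ.obj X)) J.cocomplex J.ι R.cocomplex R.ι
  have hcomm : J.ι ≫ d = (CochainComplex.single₀ B).map (𝟙 (Φ.obj X)) ≫ R.ι := by
    apply HomologicalComplex.from_single_hom_ext
    rw [HomologicalComplex.comp_f, RDer.ι_descToInjectives_f_zero]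
    simp
  let d' : R.cocomplex ⟶ J.cocomplex := InjectiveResolution.desc (𝟙 (Φ.obj X)) J R
  have hcomm' : R.ι ≫ d' = (CochainComplex.single₀ B).map (𝟙 (Φ.obj X)) ≫ J.ι :=
    InjectiveResolution.desc_commutes _ _ _
  have h1 : Homotopy (d ≫ d') (𝟙 _) :=
    InjectiveResolution.descHomotopy (𝟙 (Φ.obj X)) _ _
      (by rw [← Category.assoc, hcomm, Category.assoc, hcomm']; simp) (by simp)
  have h2 : Homotopy (d' ≫ d) (𝟙 _) :=
    InjectiveResolution.descHomotopy (𝟙 (Φ.obj X)) _ _
      (by rw [← Category.assoc, hcomm', Category.assoc, hcomm]; simp) (by simp)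
  let e : HomotopyEquiv J.cocomplex R.cocomplex := ⟨d, d', h1, h2⟩
  have hiso : IsIso ((HomologicalComplex.homologyFunctor C _ q).map
      ((Ψ.mapHomologicalComplex _).map d)) :=
    ((Ψ.mapHomotopyEquiv e).toHomologyIso q).isIso_hom
  unfold RDer.edgeIn
  exact @IsIso.comp_isIso _ _ _ _ _ _ _ inferInstance
    (@IsIso.comp_isIso _ _ _ _ _ _ _ hiso inferInstance)

end Groth.Agent.Helper13.EdgeInIso
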