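import Mathlib
import Groth.Prelude.Def_CohTop
import Groth.Agent.Lib.Helper24.Flasque
import Groth.Agent.Lib.Helper13.ProfiniteAcyc

set_option autoImplicit false
set_option linter.unusedSectionVars false
universe u
open CategoryTheory CategoryTheory.Limits TopologicalSpace Opposite

namespace Groth.Agent.Helper13.H1Push

open Groth.Agent.Helper24.Flasque Abelian

variable {U X : TopCat.{u}} (f : U ⟶ X)

/-- surjectivity on global sections of a short exact sequence with vanishing `H¹` of the kernel -/
lemma app_top_surjective (S : ShortComplex (CohTop.Ab X)) (hS : S.ShortExact)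
    (h1 : Subsingleton (CohTop.H S.X₁ 1)) :
    Function.Surjective (S.g.hom.app (op ⊤)) := by
  intro t
  let T : (Opens X) := ⊤
  have hT : IsTerminal T := isTerminalTop
  let x₃ : Sheaf.H S.X₃ 0 := (Sheaf.H.equiv₀ S.X₃ hT).symm t
  obtain ⟨x₂, hx₂⟩ := Ext.covariant_sequence_exact₃ _ hS x₃ (n₁ := 1) rfl
    (Subsingleton.elim (α := Sheaf.H S.X₁ 1) _ _)
  refine ⟨Sheaf.H.equiv₀ S.X₂ hT x₂, ?_⟩
  have hnat := Sheaf.H.equiv₀_naturality hT S.g x₂
  have h2 : Sheaf.H.map S.g 0 x₂ = x₃ := hx₂
  rw [h2] at hnat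
  refine Eq.trans ?_ (hnat.trans ?_)
  · rfl
  · exact (Sheaf.H.equiv₀ S.X₃ hT).apply_symm_apply t

/-- `H¹` vanishes if `H¹` of the middle term vanishes and global sections are right exact -/
lemma H1_subsingleton_of_surjective (S : ShortComplex (CohTop.Ab X)) (hS : S.ShortExact)
    (h2 : Subsingleton (CohTop.H S.X₂ 1)) (hsurj : Function.Surjective (S.g.hom.app (op ⊤))) :
    Subsingleton (CohTop.H S.X₁ 1) := by
  refine subsingleton_of_forall_eq 0 fun x => ?_
  obtain ⟨x₃, hx₃⟩ := Ext.covariant_sequence_exact₁ _ hS (n₁ := 1) x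
    (Subsingleton.elim (α := CohTop.H S.X₂ 1) _ _) (n₀ := 0) rfl
  let T : Opens X := ⊤
  have hT : IsTerminal T := isTerminalTop
  obtain ⟨s, hs⟩ := hsurj (Sheaf.H.equiv₀ S.X₃ hT x₃)
  have h2 : Sheaf.H.map S.g 0 ((Sheaf.H.equiv₀ S.X₂ hT).symm s) = x₃ := by
    rw [Sheaf.H.equiv₀_symm_naturality, hs, AddEquiv.symm_apply_apply]
  have h3 : ((Sheaf.H.equiv₀ S.X₂ hT).symm s).comp (Ext.mk₀ S.g) (add_zero 0) = x₃ := h2
  rw [← hx₃, ← h3, Ext.comp_assoc_of_second_deg_zero, hS.comp_extClass, Ext.comp_zero]

/-- injectivity on sections of a monomorphism of abelian sheaves -/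
lemma app_injective_of_mono {F G : CohTop.Ab X} (m : F ⟶ G) [Mono m] (V : Opens X) :
    Function.Injective (m.hom.app (op V)) := by
  have h1 : Mono ((sheafToPresheaf _ _).map m) := inferInstance
  have h2 : Mono (((sheafToPresheaf _ _).map m).app (op V)) := inferInstance
  exact (AddCommGrpCat.mono_iff_injective _).1 h2

/-- the canonical short exact sequence embedding `F` into an injective -/
noncomputable def injSC (F : CohTop.Ab U) : ShortComplex (CohTop.Ab U) :=
  ShortComplex.mk (Injective.ι F) (cokernel.π (Injective.ι F)) (cokernel.condition _)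

lemma injSC_shortExact (F : CohTop.Ab U) : (injSC F).ShortExact :=
  ShortComplex.ShortExact.mk' (ShortComplex.exact_of_g_is_cokernel _ (cokernelIsCokernel _))
    (inferInstanceAs (Mono (Injective.ι F))) (inferInstanceAs (Epi (cokernel.π (Injective.ι F))))

/-- if `H¹(U, G) = 0` then `H¹(X, f_* G) = 0` -/
theorem H1_push_subsingleton (G : CohTop.Ab U) (h : Subsingleton (CohTop.H G 1)) :
    Subsingleton (CohTop.H ((CohTop.push f).obj G) 1) := by
  have hS := injSC_shortExact G
  haveI := hS.mono_f
  haveI hinj : Injective (injSC G).X₂ := inferInstanceAs (Injective (Injective.under G))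
  -- the pushed-forward sequence is left exact
  have hex : ((injSC G).map (CohTop.push f)).Exact :=
    hS.exact.map_of_mono_of_preservesKernel (CohTop.push f) inferInstance inferInstance
  let a := (CohTop.push f).map (injSC G).f
  haveI : Mono a := inferInstanceAs (Mono ((CohTop.push f).map (injSC G).f))
  let S' : ShortComplex (CohTop.Ab X) := ShortComplex.mk a (cokernel.π a) (cokernel.condition a)
  have hS' : S'.ShortExact :=
    ShortComplex.ShortExact.mk' (ShortComplex.exact_of_g_is_cokernel _ (cokernelIsCokernel a))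
      (inferInstanceAs (Mono a)) (inferInstanceAs (Epi (cokernel.π a)))
  let m : cokernel a ⟶ (CohTop.push f).obj (injSC G).X₃ :=
    cokernel.desc a ((CohTop.push f).map (injSC G).g) ((injSC G).map (CohTop.push f)).zero
  haveI : Mono m := hex.mono_cokernelDesc
  -- the middle term is flasque
  haveI hfl : TopCat.Sheaf.IsFlasque (injSC G).X₂ := @isFlasque_of_injective _ _ hinj
  have hfl' : TopCat.Sheaf.IsFlasque ((CohTop.push f).obj (injSC G).X₂) :=
    @TopCat.Sheaf.IsFlasque.pushforward_isFlasque U AddCommGrpCat.{u} _ X (injSC G).X₂ hfl f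
  have h2 : Subsingleton (CohTop.H S'.X₂ 1) := H_succ_subsingleton 0 _ hfl'
  refine H1_subsingleton_of_surjective S' hS' h2 ?_
  intro t
  -- view `t` as a section of `Q` over `U`
  have hsurj := app_top_surjective (injSC G) hS h
  obtain ⟨j, hj⟩ := hsurj (m.hom.app (op ⊤) t)
  refine ⟨j, ?_⟩
  apply app_injective_of_mono m ⊤
  have h3 : cokernel.π a ≫ m = (CohTop.push f).map (injSC G).g := cokernel.π_desc _ _ _
  have h4 := congr($(h3).hom.app (op ⊤) j)
  exact h4.trans hj

end Groth.Agent.Helper13.H1Push
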