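import Mathlib
import Groth.Prelude.Def_CohPull
import Groth.Agent.Lib.Helper13.PushEdge
import Groth.Agent.Lib.Helper13.H1Push

universe u
set_option linter.unusedSectionVars false
open CategoryTheory CategoryTheory.Limits Opposite TopologicalSpace Abelian

namespace Groth.Agent.Helper13.EdgeInj

open Groth.Agent.Helper24.CechH Groth.Agent.Helper24.CechInj Groth.Agent.Helper24.Flasque
  Groth.Agent.Helper24 Groth.Agent.Helper13.LerayZero Groth.Agent.Helper13.PushEdge
  Groth.Agent.Helper13.H1Push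

variable {X Y : TopCat.{u}} (f : X ⟶ Y)

/-- pull a class on `Y` back to `X` along `ψ : f⁻¹B ⟶ A` -/
noncomputable def pullAlong {B : CohTop.Ab Y} {A : CohTop.Ab X} (ψ : (CohPull.inv f).obj B ⟶ A)
    (p : ℕ) : Sheaf.H B p →+ Sheaf.H A p :=
  (Sheaf.H.map ψ p).comp (CohPull.pullAb f B p)

lemma pullAlong_apply {B : CohTop.Ab Y} {A : CohTop.Ab X} (ψ : (CohPull.inv f).obj B ⟶ A)
    (p : ℕ) (x : Sheaf.H B p) :
    pullAlong f ψ p x =
      ((Ext.mk₀ (CohPull.oneTo f)).comp (x.mapExactFunctor (CohPull.inv f)) (zero_add p)).comp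
        (Ext.mk₀ ψ) (add_zero p) := rfl

lemma edgeAb_eq (A : CohTop.Ab X) (p : ℕ) (x : Sheaf.H ((CohTop.push f).obj A) p) :
    edgeAb f A p x = pullAlong f ((CohPull.invPushAdj f).counit.app A) p x := rfl

lemma pullAlong_precomp {B B' : CohTop.Ab Y} {A : CohTop.Ab X} (m : B ⟶ B')
    (ψ : (CohPull.inv f).obj B' ⟶ A) (p : ℕ) (x : Sheaf.H B p) :
    pullAlong f ((CohPull.inv f).map m ≫ ψ) p x = pullAlong f ψ p (Sheaf.H.map m p x) := by
  rw [pullAlong_apply, pullAlong_apply, Sheaf.H.map_apply, Ext.mapExactFunctor_comp,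
    Ext.mapExactFunctor_mk₀]
  simp only [Ext.comp_assoc_of_third_deg_zero, Ext.mk₀_comp_mk₀]

lemma pullAlong_δ (S' : ShortComplex (CohTop.Ab Y)) (hS' : S'.ShortExact)
    (S : ShortComplex (CohTop.Ab X)) (hS : S.ShortExact)
    (φ : S'.map (CohPull.inv f) ⟶ S) (p : ℕ) (x : Ext (constZ Y) S'.X₃ p) :
    pullAlong f φ.τ₁ (p + 1) (x.comp hS'.extClass rfl) =
      (pullAlong f φ.τ₃ p x).comp hS.extClass rfl := by
  have h := ShortComplex.ShortExact.extClass_naturality (hS'.map_of_exact (CohPull.inv f)) hS φ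
  have h1 : (x.comp hS'.extClass rfl).mapExactFunctor (CohPull.inv f) =
      (x.mapExactFunctor (CohPull.inv f)).comp (hS'.map_of_exact (CohPull.inv f)).extClass rfl := by
    rw [Ext.mapExactFunctor_comp, Ext.mapExactFunctor_extClass]
    rfl
  refine (pullAlong_apply f φ.τ₁ (p + 1) _).trans ?_
  refine (congrArg (fun z => ((Ext.mk₀ (CohPull.oneTo f)).comp z (zero_add (p + 1))).comp
        (Ext.mk₀ φ.τ₁) (add_zero (p + 1))) h1).trans ?_
  refine Eq.trans ?_ (congrArg (fun z => z.comp hS.extClass rfl) (pullAlong_apply f φ.τ₃ p x)).symm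
  exact assoc_aux _ _ _ _ _ _ h

end Groth.Agent.Helper13.EdgeInj
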