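import Mathlib
import Groth.Prelude.Def_CohPull
import Groth.Agent.Lib.Helper13.EdgeInj1

universe u
set_option linter.unusedSectionVars false
open CategoryTheory CategoryTheory.Limits Opposite TopologicalSpace Abelian

namespace Groth.Agent.Helper13.EdgeInj

open Groth.Agent.Helper24.CechH Groth.Agent.Helper24.CechInj Groth.Agent.Helper24.Flasque
  Groth.Agent.Helper24 Groth.Agent.Helper13.LerayZero Groth.Agent.Helper13.PushEdge
  Groth.Agent.Helper13.H1Push

variable {X Y : TopCat.{u}} (f : X ⟶ Y)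

/-- the edge map `H¹(Y, f_* G) → H¹(X, G)` is injective -/
theorem edgeAb_one_injective (G : CohTop.Ab X) : Function.Injective (edgeAb f G 1) := by
  rw [injective_iff_map_eq_zero]
  intro x hx
  have hS := injSC_shortExact G
  haveI := hS.mono_f
  haveI hinj : Injective (injSC G).X₂ := inferInstanceAs (Injective (Injective.under G))
  have hex : ((injSC G).map (CohTop.push f)).Exact :=
    hS.exact.map_of_mono_of_preservesKernel (CohTop.push f) inferInstance inferInstance
  let a := (CohTop.push f).map (injSC G).f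
  haveI : Mono a := inferInstanceAs (Mono ((CohTop.push f).map (injSC G).f))
  let S' : ShortComplex (CohTop.Ab Y) := ShortComplex.mk a (cokernel.π a) (cokernel.condition a)
  have hS' : S'.ShortExact :=
    ShortComplex.ShortExact.mk' (ShortComplex.exact_of_g_is_cokernel _ (cokernelIsCokernel a))
      (inferInstanceAs (Mono a)) (inferInstanceAs (Epi (cokernel.π a)))
  let m : cokernel a ⟶ (CohTop.push f).obj (injSC G).X₃ :=
    cokernel.desc a ((CohTop.push f).map (injSC G).g) ((injSC G).map (CohTop.push f)).zero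
  haveI : Mono m := hex.mono_cokernelDesc
  have hπm : cokernel.π a ≫ m = (CohTop.push f).map (injSC G).g := cokernel.π_desc _ _ _
  haveI hfl : TopCat.Sheaf.IsFlasque (injSC G).X₂ := @isFlasque_of_injective _ _ hinj
  have hfl' : TopCat.Sheaf.IsFlasque ((CohTop.push f).obj (injSC G).X₂) :=
    @TopCat.Sheaf.IsFlasque.pushforward_isFlasque X AddCommGrpCat.{u} _ Y (injSC G).X₂ hfl f
  have h2 : Subsingleton (CohTop.H S'.X₂ 1) := H_succ_subsingleton 0 _ hfl'
  obtain ⟨x₃, hx₃⟩ := Ext.covariant_sequence_exact₁ _ hS' (n₁ := 1) x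
    (Subsingleton.elim (α := CohTop.H S'.X₂ 1) _ _) (n₀ := 0) rfl
  let φ : S'.map (CohPull.inv f) ⟶ injSC G :=
    { τ₁ := (CohPull.invPushAdj f).counit.app (injSC G).X₁
      τ₂ := (CohPull.invPushAdj f).counit.app (injSC G).X₂
      τ₃ := (CohPull.inv f).map m ≫ (CohPull.invPushAdj f).counit.app (injSC G).X₃
      comm₁₂ := ((CohPull.invPushAdj f).counit.naturality (injSC G).f).symm
      comm₂₃ := by
        have h1 := (CohPull.invPushAdj f).counit.naturality (injSC G).g
        show _ = (CohPull.inv f).map (cokernel.π a) ≫ (CohPull.inv f).map m ≫ _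
        rw [← Category.assoc, ← Functor.map_comp, hπm]
        exact h1.symm }
  have e1 := pullAlong_δ f S' hS' (injSC G) hS φ 0 x₃
  have e1' : (pullAlong f φ.τ₃ 0 x₃).comp hS.extClass rfl = 0 := by
    rw [← e1]
    have : x₃.comp hS'.extClass rfl = x := hx₃
    rw [this]
    exact hx
  obtain ⟨y₂, hy₂⟩ := Ext.covariant_sequence_exact₃ _ hS (pullAlong f φ.τ₃ 0 x₃) rfl e1'
  obtain ⟨z₂, rfl⟩ := (edgeAb_zero_bijective f (injSC G).X₂).2 y₂
  have e2 := edgeAb_natural f (injSC G).g 0 z₂
  have e3 := pullAlong_precomp f m ((CohPull.invPushAdj f).counit.app (injSC G).X₃) 0 x₃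
  have e4 : Sheaf.H.map ((CohTop.push f).map (injSC G).g) 0 z₂ = Sheaf.H.map m 0 x₃ := by
    apply (edgeAb_zero_bijective f (injSC G).X₃).1
    refine e2.trans ?_
    refine Eq.trans ?_ (e3.trans (edgeAb_eq f _ 0 _).symm)
    exact hy₂
  have e5 : Sheaf.H.map (cokernel.π a) 0 z₂ = x₃ := by
    apply Ext.postcomp_mk₀_injective_of_mono _ m
    show Sheaf.H.map m 0 (Sheaf.H.map (cokernel.π a) 0 z₂) = Sheaf.H.map m 0 x₃
    rw [← Sheaf.H.map_comp_apply, hπm]
    exact e4
  rw [← hx₃, ← e5]
  show ((z₂.comp (Ext.mk₀ S'.g) (add_zero 0)).comp hS'.extClass rfl) = 0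
  rw [Ext.comp_assoc_of_second_deg_zero, hS'.comp_extClass, Ext.comp_zero]

end Groth.Agent.Helper13.EdgeInj
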