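import Mathlib
import Groth.Prelude.Def_Coh
import Groth.Prelude.Def_ClSub2
import Groth.Agent.Lib.Helper13.EdgeInj2
import Groth.Agent.Lib.Helper13.PushEdgeSch
import Groth.Agent.Lib.Helper13.FinProj7
import Groth.Agent.Lib.Helper13.CohRoof
import Groth.Agent.Lib.Helper26.HomVan

universe u
open CategoryTheory CategoryTheory.Limits AlgebraicGeometry Opposite TopologicalSpace

namespace Groth.Agent.Helper13.EdgeInj

variable {X Y : Scheme.{u}} (f : X ⟶ Y)

theorem pushEdge_one_injective (G : X.Modules) :
    Function.Injective (CohPull.pushEdge f G 1) := by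
  have e : (CohPull.pushEdge f G 1 : _ → _) =
      Groth.Agent.Helper13.PushEdge.edgeAb f.base (Coh.toAb G) 1 :=
    funext (Groth.Agent.Helper13.PushEdgeSch.pushEdge_eq f G 1)
  rw [e]
  exact edgeAb_one_injective f.base (Coh.toAb G)

theorem isIso_unitToPush (h : ∀ V : Y.Opens, IsIso (f.app V)) : IsIso (ClSub.unitToPush f) := by
  rw [Scheme.Modules.Hom.isIso_iff_isIso_app]
  intro U
  rw [ConcreteCategory.isIso_iff_bijective]
  haveI := h U
  exact (ConcreteCategory.isIso_iff_bijective (f.app U)).mp inferInstance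

theorem main14837 (k : Type u) [Field k] (X Y : Scheme.{u})
    [X.Over (Spec (CommRingCat.of k))] [Y.Over (Spec (CommRingCat.of k))]
    [IsProper (X ↘ Spec (CommRingCat.of k))] [IsProper (Y ↘ Spec (CommRingCat.of k))]
    (f : X ⟶ Y) (hf : f ≫ (Y ↘ Spec (CommRingCat.of k)) = X ↘ Spec (CommRingCat.of k))
    (hfib : ∀ V : Y.Opens, IsIso (f.app V)) :
    Module.finrank k (Coh.HH Y (Coh.structureModule Y) 1) ≤
      Module.finrank k (Coh.HH X (Coh.structureModule X) 1) := by
  haveI := isIso_unitToPush f hfib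
  rw [Groth.Agent.Helper26.HomVan.finrank_HH_of_iso k (asIso (ClSub.unitToPush f)) 1]
  haveI : Module.Finite k (Coh.HH X (Coh.structureModule X) 1) :=
    Groth.Agent.Helper13.FinProj.finite_HH_of_isProper k X _
      (Groth.Agent.Helper13.CohRoof.isCoh_structureModule X) 1
  exact LinearMap.finrank_le_finrank_of_injective
    (f := Groth.Agent.Helper13.FinProj.pushEdgeLin f k hf (Coh.structureModule X) 1)
    (pushEdge_one_injective f _)

end Groth.Agent.Helper13.EdgeInj
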