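import Mathlib
import Groth.Prelude.Def_CxOX
import Groth.Agent.Lib.Helper13.IdealGen2
import Groth.Agent.Lib.Helper13.EpiStalk
import Groth.Agent.Lib.Helper13.ExtSheaf
import Groth.Agent.Lib.Helper5.SkyMod2

set_option autoImplicit false
set_option maxHeartbeats 400000
universe u
open CategoryTheory CategoryTheory.Limits AlgebraicGeometry Opposite TopologicalSpace
open Groth.Agent.Helper13.QCoh Groth.Agent.Helper13.FinType Groth.Agent.Helper5

namespace Groth.Agent.Helper13.ExtZeroNoeth

variable {U X : Scheme.{u}} (j : U ⟶ X) [IsOpenImmersion j]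

instance isIso_extZeroAdj_unit : IsIso (CxOX.extZeroAdj j).unit := by
  let t : Adjunction.Triple (CxOX.extZero j) (Scheme.Modules.restrictFunctor j)
      (Scheme.Modules.pushforward j) := ⟨CxOX.extZeroAdj j, Scheme.Modules.restrictAdjunction j⟩
  exact t.isIso_unit_iff_isIso_counit.2 inferInstance

/-- stalks of `j_! M` vanish outside the image of `j`. -/
theorem subsingleton_stalk_extZero (M : U.Modules) (x : X) (hx : x ∉ Set.range j) :
    Subsingleton (((CxOX.extZero j).obj M).presheaf.stalk x) := by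
  obtain ⟨N, hN⟩ : ∃ N : X.Modules, N = (CxOX.extZero j).obj M := ⟨_, rfl⟩
  rw [← hN]
  have hT : IsZero ((Scheme.Modules.restrictFunctor j).obj (Sky.sky x (Sky.St x N))) := by
    rw [isZero_iff_sections]
    intro V
    refine ⟨fun a b => ?_⟩
    funext h
    exact absurd (Set.image_subset_range _ _ h.down) hx
  have hzero : Sky.unitHom x N = 0 := by
    subst hN
    apply ((CxOX.extZeroAdj j).homEquiv M (Sky.sky x (Sky.St x _))).injective
    exact hT.eq_of_tgt _ _
  have h0 : ∀ a : N.presheaf.stalk x, a = 0 := by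
    intro a
    obtain ⟨V, hxV, s, rfl⟩ := TopCat.Presheaf.exists_germ_eq N.presheaf a
    have h1 := Sky.unitHom_app_apply x N V s ⟨hxV⟩
    rw [hzero] at h1
    exact h1.symm
  exact ⟨fun a b => by rw [h0 a, h0 b]⟩

/-- if `M|_U = 0` then the stalks of `M` at points of `U` vanish. -/
theorem subsingleton_stalk_of_isZero_restrict (M : X.Modules)
    (hz : IsZero ((Scheme.Modules.restrictFunctor j).obj M)) (u : U) :
    Subsingleton (M.presheaf.stalk (j u)) := by
  have h0 : ∀ a : M.presheaf.stalk (j u), a = 0 := by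
    intro a
    obtain ⟨O, hxO, s, rfl⟩ := TopCat.Presheaf.exists_germ_eq M.presheaf a
    have hxO' : j u ∈ j ''ᵁ (j ⁻¹ᵁ O) := ⟨u, hxO, rfl⟩
    have hle : j ''ᵁ (j ⁻¹ᵁ O) ≤ O := j.image_preimage_le O
    have h1 := TopCat.Presheaf.germ_res_apply M.presheaf (homOfLE hle) (j u) hxO' s
    rw [← h1]
    haveI : Subsingleton Γ(M, j ''ᵁ (j ⁻¹ᵁ O)) :=
      (isZero_iff_sections _).1 hz (j ⁻¹ᵁ O)
    rw [Subsingleton.elim (M.presheaf.map (homOfLE hle).op s) 0, map_zero]
  exact ⟨fun a b => by rw [h0 a, h0 b]⟩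


/-- **`j_! O_U` is a noetherian object** for an affine open immersion into a locally noetherian
scheme: ascending chains of subobjects stabilize. -/
theorem main {U X : Scheme.{u}} [IsLocallyNoetherian X] [IsAffine U] (j : U ⟶ X)
    [IsOpenImmersion j] (c : ℕ →o Subobject (CxOX.extZeroUnit j)) :
    ∃ n : ℕ, ∀ m : ℕ, n ≤ m → c n = c m := by
  haveI : IsLocallyNoetherian U := isLocallyNoetherian_of_isOpenImmersion j
  haveI : IsNoetherian U := {}
  let R := Scheme.Modules.restrictFunctor j
  let Q : ℕ → X.Modules := fun n => ((c n : Subobject _) : X.Modules)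
  let a : ∀ n, Q n ⟶ CxOX.extZeroUnit j := fun n => (c n).arrow
  let e : Coh.structureModule U ≅ R.obj (CxOX.extZeroUnit j) :=
    asIso ((CxOX.extZeroAdj j).unit.app (Coh.structureModule U))
  let G : ℕ → U.Modules := fun n => R.obj (Q n)
  let ι : ∀ n, G n ⟶ Coh.structureModule U := fun n => R.map (a n) ≫ e.inv
  haveI hmonoι : ∀ n, Mono (ι n) := fun n => by
    haveI : Mono (R.map (a n)) := inferInstance
    exact mono_comp _ _
  let φ : ∀ n m (_ : n ≤ m), Q n ⟶ Q m := fun n m h => Subobject.ofLE _ _ (c.monotone h)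
  have hφ : ∀ n m h, φ n m h ≫ a m = a n := fun n m h => Subobject.ofLE_arrow _
  have hRφ : ∀ n m h, R.map (φ n m h) ≫ ι m = ι n := by
    intro n m h
    change R.map (φ n m h) ≫ R.map (a m) ≫ e.inv = R.map (a n) ≫ e.inv
    rw [← Category.assoc, ← R.map_comp, hφ n m h]
  have hmono : ∀ n m, n ≤ m → ∀ x : U, Groth.Agent.Helper13.IdealGen.Jr (G n) (ι n) x ≤
      Groth.Agent.Helper13.IdealGen.Jr (G m) (ι m) x := by
    intro n m h x
    rintro _ ⟨g, rfl⟩
    refine ⟨stalkMap (R.map (φ n m h)) x g, ?_⟩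
    rw [Groth.Agent.Helper13.IdealGen.jx_comp]
    simp only [hRφ n m h]
    rfl
  obtain ⟨N, hN⟩ := Groth.Agent.Helper13.IdealGen.chain_stabilizes G ι hmono
  refine ⟨N, fun m hm => ?_⟩
  haveI hmφ : Mono (φ N m hm) := mono_of_mono_fac (hφ N m hm)
  haveI hepiR : Epi (R.map (φ N m hm)) := by
    apply epi_of_stalkMap_surjective
    intro x g
    obtain ⟨g', hg'⟩ := hN m hm x ⟨g, rfl⟩
    refine ⟨g', ?_⟩
    apply Groth.Agent.Helper13.IdealGen.jx_injective (G m) (ι m) x
    rw [Groth.Agent.Helper13.IdealGen.jx_comp]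
    simp only [hRφ N m hm]
    exact hg'
  haveI hepi : Epi (φ N m hm) := by
    apply Abelian.epi_of_cokernel_π_eq_zero
    have hZ : IsZero (cokernel (φ N m hm)) := by
      rw [isZero_iff_stalk]
      intro x
      by_cases hx : x ∈ Set.range j
      · obtain ⟨u, rfl⟩ := hx
        apply subsingleton_stalk_of_isZero_restrict j
        exact IsZero.of_iso (isZero_cokernel_of_epi _) (PreservesCokernel.iso R (φ N m hm))
      · haveI h1 : Subsingleton ((CxOX.extZeroUnit j).presheaf.stalk x) :=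
          subsingleton_stalk_extZero j _ x hx
        have hinj := Groth.Agent.Helper13.Ext.stalkMap_injective_of_mono (a m) x
        have hsurj := stalkMap_surjective_of_epi (cokernel.π (φ N m hm)) x
        refine ⟨fun p q => ?_⟩
        obtain ⟨p', rfl⟩ := hsurj p
        obtain ⟨q', rfl⟩ := hsurj q
        rw [hinj (Subsingleton.elim (stalkMap (a m) x p') (stalkMap (a m) x q'))]
    exact hZ.eq_of_tgt _ _
  haveI : IsIso (φ N m hm) := isIso_of_mono_of_epi _
  exact Subobject.eq_of_comm (asIso (φ N m hm)) (hφ N m hm)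

end Groth.Agent.Helper13.ExtZeroNoeth
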