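import Mathlib
import Groth.Prelude.Def_Curv2
import Groth.Agent.Lib.Helper13.FieldBC6
import Groth.Agent.Lib.Helper13.PbUnit
import Groth.Agent.Lib.Helper13.CohRoof
import Groth.Agent.Lib.Helper26.HomVan
import Groth.Agent.Lib.Helper5.FPC1
import Groth.Prelude.Def_FlatMod2
import Groth.Prelude.Def_Twist2
import Groth.Agent.Lib.Helper26.PnCoh2
import Groth.Agent.Lib.Helper13.TensorQCoh
import Groth.Agent.Lib.Helper15.ProjSpaceProper

/-!
# Base change of cohomology along a field extension: the structure sheaf, genus, degree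
-/

set_option autoImplicit false
set_option maxRecDepth 8000
universe u
open CategoryTheory CategoryTheory.Limits AlgebraicGeometry Opposite TopologicalSpace TensorProduct

namespace Groth.Agent.Helper13.FieldBC

section

variable (k k' : Type u) [Field k] [Field k'] [Algebra k k']
  {X X' : Scheme.{u}} [X.Over (Spec (CommRingCat.of k))] [X'.Over (Spec (CommRingCat.of k'))]
  [CompactSpace X] [IsSeparated (X ↘ Spec (CommRingCat.of k))]
  (g' : X' ⟶ X)
  (h : IsPullback g' (X' ↘ Spec (CommRingCat.of k')) (X ↘ Spec (CommRingCat.of k))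
      (Spec.map (CommRingCat.ofHom (algebraMap k k'))))

include h in
theorem finrank_HH_structure (i : ℕ) :
    Module.finrank k' (Coh.HH X' (Coh.structureModule X') i) =
      Module.finrank k (Coh.HH X (Coh.structureModule X) i) := by
  haveI : (Coh.structureModule X).IsQuasicoherent :=
    (Groth.Agent.Helper13.CohRoof.isCoh_structureModule X).1
  rw [← finrank_HH_baseChange k k' g' h (Coh.structureModule X) i]
  exact (Groth.Agent.Helper26.HomVan.finrank_HH_of_iso k'
    (Groth.Agent.Helper13.PbUnit.pullbackUnitIso g') i).symm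

end

theorem main0223 (k : Type u) [Field k] (X : Scheme.{u}) [X.Over (Spec (CommRingCat.of k))]
    [IsProper (X ↘ Spec (CommRingCat.of k))]
    (h0 : Module.finrank k (Coh.HH X (Coh.structureModule X) 0) = 1)
    (k' : Type u) [Field k'] [Algebra k k'] (X' : Scheme.{u}) [X'.Over (Spec (CommRingCat.of k'))]
    (g : X' ⟶ X)
    (hpb : IsPullback g (X' ↘ Spec (CommRingCat.of k')) (X ↘ Spec (CommRingCat.of k))
      (Spec.map (CommRingCat.ofHom (algebraMap k k')))) :
    Module.finrank k' (Coh.HH X' (Coh.structureModule X') 0) = 1 ∧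
      Module.finrank k' (Coh.HH X' (Coh.structureModule X') 1) =
        Module.finrank k (Coh.HH X (Coh.structureModule X) 1) := by
  haveI : CompactSpace X :=
    QuasiCompact.compactSpace_of_compactSpace (X ↘ (Spec (CommRingCat.of k)))
  exact ⟨(finrank_HH_structure k k' g hpb 0).trans h0, finrank_HH_structure k k' g hpb 1⟩

section Deg

variable (k : Type u) [Field k] (X : Scheme.{u}) [X.Over (Spec (CommRingCat.of k))]
  [IsProper (X ↘ (Spec (CommRingCat.of k)))] (k' : Type u) [Field k'] [Algebra k k']

theorem euler_bc (F : X.Modules) [hF : F.IsQuasicoherent] :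
    @Curv2.euler k' _ (Curv2.bc k X k') ⟨Curv2.bcSnd k X k'⟩
        ((Scheme.Modules.pullback (Curv2.bcFst k X k')).obj F) = Curv2.euler k X F := by
  unfold Curv2.euler
  refine finsum_congr (fun i => ?_)
  rw [finrank_bc k X k' F i]

theorem euler_bc_structure :
    @Curv2.euler k' _ (Curv2.bc k X k') ⟨Curv2.bcSnd k X k'⟩
        (Coh.structureModule (Curv2.bc k X k')) = Curv2.euler k X (Coh.structureModule X) := by
  letI : (Curv2.bc k X k').Over (Spec (CommRingCat.of k')) := ⟨Curv2.bcSnd k X k'⟩
  haveI : CompactSpace X :=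
    QuasiCompact.compactSpace_of_compactSpace (X ↘ (Spec (CommRingCat.of k)))
  unfold Curv2.euler
  refine finsum_congr (fun i => ?_)
  rw [finrank_HH_structure k k' (Curv2.bcFst k X k') (IsPullback.of_hasPullback _ _) i]

theorem main7636 (n : ℕ) (E : X.Modules) (hE : FlatMod.IsFinLocFreeOfRank n E) :
    @Curv2.deg k' _ (Curv2.bc k X k') ⟨Curv2.bcSnd k X k'⟩
        ((Scheme.Modules.pullback (Curv2.bcFst k X k')).obj E) n = Curv2.deg k X E n := by
  haveI : E.IsQuasicoherent :=
    Groth.Agent.Helper5.FPC.isQuasicoherent_of_isFinLocFree E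
      (fun x => let ⟨U, hx, e⟩ := hE x; ⟨U, n, hx, e⟩)
  unfold Curv2.deg
  rw [euler_bc k X k' E, euler_bc_structure k X k']

end Deg

section Reg

theorem main7690 (k : Type u) [Field k] (n : ℕ)
    (k' : Type u) [Field k'] [Algebra k k'] (F : (CohB1.ProjSpace n k).Modules)
    (hF : Coh.IsCoh F) (m : ℤ) :
    Curv2.IsMRegular k n F m ↔
      ∀ i : ℕ, 1 ≤ i → i ≤ n →
        Subsingleton (Coh.HH (Curv2.bc k (CohB1.ProjSpace n k) k')
          ((Scheme.Modules.pullback (Curv2.bcFst k (CohB1.ProjSpace n k) k')).obj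
            (CohB1.tensorMod F (Twist.twistProjSpace n k (m - i)))) i) := by
  letI : (Curv2.bc k (CohB1.ProjSpace n k) k').Over (Spec (CommRingCat.of k')) :=
    ⟨Curv2.bcSnd k (CohB1.ProjSpace n k) k'⟩
  haveI : IsProper (CohB1.ProjSpace n k ↘ Spec (CommRingCat.of k)) :=
    Groth.Agent.Helper15.isProper_projSpace_toSpec n k
  haveI : CompactSpace (CohB1.ProjSpace n k) :=
    QuasiCompact.compactSpace_of_compactSpace (CohB1.ProjSpace n k ↘ Spec (CommRingCat.of k))
  haveI := hF.1
  unfold Curv2.IsMRegular
  refine forall_congr' (fun i => forall_congr' (fun _ => forall_congr' (fun _ => ?_)))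
  haveI : (CohB1.tensorMod F (Twist.twistProjSpace n k (m - i))).IsQuasicoherent :=
    inferInstance
  exact (subsingleton_HH_baseChange_iff k k' (Curv2.bcFst k (CohB1.ProjSpace n k) k')
    (IsPullback.of_hasPullback _ _) (CohB1.tensorMod F (Twist.twistProjSpace n k (m - i))) i).symm

end Reg

end Groth.Agent.Helper13.FieldBC
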