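import Mathlib
import Groth.Prelude.Def_Coh
import Groth.Prelude.Def_CurvBase

universe u
open CategoryTheory CategoryTheory.Limits AlgebraicGeometry Opposite TopologicalSpace

namespace Groth.Agent.Helper13.FieldGamma

theorem isField_of_idem (R : Type*) [CommRing R] [IsArtinianRing R] [IsReduced R] [Nontrivial R]
    (h : ∀ e : R, IsIdempotentElem e → e = 0 ∨ e = 1) : IsField R := by
  refine ⟨exists_pair_ne R, mul_comm, fun {x} hx => ?_⟩
  obtain ⟨n, y, hy⟩ := IsArtinian.exists_pow_succ_smul_dvd x (1 : R)
  simp only [smul_eq_mul, mul_one] at hy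
  have key : ∀ j : ℕ, x ^ (n + j) * y ^ j = x ^ n := by
    intro j
    induction j with
    | zero => simp
    | succ j ih =>
      calc x ^ (n + (j + 1)) * y ^ (j + 1) = (x ^ (n + 1) * y) * (x ^ j * y ^ j) := by ring
        _ = x ^ n * (x ^ j * y ^ j) := by rw [hy]
        _ = x ^ (n + j) * y ^ j := by ring
        _ = x ^ n := ih
  have he : IsIdempotentElem (x ^ n * y ^ n) := by
    show x ^ n * y ^ n * (x ^ n * y ^ n) = x ^ n * y ^ n
    calc x ^ n * y ^ n * (x ^ n * y ^ n) = (x ^ (n + n) * y ^ n) * y ^ n := by ring
      _ = x ^ n * y ^ n := by rw [key n]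
  rcases h _ he with h0 | h1
  · exfalso
    have h2 : x ^ n = 0 := by
      have h3 := key n
      rw [pow_add, mul_assoc, h0, mul_zero] at h3
      exact h3.symm
    exact hx (IsReduced.eq_zero x ⟨n, h2⟩)
  · rcases n with _ | n
    · exact ⟨y, by simpa using hy⟩
    · refine ⟨x ^ n * y ^ (n + 1), ?_⟩
      rw [← h1]
      ring

theorem idem_trivial (X : Scheme.{u}) [IsReduced X] [ConnectedSpace X] (e : Γ(X, ⊤))
    (he : IsIdempotentElem e) : e = 0 ∨ e = 1 := by
  have hdisj : X.basicOpen e ⊓ X.basicOpen (1 - e) = ⊥ := by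
    rw [← Scheme.basicOpen_mul]
    have h0 : e * (1 - e) = 0 := by rw [mul_sub, mul_one, he.eq, sub_self]
    rw [h0, Scheme.basicOpen_zero]
  have hcov : ∀ x : X, x ∈ X.basicOpen e ∨ x ∈ X.basicOpen (1 - e) := by
    intro x
    rw [Scheme.mem_basicOpen_top, Scheme.mem_basicOpen_top, map_sub, map_one]
    exact IsLocalRing.isUnit_or_isUnit_one_sub_self _
  have hclopen : IsClopen (X.basicOpen e : Set X) := by
    refine ⟨?_, (X.basicOpen e).isOpen⟩
    have : ((X.basicOpen e : Set X))ᶜ = (X.basicOpen (1 - e) : Set X) := by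
      ext x
      constructor
      · intro hx
        rcases hcov x with h | h
        · exact absurd h hx
        · exact h
      · intro hx hx'
        have : x ∈ X.basicOpen e ⊓ X.basicOpen (1 - e) := ⟨hx', hx⟩
        rw [hdisj] at this
        exact this
    rw [← isOpen_compl_iff, this]
    exact (X.basicOpen (1 - e)).isOpen
  rcases isClopen_iff.mp hclopen with h | h
  · left
    have : X.basicOpen e = ⊥ := by
      ext x
      simp only [SetLike.mem_coe] 
      constructor
      · intro hx
        have : x ∈ (X.basicOpen e : Set X) := hx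
        rw [h] at this
        exact this.elim
      · intro hx
        exact hx.elim
    exact (AlgebraicGeometry.basicOpen_eq_bot_iff _).mp this
  · right
    have : X.basicOpen (1 - e) = ⊥ := by
      rw [← hdisj]
      refine (inf_eq_right.mpr ?_).symm
      intro x _
      have : x ∈ (X.basicOpen e : Set X) := by rw [h]; trivial
      exact this
    have h1 := (AlgebraicGeometry.basicOpen_eq_bot_iff _).mp this
    exact (sub_eq_zero.mp h1).symm

theorem dvd_finrank_of_tower (k K M : Type*) [Field k] [CommRing K] (hK : IsField K)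
    [Algebra k K] [AddCommGroup M] [Module K M] [Module k M] [IsScalarTower k K M] :
    Module.finrank k K ∣ Module.finrank k M := by
  letI := hK.toField
  exact ⟨Module.finrank K M, (Module.finrank_mul_finrank k K M).symm⟩

end Groth.Agent.Helper13.FieldGamma
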