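import Mathlib
import Groth.Prelude.Def_Coh
import Groth.Prelude.Def_CurvBase
import Groth.Agent.Lib.Helper13.FinProj7
import Groth.Agent.Lib.Helper13.CohRoof
import Groth.Agent.Lib.Helper13.FieldGamma1

universe u
open CategoryTheory CategoryTheory.Limits AlgebraicGeometry Opposite TopologicalSpace

namespace Groth.Agent.Helper13.FieldGamma

variable (k : Type u) [Field k] (X : Scheme.{u}) [X.Over (Spec (CommRingCat.of k))]

/-- the `k`-algebra structure on global functions -/
noncomputable abbrev algΓ : Algebra k Γ(X, ⊤) :=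
  (Coh.toGlobal (X ↘ Spec (CommRingCat.of k))).toAlgebra

/-- `H⁰(X, O_X) → Γ(X, ⊤)` as a `k`-linear map -/
noncomputable def h0Lin :
    letI := algΓ k X
    Coh.HH X (Coh.structureModule X) 0 →ₗ[k] Γ(X, ⊤) :=
  letI := algΓ k X
  { toFun := fun x => Sheaf.H.equiv₀ (Coh.toAb (Coh.structureModule X)) (T := (⊤ : Opens X))
      isTerminalTop x
    map_add' := fun x y => map_add _ x y
    map_smul' := fun a x => by
      have h1 := Sheaf.H.equiv₀_naturality (T := (⊤ : Opens X)) isTerminalTop
        (Coh.smulAb (Coh.structureModule X) (Coh.toGlobal (X ↘ Spec (CommRingCat.of k)) a)) x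
      refine (Eq.trans ?_ h1.symm).trans ?_
      · rfl
      rw [Coh.smulAb_app]
      have hres : Coh.resTop X (op ⊤) (Coh.toGlobal (X ↘ Spec (CommRingCat.of k)) a) =
          Coh.toGlobal (X ↘ Spec (CommRingCat.of k)) a := by
        unfold Coh.resTop
        have : (homOfLE (le_top (a := (unop (op (⊤ : X.Opens)))))).op = 𝟙 _ := rfl
        rw [this, CategoryTheory.Functor.map_id]
        rfl
      rw [hres]
      rfl }

theorem h0Lin_bijective : Function.Bijective (h0Lin k X) :=
  (Sheaf.H.equiv₀ (Coh.toAb (Coh.structureModule X)) (T := (⊤ : Opens X)) isTerminalTop).bijective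

theorem finite_Γ [IsProper (X ↘ Spec (CommRingCat.of k))] :
    @Module.Finite k Γ(X, ⊤) _ _ (algΓ k X).toModule := by
  letI := algΓ k X
  haveI := Groth.Agent.Helper13.FinProj.finite_HH_of_isProper k X (Coh.structureModule X)
    (Groth.Agent.Helper13.CohRoof.isCoh_structureModule X) 0
  exact Module.Finite.of_surjective (h0Lin k X) (h0Lin_bijective k X).2

end Groth.Agent.Helper13.FieldGamma
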