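import Mathlib
import Groth.Prelude.Def_Coh
import Groth.Prelude.Def_Pic
import Groth.Prelude.Def_CohB1
import Groth.Prelude.Def_Curv2
import Groth.Prelude.Def_FlatMod2
import Groth.Prelude.Def_ClSub2
import Groth.Agent.Lib.Helper13.FieldGamma2

universe u
open CategoryTheory CategoryTheory.Limits AlgebraicGeometry Opposite TopologicalSpace

namespace Groth.Agent.Helper13.FieldGamma

variable (k : Type u) [Field k] (X : Scheme.{u}) [X.Over (Spec (CommRingCat.of k))]

theorem isField_Γ [IsProper (X ↘ Spec (CommRingCat.of k))] [IsReduced X] [ConnectedSpace X] :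
    IsField Γ(X, ⊤) := by
  letI := algΓ k X
  haveI := finite_Γ k X
  haveI : IsArtinianRing Γ(X, ⊤) := IsArtinianRing.of_finite k Γ(X, ⊤)
  haveI : Nonempty X := inferInstance
  haveI : Nonempty ↥(⊤ : X.Opens) := ⟨⟨Classical.arbitrary X, trivial⟩⟩
  haveI : Nontrivial Γ(X, ⊤) := inferInstance
  haveI : _root_.IsReduced Γ(X, ⊤) := inferInstance
  exact isField_of_idem _ (idem_trivial X)

theorem tower_HH (M : X.Modules) (n : ℕ) :
    @IsScalarTower k Γ(X, ⊤) (Coh.HH X M n) (algΓ k X).toSMul (Coh.moduleΓtop M n).toSMul _ := by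
  letI := algΓ k X
  letI : Module Γ(X, ⊤) (Coh.HH X M n) := Coh.moduleΓtop M n
  refine ⟨fun a r x => ?_⟩
  let t : Γ(X, ⊤) := Coh.toGlobal (X ↘ Spec (CommRingCat.of k)) a
  show (t * r) • x = t • (r • x)
  exact mul_smul _ _ _

theorem dvd_finrank_HH (hK : IsField Γ(X, ⊤)) (M : X.Modules) (n : ℕ) :
    @Module.finrank k Γ(X, ⊤) _ _ (algΓ k X).toModule ∣ Module.finrank k (Coh.HH X M n) := by
  letI := algΓ k X
  letI : Module Γ(X, ⊤) (Coh.HH X M n) := Coh.moduleΓtop M n
  haveI := tower_HH k X M n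
  exact dvd_finrank_of_tower k Γ(X, ⊤) (Coh.HH X M n) hK

theorem dvd_euler (hK : IsField Γ(X, ⊤)) (M : X.Modules) :
    ((@Module.finrank k Γ(X, ⊤) _ _ (algΓ k X).toModule : ℕ) : ℤ) ∣ Curv2.euler k X M := by
  unfold Curv2.euler
  refine finsum_induction (fun z => ((@Module.finrank k Γ(X, ⊤) _ _ (algΓ k X).toModule : ℕ) : ℤ) ∣ z)
    (dvd_zero _) (fun a b ha hb => dvd_add ha hb) (fun i => ?_)
  exact Dvd.dvd.mul_left (Int.natCast_dvd_natCast.mpr (dvd_finrank_HH k X hK M i)) _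

theorem dvd_finrank_residue (hK : IsField Γ(X, ⊤)) (x : X) :
    @Module.finrank k Γ(X, ⊤) _ _ (algΓ k X).toModule ∣
      @Module.finrank k (X.residueField x) _ _ (Curv2.resAlgebra k X x).toModule := by
  letI := algΓ k X
  letI := Curv2.resAlgebra k X x
  let φ : Γ(X, ⊤) →+* X.residueField x :=
    (X.residue x).hom.comp (X.presheaf.germ ⊤ x trivial).hom
  letI : Algebra Γ(X, ⊤) (X.residueField x) := φ.toAlgebra
  haveI : IsScalarTower k Γ(X, ⊤) (X.residueField x) :=
    IsScalarTower.of_algebraMap_eq (fun a => rfl)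
  exact dvd_finrank_of_tower k _ _ hK

attribute [local instance] Curv2.resAlgebra in
theorem main [IsProper (X ↘ (Spec (CommRingCat.of k)))] [IsReduced X] [ConnectedSpace X] :
    letI : Algebra k Γ(X, ⊤) := ((X ↘ (Spec (CommRingCat.of k))).appTop.hom.comp
      (Scheme.ΓSpecIso (CommRingCat.of k)).inv.hom).toAlgebra
    IsField Γ(X, ⊤) ∧ Module.Finite k Γ(X, ⊤) ∧
      (∀ (n : ℕ) (E : X.Modules), FlatMod.IsFinLocFreeOfRank n E →
        (Module.finrank k Γ(X, ⊤) : ℤ) ∣ Curv2.deg k X E n) ∧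
      (∀ x : X, IsClosed ({x} : Set X) →
        Module.finrank k Γ(X, ⊤) ∣ Module.finrank k (X.residueField x)) ∧
      (∀ D : X.IdealSheafData, topologicalKrullDim D.subscheme ≤ 0 →
        Module.finrank k Γ(X, ⊤) ∣ Module.finrank k (Coh.HH X (ClSub.quotMod D) 0)) := by
  have hK := isField_Γ k X
  refine ⟨hK, finite_Γ k X, fun n E _ => ?_, fun x _ => dvd_finrank_residue k X hK x,
    fun D _ => dvd_finrank_HH k X hK _ 0⟩
  unfold Curv2.deg
  exact dvd_sub (dvd_euler k X hK E) (Dvd.dvd.mul_left (dvd_euler k X hK _) _)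

end Groth.Agent.Helper13.FieldGamma
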