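import Mathlib

set_option autoImplicit false
universe u
open TensorProduct

/-! `flat_of_exact_mid`, `flat_of_exact_left` copied from helper3 `Lib/Helper3/FlatExact.lean`
(namespace changed) to keep Helper13 proofs self-contained. -/

namespace Groth.Agent.Helper13.H3

section FlatExact
variable {R : Type u} [CommRing R] {M' M M'' : Type u} [AddCommGroup M'] [AddCommGroup M]
  [AddCommGroup M''] [Module R M'] [Module R M] [Module R M'']

/-- Extension of flat modules is flat. -/
theorem flat_of_exact_mid (i : M' →ₗ[R] M) (π : M →ₗ[R] M'') (hi : Function.Injective i)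
    (hπ : Function.Surjective π) (hex : Function.Exact i π) [Module.Flat R M']
    [Module.Flat R M''] : Module.Flat R M := by
  rw [Module.Flat.iff_lTensor_preserves_injective_linearMap]
  intro N N' _ _ _ _ u hu
  -- want: u.lTensor M : M ⊗ N → M ⊗ N' injective
  rw [injective_iff_map_eq_zero]
  intro x hx
  -- image in M'' ⊗ N
  have h1 : (u.lTensor M'') ((π.rTensor N) x) = 0 := by
    have : (u.lTensor M'') ((π.rTensor N) x) = (π.rTensor N') ((u.lTensor M) x) := by
      rw [← LinearMap.comp_apply, ← LinearMap.comp_apply, LinearMap.lTensor_comp_rTensor,
        LinearMap.rTensor_comp_lTensor]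
    rw [this, hx, map_zero]
  have h2 : (π.rTensor N) x = 0 :=
    (injective_iff_map_eq_zero _).mp
      (Module.Flat.lTensor_preserves_injective_linearMap (M := M'') u hu) _ h1
  obtain ⟨y, rfl⟩ := (rTensor_exact N hex hπ x).mp h2
  have h3 : (i.rTensor N') ((u.lTensor M') y) = 0 := by
    have : (i.rTensor N') ((u.lTensor M') y) = (u.lTensor M) ((i.rTensor N) y) := by
      rw [← LinearMap.comp_apply, ← LinearMap.comp_apply, LinearMap.rTensor_comp_lTensor,
        LinearMap.lTensor_comp_rTensor]
    rw [this, hx]
  have hinj : Function.Injective (i.rTensor N') := by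
    have := LinearMap.lTensor_injective_of_exact_of_flat π hπ i hi hex N'
    -- convert lTensor N' i injective to rTensor
    intro a b hab
    apply (TensorProduct.comm R M' N').injective
    apply this
    have h4 : ∀ z, (i.lTensor N') ((TensorProduct.comm R M' N') z) =
        (TensorProduct.comm R M N') ((i.rTensor N') z) := by
      intro z
      induction z using TensorProduct.induction_on with
      | zero => simp
      | tmul a b => simp
      | add a b ha hb => simp only [map_add, ha, hb]
    rw [h4, h4, hab]
  have h5 : (u.lTensor M') y = 0 := (injective_iff_map_eq_zero _).mp hinj _ h3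
  have h6 : y = 0 :=
    (injective_iff_map_eq_zero _).mp
      (Module.Flat.lTensor_preserves_injective_linearMap (M := M') u hu) _ h5
  rw [h6, map_zero]

/-- Kernel of a surjection of flat modules is flat. -/
theorem flat_of_exact_left (i : M' →ₗ[R] M) (π : M →ₗ[R] M'') (hi : Function.Injective i)
    (hπ : Function.Surjective π) (hex : Function.Exact i π) [Module.Flat R M]
    [Module.Flat R M''] : Module.Flat R M' := by
  rw [Module.Flat.iff_lTensor_preserves_injective_linearMap]
  intro N N' _ _ _ _ u hu
  rw [injective_iff_map_eq_zero]
  intro y hy
  have hinj : Function.Injective (i.rTensor N) := by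
    have := LinearMap.lTensor_injective_of_exact_of_flat π hπ i hi hex N
    intro a b hab
    apply (TensorProduct.comm R M' N).injective
    apply this
    have h4 : ∀ z, (i.lTensor N) ((TensorProduct.comm R M' N) z) =
        (TensorProduct.comm R M N) ((i.rTensor N) z) := by
      intro z
      induction z using TensorProduct.induction_on with
      | zero => simp
      | tmul a b => simp
      | add a b ha hb => simp only [map_add, ha, hb]
    rw [h4, h4, hab]
  have h1 : (u.lTensor M) ((i.rTensor N) y) = 0 := by
    have : (u.lTensor M) ((i.rTensor N) y) = (i.rTensor N') ((u.lTensor M') y) := by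
      rw [← LinearMap.comp_apply, ← LinearMap.comp_apply, LinearMap.rTensor_comp_lTensor,
        LinearMap.lTensor_comp_rTensor]
    rw [this, hy, map_zero]
  have h2 : (i.rTensor N) y = 0 :=
    (injective_iff_map_eq_zero _).mp
      (Module.Flat.lTensor_preserves_injective_linearMap (M := M) u hu) _ h1
  exact (injective_iff_map_eq_zero _).mp hinj _ h2

end FlatExact



end Groth.Agent.Helper13.H3
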