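import Mathlib.RingTheory.Flat.Localization
import Mathlib.RingTheory.Flat.Equalizer
import Mathlib.RingTheory.Localization.BaseChange
import Mathlib.RingTheory.Localization.Away.Basic

universe u v

open TensorProduct

namespace Groth.Agent.Helper13.FlatNZD

variable {A : Type u} {B : Type v} [CommRing A] [CommRing B] [Algebra A B]

/-- multiplication by a nonzerodivisor with flat quotient stays injective after tensoring -/
lemma rTensor_mulLeft_injective (t : B) (ht : t ∈ nonZeroDivisors B)
    [Module.Flat A (B ⧸ Ideal.span {t})] (N : Type*) [AddCommGroup N] [Module A N] :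
    Function.Injective ((LinearMap.mulLeft A t).rTensor N) := by
  rw [← LinearMap.lTensor_inj_iff_rTensor_inj]
  let f : B →ₗ[A] B ⧸ Ideal.span {t} := (Ideal.Quotient.mkₐ A (Ideal.span {t})).toLinearMap
  have hf : Function.Surjective f := Ideal.Quotient.mk_surjective
  have hg : Function.Injective (LinearMap.mulLeft A t) := by
    intro x y hxy
    simp only [LinearMap.mulLeft_apply] at hxy
    exact (mul_cancel_left_mem_nonZeroDivisors ht).1 hxy
  have H : Function.Exact (LinearMap.mulLeft A t) f := by
    intro y
    change Ideal.Quotient.mk (Ideal.span {t}) y = 0 ↔ _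
    rw [Ideal.Quotient.eq_zero_iff_mem, Ideal.mem_span_singleton']
    simp only [Set.mem_range, LinearMap.mulLeft_apply]
    constructor
    · rintro ⟨a, rfl⟩
      exact ⟨a, mul_comm _ _⟩
    · rintro ⟨a, rfl⟩
      exact ⟨a, mul_comm _ _⟩
  exact LinearMap.lTensor_injective_of_exact_of_flat f hf (LinearMap.mulLeft A t) hg H N


/-- If `t` is a nonzerodivisor of `B`, `B/tB` and `B_t` are flat over `A`, then so is `B`. -/
theorem flat_of_nzd (t : B) (ht : t ∈ nonZeroDivisors B)
    [Module.Flat A (B ⧸ Ideal.span {t})]
    (Bt : Type v) [CommRing Bt] [Algebra B Bt] [Algebra A Bt] [IsScalarTower A B Bt]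
    [IsLocalization.Away t Bt] [Module.Flat A Bt] : Module.Flat A B := by
  rw [Module.Flat.iff_lTensor_preserves_injective_linearMap]
  intro N N' _ _ _ _ j hj
  rw [injective_iff_map_eq_zero]
  intro z hz
  let g : B →ₗ[B] Bt := Algebra.linearMap B Bt
  have hg : IsLocalizedModule (Submonoid.powers t) g := inferInstance
  have h1 : IsLocalizedModule (Submonoid.powers t) (AlgebraTensorModule.rTensor A N g) :=
    inferInstance
  -- step 1
  have hz1 : (AlgebraTensorModule.rTensor A N g) z = 0 := by
    have hcomm' : ∀ w : B ⊗[A] N, (j.lTensor Bt) ((AlgebraTensorModule.rTensor A N g) w) =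
        (AlgebraTensorModule.rTensor A N' g) ((j.lTensor B) w) := by
      intro w
      induction w using TensorProduct.induction_on with
      | zero => simp
      | tmul b n => simp
      | add x y hx hy => simp only [map_add, hx, hy]
    have hcomm := hcomm' z
    rw [hz, map_zero] at hcomm
    apply Module.Flat.lTensor_preserves_injective_linearMap (M := Bt) j hj
    rw [hcomm, map_zero]
  -- step 2
  obtain ⟨⟨s, n, rfl⟩, hs⟩ :=
    (IsLocalizedModule.eq_zero_iff (Submonoid.powers t) (AlgebraTensorModule.rTensor A N g)).1 hz1
  -- step 3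
  have hsm : ∀ (w : B ⊗[A] N), t • w = ((LinearMap.mulLeft A t).rTensor N) w := by
    intro w
    induction w using TensorProduct.induction_on with
    | zero => simp
    | tmul b n => simp [TensorProduct.smul_tmul']
    | add x y hx hy => simp only [smul_add, map_add, hx, hy]
  have hinj := rTensor_mulLeft_injective (A := A) t ht N
  have hpow : ∀ (n : ℕ) (w : B ⊗[A] N), t ^ n • w = 0 → w = 0 := by
    intro n
    induction n with
    | zero => intro w hw; simpa using hw
    | succ n ih =>
      intro w hw
      rw [pow_succ', mul_smul, hsm] at hw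
      apply ih
      apply hinj
      rw [hw, map_zero]
  exact hpow n z hs

end Groth.Agent.Helper13.FlatNZD
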