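import Mathlib
import Groth.Prelude.Def_Coh
import Groth.Agent.Lib.Helper13.FpqcFin2
import Groth.Agent.Lib.Helper13.Qcqs
import Groth.Agent.Lib.Helper13.QCohFin
import Groth.Agent.Lib.Helper13.QCohStalk
import Groth.Agent.Lib.Helper13.PullbackLocal
import Groth.Agent.Lib.Helper24.FlatPull

/-!
# `F ×_{f_* f^* F} f_* G` is coherent (flat surjective qcqs `f`, `G ⊆ f^* F` coherent)
-/

set_option autoImplicit false
universe u
open CategoryTheory CategoryTheory.Limits AlgebraicGeometry Opposite TopologicalSpace

namespace Groth.Agent.Helper13.FpqcFin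

open Groth.Agent.Helper13.FinType Groth.Agent.Helper13.QCoh

variable {X Y : Scheme.{u}}

/-- on a locally Noetherian scheme, a quasi-coherent submodule of a quasi-coherent module of finite
type is of finite type. -/
theorem isFiniteType_of_mono [IsLocallyNoetherian Y] {K G : Y.Modules} [K.IsQuasicoherent]
    [G.IsQuasicoherent] [SheafOfModules.IsFiniteType (R := Y.ringCatSheaf) G] (θ : K ⟶ G)
    [Mono θ] : SheafOfModules.IsFiniteType (R := Y.ringCatSheaf) K := by
  rw [isFiniteType_iff_finite_sections]
  intro V hV
  haveI : IsNoetherianRing Γ(Y, V) := IsLocallyNoetherian.component_noetherian ⟨V, hV⟩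
  haveI := finite_sections_of_isFiniteType G hV
  have hinj : Function.Injective (θ.app V).hom := (mono_iff_app_injective θ).1 inferInstance V
  let l : Γ(K, V) →ₗ[Γ(Y, V)] Γ(G, V) :=
    { toFun := fun s => θ.app V s
      map_add' := fun a b => map_add _ a b
      map_smul' := fun r s => Scheme.Modules.Hom.app_smul θ r s }
  exact Module.Finite.of_injective l hinj

/-- the adjunct `f^*(F ×_{f_* f^* F} f_* G) ⟶ G` of the second projection is a monomorphism when
`f` is flat. -/
theorem mono_adjunct (f : Y ⟶ X) [Flat f] {F : X.Modules} {G : Y.Modules}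
    (φ : G ⟶ (Scheme.Modules.pullback f).obj F) [Mono φ] :
    Mono (((Scheme.Modules.pullbackPushforwardAdjunction f).homEquiv _ _).symm
      (pullback.snd ((Scheme.Modules.pullbackPushforwardAdjunction f).unit.app F)
        ((Scheme.Modules.pushforward f).map φ))) := by
  set adj := Scheme.Modules.pullbackPushforwardAdjunction f with hadj
  haveI : PreservesFiniteLimits (Scheme.Modules.pullback f) :=
    Groth.Agent.Helper24.FlatPull.preservesFiniteLimits_pullback f
  haveI : Mono ((Scheme.Modules.pushforward f).map φ) := by
    haveI := adj.rightAdjoint_preservesLimits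
    infer_instance
  have key : (adj.homEquiv _ _).symm (pullback.snd (adj.unit.app F)
      ((Scheme.Modules.pushforward f).map φ)) ≫ φ =
      (Scheme.Modules.pullback f).map (pullback.fst (adj.unit.app F)
        ((Scheme.Modules.pushforward f).map φ)) := by
    rw [← Adjunction.homEquiv_naturality_right_symm, ← pullback.condition,
      Adjunction.homEquiv_naturality_left_symm, Adjunction.homEquiv_counit]
    have h := adj.left_triangle_components F
    rw [h]
    exact Category.comp_id _
  haveI : Mono ((Scheme.Modules.pullback f).map (pullback.fst (adj.unit.app F)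
        ((Scheme.Modules.pushforward f).map φ))) := inferInstance
  exact mono_of_mono_fac key

theorem main (f : Y ⟶ X) [QuasiCompact f] [QuasiSeparated f] [Flat f] [Surjective f]
    [IsLocallyNoetherian Y] (F : X.Modules) (hF : Coh.IsQCoh F)
    (G : Y.Modules) (hG : Coh.IsCoh G) (φ : G ⟶ (Scheme.Modules.pullback f).obj F) [Mono φ] :
    Coh.IsCoh (Limits.pullback ((Scheme.Modules.pullbackPushforwardAdjunction f).unit.app F)
      ((Scheme.Modules.pushforward f).map φ)) := by
  haveI : F.IsQuasicoherent := hF
  haveI : G.IsQuasicoherent := hG.1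
  haveI : SheafOfModules.IsFiniteType (R := Y.ringCatSheaf) G := hG.2
  haveI h1 : ((Scheme.Modules.pullback f).obj F).IsQuasicoherent := inferInstance
  haveI h2 : ((Scheme.Modules.pushforward f).obj ((Scheme.Modules.pullback f).obj F)).IsQuasicoherent :=
    Groth.Agent.Helper13.Qcqs.isQuasicoherent_pushforward_of_qcqs f _
  haveI h3 : ((Scheme.Modules.pushforward f).obj G).IsQuasicoherent :=
    Groth.Agent.Helper13.Qcqs.isQuasicoherent_pushforward_of_qcqs f _
  haveI hP : (Limits.pullback ((Scheme.Modules.pullbackPushforwardAdjunction f).unit.app F)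
      ((Scheme.Modules.pushforward f).map φ)).IsQuasicoherent :=
    Groth.Agent.Helper13.QCohFin.isQuasicoherent_pullback (A := F)
      (B := (Scheme.Modules.pushforward f).obj G)
      (C := (Scheme.Modules.pushforward f).obj ((Scheme.Modules.pullback f).obj F))
      ((Scheme.Modules.pullbackPushforwardAdjunction f).unit.app F)
      ((Scheme.Modules.pushforward f).map φ)
  refine ⟨hP, ?_⟩
  haveI hm := mono_adjunct f φ
  haveI : ((Scheme.Modules.pullback f).obj (Limits.pullback
      ((Scheme.Modules.pullbackPushforwardAdjunction f).unit.app F)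
      ((Scheme.Modules.pushforward f).map φ))).IsQuasicoherent := inferInstance
  haveI : SheafOfModules.IsFiniteType (R := Y.ringCatSheaf)
      ((Scheme.Modules.pullback f).obj (Limits.pullback
      ((Scheme.Modules.pullbackPushforwardAdjunction f).unit.app F)
      ((Scheme.Modules.pushforward f).map φ))) :=
    isFiniteType_of_mono (((Scheme.Modules.pullbackPushforwardAdjunction f).homEquiv _ _).symm
      (pullback.snd ((Scheme.Modules.pullbackPushforwardAdjunction f).unit.app F)
        ((Scheme.Modules.pushforward f).map φ)))
  exact isFiniteType_of_pullback f _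

end Groth.Agent.Helper13.FpqcFin
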