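import Groth.Prelude.Def_GmPts

/-!
# Points of the additive group are global functions (helper13), the additive analogue of `GmPts`.
-/

universe u

open CategoryTheory CategoryTheory.Limits MonoidalCategory CartesianMonoidalCategory MonObj AlgebraicGeometry Opposite
open scoped TensorProduct

noncomputable section

namespace Groth.Agent.Helper13.GaPts

attribute [-instance] ULift.module

/-- The coordinate ring of `𝔾_a` over `ℤ`. -/
abbrev Coord : Type u := SymmetricAlgebra (ULift.{u} ℤ) (ULift.{u} ℤ)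

abbrev baseZ : Scheme.{u} := GmPts.baseZ
abbrev toBaseZ (S : Scheme.{u}) : S ⟶ baseZ := GmPts.toBaseZ S
abbrev GaZ : Over baseZ.{u} := Red.GaZ

/-- The coordinate of `𝔾_a`. -/
def xi : Coord.{u} := SymmetricAlgebra.ι (ULift.{u} ℤ) (ULift.{u} ℤ) (ULift.up 1)

abbrev coordIso : Γ(Spec (CommRingCat.of Coord.{u}), ⊤) ≅ CommRingCat.of Coord.{u} :=
  Scheme.ΓSpecIso (CommRingCat.of Coord.{u})

theorem algebraMap_up (n : ℤ) : algebraMap (ULift.{u} ℤ) Coord.{u} (ULift.up n) = (n : Coord.{u}) := by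
  have : (ULift.up n : ULift.{u} ℤ) = ((n : ℤ) : ULift.{u} ℤ) := by
    apply ULift.ext
    simp
  rw [this, map_intCast]

theorem ι_up (n : ℤ) : SymmetricAlgebra.ι (ULift.{u} ℤ) (ULift.{u} ℤ) (ULift.up n) = (n : Coord.{u}) * xi := by
  have : (ULift.up n : ULift.{u} ℤ) = (ULift.up n : ULift.{u} ℤ) • (ULift.up 1 : ULift.{u} ℤ) := by
    apply ULift.ext
    simp
  rw [this, LinearMap.map_smul, Algebra.smul_def, algebraMap_up]
  rfl

/-- Two ring maps out of the coordinate ring that agree on the coordinate are equal. -/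
theorem ringHom_ext_xi {R : Type u} [CommRing R] {f g : Coord.{u} →+* R} (h : f xi = g xi) : f = g := by
  refine RingHom.ext fun a => ?_
  induction a using SymmetricAlgebra.induction with
  | algebraMap r =>
    rcases r with ⟨n⟩
    rw [algebraMap_up, map_intCast, map_intCast]
  | «ι» m =>
    rcases m with ⟨n⟩
    rw [ι_up, map_mul, map_mul, map_intCast, map_intCast, h]
  | mul a b ha hb => rw [map_mul, map_mul, ha, hb]
  | add a b ha hb => rw [map_add, map_add, ha, hb]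

/-- The ring map sending the coordinate to `a`. -/
def ringHomOfElt {R : Type u} [CommRing R] (a : R) : Coord.{u} →+* R :=
  letI := ULift.algebra'.{u} ℤ R
  (SymmetricAlgebra.lift (LinearMap.toSpanSingleton (ULift.{u} ℤ) R a)).toRingHom

theorem ringHomOfElt_xi {R : Type u} [CommRing R] (a : R) : ringHomOfElt a xi = a := by
  let _ := ULift.algebra'.{u} ℤ R
  change SymmetricAlgebra.lift (LinearMap.toSpanSingleton (ULift.{u} ℤ) R a)
    (SymmetricAlgebra.ι (ULift.{u} ℤ) (ULift.{u} ℤ) (ULift.up 1)) = a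
  rw [SymmetricAlgebra.lift_ι_apply, LinearMap.toSpanSingleton_apply]
  change (1 : ℤ) • a = a
  simp

variable {S : Scheme.{u}} {T T' : Over S}

/-! ### From points to functions -/

abbrev specPt (t : T ⟶ Red.Ga S) : T.left ⟶ Spec (CommRingCat.of Coord.{u}) :=
  t.left ≫ pullback.fst GaZ.hom (toBaseZ S)

def ringHomOfPt (t : T ⟶ Red.Ga S) : Coord.{u} →+* Γ(T.left, ⊤) := (coordIso.inv ≫ (specPt t).appTop).hom

theorem ringHomOfPt_xi (t : T ⟶ Red.Ga S) : ringHomOfPt t xi = Red.gaFn t := rfl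

/-! ### From functions to points -/

def homOfElt (a : Γ(T.left, ⊤)) : CommRingCat.of Coord.{u} ⟶ Γ(T.left, ⊤) := CommRingCat.ofHom (ringHomOfElt a)

def specOfElt (a : Γ(T.left, ⊤)) : T.left ⟶ Spec (CommRingCat.of Coord.{u}) :=
  ΓSpec.adjunction.homEquiv T.left (op (CommRingCat.of Coord.{u})) (homOfElt a).op

theorem coordIso_inv_specOfElt (a : Γ(T.left, ⊤)) : coordIso.inv ≫ (specOfElt a).appTop = homOfElt a :=
  ΓSpecIso_inv_ΓSpec_adjunction_homEquiv _

theorem specOfElt_w (a : Γ(T.left, ⊤)) : specOfElt a ≫ GaZ.hom = T.hom ≫ toBaseZ S :=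
  specULiftZIsTerminal.hom_ext _ _

/-- The point of the additive group attached to a global function. -/
def ptOfElt (a : Γ(T.left, ⊤)) : T ⟶ Red.Ga S :=
  Over.homMk (pullback.lift (specOfElt a) T.hom (specOfElt_w a)) (pullback.lift_snd _ _ _)

theorem specPt_ptOfElt (a : Γ(T.left, ⊤)) : specPt (ptOfElt a) = specOfElt a := pullback.lift_fst _ _ _

theorem ringHomOfPt_ptOfElt (a : Γ(T.left, ⊤)) : ringHomOfPt (ptOfElt a) = ringHomOfElt a := by
  change (coordIso.inv ≫ (specPt (ptOfElt a)).appTop).hom = _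
  rw [specPt_ptOfElt, coordIso_inv_specOfElt]
  rfl

theorem gaFn_ptOfElt (a : Γ(T.left, ⊤)) : Red.gaFn (ptOfElt a) = a := by
  rw [← ringHomOfPt_xi, ringHomOfPt_ptOfElt, ringHomOfElt_xi]

theorem ringHomOfElt_gaFn (t : T ⟶ Red.Ga S) : ringHomOfElt (Red.gaFn t) = ringHomOfPt t :=
  ringHom_ext_xi (by rw [ringHomOfElt_xi]; rfl)

theorem specOfElt_gaFn (t : T ⟶ Red.Ga S) : specOfElt (Red.gaFn t) = specPt t := by
  have h : (homOfElt (Red.gaFn t)).op =
      (ΓSpec.adjunction.homEquiv T.left (op (CommRingCat.of Coord.{u}))).symm (specPt t) := by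
    rw [Adjunction.homEquiv_counit, ΓSpec.adjunction_counit_app]
    change (homOfElt (Red.gaFn t)).op = (coordIso.inv ≫ (specPt t).appTop).op
    congr 1
    ext1
    exact ringHomOfElt_gaFn t
  rw [specOfElt, h, Equiv.apply_symm_apply]

theorem ptOfElt_gaFn (t : T ⟶ Red.Ga S) : ptOfElt (Red.gaFn t) = t := by
  ext1
  apply pullback.hom_ext
  · exact (specPt_ptOfElt _).trans (specOfElt_gaFn t)
  · exact (pullback.lift_snd _ _ _).trans (Over.w t).symm

theorem gaFn_injective : Function.Injective (fun t : T ⟶ Red.Ga S => Red.gaFn t) := by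
  intro t t' h
  rw [← ptOfElt_gaFn t, ← ptOfElt_gaFn t']
  exact congrArg ptOfElt h

/-! ### Naturality -/

theorem ringHomOfPt_comp (g : T' ⟶ T) (t : T ⟶ Red.Ga S) :
    ringHomOfPt (g ≫ t) = g.left.appTop.hom.comp (ringHomOfPt t) := by
  change (coordIso.inv ≫ ((g ≫ t).left ≫ pullback.fst GaZ.hom (toBaseZ S)).appTop).hom = _
  rw [Over.comp_left, Category.assoc, Scheme.Hom.comp_appTop]
  rfl

theorem gaFn_comp (g : T' ⟶ T) (t : T ⟶ Red.Ga S) : Red.gaFn (g ≫ t) = g.left.appTop (Red.gaFn t) := by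
  rw [← ringHomOfPt_xi, ringHomOfPt_comp]
  rfl

/-! ### Additivity: unfolding the transported group law -/

theorem specMap_appTop_coordIso_inv {R : CommRingCat.{u}} (φ : CommRingCat.of Coord.{u} ⟶ R) (c : Coord.{u}) :
    (Spec.map φ).appTop (coordIso.inv c) = (Scheme.ΓSpecIso R).inv (φ c) := by
  have h := congrArg (fun ψ => (ConcreteCategory.hom ψ) c) (Scheme.ΓSpecIso_inv_naturality φ)
  exact h.symm

def pairPt (t t' : T ⟶ Red.Ga S) : T.left ⟶ (GaZ ⊗ GaZ).left :=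
  (lift t t').left ≫ (Functor.LaxMonoidal.μ (Over.pullback (toBaseZ S)) GaZ GaZ).left ≫
    pullback.fst (GaZ ⊗ GaZ).hom (toBaseZ S)

theorem specPt_mul (t t' : T ⟶ Red.Ga S) : specPt (t * t') = pairPt t t' ≫ μ[GaZ].left := by
  have h1 : t * t' = lift t t' ≫ μ[Red.Ga S] := Hom.mul_def t t'
  have h2 : μ[Red.Ga S] = Functor.LaxMonoidal.μ (Over.pullback (toBaseZ S)) GaZ GaZ ≫
      (Over.pullback (toBaseZ S)).map μ[GaZ] := rfl
  have h3 := GmPts.pullback_map_left_fst (S := S) μ[GaZ]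
  rw [specPt, pairPt, h1, h2, Over.comp_left, Over.comp_left]
  simp only [Category.assoc]
  exact _ ≫= (_ ≫= h3)

theorem pairPt_fst (t t' : T ⟶ Red.Ga S) : pairPt t t' ≫ pullback.fst GaZ.hom GaZ.hom = specPt t := by
  rw [pairPt, Category.assoc, Category.assoc, Over.μ_pullback_left_fst_fst, ← Category.assoc]
  congr 1
  rw [← Over.fst_left, ← Over.comp_left, lift_fst]

theorem pairPt_snd (t t' : T ⟶ Red.Ga S) : pairPt t t' ≫ pullback.snd GaZ.hom GaZ.hom = specPt t' := by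
  rw [pairPt, Category.assoc, Category.assoc, Over.μ_pullback_left_fst_snd, ← Category.assoc]
  congr 1
  rw [← Over.snd_left, ← Over.comp_left, lift_snd]

theorem comul_xi :
    Coalgebra.comul (R := ULift.{u} ℤ) (xi.{u}) = xi ⊗ₜ[ULift.{u} ℤ] 1 + 1 ⊗ₜ[ULift.{u} ℤ] xi :=
  SymmetricAlgebra.comul_ι _ _ _

theorem mul_appTop_xi : μ[GaZ].left.appTop (coordIso.inv (xi.{u})) =
    (pullback.fst GaZ.hom GaZ.hom).appTop (coordIso.inv xi) +
      (pullback.snd GaZ.hom GaZ.hom).appTop (coordIso.inv xi) := by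
  let CC : Type u := TensorProduct (ULift.{u} ℤ) Coord.{u} Coord.{u}
  let iL : Coord.{u} →+* CC := Algebra.TensorProduct.includeLeftRingHom
  let iR : Coord.{u} →+* CC :=
    ((Algebra.TensorProduct.includeRight (R := ULift.{u} ℤ) (A := Coord.{u}) (B := Coord.{u}) :
      Coord.{u} →ₐ[ULift.{u} ℤ] CC) : Coord.{u} →+* CC)
  let fC : Spec (CommRingCat.of Coord.{u}) ⟶ baseZ.{u} :=
    Spec.map (CommRingCat.ofHom (algebraMap (ULift.{u} ℤ) Coord.{u}))
  let psi := pullbackSpecIso (ULift.{u} ℤ) Coord.{u} Coord.{u}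
  have hfst : pullback.fst fC fC = psi.hom ≫ Spec.map (CommRingCat.ofHom (R := Coord.{u}) (S := CC) iL) := by
    rw [← pullbackSpecIso_inv_fst, Iso.hom_inv_id_assoc]
  have hsnd : pullback.snd fC fC = psi.hom ≫ Spec.map (CommRingCat.ofHom (R := Coord.{u}) (S := CC) iR) := by
    rw [← pullbackSpecIso_inv_snd, Iso.hom_inv_id_assoc]
  have hc : (CommRingCat.ofHom (R := Coord.{u}) (S := CC)
      (Bialgebra.comulAlgHom (ULift.{u} ℤ) Coord.{u}).toRingHom) xi =
      (CommRingCat.ofHom (R := Coord.{u}) (S := CC) iL) (xi.{u}) +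
        (CommRingCat.ofHom (R := Coord.{u}) (S := CC) iR) (xi.{u}) := by
    change Coalgebra.comul (R := ULift.{u} ℤ) (xi.{u}) =
      (xi ⊗ₜ[ULift.{u} ℤ] (1 : Coord.{u})) + ((1 : Coord.{u}) ⊗ₜ[ULift.{u} ℤ] xi)
    exact comul_xi
  change (psi.hom ≫ Spec.map (CommRingCat.ofHom (R := Coord.{u}) (S := CC)
      (Bialgebra.comulAlgHom (ULift.{u} ℤ) Coord.{u}).toRingHom)).appTop
      (coordIso.inv xi) =
    (pullback.fst fC fC).appTop (coordIso.inv xi) + (pullback.snd fC fC).appTop (coordIso.inv xi)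
  rw [hfst, hsnd, GmPts.appTop_comp_apply, GmPts.appTop_comp_apply, GmPts.appTop_comp_apply,
    specMap_appTop_coordIso_inv, specMap_appTop_coordIso_inv, specMap_appTop_coordIso_inv, hc, map_add, map_add]

/-- `Red.gaFn` is additive. -/
theorem gaFn_mul (t t' : T ⟶ Red.Ga S) : Red.gaFn (t * t') = Red.gaFn t + Red.gaFn t' := by
  have e1 : Red.gaFn (t * t') = (pairPt t t').appTop (μ[GaZ].left.appTop (coordIso.inv xi)) := by
    change (specPt (t * t')).appTop (coordIso.inv xi) = _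
    rw [specPt_mul]
    exact GmPts.appTop_comp_apply _ _ _
  rw [e1, mul_appTop_xi, map_add, ← GmPts.appTop_comp_apply, ← GmPts.appTop_comp_apply, pairPt_fst, pairPt_snd]
  rfl

/-- Points of the additive group over `T` `≃*` (multiplicative copy of) global functions on `T`. -/
def equiv (T : Over S) : (T ⟶ Red.Ga S) ≃* Multiplicative (Γ(T.left, ⊤)) where
  toFun t := Multiplicative.ofAdd (Red.gaFn t)
  invFun a := ptOfElt (Multiplicative.toAdd a)
  left_inv := ptOfElt_gaFn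
  right_inv a := by
    change Multiplicative.ofAdd (Red.gaFn (ptOfElt (Multiplicative.toAdd a))) = a
    rw [gaFn_ptOfElt]
    rfl
  map_mul' t t' := by
    rw [gaFn_mul]
    rfl

theorem gaFn_one : Red.gaFn (1 : T ⟶ Red.Ga S) = 0 := by
  have := map_one (equiv T)
  exact this

theorem gaFn_inv (t : T ⟶ Red.Ga S) : Red.gaFn t⁻¹ = - Red.gaFn t := by
  have := map_inv (equiv T) t
  exact this

theorem gaFn_div (t t' : T ⟶ Red.Ga S) : Red.gaFn (t / t') = Red.gaFn t - Red.gaFn t' := by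
  rw [div_eq_mul_inv, gaFn_mul, gaFn_inv, sub_eq_add_neg]

theorem eq_of_gaFn_eq {t t' : T ⟶ Red.Ga S} (h : Red.gaFn t = Red.gaFn t') : t = t' := gaFn_injective h

theorem ptOfElt_add (a b : Γ(T.left, ⊤)) : (ptOfElt (a + b) : T ⟶ Red.Ga S) = ptOfElt a * ptOfElt b := by
  apply eq_of_gaFn_eq
  rw [gaFn_mul, gaFn_ptOfElt, gaFn_ptOfElt, gaFn_ptOfElt]

theorem ptOfElt_zero : (ptOfElt (0 : Γ(T.left, ⊤)) : T ⟶ Red.Ga S) = 1 := by
  apply eq_of_gaFn_eq
  rw [gaFn_one, gaFn_ptOfElt]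

theorem ptOfElt_neg (a : Γ(T.left, ⊤)) : (ptOfElt (-a) : T ⟶ Red.Ga S) = (ptOfElt a)⁻¹ := by
  apply eq_of_gaFn_eq
  rw [gaFn_inv, gaFn_ptOfElt, gaFn_ptOfElt]

/-- every global function is the function of a point -/
theorem exists_gaFn_eq (a : Γ(T.left, ⊤)) : ∃ t : T ⟶ Red.Ga S, Red.gaFn t = a := ⟨ptOfElt a, gaFn_ptOfElt a⟩

/-- a homomorphism out of `𝔾_a` evaluated at a product of points -/
theorem comp_mul {G : Over S} [GrpObj G] (p : Red.Ga S ⟶ G) [IsMonHom p] (x y : T ⟶ Red.Ga S) :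
    (x * y) ≫ p = (x ≫ p) * (y ≫ p) := MonObj.mul_comp x y p

theorem comp_one {G : Over S} [GrpObj G] (p : Red.Ga S ⟶ G) [IsMonHom p] :
    (1 : T ⟶ Red.Ga S) ≫ p = 1 := MonObj.one_comp p

theorem comp_inv {G : Over S} [GrpObj G] (p : Red.Ga S ⟶ G) [IsMonHom p] (x : T ⟶ Red.Ga S) :
    x⁻¹ ≫ p = (x ≫ p)⁻¹ := GrpObj.inv_comp x p

end Groth.Agent.Helper13.GaPts
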