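import Mathlib
import Groth.Prelude.Def_ShStab
import Groth.Prelude.Def_Curv2
import Groth.Agent.Lib.Helper6.HilbDeg
import Groth.Agent.Lib.Helper26.HomVan
import Groth.Agent.Lib.Helper13.TensorUnit
import Groth.Agent.Lib.Helper13.CohRoof

/-!
# `h⁰(L^n) = χ(O ⊗ L^n)` for `n ≫ 0`, `L` ample on a proper `k`-scheme (helper13, for S7649)
-/

set_option autoImplicit false
set_option linter.unusedSectionVars false
set_option linter.unusedVariables false
set_option linter.style.haveILetI false

universe u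
open CategoryTheory CategoryTheory.Limits AlgebraicGeometry Polynomial

namespace Groth.Agent.Helper13.H0Euler

theorem euler_eq_finrank_of_vanishing (k : Type u) [Field k] (X : Scheme.{u})
    [X.Over (Spec (CommRingCat.of k))] (F : X.Modules)
    (h : ∀ p : ℕ, 0 < p → Subsingleton (Coh.HH X F p)) :
    Curv2.euler k X F = (Module.finrank k (Coh.HH X F 0) : ℤ) := by
  unfold Curv2.euler
  have hz : ∀ i : ℕ, i ≠ 0 → (-1 : ℤ) ^ i * (Module.finrank k (Coh.HH X F i) : ℤ) = 0 := by
    intro i hi
    haveI := h i (Nat.pos_of_ne_zero hi)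
    rw [Module.finrank_zero_of_subsingleton]
    simp
  rw [finsum_eq_single (fun i : ℕ => (-1 : ℤ) ^ i * (Module.finrank k (Coh.HH X F i) : ℤ)) 0 hz]
  simp

theorem exists_forall_finrank_H0_eq_euler (k : Type u) [Field k] (X : Scheme.{u})
    [X.Over (Spec (CommRingCat.of k))] [IsProper (X ↘ Spec (CommRingCat.of k))] (L : X.Modules)
    (hL : CohB1.IsAmple L) :
    ∃ n₀ : ℕ, ∀ n : ℕ, n₀ ≤ n →
      (Module.finrank k (Coh.HH X (CohB1.tensorPow L n) 0) : ℤ) =
        Curv2.euler k X (ShStab.twist X L (Coh.structureModule X) n) := by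
  obtain ⟨n₀, hn₀⟩ :=
    (Groth.Agent.S0051.result k X (X ↘ Spec (CommRingCat.of k)) L hL.1).mp hL
      (Coh.structureModule X) (Groth.Agent.Helper13.CohRoof.isCoh_structureModule X)
  refine ⟨n₀, fun n hn => ?_⟩
  have e : ShStab.twist X L (Coh.structureModule X) n ≅ CohB1.tensorPow L n :=
    Groth.Agent.Helper13.Tensor.lid (CohB1.tensorPow L n)
  have h1 : Curv2.euler k X (ShStab.twist X L (Coh.structureModule X) n) =
      (Module.finrank k (Coh.HH X (ShStab.twist X L (Coh.structureModule X) n) 0) : ℤ) :=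
    euler_eq_finrank_of_vanishing k X _ (fun p hp => hn₀ n hn p hp)
  rw [h1, Groth.Agent.Helper26.HomVan.finrank_HH_of_iso k e 0]

end Groth.Agent.Helper13.H0Euler
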