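import Mathlib
import Groth.Prelude.Def_RDer
import Groth.Prelude.Def_RDerDelta

universe v₁ v₂ v₃ v₄ u₁ u₂ u₃ u₄
set_option linter.unusedSectionVars false
set_option maxHeartbeats 400000
open CategoryTheory CategoryTheory.Limits

namespace Groth.Agent.Helper13.HomCmpIso

section Cmp
variable {B : Type u₁} [Category.{v₁} B] [Abelian B] {C : Type u₂} [Category.{v₂} C] [Abelian C]
  (Ψ : B ⥤ C) [Ψ.Additive] [PreservesFiniteLimits Ψ]
  {ι' : Type*} {c : ComplexShape ι'} (K : HomologicalComplex B c) (i : ι')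

set_option backward.isDefEq.respectTransparency false in
lemma cyclesInv_w : Ψ.map (K.iCycles i) ≫ ((Ψ.mapHomologicalComplex c).obj K).d i (c.next i) = 0 := by
  show Ψ.map (K.iCycles i) ≫ Ψ.map (K.d i (c.next i)) = 0
  rw [← Ψ.map_comp, K.iCycles_d, Ψ.map_zero]

set_option backward.isDefEq.respectTransparency false in
/-- inverse of the comparison of cycles -/
noncomputable def cyclesInv : Ψ.obj (K.cycles i) ⟶ ((Ψ.mapHomologicalComplex c).obj K).cycles i :=
  ((Ψ.mapHomologicalComplex c).obj K).liftCycles (Ψ.map (K.iCycles i)) (c.next i) rfl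
    (cyclesInv_w Ψ K i)

set_option backward.isDefEq.respectTransparency false in
lemma cyclesInv_i : cyclesInv Ψ K i ≫ ((Ψ.mapHomologicalComplex c).obj K).iCycles i =
    Ψ.map (K.iCycles i) :=
  HomologicalComplex.liftCycles_i _ _ _ _ _

set_option backward.isDefEq.respectTransparency false in
instance isIso_cyclesComparison : IsIso (RDer.cyclesComparison Ψ K i) := by
  refine ⟨⟨cyclesInv Ψ K i, ?_, ?_⟩⟩
  · rw [← cancel_mono (((Ψ.mapHomologicalComplex c).obj K).iCycles i), Category.assoc,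
      cyclesInv_i, RDer.cyclesComparison_i, Category.id_comp]
  · apply Fork.IsLimit.hom_ext (KernelFork.mapIsLimit _ (K.cyclesIsKernel i (c.next i) rfl) Ψ)
    rw [KernelFork.map_ι, Fork.ι_ofι, Category.assoc, RDer.cyclesComparison_i,
      cyclesInv_i, Category.id_comp]

set_option backward.isDefEq.respectTransparency false in
theorem isIso_homologyComparison
    (hex : (ShortComplex.mk (Ψ.map (K.toCycles (c.prev i) i)) (Ψ.map (K.homologyπ i))
      (by rw [← Ψ.map_comp, K.toCycles_comp_homologyπ, Ψ.map_zero])).Exact)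
    (hepi : Epi (Ψ.map (K.homologyπ i))) : IsIso (RDer.homologyComparison Ψ K i) := by
  have hc : IsColimit (CokernelCofork.ofπ (Ψ.map (K.homologyπ i))
      (show Ψ.map (K.toCycles (c.prev i) i) ≫ Ψ.map (K.homologyπ i) = 0 by
        rw [← Ψ.map_comp, K.toCycles_comp_homologyπ, Ψ.map_zero])) :=
    @ShortComplex.Exact.gIsCokernel _ _ _ _ _ hex hepi
  have h1 : Ψ.map (K.toCycles (c.prev i) i) ≫ inv (RDer.cyclesComparison Ψ K i) =
      ((Ψ.mapHomologicalComplex c).obj K).toCycles (c.prev i) i := by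
    rw [← RDer.toCycles_cyclesComparison, Category.assoc, IsIso.hom_inv_id, Category.comp_id]
  have hw : Ψ.map (K.toCycles (c.prev i) i) ≫ (inv (RDer.cyclesComparison Ψ K i) ≫
      ((Ψ.mapHomologicalComplex c).obj K).homologyπ i) = 0 := by
    rw [← Category.assoc, h1, HomologicalComplex.toCycles_comp_homologyπ]
  let φ : Ψ.obj (K.homology i) ⟶ ((Ψ.mapHomologicalComplex c).obj K).homology i :=
    hc.desc (CokernelCofork.ofπ _ hw)
  have hφ : Ψ.map (K.homologyπ i) ≫ φ = inv (RDer.cyclesComparison Ψ K i) ≫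
      ((Ψ.mapHomologicalComplex c).obj K).homologyπ i :=
    hc.fac (CokernelCofork.ofπ _ hw) WalkingParallelPair.one
  refine ⟨⟨φ, ?_, ?_⟩⟩
  · rw [← cancel_epi (((Ψ.mapHomologicalComplex c).obj K).homologyπ i),
      RDer.homologyπ_homologyComparison_assoc, hφ, IsIso.hom_inv_id_assoc, Category.comp_id]
  · rw [← cancel_epi (Ψ.map (K.homologyπ i)), reassoc_of% hφ,
      RDer.homologyπ_homologyComparison, IsIso.inv_hom_id_assoc, Category.comp_id]

theorem isIso_homologyComparison' (j : ι') (hj : c.prev i = j)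
    (hex : (ShortComplex.mk (Ψ.map (K.toCycles j i)) (Ψ.map (K.homologyπ i))
      (by rw [← Ψ.map_comp, K.toCycles_comp_homologyπ, Ψ.map_zero])).Exact)
    (hepi : Epi (Ψ.map (K.homologyπ i))) : IsIso (RDer.homologyComparison Ψ K i) := by
  subst hj
  exact isIso_homologyComparison Ψ K i hex hepi

end Cmp

section Acyc
variable {B : Type u₁} [Category.{v₁} B] [Abelian B] {B' : Type u₃} [Category.{v₃} B'] [Abelian B']
  {C' : Type u₄} [Category.{v₄} C'] [Abelian C']
  (E : B ⥤ B') [E.Additive] [PreservesFiniteLimits E] [PreservesFiniteColimits E]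
  (G : B' ⥤ C') [G.Additive] [HasInjectiveResolutions B']

/-- `E A` is acyclic for the right derived functors of `G` -/
def Acyc (A : B) : Prop := ∀ q : ℕ, IsZero ((G.rightDerived (q + 1)).obj (E.obj A))

variable {E G}

lemma Acyc.of_iso {A A' : B} (h : Acyc E G A) (e : A ≅ A') : Acyc E G A' :=
  fun q => (h q).of_iso ((G.rightDerived (q + 1)).mapIso (E.mapIso e.symm))

lemma acyc_of_isZero {A : B} (h : IsZero A) : Acyc E G A :=
  fun _ => Functor.map_isZero _ (Functor.map_isZero E h)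

variable (Δ : RDer.DerivedLES G)
include Δ

lemma Acyc.X₃ {S : ShortComplex B} (hS : S.ShortExact) (h1 : Acyc E G S.X₁)
    (h2 : Acyc E G S.X₂) : Acyc E G S.X₃ := fun q =>
  (Δ.exact₃ (S.map E) (hS.map_of_exact E) (q + 1) (q + 2) rfl).isZero_X₂
    ((h2 q).eq_of_src _ _) ((h1 (q + 1)).eq_of_tgt _ _)

lemma Acyc.X₂ {S : ShortComplex B} (hS : S.ShortExact) (h1 : Acyc E G S.X₁)
    (h3 : Acyc E G S.X₃) : Acyc E G S.X₂ := fun q =>
  (Δ.exact₂ (S.map E) (hS.map_of_exact E) (q + 1)).isZero_X₂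
    ((h1 q).eq_of_src _ _) ((h3 q).eq_of_tgt _ _)

lemma epi_of_acyc [PreservesFiniteLimits G] {S : ShortComplex B} (hS : S.ShortExact)
    (h1 : Acyc E G S.X₁) : Epi (G.map (E.map S.g)) := by
  have ex := Δ.exact₃ (S.map E) (hS.map_of_exact E) 0 1 rfl
  have hepi : Epi ((G.rightDerived 0).map (E.map S.g)) := ex.epi_f ((h1 0).eq_of_tgt _ _)
  have e := G.rightDerivedZeroIsoSelf
  have : G.map (E.map S.g) =
      e.inv.app _ ≫ (G.rightDerived 0).map (E.map S.g) ≫ e.hom.app _ := by
    rw [e.hom.naturality, Iso.inv_hom_id_app_assoc]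
  rw [this]
  infer_instance

end Acyc

section Complex
variable {B : Type u₁} [Category.{v₁} B] [Abelian B] (K : CochainComplex B ℕ)

/-- boundaries, as the kernel of `Z^n ⟶ H^n` -/
noncomputable abbrev Bd (n : ℕ) : B := kernel (K.homologyπ n)

/-- `K^n ⟶ B^{n+1}` -/
noncomputable def toBd (n : ℕ) : K.X n ⟶ Bd K (n + 1) :=
  kernel.lift (K.homologyπ (n + 1)) (K.toCycles n (n + 1)) (K.toCycles_comp_homologyπ n (n + 1))

@[reassoc]
lemma toBd_ι (n : ℕ) : toBd K n ≫ kernel.ι (K.homologyπ (n + 1)) = K.toCycles n (n + 1) :=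
  kernel.lift_ι _ _ _

instance epi_toBd (n : ℕ) : Epi (toBd K n) := by
  have hex : (ShortComplex.mk (K.toCycles n (n + 1)) (K.homologyπ (n + 1))
      (K.toCycles_comp_homologyπ n (n + 1))).Exact :=
    ShortComplex.exact_of_g_is_cokernel _ (K.homologyIsCokernel n (n + 1) (by simp))
  exact hex.epi_kernelLift

lemma iCycles_toBd (n : ℕ) : K.iCycles n ≫ toBd K n = 0 := by
  rw [← cancel_mono (kernel.ι (K.homologyπ (n + 1))), ← cancel_mono (K.iCycles (n + 1)),
    Category.assoc, Category.assoc, toBd_ι_assoc, K.toCycles_i, K.iCycles_d, zero_comp, zero_comp]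

/-- `0 ⟶ Z^n ⟶ K^n ⟶ B^{n+1} ⟶ 0` -/
noncomputable def sesA (n : ℕ) : ShortComplex B :=
  ShortComplex.mk (K.iCycles n) (toBd K n) (iCycles_toBd K n)

lemma sesA_shortExact (n : ℕ) : (sesA K n).ShortExact := by
  have hk : IsLimit (KernelFork.ofι (K.iCycles n) (iCycles_toBd K n)) :=
    isKernelOfComp (kernel.ι (K.homologyπ (n + 1)) ≫ K.iCycles (n + 1)) (K.d n (n + 1))
      (K.cyclesIsKernel n (n + 1) (by simp)) (iCycles_toBd K n)
      (by rw [toBd_ι_assoc, K.toCycles_i])
  exact
    { exact := ShortComplex.exact_of_f_is_kernel _ hk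
      mono_f := inferInstanceAs (Mono (K.iCycles n))
      epi_g := inferInstanceAs (Epi (toBd K n)) }

/-- `0 ⟶ B^n ⟶ Z^n ⟶ H^n ⟶ 0` -/
noncomputable def sesB (n : ℕ) : ShortComplex B :=
  ShortComplex.mk (kernel.ι (K.homologyπ n)) (K.homologyπ n) (kernel.condition _)

lemma sesB_shortExact (n : ℕ) : (sesB K n).ShortExact :=
  { exact := ShortComplex.exact_of_f_is_kernel _ (kernelIsKernel _)
    mono_f := inferInstanceAs (Mono (kernel.ι (K.homologyπ n)))
    epi_g := inferInstanceAs (Epi (K.homologyπ n)) }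

lemma isIso_homologyπ_zero : IsIso (K.homologyπ 0) :=
  K.isIso_homologyπ 0 0 (by simp) (K.shape _ _ (by simp))

lemma toCycles_zero_zero : K.toCycles 0 0 = 0 := by
  rw [← cancel_mono (K.iCycles 0), K.toCycles_i, zero_comp]
  exact K.shape _ _ (by simp)

variable {B' : Type u₃} [Category.{v₃} B'] [Abelian B']
  {C' : Type u₄} [Category.{v₄} C'] [Abelian C']
  {E : B ⥤ B'} [E.Additive] [PreservesFiniteLimits E] [PreservesFiniteColimits E]
  {G : B' ⥤ C'} [G.Additive] [HasInjectiveResolutions B'] (Δ : RDer.DerivedLES G)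
include Δ

lemma acyc_cycles (hK : ∀ n, Acyc E G (K.X n)) (hH : ∀ n, Acyc E G (K.homology n)) :
    ∀ n, Acyc E G (K.cycles n)
  | 0 => by
    have := isIso_homologyπ_zero K
    exact (hH 0).of_iso (asIso (K.homologyπ 0)).symm
  | n + 1 => by
    have h1 : Acyc E G (Bd K (n + 1)) :=
      Acyc.X₃ Δ (sesA_shortExact K n) (acyc_cycles hK hH n) (hK n)
    exact Acyc.X₂ Δ (sesB_shortExact K (n + 1)) h1 (hH (n + 1))

lemma acyc_Bd (hK : ∀ n, Acyc E G (K.X n)) (hH : ∀ n, Acyc E G (K.homology n)) (n : ℕ) :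
    Acyc E G (Bd K (n + 1)) :=
  Acyc.X₃ Δ (sesA_shortExact K n) (acyc_cycles K Δ hK hH n) (hK n)

end Complex


section Main
variable {B : Type u₁} [Category.{v₁} B] [Abelian B] {C : Type u₂} [Category.{v₂} C] [Abelian C]
  {B' : Type u₃} [Category.{v₃} B'] [Abelian B'] {C' : Type u₄} [Category.{v₄} C'] [Abelian C']
  (Ψ : B ⥤ C) [Ψ.Additive] [PreservesFiniteLimits Ψ]
  (E : B ⥤ B') [E.Additive] [PreservesFiniteLimits E] [PreservesFiniteColimits E]
  (E' : C ⥤ C') [E'.Additive] [PreservesFiniteLimits E'] [PreservesFiniteColimits E'] [E'.Faithful]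
  (G : B' ⥤ C') [G.Additive] [PreservesFiniteLimits G] [HasInjectiveResolutions B']
  (e : Ψ ⋙ E' ≅ E ⋙ G)

include e in
lemma exact_of_exact_GE (S : ShortComplex B) (h : ((S.map E).map G).Exact) : (S.map Ψ).Exact := by
  let φ : (S.map Ψ).map E' ≅ (S.map E).map G :=
    ShortComplex.isoMk (e.app S.X₁) (e.app S.X₂) (e.app S.X₃)
      (e.hom.naturality S.f).symm (e.hom.naturality S.g).symm
  have h' : ((S.map Ψ).map E').Exact := (ShortComplex.exact_iff_of_iso φ).2 h
  exact (ShortComplex.exact_map_iff_of_faithful (S.map Ψ) E').1 h'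

include e in
lemma epi_of_epi_GE {X Y : B} (φ : X ⟶ Y) (h : Epi (G.map (E.map φ))) : Epi (Ψ.map φ) := by
  have h2 : E'.map (Ψ.map φ) = e.hom.app X ≫ G.map (E.map φ) ≫ e.inv.app Y := by
    have := e.hom.naturality φ
    simp only [Functor.comp_map] at this
    rw [← reassoc_of% this, Iso.hom_inv_id_app]
    exact (Category.comp_id _).symm
  have : Epi (E'.map (Ψ.map φ)) := by rw [h2]; infer_instance
  exact E'.epi_of_epi_map this

variable (Δ : RDer.DerivedLES G) (K : CochainComplex B ℕ)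

include e Δ in
/-- If the terms and the cohomology objects of `K` are `G`-acyclic (after `E`), then
`H^i (Ψ K) ⟶ Ψ (H^i K)` is an isomorphism. -/
theorem isIso_homologyComparison_of_acyc (hK : ∀ n, Acyc E G (K.X n))
    (hH : ∀ n, Acyc E G (K.homology n)) (i : ℕ) : IsIso (RDer.homologyComparison Ψ K i) := by
  cases i with
  | zero =>
    have := isIso_homologyπ_zero K
    apply isIso_homologyComparison' Ψ K 0 0 (by simp)
    · rw [ShortComplex.exact_iff_mono _ (by
        show Ψ.map (K.toCycles 0 0) = 0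
        rw [toCycles_zero_zero, Ψ.map_zero])]
      show Mono (Ψ.map (K.homologyπ 0))
      infer_instance
    · infer_instance
  | succ n =>
    apply isIso_homologyComparison' Ψ K (n + 1) n (by simp)
    · let S₁ : ShortComplex B := ShortComplex.mk (K.toCycles n (n + 1)) (K.homologyπ (n + 1))
        (K.toCycles_comp_homologyπ n (n + 1))
      show (S₁.map Ψ).Exact
      apply exact_of_exact_GE Ψ E E' G e
      let ψ : S₁ ⟶ sesB K (n + 1) :=
        { τ₁ := toBd K n
          τ₂ := 𝟙 _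
          τ₃ := 𝟙 _
          comm₁₂ := by
            show toBd K n ≫ kernel.ι (K.homologyπ (n + 1)) = K.toCycles n (n + 1) ≫ 𝟙 _
            rw [toBd_ι, Category.comp_id]
          comm₂₃ := by
            show 𝟙 _ ≫ K.homologyπ (n + 1) = K.homologyπ (n + 1) ≫ 𝟙 _
            rw [Category.id_comp, Category.comp_id] }
      let ψ' : (S₁.map E).map G ⟶ ((sesB K (n + 1)).map E).map G :=
        G.mapShortComplex.map (E.mapShortComplex.map ψ)
      have hB := sesB_shortExact K (n + 1)
      have hB' : (((sesB K (n + 1)).map E).map G).Exact :=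
        (hB.map_of_exact E).exact.map_of_mono_of_preservesKernel G
          (hB.map_of_exact E).mono_f inferInstance
      have h1 : Epi ψ'.τ₁ :=
        epi_of_acyc Δ (sesA_shortExact K n) (acyc_cycles K Δ hK hH n)
      have h2 : IsIso ψ'.τ₂ := by
        show IsIso (G.map (E.map (𝟙 _)))
        infer_instance
      have h3 : Mono ψ'.τ₃ := by
        show Mono (G.map (E.map (𝟙 _)))
        infer_instance
      exact (ShortComplex.exact_iff_of_epi_of_isIso_of_mono ψ').2 hB'
    · apply epi_of_epi_GE Ψ E E' G e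
      exact epi_of_acyc Δ (sesB_shortExact K (n + 1)) (acyc_Bd K Δ hK hH n)

end Main

end Groth.Agent.Helper13.HomCmpIso
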