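import Mathlib
import Groth.Agent.Lib.Helper13.ExtStalk
import Groth.Agent.Lib.Helper13.LocFree

set_option autoImplicit false
universe u
open CategoryTheory CategoryTheory.Limits AlgebraicGeometry Opposite TopologicalSpace
open Groth.Agent.Helper13.QCoh Groth.Agent.Helper13.FinType Groth.Agent.Helper13.QCohPush
open Groth.Agent.Helper13.Qcqs Groth.Agent.Helper13.LocFree

namespace Groth.Agent.Helper13.IdealData

variable {X : Scheme.{u}}

/-- sections of a finite type quasi-coherent module over an affine open are finitely generated. -/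
theorem exists_finite_span_sections (J : X.Modules) [J.IsQuasicoherent]
    [SheafOfModules.IsFiniteType (R := X.ringCatSheaf) J] {U : X.Opens} (hU : IsAffineOpen U) :
    ∃ (ι : Type u) (_ : Finite ι) (n : ι → Γ(J, U)), Submodule.span Γ(X, U) (Set.range n) = ⊤ := by
  have hft : Ext.FTOn J (fun _ => ⊤) U := by
    intro x _
    obtain ⟨W, hxW, I, hI, s, hs⟩ := exists_genOn_of_isFiniteType J x
    exact ⟨W, hxW, I, hI, s, fun y hy => (hs y hy).symm⟩
  obtain ⟨ι, hι, n, hn⟩ := Ext.exists_sections_germSpanAt_eq J hU U le_rfl hU.isCompact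
    (fun _ => ⊤) hft
  refine ⟨ι, hι, n, ?_⟩
  rw [eq_top_iff]
  intro t _
  apply Ext.mem_span_of_forall_germ_mem J hU
  intro y hy
  have := hn y hy
  unfold Ext.germSpanAt at this
  rw [← this]
  trivial


section ImIdeal

variable {J : X.Modules} (j : J ⟶ Coh.structureModule X)

/-- the image of `j` on sections, viewed in `Γ(X, U)`. -/
noncomputable def japp (U : X.Opens) (a : Γ(J, U)) : Γ(X, U) := j.app U a

lemma japp_add (U : X.Opens) (a b : Γ(J, U)) : japp j U (a + b) = japp j U a + japp j U b :=
  map_add (j.app U).hom a b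

lemma japp_zero (U : X.Opens) : japp j U 0 = 0 := map_zero (j.app U).hom

lemma japp_smul (U : X.Opens) (c : Γ(X, U)) (a : Γ(J, U)) : japp j U (c • a) = c * japp j U a :=
  Scheme.Modules.Hom.app_smul j c a

lemma japp_res {U V : X.Opens} (h : V ≤ U) (a : Γ(J, U)) :
    japp j V (J.presheaf.map (homOfLE h).op a) = X.presheaf.map (homOfLE h).op (japp j U a) := by
  have hnat := j.mapPresheaf.naturality (homOfLE h).op
  exact congr($hnat a)

/-- the ideal of sections of `O_X` over `U` in the image of `j`. -/
noncomputable def imIdeal (U : X.Opens) : Ideal Γ(X, U) where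
  carrier := Set.range (japp j U)
  add_mem' := by
    rintro _ _ ⟨a, rfl⟩ ⟨b, rfl⟩
    exact ⟨a + b, japp_add j U a b⟩
  zero_mem' := ⟨0, japp_zero j U⟩
  smul_mem' := by
    rintro c _ ⟨a, rfl⟩
    exact ⟨c • a, japp_smul j U c a⟩

lemma mem_imIdeal_iff (U : X.Opens) (f : Γ(X, U)) : f ∈ imIdeal j U ↔ ∃ a, japp j U a = f :=
  Iff.rfl

end ImIdeal


section Data

variable {J : X.Modules} [J.IsQuasicoherent] (j : J ⟶ Coh.structureModule X)

/-- the quasi-coherent ideal sheaf (in Mathlib's sense) which is the image of `j`. -/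
noncomputable def idealSheafData : X.IdealSheafData where
  ideal U := imIdeal j U.1
  map_ideal_basicOpen U f := by
    apply le_antisymm
    · rw [Ideal.map_le_iff_le_comap]
      rintro _ ⟨a, rfl⟩
      exact ⟨J.presheaf.map (homOfLE (X.basicOpen_le f)).op a, japp_res j (X.basicOpen_le f) a⟩
    · rintro _ ⟨b, rfl⟩
      obtain ⟨N, a, ha⟩ := exists_pow_smul_eq_res' J U.2 f (X.basicOpen f) rfl (X.basicOpen_le f) b
      have h1 : X.presheaf.map (homOfLE (X.basicOpen_le f)).op (japp j U.1 a) =
          (X.presheaf.map (homOfLE (X.basicOpen_le f)).op f) ^ N * japp j (X.basicOpen f) b := by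
        rw [← japp_res, ha, japp_smul]
      have hu : IsUnit ((X.presheaf.map (homOfLE (X.basicOpen_le f)).op f) ^ N) :=
        (X.toRingedSpace.isUnit_res_basicOpen f).pow N
      obtain ⟨c, hc⟩ := hu
      have h2 : japp j (X.basicOpen f) b =
          ((c⁻¹ : (Γ(X, X.basicOpen f))ˣ) : Γ(X, X.basicOpen f)) *
            X.presheaf.map (homOfLE (X.basicOpen_le f)).op (japp j U.1 a) := by
        rw [h1, ← hc, ← mul_assoc, Units.inv_mul, one_mul]
      change japp j (X.basicOpen f) b ∈ _
      rw [h2]
      exact Ideal.mul_mem_left _ _ (Ideal.mem_map_of_mem _ ⟨a, rfl⟩)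

lemma idealSheafData_ideal (U : X.affineOpens) : (idealSheafData j).ideal U = imIdeal j U.1 := rfl

/-- the image of a finite type quasi-coherent module is a finite type ideal. -/
theorem fg_ideal_idealSheafData [SheafOfModules.IsFiniteType (R := X.ringCatSheaf) J]
    (U : X.affineOpens) : ((idealSheafData j).ideal U).FG := by
  classical
  obtain ⟨ι, hι, n, hn⟩ := exists_finite_span_sections J U.2
  haveI := Fintype.ofFinite ι
  refine ⟨Finset.univ.image (fun k => japp j U.1 (n k)), ?_⟩
  apply le_antisymm
  · apply Ideal.span_le.2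
    intro f hf
    simp only [Finset.coe_image, Finset.coe_univ, Set.image_univ, Set.mem_range] at hf
    obtain ⟨k, rfl⟩ := hf
    exact ⟨n k, rfl⟩
  · rintro _ ⟨a, rfl⟩
    have ha : a ∈ Submodule.span Γ(X, U.1) (Set.range n) := by rw [hn]; trivial
    induction ha using Submodule.span_induction with
    | mem x hx =>
      obtain ⟨k, rfl⟩ := hx
      apply Ideal.subset_span
      simp only [Finset.coe_image, Finset.coe_univ, Set.image_univ, Set.mem_range]
      exact ⟨k, rfl⟩
    | zero => rw [japp_zero]; exact Submodule.zero_mem _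
    | add x y _ _ hx hy => rw [japp_add]; exact Submodule.add_mem _ hx hy
    | smul c x _ hx => rw [japp_smul]; exact Ideal.mul_mem_left _ _ hx

/-- a point near which the unit section is in the image of `j` is not in the support. -/
theorem notMem_support_idealSheafData (x : X) {V : X.Opens} (hxV : x ∈ V) (k : Γ(J, V))
    (hk : japp j V k = 1) : x ∉ (idealSheafData j).support := by
  obtain ⟨W, hW, hxW, hWV⟩ := exists_isAffineOpen_mem_and_subset (x := x) (U := V) hxV
  rw [Scheme.IdealSheafData.mem_support_iff_of_mem (U := ⟨W, hW⟩) hxW]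
  intro hx
  have h1 : (1 : Γ(X, W)) ∈ (idealSheafData j).ideal ⟨W, hW⟩ := by
    refine ⟨J.presheaf.map (homOfLE hWV).op k, ?_⟩
    have := japp_res j hWV k
    rw [hk] at this
    exact this.trans (map_one (X.presheaf.map (homOfLE hWV).op).hom)
  have h2 := (Scheme.mem_zeroLocus_iff _ _ x).1 hx 1 h1
  apply h2
  rw [Scheme.basicOpen_of_isUnit _ isUnit_one]
  exact hxW

/-- points where all sections in the image of `j` vanish are in the support. -/
theorem mem_support_idealSheafData (z : X)
    (hz : ∀ (U : X.Opens) (a : Γ(J, U)), z ∉ X.basicOpen (japp j U a)) :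
    z ∈ (idealSheafData j).support := by
  obtain ⟨W, hW, hzW, -⟩ := exists_isAffineOpen_mem_and_subset (x := z) (U := ⊤) trivial
  rw [Scheme.IdealSheafData.mem_support_iff_of_mem (U := ⟨W, hW⟩) hzW, Scheme.mem_zeroLocus_iff]
  rintro _ ⟨a, rfl⟩
  exact hz W a

end Data

end Groth.Agent.Helper13.IdealData
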