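import Mathlib
import Groth.Prelude.Def_KZero
import Groth.Prelude.Def_Coh
import Groth.Prelude.Def_CohB1
import Groth.Prelude.Def_DCoh2
import Groth.Agent.Lib.Helper5.K0Der2
import Groth.Agent.Lib.Helper5.PRF3
import Groth.Agent.Lib.Helper5.COHP3
import Groth.Agent.Lib.Helper5.BP3
import Groth.Agent.Lib.Helper5.K0Coh
import Groth.Agent.Lib.Helper26.DevE
import Groth.Agent.Lib.Helper13.PullbackEpi
import Groth.Agent.Lib.Lead.KerFree2

/-!
# `K₀` of coherent modules supported in `Y'` versus `K₀` of perfect complexes supported in `Y'`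
-/

set_option autoImplicit false
set_option linter.unusedSectionVars false
set_option linter.unusedVariables false
set_option linter.style.haveILetI false

universe u

open CategoryTheory CategoryTheory.Limits AlgebraicGeometry

attribute [local instance] HasDerivedCategory.standard

namespace Groth.Agent.Helper13.K0Perf

open Groth.Agent.Helper5.K0Der

variable {X : Scheme.{u}}

/-- coherent modules with support in `Y'`. -/
def Psupp (Y' : Set X) : ObjectProperty X.Modules :=
  fun G => Coh.IsCoh G ∧ CohB1.support G ⊆ Y'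

theorem support_subset_of_iso {M N : X.Modules} (e : M ≅ N) :
    CohB1.support N ⊆ CohB1.support M :=
  Groth.Agent.Helper26.DevE.support_subset_of_mono e.inv

instance (Y' : Set X) : (Psupp Y').IsClosedUnderIsomorphisms where
  of_iso e h := ⟨Groth.Agent.Helper5.K0Coh.isCoh_of_iso e h.1,
    (support_subset_of_iso e).trans h.2⟩

instance (Y' : Set X) : (Psupp Y').ContainsZero where
  exists_zero := by
    obtain ⟨Z, hZ⟩ : ∃ Z : X.Modules, IsZero Z := ⟨_, Limits.isZero_zero X.Modules⟩
    refine ⟨Z, hZ, Groth.Agent.Helper5.K0Coh.isCoh_of_isZero hZ, ?_⟩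
    rw [(Groth.Agent.Helper13.Pullback.isZero_iff_support_eq_empty Z).1 hZ]
    exact Set.empty_subset _

instance [IsLocallyNoetherian X] (Y' : Set X) : (Psupp Y').IsClosedUnderKernels where
  kernels_le := by
    rintro _ ⟨f, k, hk, hf⟩
    have e : kernel f ≅ k.pt := IsLimit.conePointUniqueUpToIso (limit.isLimit _) hk
    have h1 : Psupp Y' (kernel f) :=
      ⟨Groth.Agent.Lead.KerFree.isCoh_kernel hf.1.1 hf.2.1 f,
        (Groth.Agent.Helper26.DevE.support_subset_of_mono (kernel.ι f)).trans hf.1.2⟩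
    exact (Psupp Y').prop_of_iso e h1

/-- bounded with coherent cohomology supported in `Y'` implies perfect when all coherent modules
supported in `Y'` are perfect: induction on the length -/
theorem isPerfect_of_Psupp_aux (Y' : Set X)
    (hperf : ∀ G : X.Modules, Coh.IsCoh G → CohB1.support G ⊆ Y' →
      DCoh.IsPerfect (DCoh.inD X G)) (m : ℤ) :
    ∀ (k : ℕ) (E : DCoh.D X), E.IsGE m → E.IsLE (m + k - 1) →
    (∀ i : ℤ, Psupp Y' (DCoh.HD E i)) → DCoh.IsPerfect E := by
  intro k
  induction k with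
  | zero =>
    intro E hGE hLE _
    haveI := hGE
    haveI := hLE
    exact Groth.Agent.Helper5.PRF.isPerfect_of_isZero E
      (DerivedCategory.TStructure.t.isZero E (m + (0 : ℕ) - 1) m (by push_cast; omega))
  | succ k ih =>
    intro E hGE hE hc
    haveI := hGE
    have hb : m + ((k + 1 : ℕ) : ℤ) - 1 = m + k := by push_cast; ring
    haveI : E.IsLE (m + k) := hb ▸ hE
    obtain ⟨A, Y, f, g, h, hT, hA, ⟨eY⟩, hf⟩ :=
      Groth.Agent.Helper5.COHP.exists_trunc_triangle E (m + k)
    have hAGE : A.IsGE m := by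
      rw [DerivedCategory.isGE_iff]
      intro i hi
      haveI := hf i (by omega)
      exact IsZero.of_iso (DerivedCategory.isZero_of_isGE E m i hi)
        (asIso ((DerivedCategory.homologyFunctor X.Modules i).map f))
    have hA' : DCoh.IsPerfect A := by
      refine ih A hAGE hA (fun i => ?_)
      by_cases hi : i < m + k
      · haveI := hf i hi
        exact (Psupp Y').prop_of_iso
          (asIso ((DerivedCategory.homologyFunctor X.Modules i).map f)).symm (hc i)
      · haveI := hA
        exact (Psupp Y').prop_of_isZero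
          (DerivedCategory.isZero_of_isLE A (m + k - 1) i (by omega))
    have hY : Psupp Y' Y := (Psupp Y').prop_of_iso eY.symm (hc (m + k))
    have hYp : DCoh.IsPerfect ((DerivedCategory.singleFunctor X.Modules (m + k)).obj Y) := by
      have h := Groth.Agent.Helper5.BP.isPerfect_shift _ (-(m + k)) (hperf Y hY.1 hY.2)
      have e : ((DerivedCategory.singleFunctor X.Modules 0).obj Y)⟦-(m + k)⟧ ≅
          (DerivedCategory.singleFunctor X.Modules (m + k)).obj Y :=
        ((DerivedCategory.singleFunctors X.Modules).shiftIso (-(m + k)) (m + k) 0 (by omega)).app Y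
      exact Groth.Agent.Helper5.BP.isPerfect_of_iso e h
    exact Groth.Agent.Helper5.BP.isPerfect_obj₂ _ hT hA' hYp

theorem Qp_eq [IsNoetherian X] (Y' : Set X)
    (hperf : ∀ G : X.Modules, Coh.IsCoh G → CohB1.support G ⊆ Y' →
      DCoh.IsPerfect (DCoh.inD X G)) :
    (fun K : DCoh.D X => DCoh.IsPerfect K ∧ ∀ i : ℤ, CohB1.support (DCoh.HD K i) ⊆ Y') =
      Qp (Psupp Y') := by
  funext K
  apply propext
  constructor
  · rintro ⟨hK, hs⟩
    refine ⟨fun i => ⟨Groth.Agent.Helper5.COHP.isCohD_of_isPerfect K hK i, hs i⟩, ?_⟩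
    exact Groth.Agent.Helper5.COHP.exists_bounds_of_isPerfect K hK
  · rintro ⟨hc, a, b, ha, hb⟩
    refine ⟨?_, fun i => (hc i).2⟩
    haveI : K.IsGE a := ha
    haveI : K.IsLE b := hb
    refine isPerfect_of_Psupp_aux Y' hperf a (b - a + 1).toNat K ha ?_ hc
    exact DerivedCategory.TStructure.t.isLE_of_le K b _ (by omega)

theorem main [IsNoetherian X] (Y' : Set X)
    (hperf : ∀ G : X.Modules, Coh.IsCoh G → CohB1.support G ⊆ Y' →
      DCoh.IsPerfect (DCoh.inD X G)) :
    ∃ φ : KZero.K0sub (fun G : X.Modules => Coh.IsCoh G ∧ CohB1.support G ⊆ Y') ≃+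
        KZero.K0tr (fun K : DCoh.D X => DCoh.IsPerfect K ∧
          ∀ i : ℤ, CohB1.support (DCoh.HD K i) ⊆ Y'),
      ∀ G : X.Modules, Coh.IsCoh G → CohB1.support G ⊆ Y' →
        φ (KZero.clSub (fun G : X.Modules => Coh.IsCoh G ∧ CohB1.support G ⊆ Y') G) =
          KZero.clTr (fun K : DCoh.D X => DCoh.IsPerfect K ∧
            ∀ i : ℤ, CohB1.support (DCoh.HD K i) ⊆ Y') (DCoh.inD X G) := by
  rw [Qp_eq Y' hperf]
  obtain ⟨φ, hφ⟩ := Groth.Agent.Helper5.K0Der.main (Psupp Y')
  exact ⟨φ, fun G h1 h2 => hφ G ⟨h1, h2⟩⟩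

end Groth.Agent.Helper13.K0Perf
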