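import Groth.Agent.Lib.Helper13.LamOps

/-!
Pre-λ-rings whose Adams operations are multiplicative and compose: the λ-series of products and of
λ-operations, computed in a ℚ-algebra receiving the ring (helper13).
-/

universe u v

open PowerSeries Finset

namespace Groth.Agent.Helper13

namespace Lam

open LambdaRing

section AdamsAdd

variable {K : Type u} [CommRing K] [LambdaOps K]

lemma invOfUnit_lamSeries_add (x y : K) :
    (lamSeries (x + y)).invOfUnit 1 = (lamSeries x).invOfUnit 1 * (lamSeries y).invOfUnit 1 := by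
  rw [← lamSeries_neg, ← lamSeries_neg, ← lamSeries_neg, neg_add, lamSeries_add]

lemma logDerivSeries_add (x y : K) : logDerivSeries (x + y) = logDerivSeries x + logDerivSeries y := by
  unfold logDerivSeries
  rw [invOfUnit_lamSeries_add, lamSeries_add, Derivation.leibniz]
  simp only [smul_eq_mul]
  have h1 := lamSeries_mul_invOfUnit x
  have h2 := lamSeries_mul_invOfUnit y
  calc (lamSeries x * PowerSeries.derivative K (lamSeries y) + lamSeries y * PowerSeries.derivative K (lamSeries x)) *
        ((lamSeries x).invOfUnit 1 * (lamSeries y).invOfUnit 1)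
      = (lamSeries x * (lamSeries x).invOfUnit 1) *
          (PowerSeries.derivative K (lamSeries y) * (lamSeries y).invOfUnit 1) +
        (lamSeries y * (lamSeries y).invOfUnit 1) *
          (PowerSeries.derivative K (lamSeries x) * (lamSeries x).invOfUnit 1) := by ring
    _ = _ := by rw [h1, h2, one_mul, one_mul, add_comm]

lemma adamsOp_add (k : ℕ) (x y : K) : adamsOp k (x + y) = adamsOp k x + adamsOp k y := by
  rcases k with _ | k
  · simp [adamsOp]
  · rw [adamsOp_succ, adamsOp_succ, adamsOp_succ, logDerivSeries_add, map_add, mul_add]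

lemma psiSeq_lamSeries (x : K) (k : ℕ) : psiSeq (lamSeries x) k = adamsOp (k + 1) x := rfl

end AdamsAdd

section KSide

variable {K : Type u} [CommRing K] [LambdaOps K] {K' : Type v} [CommRing K'] [Algebra ℚ K'] (ι : K →+* K')

omit [Algebra ℚ K'] in
lemma psiSeq_map_lamSeries (x : K) (k : ℕ) :
    psiSeq (PowerSeries.map ι (lamSeries x)) k = ι (adamsOp (k + 1) x) := by
  rw [psiSeq_map ι _ (constantCoeff_lamSeries x), Function.comp_apply, psiSeq_lamSeries]

lemma map_lamSeries_eq_ofPsi (x : K) :
    PowerSeries.map ι (lamSeries x) = ofPsi fun k => ι (adamsOp (k + 1) x) := by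
  rw [← ofPsi_psiSeq (PowerSeries.map ι (lamSeries x)) (constantCoeff_map_one ι _ (constantCoeff_lamSeries x))]
  congr 1
  funext k
  exact psiSeq_map_lamSeries ι x k

/-- Multiplicative Adams operations: the λ-series of a product. -/
lemma map_lamSeries_mul
    (hmul : ∀ k : ℕ, 1 ≤ k → ∀ x y : K, adamsOp k (x * y) = adamsOp k x * adamsOp k y) (x y : K) :
    PowerSeries.map ι (lamSeries (x * y)) =
      mulS (PowerSeries.map ι (lamSeries x)) (PowerSeries.map ι (lamSeries y)) := by
  rw [map_lamSeries_eq_ofPsi]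
  unfold mulS
  congr 1
  funext k
  rw [psiSeq_map_lamSeries, psiSeq_map_lamSeries, hmul (k + 1) (by omega), map_mul]

/-- The Adams operation `ψ^k`, `k ≥ 1`, as a ring endomorphism. -/
noncomputable def adamsHom (h1 : ∀ k : ℕ, 1 ≤ k → adamsOp k (1 : K) = 1)
    (hmul : ∀ k : ℕ, 1 ≤ k → ∀ x y : K, adamsOp k (x * y) = adamsOp k x * adamsOp k y)
    (k : ℕ) (hk : 1 ≤ k) : K →+* K where
  toFun := adamsOp k
  map_one' := h1 k hk
  map_mul' := hmul k hk
  map_zero' := by
    have := adamsOp_add k (0 : K) 0
    rw [add_zero] at this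
    exact left_eq_add.mp this
  map_add' := adamsOp_add k

/-- Composable multiplicative Adams operations: the λ-series of `λ^i x`. -/
lemma map_lamSeries_lam (h1 : ∀ k : ℕ, 1 ≤ k → adamsOp k (1 : K) = 1)
    (hmul : ∀ k : ℕ, 1 ≤ k → ∀ x y : K, adamsOp k (x * y) = adamsOp k x * adamsOp k y)
    (hcomp : ∀ k k' : ℕ, 1 ≤ k → 1 ≤ k' → ∀ x : K, adamsOp k (adamsOp k' x) = adamsOp (k * k') x)
    (i : ℕ) (x : K) :
    PowerSeries.map ι (lamSeries (LambdaOps.lam i x)) = compS i (PowerSeries.map ι (lamSeries x)) := by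
  rw [map_lamSeries_eq_ofPsi]
  unfold compS
  congr 1
  funext m
  -- ψ^{m+1}(λ^i x) is the i-th coefficient of the Frobenius twist
  set g := adamsHom h1 hmul (m + 1) (by omega) with hg
  have hgx : PowerSeries.map (ι.comp g) (lamSeries x) = frobS (m + 1) (PowerSeries.map ι (lamSeries x)) := by
    have hc : constantCoeff (PowerSeries.map (ι.comp g) (lamSeries x)) = 1 :=
      constantCoeff_map_one _ _ (constantCoeff_lamSeries x)
    rw [← ofPsi_psiSeq _ hc]
    unfold frobS
    congr 1
    funext l
    rw [psiSeq_map _ _ (constantCoeff_lamSeries x), Function.comp_apply, psiSeq_lamSeries, psiSeq_map_lamSeries,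
      RingHom.comp_apply]
    congr 1
    have : (m + 1) * (l + 1) - 1 + 1 = (m + 1) * (l + 1) :=
      Nat.sub_add_cancel (Nat.mul_pos (by omega) (by omega))
    rw [this]
    exact hcomp (m + 1) (l + 1) (by omega) (by omega) x
  rw [← hgx, coeff_map, coeff_lamSeries]
  rfl

end KSide

end Lam

end Groth.Agent.Helper13
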