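import Groth.Prelude.Def_LambdaSp
import Mathlib.Algebra.Algebra.Rat

/-!
Basic power-series calculus for pre-λ-rings (helper13): multiplicativity of `lamSeries`, the logarithmic
derivative, Adams operations as its coefficients, uniqueness of solutions of `y' = y L` over ℚ-algebras.
-/

universe u v

open PowerSeries Finset

namespace Groth.Agent.Helper13

namespace Lam

open LambdaRing

section Basic

variable {K : Type u} [CommRing K] [LambdaOps K]

lemma coeff_lamSeries (x : K) (i : ℕ) : coeff i (lamSeries x) = LambdaOps.lam i x :=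
  coeff_mk _ _

lemma constantCoeff_lamSeries (x : K) : constantCoeff (lamSeries x) = 1 := by
  rw [← coeff_zero_eq_constantCoeff_apply, coeff_lamSeries, LambdaOps.lam_zero]

lemma lamSeries_add (x y : K) : lamSeries (x + y) = lamSeries x * lamSeries y := by
  ext n
  rw [coeff_lamSeries, LambdaOps.lam_add, coeff_mul, Finset.Nat.sum_antidiagonal_eq_sum_range_succ_mk]
  apply Finset.sum_congr rfl
  intro i _
  rw [coeff_lamSeries, coeff_lamSeries]

lemma lamSeries_mul_invOfUnit (x : K) : lamSeries x * (lamSeries x).invOfUnit 1 = 1 :=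
  mul_invOfUnit _ _ (by rw [constantCoeff_lamSeries, Units.val_one])

lemma invOfUnit_mul_lamSeries (x : K) : (lamSeries x).invOfUnit 1 * lamSeries x = 1 := by
  rw [mul_comm, lamSeries_mul_invOfUnit]

lemma lamSeries_zero : lamSeries (0 : K) = 1 := by
  have h : lamSeries (0 : K) = lamSeries (0 : K) * lamSeries (0 : K) := by
    conv_lhs => rw [← add_zero (0 : K), lamSeries_add]
  calc lamSeries (0 : K) = lamSeries (0 : K) * (lamSeries (0 : K) * (lamSeries (0 : K)).invOfUnit 1) := by
        rw [lamSeries_mul_invOfUnit, mul_one]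
    _ = (lamSeries (0 : K) * lamSeries (0 : K)) * (lamSeries (0 : K)).invOfUnit 1 := by ring
    _ = 1 := by rw [← h, lamSeries_mul_invOfUnit]

lemma lamSeries_neg (x : K) : lamSeries (-x) = (lamSeries x).invOfUnit 1 := by
  have h : lamSeries x * lamSeries (-x) = 1 := by
    rw [← lamSeries_add, add_neg_cancel, lamSeries_zero]
  calc lamSeries (-x) = ((lamSeries x).invOfUnit 1 * lamSeries x) * lamSeries (-x) := by
        rw [invOfUnit_mul_lamSeries, one_mul]
    _ = (lamSeries x).invOfUnit 1 * (lamSeries x * lamSeries (-x)) := by ring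
    _ = (lamSeries x).invOfUnit 1 := by rw [h, mul_one]

lemma lamSeries_sub (x y : K) : lamSeries (x - y) = lamSeries x * (lamSeries y).invOfUnit 1 := by
  rw [sub_eq_add_neg, lamSeries_add, lamSeries_neg]

lemma derivative_lamSeries (x : K) :
    PowerSeries.derivative K (lamSeries x) = lamSeries x * logDerivSeries x := by
  unfold logDerivSeries
  calc PowerSeries.derivative K (lamSeries x)
      = PowerSeries.derivative K (lamSeries x) * (lamSeries x * (lamSeries x).invOfUnit 1) := by
        rw [lamSeries_mul_invOfUnit, mul_one]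
    _ = _ := by ring

lemma coeff_logDerivSeries (x : K) (k : ℕ) :
    coeff k (logDerivSeries x) = (-1) ^ k * adamsOp (k + 1) x := by
  change _ = (-1) ^ k * ((-1) ^ k * coeff k (logDerivSeries x))
  rw [← mul_assoc, ← mul_pow, neg_one_mul, neg_neg, one_pow, one_mul]

lemma adamsOp_succ (x : K) (k : ℕ) :
    adamsOp (k + 1) x = (-1) ^ k * coeff k (logDerivSeries x) := rfl

/-- Newton's identity: `(n+1) λ^{n+1}(x) = Σ_{i+j=n} (-1)^j λ^i(x) ψ^{j+1}(x)`. -/
lemma newton (x : K) (n : ℕ) :
    LambdaOps.lam (n + 1) x * (n + 1) =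
      ∑ p ∈ Finset.antidiagonal n, LambdaOps.lam p.1 x * ((-1) ^ p.2 * adamsOp (p.2 + 1) x) := by
  have := congrArg (coeff n) (derivative_lamSeries x)
  rw [coeff_derivative, coeff_mul, coeff_lamSeries] at this
  rw [this]
  apply Finset.sum_congr rfl
  intro p _
  rw [coeff_lamSeries, coeff_logDerivSeries]

end Basic

section ODE

variable {R : Type u} [CommRing R] [Algebra ℚ R]

lemma isUnit_natCast_succ (n : ℕ) : IsUnit ((n : R) + 1) := by
  have h : IsUnit (((n + 1 : ℕ) : ℚ)) := by
    rw [isUnit_iff_ne_zero]
    exact_mod_cast Nat.succ_ne_zero n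
  have := h.map (algebraMap ℚ R)
  simpa using this

/-- Uniqueness of the solution of `y' = y L` with prescribed constant coefficient, over a ℚ-algebra. -/
lemma ode_unique (L y z : R⟦X⟧) (h0 : constantCoeff y = constantCoeff z)
    (hy : PowerSeries.derivative R y = y * L) (hz : PowerSeries.derivative R z = z * L) : y = z := by
  ext n
  induction n using Nat.strong_induction_on with
  | _ n ih =>
    cases n with
    | zero => simpa using h0
    | succ n =>
      have h1 := congrArg (coeff n) hy
      have h2 := congrArg (coeff n) hz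
      rw [coeff_derivative, coeff_mul] at h1 h2
      have h3 : coeff (n + 1) y * ((n : R) + 1) = coeff (n + 1) z * ((n : R) + 1) := by
        rw [h1, h2]
        apply Finset.sum_congr rfl
        intro p hp
        rw [ih p.1 (by have := Finset.mem_antidiagonal.1 hp; omega)]
      exact (isUnit_natCast_succ n).mul_left_injective h3

end ODE

section Map

variable {K : Type u} {K' : Type v} [CommRing K] [CommRing K']

lemma map_derivative (f : K →+* K') (φ : K⟦X⟧) :
    PowerSeries.map f (PowerSeries.derivative K φ) = PowerSeries.derivative K' (PowerSeries.map f φ) := by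
  ext n
  rw [coeff_map, coeff_derivative, coeff_derivative, coeff_map, map_mul, map_add, map_natCast, map_one]

lemma map_invOfUnit_one (f : K →+* K') (φ : K⟦X⟧) (h : constantCoeff φ = 1) :
    PowerSeries.map f (φ.invOfUnit 1) = (PowerSeries.map f φ).invOfUnit 1 := by
  have h1 : PowerSeries.map f φ * PowerSeries.map f (φ.invOfUnit 1) = 1 := by
    rw [← map_mul, mul_invOfUnit _ _ (by rw [h, Units.val_one]), map_one]
  have hc : constantCoeff (PowerSeries.map f φ) = ((1 : K'ˣ) : K') := by
    rw [← coeff_zero_eq_constantCoeff_apply, coeff_map, coeff_zero_eq_constantCoeff_apply, h, map_one,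
      Units.val_one]
  have h2 : (PowerSeries.map f φ).invOfUnit 1 * PowerSeries.map f φ = 1 := invOfUnit_mul _ _ hc
  calc PowerSeries.map f (φ.invOfUnit 1)
      = ((PowerSeries.map f φ).invOfUnit 1 * PowerSeries.map f φ) * PowerSeries.map f (φ.invOfUnit 1) := by
        rw [h2, one_mul]
    _ = (PowerSeries.map f φ).invOfUnit 1 * (PowerSeries.map f φ * PowerSeries.map f (φ.invOfUnit 1)) := by
        ring
    _ = _ := by rw [h1, mul_one]

end Map

end Lam

end Groth.Agent.Helper13
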