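import Groth.Agent.Lib.Helper13.LamSpecial

/-!
Converse direction: in a special λ-ring (given universal polynomials), Adams operations are multiplicative
(helper13).
-/

universe u v

open PowerSeries Finset

namespace Groth.Agent.Helper13

namespace Lam

open LambdaRing

section Aux

variable {R : Type u} [CommRing R]

lemma agreeBelow_polyS_coeff (N : ℕ) (φ : R⟦X⟧) (h : constantCoeff φ = 1) :
    AgreeBelow (N + 1) (polyS fun m : Fin N => coeff ((m : ℕ) + 1) φ) φ := by
  intro k hk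
  rw [polyS, coeff_mk]
  split_ifs with h0 h'
  · subst h0; rw [coeff_zero_eq_constantCoeff_apply, h]
  · have : k - 1 + 1 = k := by omega
    simp only [this]
  · omega

lemma agreeBelow_polyS_castLE {n N : ℕ} (h : n ≤ N) (a : Fin N → R) :
    AgreeBelow (n + 1) (polyS fun i : Fin n => a (Fin.castLE h i)) (polyS a) := by
  intro k hk
  rw [polyS, polyS, coeff_mk, coeff_mk]
  split_ifs with h0 h1 h2 h2
  · rfl
  · rfl
  · omega
  · omega
  · rfl

lemma polyS_congr {n : ℕ} {a b : Fin n → R} (h : ∀ i, a i = b i) : polyS a = polyS b := by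
  rw [funext h]

end Aux

section Converse

variable {K : Type u} [CommRing K] [LambdaOps K]

/-- In a special λ-ring with universal product polynomials, Adams operations are multiplicative. -/
theorem adamsOp_mul_of_isSpecial (hK : IsSpecial K)
    (hP : ∀ n : ℕ, ∃ P : MvPolynomial (Fin n ⊕ Fin n) ℤ, IsMulPoly n P)
    (k : ℕ) (hk : 1 ≤ k) (x y : K) :
    adamsOp k (x * y) = adamsOp k x * adamsOp k y := by
  obtain ⟨k₀, rfl⟩ : ∃ j, k = j + 1 := ⟨k - 1, by omega⟩
  set N := k₀ + 1 with hN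
  -- the universal polynomials, embedded in N + N variables
  have hle : ∀ m : Fin N, (m : ℕ) + 1 ≤ N := fun m => m.2
  let ρ : ∀ m : Fin N, Fin ((m : ℕ) + 1) ⊕ Fin ((m : ℕ) + 1) → Fin N ⊕ Fin N :=
    fun m => Sum.map (Fin.castLE (hle m)) (Fin.castLE (hle m))
  let Pm : ∀ m : Fin N, MvPolynomial (Fin ((m : ℕ) + 1) ⊕ Fin ((m : ℕ) + 1)) ℤ := fun m => (hP ((m : ℕ) + 1)).choose
  have hPm : ∀ m : Fin N, IsMulPoly ((m : ℕ) + 1) (Pm m) := fun m => (hP ((m : ℕ) + 1)).choose_spec
  set Az : (MvPolynomial (Fin N ⊕ Fin N) ℤ)⟦X⟧ := polyS fun m : Fin N => MvPolynomial.X (Sum.inl m) with hAz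
  set Bz : (MvPolynomial (Fin N ⊕ Fin N) ℤ)⟦X⟧ := polyS fun m : Fin N => MvPolynomial.X (Sum.inr m) with hBz
  set Mz : (MvPolynomial (Fin N ⊕ Fin N) ℤ)⟦X⟧ := polyS fun m : Fin N => MvPolynomial.rename (ρ m) (Pm m) with hMz
  -- the universal identity over ℤ
  have huniv : psiSeq Mz k₀ = psiSeq Az k₀ * psiSeq Bz k₀ := by
    have hjinj : Function.Injective (MvPolynomial.map (Int.castRingHom ℚ) :
        MvPolynomial (Fin N ⊕ Fin N) ℤ → MvPolynomial (Fin N ⊕ Fin N) ℚ) :=
      MvPolynomial.map_injective _ Int.cast_injective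
    apply hjinj
    set j : MvPolynomial (Fin N ⊕ Fin N) ℤ →+* MvPolynomial (Fin N ⊕ Fin N) ℚ :=
      MvPolynomial.map (Int.castRingHom ℚ) with hj
    set Aq : (MvPolynomial (Fin N ⊕ Fin N) ℚ)⟦X⟧ := polyS fun m : Fin N => MvPolynomial.X (Sum.inl m) with hAq
    set Bq : (MvPolynomial (Fin N ⊕ Fin N) ℚ)⟦X⟧ := polyS fun m : Fin N => MvPolynomial.X (Sum.inr m) with hBq
    have hA : PowerSeries.map j Az = Aq := by
      rw [hAz, map_polyS]
      apply polyS_congr
      intro i
      rw [Function.comp_apply, hj, MvPolynomial.map_X]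
    have hB : PowerSeries.map j Bz = Bq := by
      rw [hBz, map_polyS]
      apply polyS_congr
      intro i
      rw [Function.comp_apply, hj, MvPolynomial.map_X]
    have hM : PowerSeries.map j Mz = polyS fun m : Fin N => coeff ((m : ℕ) + 1) (mulS Aq Bq) := by
      rw [hMz, map_polyS]
      apply polyS_congr
      intro m
      rw [Function.comp_apply, hj, MvPolynomial.map_rename, map_isMulPoly_eq _ (Pm m) (hPm m)]
      have h := theta_coeff_mulS
        ((MvPolynomial.rename (ρ m) : MvPolynomial (Fin ((m : ℕ) + 1) ⊕ Fin ((m : ℕ) + 1)) ℚ →ₐ[ℚ]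
          MvPolynomial (Fin N ⊕ Fin N) ℚ) : MvPolynomial (Fin ((m : ℕ) + 1) ⊕ Fin ((m : ℕ) + 1)) ℚ →+*
          MvPolynomial (Fin N ⊕ Fin N) ℚ) ((m : ℕ) + 1)
        (fun i => MvPolynomial.X (Sum.inl i)) (fun i => MvPolynomial.X (Sum.inr i))
      rw [RingHom.coe_coe] at h
      rw [h]
      have e1 : ((MvPolynomial.rename (ρ m) : MvPolynomial (Fin ((m : ℕ) + 1) ⊕ Fin ((m : ℕ) + 1)) ℚ →
          MvPolynomial (Fin N ⊕ Fin N) ℚ) ∘ fun i => MvPolynomial.X (Sum.inl i)) =
          fun i : Fin ((m : ℕ) + 1) => (fun l : Fin N => (MvPolynomial.X (Sum.inl l) :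
            MvPolynomial (Fin N ⊕ Fin N) ℚ)) (Fin.castLE (hle m) i) := by
        funext i
        rw [Function.comp_apply, MvPolynomial.rename_X]
        rfl
      have e2 : ((MvPolynomial.rename (ρ m) : MvPolynomial (Fin ((m : ℕ) + 1) ⊕ Fin ((m : ℕ) + 1)) ℚ →
          MvPolynomial (Fin N ⊕ Fin N) ℚ) ∘ fun i => MvPolynomial.X (Sum.inr i)) =
          fun i : Fin ((m : ℕ) + 1) => (fun l : Fin N => (MvPolynomial.X (Sum.inr l) :
            MvPolynomial (Fin N ⊕ Fin N) ℚ)) (Fin.castLE (hle m) i) := by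
        funext i
        rw [Function.comp_apply, MvPolynomial.rename_X]
        rfl
      rw [e1, e2]
      exact coeff_mulS_eq_of_agreeBelow
        (agreeBelow_polyS_castLE (hle m) (fun l : Fin N => (MvPolynomial.X (Sum.inl l) :
          MvPolynomial (Fin N ⊕ Fin N) ℚ)))
        (agreeBelow_polyS_castLE (hle m) (fun l : Fin N => (MvPolynomial.X (Sum.inr l) :
          MvPolynomial (Fin N ⊕ Fin N) ℚ)))
        (constantCoeff_polyS _) (constantCoeff_polyS _) (constantCoeff_polyS _) (constantCoeff_polyS _)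
    have h1 : j (psiSeq Mz k₀) = psiSeq (PowerSeries.map j Mz) k₀ := by
      rw [psiSeq_map j Mz (constantCoeff_polyS _)]; rfl
    have h2 : j (psiSeq Az k₀) = psiSeq Aq k₀ := by
      rw [← hA, psiSeq_map j Az (constantCoeff_polyS _)]; rfl
    have h3 : j (psiSeq Bz k₀) = psiSeq Bq k₀ := by
      rw [← hB, psiSeq_map j Bz (constantCoeff_polyS _)]; rfl
    change j (psiSeq Mz k₀) = j (psiSeq Az k₀ * psiSeq Bz k₀)
    rw [map_mul, h1, h2, h3, hM,
      psiSeq_eq_of_agreeBelow (agreeBelow_polyS_coeff N (mulS Aq Bq) (constantCoeff_mulS _ _))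
        (constantCoeff_polyS _) (constantCoeff_mulS _ _) k₀ (by omega)]
    unfold mulS
    rw [psiSeq_ofPsi]
  -- specialise to K
  set θ : MvPolynomial (Fin N ⊕ Fin N) ℤ →ₐ[ℤ] K :=
    MvPolynomial.aeval (Sum.elim (fun m : Fin N => LambdaOps.lam ((m : ℕ) + 1) x)
      (fun m : Fin N => LambdaOps.lam ((m : ℕ) + 1) y)) with hθ
  have hkey : ∀ (z : K) (c : Fin N → MvPolynomial (Fin N ⊕ Fin N) ℤ),
      (∀ m : Fin N, θ (c m) = LambdaOps.lam ((m : ℕ) + 1) z) →
      adamsOp (k₀ + 1) z = θ (psiSeq (polyS c) k₀) := by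
    intro z c hc
    have h1 : PowerSeries.map (θ : MvPolynomial (Fin N ⊕ Fin N) ℤ →+* K) (polyS c) =
        polyS fun m : Fin N => (RingHom.id K) (LambdaOps.lam ((m : ℕ) + 1) z) := by
      rw [map_polyS]
      apply polyS_congr
      intro m
      rw [Function.comp_apply, RingHom.coe_coe, hc, RingHom.id_apply]
    have h2 : AgreeBelow (N + 1) (polyS fun m : Fin N => (RingHom.id K) (LambdaOps.lam ((m : ℕ) + 1) z))
        (lamSeries z) := by
      have := agreeBelow_polyS_lamSeries (RingHom.id K) N z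
      rw [PowerSeries.map_id] at this
      exact this
    rw [← psiSeq_lamSeries,
      ← psiSeq_eq_of_agreeBelow h2 (constantCoeff_polyS _) (constantCoeff_lamSeries z) k₀ (by omega), ← h1,
      psiSeq_map _ _ (constantCoeff_polyS c)]
    rfl
  have hx := hkey x (fun m : Fin N => MvPolynomial.X (Sum.inl m)) (by
    intro m; rw [hθ, MvPolynomial.aeval_X, Sum.elim_inl])
  have hy := hkey y (fun m : Fin N => MvPolynomial.X (Sum.inr m)) (by
    intro m; rw [hθ, MvPolynomial.aeval_X, Sum.elim_inr])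
  have hxy := hkey (x * y) (fun m : Fin N => MvPolynomial.rename (ρ m) (Pm m)) (by
    intro m
    have hcomp : ((Sum.elim (fun m : Fin N => LambdaOps.lam ((m : ℕ) + 1) x)
        (fun m : Fin N => LambdaOps.lam ((m : ℕ) + 1) y)) ∘ ρ m) =
        Sum.elim (fun i : Fin ((m : ℕ) + 1) => LambdaOps.lam ((i : ℕ) + 1) x)
          (fun i : Fin ((m : ℕ) + 1) => LambdaOps.lam ((i : ℕ) + 1) y) := by
      funext i
      rcases i with i | i <;> rfl
    rw [hθ, MvPolynomial.aeval_rename, hK.lam_mul _ (Pm m) (hPm m) x y, hcomp])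
  rw [hx, hy, hxy, ← map_mul]
  exact congrArg θ huniv

end Converse

end Lam

end Groth.Agent.Helper13
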