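import Groth.Agent.Lib.Helper13.LamConverse

/-!
Converse direction, composition: in a special λ-ring (given universal polynomials), `ψ^k ∘ ψ^{k'} = ψ^{kk'}`
(helper13).
-/

universe u v

open PowerSeries Finset

namespace Groth.Agent.Helper13

namespace Lam

open LambdaRing

section Aux2

variable {K : Type u} [CommRing K] [LambdaOps K]

/-- If `λ_t(x)' (1 + t) = x λ_t(x)` then all Adams operations fix `x`. -/
lemma adamsOp_eq_self_of_ode (x : K)
    (h3 : PowerSeries.derivative K (lamSeries x) * (1 + X) = C x * lamSeries x) (k : ℕ) (hk : 1 ≤ k) :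
    adamsOp k x = x := by
  obtain ⟨k, rfl⟩ : ∃ j, k = j + 1 := ⟨k - 1, by omega⟩
  have h4 : logDerivSeries x * (1 + X) = C x := by
    unfold logDerivSeries
    calc PowerSeries.derivative K (lamSeries x) * (lamSeries x).invOfUnit 1 * (1 + X)
        = (PowerSeries.derivative K (lamSeries x) * (1 + X)) * (lamSeries x).invOfUnit 1 := by ring
      _ = C x * (lamSeries x * (lamSeries x).invOfUnit 1) := by rw [h3]; ring
      _ = C x := by rw [lamSeries_mul_invOfUnit, mul_one]
  have h5 : ∀ j : ℕ, coeff j (logDerivSeries x) = (-1) ^ j * x := by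
    intro j
    induction j with
    | zero =>
      have := congrArg (coeff 0) h4
      rw [mul_add, mul_one, map_add, coeff_zero_mul_X, add_zero, coeff_zero_C] at this
      rw [this, pow_zero, one_mul]
    | succ j ih =>
      have := congrArg (coeff (j + 1)) h4
      rw [mul_add, mul_one, map_add, coeff_succ_mul_X, ih, coeff_C, if_neg (by omega)] at this
      rw [pow_succ]
      linear_combination this
  rw [adamsOp_succ, h5, ← mul_assoc, ← mul_pow, neg_one_mul, neg_neg, one_pow, one_mul]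

lemma adamsOp_one_of_isSpecial (hK : IsSpecial K) (k : ℕ) (hk : 1 ≤ k) : adamsOp k (1 : K) = 1 := by
  apply adamsOp_eq_self_of_ode (1 : K) _ k hk
  rw [lamSeries_one hK.lam_one_eq_zero, map_add, Derivation.map_one_eq_zero, derivative_X, map_one]
  ring

/-- Adams operations through a polynomial model of the λ-series. -/
lemma adamsOp_eq_of_polyS {R : Type v} [CommRing R] (θ : R →+* K) {n : ℕ} (c : Fin n → R) (z : K)
    (hc : ∀ m : Fin n, θ (c m) = LambdaOps.lam ((m : ℕ) + 1) z) (k₀ : ℕ) (hk : k₀ < n) :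
    adamsOp (k₀ + 1) z = θ (psiSeq (polyS c) k₀) := by
  have h1 : PowerSeries.map θ (polyS c) =
      polyS fun m : Fin n => (RingHom.id K) (LambdaOps.lam ((m : ℕ) + 1) z) := by
    rw [map_polyS]
    apply polyS_congr
    intro m
    rw [Function.comp_apply, hc, RingHom.id_apply]
  have h2 : AgreeBelow (n + 1) (polyS fun m : Fin n => (RingHom.id K) (LambdaOps.lam ((m : ℕ) + 1) z))
      (lamSeries z) := by
    have := agreeBelow_polyS_lamSeries (RingHom.id K) n z
    rw [PowerSeries.map_id] at this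
    exact this
  rw [← psiSeq_lamSeries,
    ← psiSeq_eq_of_agreeBelow h2 (constantCoeff_polyS _) (constantCoeff_lamSeries z) k₀ hk, ← h1,
    psiSeq_map _ _ (constantCoeff_polyS c)]
  rfl

end Aux2

section Converse2

variable {K : Type u} [CommRing K] [LambdaOps K]

/-- In a special λ-ring with universal polynomials, `ψ^k ∘ ψ^{k'} = ψ^{kk'}`. -/
theorem adamsOp_adamsOp_of_isSpecial (hK : IsSpecial K)
    (hP : ∀ n : ℕ, ∃ P : MvPolynomial (Fin n ⊕ Fin n) ℤ, IsMulPoly n P)
    (hQ : ∀ i j : ℕ, ∃ Q : MvPolynomial (Fin (i * j)) ℤ, IsCompPoly i j Q)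
    (k k' : ℕ) (hk : 1 ≤ k) (hk' : 1 ≤ k') (x : K) :
    adamsOp k (adamsOp k' x) = adamsOp (k * k') x := by
  obtain ⟨a, rfl⟩ : ∃ j, k = j + 1 := ⟨k - 1, by omega⟩
  obtain ⟨b, rfl⟩ : ∃ j, k' = j + 1 := ⟨k' - 1, by omega⟩
  set N := (a + 1) * (b + 1) with hN
  have hNpos : 0 < N := Nat.mul_pos (by omega) (by omega)
  have hle : ∀ (i : Fin (b + 1)) (jj : Fin (a + 1)), ((i : ℕ) + 1) * ((jj : ℕ) + 1) ≤ N := by
    intro i jj
    rw [hN, mul_comm (a + 1)]
    exact Nat.mul_le_mul i.2 jj.2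
  let Qij : ∀ (i : Fin (b + 1)) (jj : Fin (a + 1)), MvPolynomial (Fin (((i : ℕ) + 1) * ((jj : ℕ) + 1))) ℤ :=
    fun i jj => (hQ ((i : ℕ) + 1) ((jj : ℕ) + 1)).choose
  have hQij : ∀ (i : Fin (b + 1)) (jj : Fin (a + 1)), IsCompPoly ((i : ℕ) + 1) ((jj : ℕ) + 1) (Qij i jj) :=
    fun i jj => (hQ ((i : ℕ) + 1) ((jj : ℕ) + 1)).choose_spec
  let Cz : Fin (b + 1) → (MvPolynomial (Fin N) ℤ)⟦X⟧ := fun i =>
    polyS fun jj : Fin (a + 1) => MvPolynomial.rename (Fin.castLE (hle i jj)) (Qij i jj)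
  set Φz : (MvPolynomial (Fin N) ℤ)⟦X⟧ := polyS fun i : Fin (b + 1) => psiSeq (Cz i) a with hΦz
  set Az : (MvPolynomial (Fin N) ℤ)⟦X⟧ := polyS fun m : Fin N => MvPolynomial.X m with hAz
  -- the universal identity over ℤ
  have huniv : psiSeq Φz b = psiSeq Az (N - 1) := by
    have hjinj : Function.Injective (MvPolynomial.map (Int.castRingHom ℚ) :
        MvPolynomial (Fin N) ℤ → MvPolynomial (Fin N) ℚ) :=
      MvPolynomial.map_injective _ Int.cast_injective
    apply hjinj
    set j : MvPolynomial (Fin N) ℤ →+* MvPolynomial (Fin N) ℚ := MvPolynomial.map (Int.castRingHom ℚ) with hj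
    set Aq : (MvPolynomial (Fin N) ℚ)⟦X⟧ := polyS fun m : Fin N => MvPolynomial.X m with hAq
    have hA : PowerSeries.map j Az = Aq := by
      rw [hAz, map_polyS]
      apply polyS_congr
      intro i
      rw [Function.comp_apply, hj, MvPolynomial.map_X]
    have hC : ∀ i : Fin (b + 1), PowerSeries.map j (Cz i) =
        polyS fun jj : Fin (a + 1) => coeff ((jj : ℕ) + 1) (compS ((i : ℕ) + 1) Aq) := by
      intro i
      change PowerSeries.map j (polyS _) = _
      rw [map_polyS]
      apply polyS_congr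
      intro jj
      rw [Function.comp_apply, hj, MvPolynomial.map_rename, map_isCompPoly_eq _ _ (Qij i jj) (hQij i jj)]
      have h := theta_coeff_compS
        ((MvPolynomial.rename (Fin.castLE (hle i jj)) : MvPolynomial (Fin (((i : ℕ) + 1) * ((jj : ℕ) + 1))) ℚ →ₐ[ℚ]
          MvPolynomial (Fin N) ℚ) : MvPolynomial (Fin (((i : ℕ) + 1) * ((jj : ℕ) + 1))) ℚ →+*
          MvPolynomial (Fin N) ℚ) ((i : ℕ) + 1) ((jj : ℕ) + 1) (((i : ℕ) + 1) * ((jj : ℕ) + 1))
        (fun m => MvPolynomial.X m)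
      rw [RingHom.coe_coe] at h
      rw [h]
      have e1 : ((MvPolynomial.rename (Fin.castLE (hle i jj)) :
          MvPolynomial (Fin (((i : ℕ) + 1) * ((jj : ℕ) + 1))) ℚ → MvPolynomial (Fin N) ℚ) ∘
            fun m => MvPolynomial.X m) =
          fun m : Fin (((i : ℕ) + 1) * ((jj : ℕ) + 1)) => (fun l : Fin N => (MvPolynomial.X l :
            MvPolynomial (Fin N) ℚ)) (Fin.castLE (hle i jj) m) := by
        funext m
        rw [Function.comp_apply, MvPolynomial.rename_X]
      rw [e1]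
      exact coeff_compS_eq_of_agreeBelow
        (agreeBelow_polyS_castLE (hle i jj) (fun l : Fin N => (MvPolynomial.X l : MvPolynomial (Fin N) ℚ)))
        (constantCoeff_polyS _) (constantCoeff_polyS _)
    have hpsiC : ∀ i : Fin (b + 1), j (psiSeq (Cz i) a) = coeff ((i : ℕ) + 1) (frobS (a + 1) Aq) := by
      intro i
      have h1 : j (psiSeq (Cz i) a) = psiSeq (PowerSeries.map j (Cz i)) a := by
        rw [psiSeq_map j (Cz i) (constantCoeff_polyS _)]; rfl
      rw [h1, hC i, psiSeq_eq_of_agreeBelow (agreeBelow_polyS_coeff (a + 1) (compS ((i : ℕ) + 1) Aq)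
        (constantCoeff_compS _ _)) (constantCoeff_polyS _) (constantCoeff_compS _ _) a (by omega)]
      unfold compS
      rw [psiSeq_ofPsi]
    have hΦ : PowerSeries.map j Φz = polyS fun i : Fin (b + 1) => coeff ((i : ℕ) + 1) (frobS (a + 1) Aq) := by
      rw [hΦz, map_polyS]
      apply polyS_congr
      intro i
      rw [Function.comp_apply, hpsiC i]
    have h1 : j (psiSeq Φz b) = psiSeq (PowerSeries.map j Φz) b := by
      rw [psiSeq_map j Φz (constantCoeff_polyS _)]; rfl
    have h2 : j (psiSeq Az (N - 1)) = psiSeq Aq (N - 1) := by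
      rw [← hA, psiSeq_map j Az (constantCoeff_polyS _)]; rfl
    change j (psiSeq Φz b) = j (psiSeq Az (N - 1))
    rw [h1, h2, hΦ, psiSeq_eq_of_agreeBelow (agreeBelow_polyS_coeff (b + 1) (frobS (a + 1) Aq)
      (constantCoeff_frobS _ _)) (constantCoeff_polyS _) (constantCoeff_frobS _ _) b (by omega)]
    unfold frobS
    rw [psiSeq_ofPsi]
  -- specialise to K
  set θ : MvPolynomial (Fin N) ℤ →ₐ[ℤ] K :=
    MvPolynomial.aeval (fun m : Fin N => LambdaOps.lam ((m : ℕ) + 1) x) with hθ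
  have hx : adamsOp (N - 1 + 1) x = θ (psiSeq Az (N - 1)) :=
    adamsOp_eq_of_polyS (θ : MvPolynomial (Fin N) ℤ →+* K) (fun m : Fin N => MvPolynomial.X m) x
      (by intro m; rw [RingHom.coe_coe, hθ, MvPolynomial.aeval_X]) (N - 1) (by omega)
  have hi : ∀ i : Fin (b + 1), adamsOp (a + 1) (LambdaOps.lam ((i : ℕ) + 1) x) = θ (psiSeq (Cz i) a) := by
    intro i
    refine adamsOp_eq_of_polyS (θ : MvPolynomial (Fin N) ℤ →+* K) _ (LambdaOps.lam ((i : ℕ) + 1) x) ?_ a (by omega)
    intro jj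
    rw [RingHom.coe_coe, hθ, MvPolynomial.aeval_rename, hK.lam_lam _ _ (Qij i jj) (hQij i jj) x]
    rfl
  -- the outer Adams operation is a ring endomorphism
  have h1 : ∀ k : ℕ, 1 ≤ k → adamsOp k (1 : K) = 1 := adamsOp_one_of_isSpecial hK
  have hmul : ∀ k : ℕ, 1 ≤ k → ∀ x y : K, adamsOp k (x * y) = adamsOp k x * adamsOp k y :=
    adamsOp_mul_of_isSpecial hK hP
  set g := adamsHom h1 hmul (a + 1) (by omega) with hg
  have hgx : adamsOp (a + 1) (adamsOp (b + 1) x) = psiSeq (PowerSeries.map g (lamSeries x)) b := by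
    rw [psiSeq_map g _ (constantCoeff_lamSeries x), Function.comp_apply, psiSeq_lamSeries]
    rfl
  have hmapΦ : PowerSeries.map (θ : MvPolynomial (Fin N) ℤ →+* K) Φz =
      polyS fun i : Fin (b + 1) => g (LambdaOps.lam ((i : ℕ) + 1) x) := by
    rw [hΦz, map_polyS]
    apply polyS_congr
    intro i
    rw [Function.comp_apply, RingHom.coe_coe, ← hi i]
    rfl
  have hN1 : N - 1 + 1 = N := by omega
  rw [hgx, ← psiSeq_eq_of_agreeBelow (agreeBelow_polyS_lamSeries g (b + 1) x) (constantCoeff_polyS _)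
    (constantCoeff_map_one g _ (constantCoeff_lamSeries x)) b (by omega), ← hmapΦ,
    psiSeq_map _ _ (constantCoeff_polyS _), Function.comp_apply, huniv, RingHom.coe_coe, ← hx, hN1]

end Converse2

end Lam

end Groth.Agent.Helper13
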