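import Groth.Agent.Lib.Helper13.LamLine
import Mathlib.RingTheory.PowerSeries.Substitution
import Mathlib.RingTheory.PowerSeries.WellKnown

/-!
The γ-series of a pre-λ-ring as the substitution `t ↦ t/(1-t)` in the λ-series; multiplicativity (helper13).
-/

universe u v

open PowerSeries Finset

namespace Groth.Agent.Helper13

namespace Lam

open LambdaRing

section Subst

variable (R : Type u) [CommRing R]

/-- The series `t/(1-t)`. -/
noncomputable def sT : R⟦X⟧ := X * PowerSeries.mk 1

lemma hasSubst_sT : HasSubst (sT R) := by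
  apply HasSubst.of_constantCoeff_zero'
  simp [sT]

lemma one_add_sT_mul : (1 + sT R) * (1 - X) = 1 := by
  have := mk_one_mul_one_sub_eq_one R
  rw [sT, add_mul, one_mul, mul_assoc, this, mul_one]
  ring

lemma coeff_sT_pow (d k : ℕ) :
    coeff k ((sT R) ^ d) =
      if d = 0 then (if k = 0 then 1 else 0) else if d ≤ k then ((k - 1).choose (d - 1) : R) else 0 := by
  rcases d with _ | d
  · rw [pow_zero, coeff_one, if_pos rfl]
  · rw [if_neg (by omega), sT, mul_pow, mk_one_pow_eq_mk_choose_add, coeff_X_pow_mul']
    split_ifs with h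
    · rw [coeff_mk]
      have : d + (k - (d + 1)) = k - 1 := by omega
      rw [this, Nat.add_sub_cancel]
    · rfl

end Subst

section Gamma

variable {K : Type u} [CommRing K] [LambdaOps K]

/-- The γ-series `Σ γ^k(x) t^k`. -/
noncomputable def gammaSeries (x : K) : K⟦X⟧ := PowerSeries.mk fun k => gamma k x

lemma coeff_gammaSeries (x : K) (k : ℕ) : coeff k (gammaSeries x) = gamma k x := coeff_mk _ _

lemma gammaSeries_eq_subst (x : K) : gammaSeries x = (lamSeries x).subst (sT K) := by
  ext k
  rw [coeff_gammaSeries, coeff_subst' (hasSubst_sT K)]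
  rw [finsum_eq_sum_of_support_subset (s := range (k + 1))]
  · simp only [smul_eq_mul, coeff_lamSeries, coeff_sT_pow]
    unfold gamma
    rcases k with _ | k
    · rw [if_pos rfl, Finset.sum_range_one, if_pos rfl, if_pos rfl, LambdaOps.lam_zero, mul_one]
    · rw [if_neg (by omega)]
      apply Finset.sum_congr rfl
      intro j hj
      have hj' : j ≤ k + 1 := by have := mem_range.1 hj; omega
      by_cases h0 : j = 0
      · rw [if_pos h0, if_pos h0, if_neg (by omega), mul_zero, mul_zero]
      · rw [if_neg h0, if_neg h0, if_pos hj', Nat.add_sub_cancel, mul_comm]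
  · intro d hd
    rw [Function.mem_support] at hd
    rw [Finset.coe_range, Set.mem_Iio]
    by_contra hlt
    apply hd
    rw [coeff_sT_pow, if_neg (by omega), if_neg (by omega), smul_zero]

lemma gammaSeries_add (x y : K) : gammaSeries (x + y) = gammaSeries x * gammaSeries y := by
  rw [gammaSeries_eq_subst, gammaSeries_eq_subst, gammaSeries_eq_subst, lamSeries_add,
    subst_mul (hasSubst_sT K)]

lemma gammaSeries_zero : gammaSeries (0 : K) = 1 := by
  rw [gammaSeries_eq_subst, lamSeries_zero, ← map_one (PowerSeries.C (R := K)), subst_C, map_one]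
  rfl

lemma gammaSeries_sum {ι : Type v} (s : Finset ι) (f : ι → K) :
    gammaSeries (∑ i ∈ s, f i) = ∏ i ∈ s, gammaSeries (f i) := by
  classical
  induction s using Finset.induction_on with
  | empty => rw [Finset.sum_empty, Finset.prod_empty, gammaSeries_zero]
  | insert a s ha ih => rw [Finset.sum_insert ha, Finset.prod_insert ha, gammaSeries_add, ih]

lemma gammaSeries_of_line (y : K) (hy : ∀ j : ℕ, 2 ≤ j → LambdaOps.lam j y = 0) :
    gammaSeries y = 1 + C y * sT K := by
  have hs := hasSubst_sT K
  rw [gammaSeries_eq_subst, lamSeries_of_line y hy, subst_add hs, subst_mul hs, subst_X hs,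
    ← map_one (PowerSeries.C (R := K)), subst_C, subst_C]
  rfl

lemma gammaSeries_line_sub_one (h1 : ∀ k : ℕ, 2 ≤ k → LambdaOps.lam k (1 : K) = 0) (y : K)
    (hy : ∀ j : ℕ, 2 ≤ j → LambdaOps.lam j y = 0) :
    gammaSeries (y - 1) = 1 + C (y - 1) * X := by
  have hone : gammaSeries (1 : K) * (1 - X) = 1 := by
    rw [gammaSeries_of_line 1 h1, map_one, one_mul, one_add_sT_mul]
  calc gammaSeries (y - 1) = gammaSeries (y - 1) * (gammaSeries (1 : K) * (1 - X)) := by
        rw [hone, mul_one]
    _ = gammaSeries (y - 1 + 1) * (1 - X) := by rw [gammaSeries_add]; ring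
    _ = (1 + C y * sT K) * (1 - X) := by rw [sub_add_cancel, gammaSeries_of_line y hy]
    _ = (1 + sT K) * (1 - X) + C (y - 1) * (sT K * (1 - X)) := by rw [map_sub, map_one]; ring
    _ = 1 + C (y - 1) * X := by
        rw [one_add_sT_mul, sT, mul_assoc, mk_one_mul_one_sub_eq_one, mul_one]

end Gamma

end Lam

end Groth.Agent.Helper13
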