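import Groth.Agent.Lib.Helper13.LamBasic

/-!
Line-like elements of pre-λ-rings (`λ^j = 0` for `j ≥ 2`) and alternating partial sums (helper13).
-/

universe u v

open PowerSeries Finset

namespace Groth.Agent.Helper13

namespace Lam

open LambdaRing

section Line

variable {K : Type u} [CommRing K] [LambdaOps K]

lemma coeff_one_add_C_mul_X {R : Type v} [CommRing R] (a : R) (n : ℕ) :
    coeff n (1 + C a * X : R⟦X⟧) = if n = 0 then 1 else if n = 1 then a else 0 := by
  rcases n with _ | _ | n
  · simp
  · simp
  · rw [map_add, coeff_one, if_neg (by omega), zero_add, coeff_succ_mul_X, coeff_C, if_neg (by omega),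
      if_neg (by omega), if_neg (by omega)]

lemma lamSeries_of_line (y : K) (hy : ∀ j : ℕ, 2 ≤ j → LambdaOps.lam j y = 0) :
    lamSeries y = 1 + C y * X := by
  ext n
  rw [coeff_lamSeries, coeff_one_add_C_mul_X]
  rcases n with _ | _ | n
  · rw [if_pos rfl, LambdaOps.lam_zero]
  · rw [if_neg (by omega), if_pos rfl, LambdaOps.lam_one]
  · rw [if_neg (by omega), if_neg (by omega), hy _ (by omega)]

lemma lamSeries_one (h1 : ∀ k : ℕ, 2 ≤ k → LambdaOps.lam k (1 : K) = 0) :
    lamSeries (1 : K) = 1 + X := by
  rw [lamSeries_of_line 1 h1, map_one, one_mul]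

end Line

section Alt

variable {R : Type u} [CommRing R]

/-- Alternating partial sums of `A * (1 + X)` telescope. -/
lemma alt_sum_mul_one_add_X (A : R⟦X⟧) (m : ℕ) :
    ∑ i ∈ range (m + 1), (-1 : R) ^ i * coeff i (A * (1 + X)) = (-1) ^ m * coeff m A := by
  induction m with
  | zero => simp
  | succ m ih =>
    rw [Finset.sum_range_succ, ih, mul_add, mul_one, map_add, coeff_succ_mul_X, pow_succ]
    ring

end Alt

end Lam

end Groth.Agent.Helper13
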