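import Groth.Agent.Lib.Helper13.LamBasic

/-!
Existence of solutions of `y' = y L`, `y(0) = 1` over ℚ-algebras (helper13), used to build λ-structures from
Adams operations.
-/

universe u

open PowerSeries Finset

namespace Groth.Agent.Helper13

namespace Lam

section Sol

variable {R : Type u} [CommRing R] [Algebra ℚ R]

/-- The coefficients of the solution of `y' = y L`, `y(0) = 1`, where `L = Σ c_j t^j`. -/
noncomputable def sol (c : ℕ → R) : ℕ → R
  | 0 => 1
  | n + 1 => algebraMap ℚ R ((n + 1 : ℚ)⁻¹) * ∑ i : Fin (n + 1), sol c i.1 * c (n - i.1)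
decreasing_by exact i.2

lemma sol_zero (c : ℕ → R) : sol c 0 = 1 := by
  rw [sol]

lemma sol_succ (c : ℕ → R) (n : ℕ) :
    sol c (n + 1) = algebraMap ℚ R ((n + 1 : ℚ)⁻¹) * ∑ i : Fin (n + 1), sol c i.1 * c (n - i.1) := by
  rw [sol]

lemma algebraMap_inv_mul (n : ℕ) : algebraMap ℚ R ((n + 1 : ℚ)⁻¹) * ((n : R) + 1) = 1 := by
  have h : ((n : R) + 1) = algebraMap ℚ R (n + 1 : ℚ) := by
    rw [map_add, map_natCast, map_one]
  rw [h, ← map_mul, inv_mul_cancel₀ (by exact_mod_cast Nat.succ_ne_zero n), map_one]

lemma sol_succ_mul (c : ℕ → R) (n : ℕ) :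
    sol c (n + 1) * ((n : R) + 1) = ∑ p ∈ Finset.antidiagonal n, sol c p.1 * c p.2 := by
  rw [sol_succ, mul_comm, ← mul_assoc, mul_comm ((n : R) + 1), algebraMap_inv_mul, one_mul,
    Finset.Nat.sum_antidiagonal_eq_sum_range_succ_mk, Finset.sum_range]

/-- The solution series. -/
noncomputable def solSeries (c : ℕ → R) : R⟦X⟧ := PowerSeries.mk (sol c)

lemma constantCoeff_solSeries (c : ℕ → R) : constantCoeff (solSeries c) = 1 := by
  rw [← coeff_zero_eq_constantCoeff_apply, solSeries, coeff_mk, sol_zero]

lemma derivative_solSeries (c : ℕ → R) :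
    PowerSeries.derivative R (solSeries c) = solSeries c * PowerSeries.mk c := by
  ext n
  rw [coeff_derivative, coeff_mul, solSeries, coeff_mk, sol_succ_mul]
  apply Finset.sum_congr rfl
  intro p _
  rw [coeff_mk, coeff_mk]

lemma solSeries_add (c c' : ℕ → R) : solSeries (c + c') = solSeries c * solSeries c' := by
  apply ode_unique (PowerSeries.mk (c + c'))
  · rw [map_mul, constantCoeff_solSeries, constantCoeff_solSeries, constantCoeff_solSeries, mul_one]
  · exact derivative_solSeries _
  · rw [Derivation.leibniz, derivative_solSeries, derivative_solSeries]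
    have : PowerSeries.mk (c + c') = PowerSeries.mk c + PowerSeries.mk c' := by
      ext n; simp
    rw [this]
    simp only [smul_eq_mul]
    ring

end Sol

end Lam

end Groth.Agent.Helper13
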