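import Groth.Agent.Lib.Helper13.LamPsi

/-!
The universal "product" and "composition" operations on power series with constant coefficient one over
ℚ-algebras, defined through Adams sequences (helper13).
-/

universe u v w

open PowerSeries Finset

namespace Groth.Agent.Helper13

namespace Lam

section Defs

variable {R : Type u} [CommRing R] [Algebra ℚ R]

/-- The series whose Adams sequence is the product of those of `φ` and `ψ` (the universal `λ_t(xy)`). -/
noncomputable def mulS (φ ψ : R⟦X⟧) : R⟦X⟧ := ofPsi fun k => psiSeq φ k * psiSeq ψ k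

/-- The inner series of `compS`: Adams sequence `l ↦ ψ^{k(l+1)}`. -/
noncomputable def frobS (k : ℕ) (φ : R⟦X⟧) : R⟦X⟧ := ofPsi fun l => psiSeq φ (k * (l + 1) - 1)

/-- The universal `λ_t(λ^i x)`. -/
noncomputable def compS (i : ℕ) (φ : R⟦X⟧) : R⟦X⟧ := ofPsi fun m => coeff i (frobS (m + 1) φ)

lemma constantCoeff_mulS (φ ψ : R⟦X⟧) : constantCoeff (mulS φ ψ) = 1 := constantCoeff_ofPsi _
lemma constantCoeff_frobS (k : ℕ) (φ : R⟦X⟧) : constantCoeff (frobS k φ) = 1 := constantCoeff_ofPsi _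
lemma constantCoeff_compS (i : ℕ) (φ : R⟦X⟧) : constantCoeff (compS i φ) = 1 := constantCoeff_ofPsi _

end Defs

section MapOps

variable {R : Type u} {R' : Type v} [CommRing R] [CommRing R'] [Algebra ℚ R] [Algebra ℚ R']

omit [Algebra ℚ R] [Algebra ℚ R'] in
lemma constantCoeff_map_one (θ : R →+* R') (φ : R⟦X⟧) (h : constantCoeff φ = 1) :
    constantCoeff (PowerSeries.map θ φ) = 1 := by
  rw [← coeff_zero_eq_constantCoeff_apply, coeff_map, coeff_zero_eq_constantCoeff_apply, h, map_one]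

lemma map_mulS (θ : R →+* R') (φ ψ : R⟦X⟧) (h : constantCoeff φ = 1) (h' : constantCoeff ψ = 1) :
    PowerSeries.map θ (mulS φ ψ) = mulS (PowerSeries.map θ φ) (PowerSeries.map θ ψ) := by
  unfold mulS
  rw [map_ofPsi, psiSeq_map θ φ h, psiSeq_map θ ψ h']
  congr 1
  funext k
  simp only [Function.comp_apply, map_mul]

lemma map_frobS (θ : R →+* R') (k : ℕ) (φ : R⟦X⟧) (h : constantCoeff φ = 1) :
    PowerSeries.map θ (frobS k φ) = frobS k (PowerSeries.map θ φ) := by
  unfold frobS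
  rw [map_ofPsi, psiSeq_map θ φ h]
  rfl

lemma map_compS (θ : R →+* R') (i : ℕ) (φ : R⟦X⟧) (h : constantCoeff φ = 1) :
    PowerSeries.map θ (compS i φ) = compS i (PowerSeries.map θ φ) := by
  unfold compS
  rw [map_ofPsi]
  congr 1
  funext m
  rw [Function.comp_apply, ← coeff_map, map_frobS θ _ φ h]

end MapOps

section TruncOps

variable {R : Type u} [CommRing R] [Algebra ℚ R]

lemma coeff_mulS_eq_of_agreeBelow {n : ℕ} {φ φ' ψ ψ' : R⟦X⟧} (h : AgreeBelow (n + 1) φ φ')
    (h' : AgreeBelow (n + 1) ψ ψ') (h1 : constantCoeff φ = 1) (h1' : constantCoeff φ' = 1)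
    (h2 : constantCoeff ψ = 1) (h2' : constantCoeff ψ' = 1) :
    coeff n (mulS φ ψ) = coeff n (mulS φ' ψ') := by
  unfold mulS
  apply coeff_ofPsi_eq_of_agree (m := n) _ n le_rfl
  intro k hk
  rw [psiSeq_eq_of_agreeBelow h h1 h1' k hk, psiSeq_eq_of_agreeBelow h' h2 h2' k hk]

lemma coeff_compS_eq_of_agreeBelow {i j : ℕ} {φ φ' : R⟦X⟧} (h : AgreeBelow (i * j + 1) φ φ')
    (h1 : constantCoeff φ = 1) (h1' : constantCoeff φ' = 1) :
    coeff j (compS i φ) = coeff j (compS i φ') := by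
  unfold compS
  apply coeff_ofPsi_eq_of_agree (m := j) _ j le_rfl
  intro m hm
  unfold frobS
  apply coeff_ofPsi_eq_of_agree (m := i) _ i le_rfl
  intro l hl
  apply psiSeq_eq_of_agreeBelow h h1 h1'
  have h3 : (m + 1) * (l + 1) ≤ j * i := Nat.mul_le_mul (by omega) (by omega)
  have h4 : 0 < (m + 1) * (l + 1) := Nat.mul_pos (by omega) (by omega)
  rw [mul_comm j i] at h3
  omega

end TruncOps

section Univ

variable {R : Type u} [CommRing R] [Algebra ℚ R]

/-- The split series `∏ (1 + t_a X)`. -/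
noncomputable def splitS {ι : Type v} (s : Finset ι) (t : ι → R) : R⟦X⟧ := ∏ a ∈ s, (1 + C (t a) * X)

lemma splitS_eq_ofPsi {ι : Type v} (s : Finset ι) (t : ι → R) :
    splitS s t = ofPsi fun k => ∑ a ∈ s, t a ^ (k + 1) := (ofPsi_powerSum s t).symm

lemma psiSeq_splitS {ι : Type v} (s : Finset ι) (t : ι → R) (k : ℕ) :
    psiSeq (splitS s t) k = ∑ a ∈ s, t a ^ (k + 1) := by
  rw [splitS_eq_ofPsi, psiSeq_ofPsi]

lemma mulS_splitS {ι : Type v} {ι' : Type w} (s : Finset ι) (s' : Finset ι') (t : ι → R) (t' : ι' → R) :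
    mulS (splitS s t) (splitS s' t') = splitS (s ×ˢ s') fun ab => t ab.1 * t' ab.2 := by
  unfold mulS
  rw [splitS_eq_ofPsi (s ×ˢ s')]
  congr 1
  funext k
  rw [psiSeq_splitS, psiSeq_splitS, Finset.sum_mul_sum, Finset.sum_product]
  apply Finset.sum_congr rfl
  intro a _
  apply Finset.sum_congr rfl
  intro b _
  rw [mul_pow]

lemma frobS_splitS {ι : Type v} (s : Finset ι) (t : ι → R) (k : ℕ) (hk : 0 < k) :
    frobS k (splitS s t) = splitS s fun a => t a ^ k := by
  unfold frobS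
  rw [splitS_eq_ofPsi s fun a => t a ^ k]
  congr 1
  funext l
  rw [psiSeq_splitS]
  apply Finset.sum_congr rfl
  intro a _
  have : k * (l + 1) - 1 + 1 = k * (l + 1) := Nat.sub_add_cancel (Nat.mul_pos hk (by omega))
  rw [this, pow_mul]

lemma compS_splitS {ι : Type v} [DecidableEq ι] (s : Finset ι) (t : ι → R) (i : ℕ) :
    compS i (splitS s t) = splitS (s.powersetCard i) fun u => ∏ a ∈ u, t a := by
  unfold compS
  rw [splitS_eq_ofPsi (s.powersetCard i)]
  congr 1
  funext m
  rw [frobS_splitS s t (m + 1) (by omega)]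
  unfold splitS
  rw [coeff_prod_one_add]
  apply Finset.sum_congr rfl
  intro u _
  rw [Finset.prod_pow]

end Univ

end Lam

end Groth.Agent.Helper13
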