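import Groth.Agent.Lib.Helper13.LamODE
import Groth.Agent.Lib.Helper13.LamLine

/-!
Power series with constant coefficient one over ℚ-algebras, parametrised by their "Adams sequences"
(logarithmic derivative coefficients up to sign) (helper13).
-/

universe u v

open PowerSeries Finset

namespace Groth.Agent.Helper13

namespace Lam

section Psi

variable {R : Type u} [CommRing R]

/-- The Adams sequence of a power series: `psiSeq φ k = (-1)^k [t^k] (φ'/φ)`, the analogue of `ψ^{k+1}`. -/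
noncomputable def psiSeq (φ : R⟦X⟧) : ℕ → R :=
  fun k => (-1) ^ k * coeff k (PowerSeries.derivative R φ * φ.invOfUnit 1)

variable [Algebra ℚ R]

/-- The power series with constant coefficient one and prescribed Adams sequence. -/
noncomputable def ofPsi (p : ℕ → R) : R⟦X⟧ := solSeries fun k => (-1) ^ k * p k

lemma constantCoeff_ofPsi (p : ℕ → R) : constantCoeff (ofPsi p) = 1 := constantCoeff_solSeries _

lemma derivative_ofPsi (p : ℕ → R) :
    PowerSeries.derivative R (ofPsi p) = ofPsi p * PowerSeries.mk fun k => (-1) ^ k * p k :=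
  derivative_solSeries _

lemma ofPsi_add (p q : ℕ → R) : ofPsi (p + q) = ofPsi p * ofPsi q := by
  unfold ofPsi
  rw [← solSeries_add]
  congr 1
  funext k
  simp only [Pi.add_apply, mul_add]

lemma ofPsi_zero : ofPsi (0 : ℕ → R) = 1 := by
  apply ode_unique (PowerSeries.mk fun k => (-1) ^ k * (0 : ℕ → R) k)
  · rw [constantCoeff_ofPsi, map_one]
  · exact derivative_ofPsi _
  · rw [PowerSeries.derivative_one]
    have : (PowerSeries.mk fun k => (-1 : R) ^ k * (0 : ℕ → R) k) = 0 := by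
      ext k; simp
    rw [this, mul_zero]

lemma ofPsi_sum {ι : Type v} (s : Finset ι) (p : ι → ℕ → R) :
    ofPsi (∑ a ∈ s, p a) = ∏ a ∈ s, ofPsi (p a) := by
  classical
  induction s using Finset.induction_on with
  | empty => rw [Finset.sum_empty, Finset.prod_empty, ofPsi_zero]
  | insert a s ha ih => rw [Finset.sum_insert ha, Finset.prod_insert ha, ofPsi_add, ih]

lemma ofPsi_mul_invOfUnit (p : ℕ → R) : ofPsi p * (ofPsi p).invOfUnit 1 = 1 :=
  mul_invOfUnit _ _ (by rw [constantCoeff_ofPsi, Units.val_one])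

lemma psiSeq_ofPsi (p : ℕ → R) : psiSeq (ofPsi p) = p := by
  funext k
  unfold psiSeq
  rw [derivative_ofPsi, mul_comm (ofPsi p), mul_assoc, ofPsi_mul_invOfUnit, mul_one, coeff_mk, ← mul_assoc,
    ← mul_pow, neg_one_mul, neg_neg, one_pow, one_mul]

lemma ofPsi_psiSeq (φ : R⟦X⟧) (h : constantCoeff φ = 1) : ofPsi (psiSeq φ) = φ := by
  have hinv : φ * φ.invOfUnit 1 = 1 := mul_invOfUnit _ _ (by rw [h, Units.val_one])
  apply ode_unique (PowerSeries.derivative R φ * φ.invOfUnit 1)
  · rw [constantCoeff_ofPsi, h]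
  · rw [derivative_ofPsi]
    congr 1
    ext k
    rw [coeff_mk]
    unfold psiSeq
    rw [← mul_assoc, ← mul_pow, neg_one_mul, neg_neg, one_pow, one_mul]
  · rw [mul_comm φ, mul_assoc, mul_comm _ φ, hinv, mul_one]

lemma ofPsi_injective {p q : ℕ → R} (h : ofPsi p = ofPsi q) : p = q := by
  rw [← psiSeq_ofPsi p, h, psiSeq_ofPsi]

/-- The linear factor `1 + t X` has Adams sequence `t^{k+1}`. -/
lemma ofPsi_pow_succ (t : R) : ofPsi (fun k => t ^ (k + 1)) = 1 + C t * X := by
  apply ode_unique (PowerSeries.mk fun k => (-1) ^ k * t ^ (k + 1))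
  · rw [constantCoeff_ofPsi]; simp
  · exact derivative_ofPsi _
  · ext k
    rw [map_add, Derivation.map_one_eq_zero, zero_add, Derivation.leibniz, derivative_X, derivative_C,
      smul_zero, add_zero, smul_eq_mul, mul_one, add_mul, one_mul, map_add, coeff_mk]
    rcases k with _ | k
    · simp
    · rw [mul_assoc, coeff_C_mul, mul_comm X, coeff_succ_mul_X, coeff_mk, coeff_C, if_neg (by omega)]
      ring

lemma ofPsi_powerSum {ι : Type v} (s : Finset ι) (t : ι → R) :
    ofPsi (fun k => ∑ a ∈ s, t a ^ (k + 1)) = ∏ a ∈ s, (1 + C (t a) * X) := by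
  have : (fun k => ∑ a ∈ s, t a ^ (k + 1)) = ∑ a ∈ s, fun k => t a ^ (k + 1) := by
    funext k
    rw [Finset.sum_apply]
  rw [this, ofPsi_sum]
  exact Finset.prod_congr rfl fun a _ => ofPsi_pow_succ (t a)

end Psi

section Coeff

variable {R : Type u} [CommRing R]

lemma coeff_prod_one_add {ι : Type v} [DecidableEq ι] (s : Finset ι) (t : ι → R) (k : ℕ) :
    coeff k (∏ a ∈ s, (1 + C (t a) * X)) = ∑ u ∈ s.powersetCard k, ∏ a ∈ u, t a := by
  rw [Finset.prod_one_add, map_sum]
  have h3 : ∀ u ∈ s.powerset,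
      coeff k (∏ a ∈ u, (C (t a) * X)) = if u.card = k then ∏ a ∈ u, t a else 0 := by
    intro u _
    rw [Finset.prod_mul_distrib, Finset.prod_const, ← map_prod, coeff_C_mul, coeff_X_pow]
    split_ifs with h h' h'
    · rw [mul_one]
    · exact absurd h.symm h'
    · exact absurd h'.symm h
    · rw [mul_zero]
  rw [Finset.sum_congr rfl h3, ← Finset.sum_filter, Finset.powersetCard_eq_filter]

end Coeff

section MapPsi

variable {R : Type u} {R' : Type v} [CommRing R] [CommRing R']

lemma psiSeq_map (θ : R →+* R') (φ : R⟦X⟧) (h : constantCoeff φ = 1) :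
    psiSeq (PowerSeries.map θ φ) = θ ∘ psiSeq φ := by
  funext k
  unfold psiSeq
  rw [Function.comp_apply, ← map_derivative, ← map_invOfUnit_one θ φ h, ← map_mul (PowerSeries.map θ), coeff_map,
    map_mul θ, map_pow θ, map_neg θ, map_one θ]

variable [Algebra ℚ R] [Algebra ℚ R']

lemma sol_map (θ : R →+* R') (c : ℕ → R) (n : ℕ) : sol (θ ∘ c) n = θ (sol c n) := by
  induction n using Nat.strong_induction_on with
  | _ n ih =>
    cases n with
    | zero => rw [sol_zero, sol_zero, map_one]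
    | succ n =>
      rw [sol_succ, sol_succ, map_mul, map_sum, RingHom.map_rat_algebraMap]
      congr 1
      apply Finset.sum_congr rfl
      intro i _
      rw [ih i.1 i.2, map_mul, Function.comp_apply]

lemma map_ofPsi (θ : R →+* R') (p : ℕ → R) : PowerSeries.map θ (ofPsi p) = ofPsi (θ ∘ p) := by
  ext n
  unfold ofPsi solSeries
  rw [coeff_map, coeff_mk, coeff_mk, ← sol_map]
  congr 1
  funext k
  simp only [Function.comp_apply, map_mul, map_pow, map_neg, map_one]

end MapPsi

section Trunc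

variable {R : Type u} [CommRing R]

/-- Two power series agree in degrees `< m`. -/
def AgreeBelow (m : ℕ) (φ ψ : R⟦X⟧) : Prop := ∀ i < m, coeff i φ = coeff i ψ

lemma AgreeBelow.refl (m : ℕ) (φ : R⟦X⟧) : AgreeBelow m φ φ := fun _ _ => rfl

lemma AgreeBelow.symm {m : ℕ} {φ ψ : R⟦X⟧} (h : AgreeBelow m φ ψ) : AgreeBelow m ψ φ :=
  fun i hi => (h i hi).symm

lemma AgreeBelow.mono {m m' : ℕ} {φ ψ : R⟦X⟧} (h : AgreeBelow m φ ψ) (hm : m' ≤ m) : AgreeBelow m' φ ψ :=
  fun i hi => h i (lt_of_lt_of_le hi hm)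

lemma AgreeBelow.mul {m : ℕ} {φ φ' ψ ψ' : R⟦X⟧} (h : AgreeBelow m φ φ') (h' : AgreeBelow m ψ ψ') :
    AgreeBelow m (φ * ψ) (φ' * ψ') := by
  intro i hi
  rw [coeff_mul, coeff_mul]
  apply Finset.sum_congr rfl
  intro p hp
  have := Finset.mem_antidiagonal.1 hp
  rw [h p.1 (by omega), h' p.2 (by omega)]

lemma AgreeBelow.derivative {m : ℕ} {φ φ' : R⟦X⟧} (h : AgreeBelow (m + 1) φ φ') :
    AgreeBelow m (PowerSeries.derivative R φ) (PowerSeries.derivative R φ') := by
  intro i hi
  rw [coeff_derivative, coeff_derivative, h (i + 1) (by omega)]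

lemma AgreeBelow.invOfUnit {m : ℕ} {φ φ' : R⟦X⟧} (h : AgreeBelow m φ φ') (h1 : constantCoeff φ = 1)
    (h1' : constantCoeff φ' = 1) : AgreeBelow m (φ.invOfUnit 1) (φ'.invOfUnit 1) := by
  have e1 : φ * φ.invOfUnit 1 = 1 := mul_invOfUnit _ _ (by rw [h1, Units.val_one])
  have e2 : φ' * φ'.invOfUnit 1 = 1 := mul_invOfUnit _ _ (by rw [h1', Units.val_one])
  have key := (AgreeBelow.refl m (φ.invOfUnit 1)).mul (h.symm.mul (AgreeBelow.refl m (φ'.invOfUnit 1)))
  have l1 : φ.invOfUnit 1 * (φ' * φ'.invOfUnit 1) = φ.invOfUnit 1 := by rw [e2, mul_one]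
  have l2 : φ.invOfUnit 1 * (φ * φ'.invOfUnit 1) = φ'.invOfUnit 1 := by
    rw [← mul_assoc, mul_comm _ φ, e1, one_mul]
  rw [l1, l2] at key
  exact key

lemma psiSeq_eq_of_agreeBelow {m : ℕ} {φ φ' : R⟦X⟧} (h : AgreeBelow (m + 1) φ φ') (h1 : constantCoeff φ = 1)
    (h1' : constantCoeff φ' = 1) (k : ℕ) (hk : k < m) : psiSeq φ k = psiSeq φ' k := by
  unfold psiSeq
  rw [(h.derivative.mul ((h.mono (Nat.le_succ m)).invOfUnit h1 h1')) k hk]

variable [Algebra ℚ R]

lemma sol_eq_of_agree {m : ℕ} {c c' : ℕ → R} (h : ∀ k < m, c k = c' k) (i : ℕ) (hi : i ≤ m) :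
    sol c i = sol c' i := by
  induction i using Nat.strong_induction_on with
  | _ i ih =>
    cases i with
    | zero => rw [sol_zero, sol_zero]
    | succ i =>
      rw [sol_succ, sol_succ]
      congr 1
      apply Finset.sum_congr rfl
      intro l _
      rw [ih l.1 l.2 (by have := l.2; omega), h (i - l.1) (by omega)]

lemma coeff_ofPsi_eq_of_agree {m : ℕ} {p p' : ℕ → R} (h : ∀ k < m, p k = p' k) (i : ℕ) (hi : i ≤ m) :
    coeff i (ofPsi p) = coeff i (ofPsi p') := by
  unfold ofPsi solSeries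
  rw [coeff_mk, coeff_mk]
  exact sol_eq_of_agree (fun k hk => by rw [h k hk]) i hi

end Trunc

end Lam

end Groth.Agent.Helper13
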