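import Groth.Agent.Lib.Helper13.LamUniv

/-!
Main theorem: a pre-λ-ring embedded in a ℚ-algebra whose Adams operations are unital, multiplicative and
compose is special (helper13).
-/

universe u v

open PowerSeries Finset

namespace Groth.Agent.Helper13

namespace Lam

open LambdaRing

section TwoFamilies

variable (n : ℕ)

/-- The two-family symmetric evaluation `X_k ↦ e_{k+1}(T)`, `Y_k ↦ e_{k+1}(U)`. -/
noncomputable def twoEval : MvPolynomial (Fin n ⊕ Fin n) ℚ →ₐ[ℚ] MvPolynomial (Fin n ⊕ Fin n) ℚ :=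
  MvPolynomial.aeval (Sum.elim
    (fun k : Fin n => MvPolynomial.rename Sum.inl (MvPolynomial.esymm (Fin n) ℚ ((k : ℕ) + 1)))
    (fun k : Fin n => MvPolynomial.rename Sum.inr (MvPolynomial.esymm (Fin n) ℚ ((k : ℕ) + 1))))

lemma twoEval_injective : Function.Injective (twoEval n) := by
  set S := MvPolynomial.sumAlgEquiv ℚ (Fin n) (Fin n) with hS
  set E : MvPolynomial (Fin n) ℚ →ₐ[ℚ] MvPolynomial (Fin n) ℚ :=
    MvPolynomial.aeval (fun k : Fin n => MvPolynomial.esymm (Fin n) ℚ ((k : ℕ) + 1)) with hE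
  set α : MvPolynomial (Fin n) (MvPolynomial (Fin n) ℚ) →+* MvPolynomial (Fin n) (MvPolynomial (Fin n) ℚ) :=
    MvPolynomial.map (E : MvPolynomial (Fin n) ℚ →+* MvPolynomial (Fin n) ℚ) with hα
  set β : MvPolynomial (Fin n) (MvPolynomial (Fin n) ℚ) →ₐ[MvPolynomial (Fin n) ℚ]
      MvPolynomial (Fin n) (MvPolynomial (Fin n) ℚ) :=
    MvPolynomial.aeval (fun k : Fin n => MvPolynomial.esymm (Fin n) (MvPolynomial (Fin n) ℚ) ((k : ℕ) + 1)) with hβ
  have hαinj : Function.Injective α := MvPolynomial.map_injective _ (esymm_aeval_injective ℚ n)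
  have hβinj : Function.Injective β := esymm_aeval_injective (MvPolynomial (Fin n) ℚ) n
  have key : ((S : MvPolynomial (Fin n ⊕ Fin n) ℚ →+* MvPolynomial (Fin n) (MvPolynomial (Fin n) ℚ)).comp
        (twoEval n : MvPolynomial (Fin n ⊕ Fin n) ℚ →+* MvPolynomial (Fin n ⊕ Fin n) ℚ)) =
      ((β : MvPolynomial (Fin n) (MvPolynomial (Fin n) ℚ) →+* MvPolynomial (Fin n) (MvPolynomial (Fin n) ℚ)).comp
        α).comp (S : MvPolynomial (Fin n ⊕ Fin n) ℚ →+* MvPolynomial (Fin n) (MvPolynomial (Fin n) ℚ)) := by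
    apply MvPolynomial.ringHom_ext
    · intro q
      simp only [RingHom.comp_apply, RingHom.coe_coe]
      rw [twoEval, MvPolynomial.aeval_C, MvPolynomial.algebraMap_eq, hS, MvPolynomial.sumAlgEquiv_C_inl, hα,
        MvPolynomial.map_C, hE, RingHom.coe_coe, MvPolynomial.aeval_C, MvPolynomial.algebraMap_eq]
      simp
    · rintro (k | k)
      · simp only [RingHom.comp_apply, RingHom.coe_coe]
        rw [twoEval, MvPolynomial.aeval_X, Sum.elim_inl, hS, MvPolynomial.sumAlgEquiv_X_inl, hα,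
          MvPolynomial.map_X, hβ, MvPolynomial.aeval_X]
        have := AlgHom.congr_fun (MvPolynomial.sumAlgEquiv_comp_rename_inl (R := ℚ) (S₁ := Fin n) (S₂ := Fin n))
          (MvPolynomial.esymm (Fin n) ℚ ((k : ℕ) + 1))
        rw [AlgHom.comp_apply] at this
        refine Eq.trans this ?_
        rw [MvPolynomial.mapAlgHom_apply, MvPolynomial.map_esymm]
      · simp only [RingHom.comp_apply, RingHom.coe_coe]
        rw [twoEval, MvPolynomial.aeval_X, Sum.elim_inr, hS, MvPolynomial.sumAlgEquiv_X_inr, hα,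
          MvPolynomial.map_C, hE, RingHom.coe_coe, MvPolynomial.aeval_X, hβ, MvPolynomial.aeval_C,
          MvPolynomial.algebraMap_eq]
        have := AlgHom.congr_fun (MvPolynomial.sumAlgEquiv_comp_rename_inr (R := ℚ) (S₁ := Fin n) (S₂ := Fin n))
          (MvPolynomial.esymm (Fin n) ℚ ((k : ℕ) + 1))
        rw [AlgHom.comp_apply] at this
        refine Eq.trans this ?_
        rfl
  intro a b hab
  have h1 := RingHom.congr_fun key a
  have h2 := RingHom.congr_fun key b
  simp only [RingHom.comp_apply, RingHom.coe_coe] at h1 h2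
  rw [hab, h2] at h1
  exact (S.injective (hαinj (hβinj h1))).symm

end TwoFamilies

section Main

variable {K : Type u} [CommRing K] [LambdaOps K] {K' : Type v} [CommRing K'] [Algebra ℚ K'] (ι : K →+* K')

lemma theta_coeff_mulS {R : Type*} [CommRing R] [Algebra ℚ R] {R' : Type*} [CommRing R'] [Algebra ℚ R']
    (θ : R →+* R') (n : ℕ) (a b : Fin n → R) :
    θ (coeff n (mulS (polyS a) (polyS b))) = coeff n (mulS (polyS (θ ∘ a)) (polyS (θ ∘ b))) := by
  rw [← coeff_map, map_mulS θ _ _ (constantCoeff_polyS a) (constantCoeff_polyS b), map_polyS, map_polyS]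

lemma theta_coeff_compS {R : Type*} [CommRing R] [Algebra ℚ R] {R' : Type*} [CommRing R'] [Algebra ℚ R']
    (θ : R →+* R') (i j N : ℕ) (a : Fin N → R) :
    θ (coeff j (compS i (polyS a))) = coeff j (compS i (polyS (θ ∘ a))) := by
  rw [← coeff_map, map_compS θ _ _ (constantCoeff_polyS a), map_polyS]

/-- The universal coefficient of the product, in the symmetric model. -/
lemma twoEval_coeff_mulS (n : ℕ) :
    twoEval n (coeff n (mulS (polyS fun k : Fin n => (MvPolynomial.X (Sum.inl k) : MvPolynomial (Fin n ⊕ Fin n) ℚ))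
      (polyS fun k : Fin n => (MvPolynomial.X (Sum.inr k) : MvPolynomial (Fin n ⊕ Fin n) ℚ)))) =
    MvPolynomial.map (Int.castRingHom ℚ) (mulGen n n) := by
  have h := theta_coeff_mulS (twoEval n : MvPolynomial (Fin n ⊕ Fin n) ℚ →+* MvPolynomial (Fin n ⊕ Fin n) ℚ) n
    (fun k : Fin n => (MvPolynomial.X (Sum.inl k) : MvPolynomial (Fin n ⊕ Fin n) ℚ))
    (fun k : Fin n => (MvPolynomial.X (Sum.inr k) : MvPolynomial (Fin n ⊕ Fin n) ℚ))
  rw [RingHom.coe_coe] at h
  rw [h]
  have hl : ((twoEval n : MvPolynomial (Fin n ⊕ Fin n) ℚ → MvPolynomial (Fin n ⊕ Fin n) ℚ) ∘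
      fun k : Fin n => (MvPolynomial.X (Sum.inl k) : MvPolynomial (Fin n ⊕ Fin n) ℚ)) =
      fun k : Fin n => ∑ u ∈ (univ : Finset (Fin n)).powersetCard ((k : ℕ) + 1),
        ∏ a ∈ u, (MvPolynomial.X (Sum.inl a) : MvPolynomial (Fin n ⊕ Fin n) ℚ) := by
    funext k
    rw [Function.comp_apply, twoEval, MvPolynomial.aeval_X, Sum.elim_inl, esymm_eq_sum, map_sum]
    apply Finset.sum_congr rfl
    intro u _
    rw [map_prod]
    apply Finset.prod_congr rfl
    intro a _
    rw [MvPolynomial.rename_X]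
  have hr : ((twoEval n : MvPolynomial (Fin n ⊕ Fin n) ℚ → MvPolynomial (Fin n ⊕ Fin n) ℚ) ∘
      fun k : Fin n => (MvPolynomial.X (Sum.inr k) : MvPolynomial (Fin n ⊕ Fin n) ℚ)) =
      fun k : Fin n => ∑ u ∈ (univ : Finset (Fin n)).powersetCard ((k : ℕ) + 1),
        ∏ a ∈ u, (MvPolynomial.X (Sum.inr a) : MvPolynomial (Fin n ⊕ Fin n) ℚ) := by
    funext k
    rw [Function.comp_apply, twoEval, MvPolynomial.aeval_X, Sum.elim_inr, esymm_eq_sum, map_sum]
    apply Finset.sum_congr rfl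
    intro u _
    rw [map_prod]
    apply Finset.prod_congr rfl
    intro a _
    rw [MvPolynomial.rename_X]
  rw [hl, hr, polyS_powersetCard, polyS_powersetCard]
  have := mulS_splitS (univ : Finset (Fin n)) (univ : Finset (Fin n))
    (fun a => (MvPolynomial.X (Sum.inl a) : MvPolynomial (Fin n ⊕ Fin n) ℚ))
    (fun a => (MvPolynomial.X (Sum.inr a) : MvPolynomial (Fin n ⊕ Fin n) ℚ))
  unfold splitS at this
  rw [this, coeff_prod_one_add, Finset.univ_product_univ]
  unfold mulGen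
  rw [Finset.esymm_map_val, map_sum]
  apply Finset.sum_congr rfl
  intro u _
  rw [map_prod]
  apply Finset.prod_congr rfl
  intro ab _
  rw [map_mul, MvPolynomial.map_X, MvPolynomial.map_X]

/-- The rational universal product polynomial. -/
lemma map_isMulPoly_eq (n : ℕ) (P : MvPolynomial (Fin n ⊕ Fin n) ℤ) (hP : IsMulPoly n P) :
    MvPolynomial.map (Int.castRingHom ℚ) P =
      coeff n (mulS (polyS fun k : Fin n => (MvPolynomial.X (Sum.inl k) : MvPolynomial (Fin n ⊕ Fin n) ℚ))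
        (polyS fun k : Fin n => (MvPolynomial.X (Sum.inr k) : MvPolynomial (Fin n ⊕ Fin n) ℚ))) := by
  apply twoEval_injective n
  rw [twoEval_coeff_mulS, ← hP.1]
  have key : ((twoEval n : MvPolynomial (Fin n ⊕ Fin n) ℚ →+* MvPolynomial (Fin n ⊕ Fin n) ℚ).comp
      (MvPolynomial.map (Int.castRingHom ℚ))) =
      (MvPolynomial.map (Int.castRingHom ℚ)).comp
        ((MvPolynomial.aeval (Sum.elim
          (fun k : Fin n => MvPolynomial.rename Sum.inl (MvPolynomial.esymm (Fin n) ℤ ((k : ℕ) + 1)))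
          (fun k : Fin n => MvPolynomial.rename Sum.inr (MvPolynomial.esymm (Fin n) ℤ ((k : ℕ) + 1)))) :
            MvPolynomial (Fin n ⊕ Fin n) ℤ →ₐ[ℤ] MvPolynomial (Fin n ⊕ Fin n) ℤ) :
              MvPolynomial (Fin n ⊕ Fin n) ℤ →+* MvPolynomial (Fin n ⊕ Fin n) ℤ) := by
    apply mvRingHom_ext_int
    rintro (k | k)
    · simp only [RingHom.comp_apply, RingHom.coe_coe, MvPolynomial.map_X, MvPolynomial.aeval_X, Sum.elim_inl, twoEval,
        MvPolynomial.map_rename, MvPolynomial.map_esymm]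
    · simp only [RingHom.comp_apply, RingHom.coe_coe, MvPolynomial.map_X, MvPolynomial.aeval_X, Sum.elim_inr, twoEval,
        MvPolynomial.map_rename, MvPolynomial.map_esymm]
  have := RingHom.congr_fun key P
  simp only [RingHom.comp_apply, RingHom.coe_coe] at this
  exact this

/-- Key step for products. -/
lemma lam_mul_of_adams (hι : Function.Injective ι)
    (hmul : ∀ k : ℕ, 1 ≤ k → ∀ x y : K, adamsOp k (x * y) = adamsOp k x * adamsOp k y)
    (n : ℕ) (P : MvPolynomial (Fin n ⊕ Fin n) ℤ) (hP : IsMulPoly n P) (x y : K) :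
    LambdaOps.lam n (x * y) =
      MvPolynomial.aeval (Sum.elim (fun k : Fin n => LambdaOps.lam ((k : ℕ) + 1) x)
        (fun k : Fin n => LambdaOps.lam ((k : ℕ) + 1) y)) P := by
  apply hι
  set θ : MvPolynomial (Fin n ⊕ Fin n) ℚ →ₐ[ℚ] K' :=
    MvPolynomial.aeval (Sum.elim (fun k : Fin n => ι (LambdaOps.lam ((k : ℕ) + 1) x))
      (fun k : Fin n => ι (LambdaOps.lam ((k : ℕ) + 1) y))) with hθ
  -- the right-hand side
  have hR : ι (MvPolynomial.aeval (Sum.elim (fun k : Fin n => LambdaOps.lam ((k : ℕ) + 1) x)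
      (fun k : Fin n => LambdaOps.lam ((k : ℕ) + 1) y)) P) = θ (MvPolynomial.map (Int.castRingHom ℚ) P) := by
    have key : (ι.comp ((MvPolynomial.aeval (Sum.elim (fun k : Fin n => LambdaOps.lam ((k : ℕ) + 1) x)
        (fun k : Fin n => LambdaOps.lam ((k : ℕ) + 1) y)) : MvPolynomial (Fin n ⊕ Fin n) ℤ →ₐ[ℤ] K) :
          MvPolynomial (Fin n ⊕ Fin n) ℤ →+* K)) =
        ((θ : MvPolynomial (Fin n ⊕ Fin n) ℚ →+* K').comp (MvPolynomial.map (Int.castRingHom ℚ))) := by
      apply mvRingHom_ext_int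
      rintro (k | k)
      · simp only [RingHom.comp_apply, RingHom.coe_coe, MvPolynomial.map_X, MvPolynomial.aeval_X, Sum.elim_inl, hθ]
      · simp only [RingHom.comp_apply, RingHom.coe_coe, MvPolynomial.map_X, MvPolynomial.aeval_X, Sum.elim_inr, hθ]
    have := RingHom.congr_fun key P
    simp only [RingHom.comp_apply, RingHom.coe_coe] at this
    exact this
  rw [hR, map_isMulPoly_eq n P hP]
  have h := theta_coeff_mulS (θ : MvPolynomial (Fin n ⊕ Fin n) ℚ →+* K') n
    (fun k : Fin n => (MvPolynomial.X (Sum.inl k) : MvPolynomial (Fin n ⊕ Fin n) ℚ))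
    (fun k : Fin n => (MvPolynomial.X (Sum.inr k) : MvPolynomial (Fin n ⊕ Fin n) ℚ))
  rw [RingHom.coe_coe] at h
  rw [h]
  have hl : ((θ : MvPolynomial (Fin n ⊕ Fin n) ℚ → K') ∘
      fun k : Fin n => (MvPolynomial.X (Sum.inl k) : MvPolynomial (Fin n ⊕ Fin n) ℚ)) =
      fun k : Fin n => ι (LambdaOps.lam ((k : ℕ) + 1) x) := by
    funext k
    rw [Function.comp_apply, hθ, MvPolynomial.aeval_X, Sum.elim_inl]
  have hr : ((θ : MvPolynomial (Fin n ⊕ Fin n) ℚ → K') ∘
      fun k : Fin n => (MvPolynomial.X (Sum.inr k) : MvPolynomial (Fin n ⊕ Fin n) ℚ)) =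
      fun k : Fin n => ι (LambdaOps.lam ((k : ℕ) + 1) y) := by
    funext k
    rw [Function.comp_apply, hθ, MvPolynomial.aeval_X, Sum.elim_inr]
  rw [hl, hr]
  rw [coeff_mulS_eq_of_agreeBelow (agreeBelow_polyS_lamSeries ι n x) (agreeBelow_polyS_lamSeries ι n y)
    (constantCoeff_polyS _) (constantCoeff_map_one ι _ (constantCoeff_lamSeries x))
    (constantCoeff_polyS _) (constantCoeff_map_one ι _ (constantCoeff_lamSeries y)),
    ← map_lamSeries_mul ι hmul, coeff_map, coeff_lamSeries]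

/-- The one-family symmetric evaluation. -/
noncomputable def oneEval (N : ℕ) : MvPolynomial (Fin N) ℚ →ₐ[ℚ] MvPolynomial (Fin N) ℚ :=
  MvPolynomial.aeval (fun k : Fin N => MvPolynomial.esymm (Fin N) ℚ ((k : ℕ) + 1))

lemma oneEval_injective (N : ℕ) : Function.Injective (oneEval N) := esymm_aeval_injective ℚ N

lemma oneEval_coeff_compS (i j : ℕ) :
    oneEval (i * j) (coeff j (compS i (polyS fun k : Fin (i * j) =>
      (MvPolynomial.X k : MvPolynomial (Fin (i * j)) ℚ)))) =
    MvPolynomial.map (Int.castRingHom ℚ) (compGen (i * j) i j) := by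
  have h := theta_coeff_compS (oneEval (i * j) : MvPolynomial (Fin (i * j)) ℚ →+* MvPolynomial (Fin (i * j)) ℚ)
    i j (i * j) (fun k : Fin (i * j) => (MvPolynomial.X k : MvPolynomial (Fin (i * j)) ℚ))
  rw [RingHom.coe_coe] at h
  rw [h]
  have hl : ((oneEval (i * j) : MvPolynomial (Fin (i * j)) ℚ → MvPolynomial (Fin (i * j)) ℚ) ∘
      fun k : Fin (i * j) => (MvPolynomial.X k : MvPolynomial (Fin (i * j)) ℚ)) =
      fun k : Fin (i * j) => ∑ u ∈ (univ : Finset (Fin (i * j))).powersetCard ((k : ℕ) + 1),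
        ∏ a ∈ u, (MvPolynomial.X a : MvPolynomial (Fin (i * j)) ℚ) := by
    funext k
    rw [Function.comp_apply, oneEval, MvPolynomial.aeval_X, esymm_eq_sum]
  rw [hl, polyS_powersetCard]
  have := compS_splitS (univ : Finset (Fin (i * j)))
    (fun a => (MvPolynomial.X a : MvPolynomial (Fin (i * j)) ℚ)) i
  unfold splitS at this
  rw [this, coeff_prod_one_add]
  unfold compGen
  rw [Finset.esymm_map_val, map_sum]
  apply Finset.sum_congr rfl
  intro w _
  rw [map_prod]
  apply Finset.prod_congr rfl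
  intro u _
  rw [map_prod]
  apply Finset.prod_congr rfl
  intro a _
  rw [MvPolynomial.map_X]

lemma map_isCompPoly_eq (i j : ℕ) (Q : MvPolynomial (Fin (i * j)) ℤ) (hQ : IsCompPoly i j Q) :
    MvPolynomial.map (Int.castRingHom ℚ) Q =
      coeff j (compS i (polyS fun k : Fin (i * j) => (MvPolynomial.X k : MvPolynomial (Fin (i * j)) ℚ))) := by
  apply oneEval_injective (i * j)
  rw [oneEval_coeff_compS, ← hQ.1]
  have key : ((oneEval (i * j) : MvPolynomial (Fin (i * j)) ℚ →+* MvPolynomial (Fin (i * j)) ℚ).comp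
      (MvPolynomial.map (Int.castRingHom ℚ))) =
      (MvPolynomial.map (Int.castRingHom ℚ)).comp
        ((MvPolynomial.aeval (fun k : Fin (i * j) => MvPolynomial.esymm (Fin (i * j)) ℤ ((k : ℕ) + 1)) :
            MvPolynomial (Fin (i * j)) ℤ →ₐ[ℤ] MvPolynomial (Fin (i * j)) ℤ) :
              MvPolynomial (Fin (i * j)) ℤ →+* MvPolynomial (Fin (i * j)) ℤ) := by
    apply mvRingHom_ext_int
    intro k
    simp only [RingHom.comp_apply, RingHom.coe_coe, MvPolynomial.map_X, MvPolynomial.aeval_X, oneEval,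
      MvPolynomial.map_esymm]
  have := RingHom.congr_fun key Q
  simp only [RingHom.comp_apply, RingHom.coe_coe] at this
  exact this

/-- Key step for compositions. -/
lemma lam_lam_of_adams (hι : Function.Injective ι)
    (h1 : ∀ k : ℕ, 1 ≤ k → adamsOp k (1 : K) = 1)
    (hmul : ∀ k : ℕ, 1 ≤ k → ∀ x y : K, adamsOp k (x * y) = adamsOp k x * adamsOp k y)
    (hcomp : ∀ k k' : ℕ, 1 ≤ k → 1 ≤ k' → ∀ x : K, adamsOp k (adamsOp k' x) = adamsOp (k * k') x)
    (i j : ℕ) (Q : MvPolynomial (Fin (i * j)) ℤ) (hQ : IsCompPoly i j Q) (x : K) :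
    LambdaOps.lam j (LambdaOps.lam i x) =
      MvPolynomial.aeval (fun k : Fin (i * j) => LambdaOps.lam ((k : ℕ) + 1) x) Q := by
  apply hι
  set θ : MvPolynomial (Fin (i * j)) ℚ →ₐ[ℚ] K' :=
    MvPolynomial.aeval (fun k : Fin (i * j) => ι (LambdaOps.lam ((k : ℕ) + 1) x)) with hθ
  have hR : ι (MvPolynomial.aeval (fun k : Fin (i * j) => LambdaOps.lam ((k : ℕ) + 1) x) Q) =
      θ (MvPolynomial.map (Int.castRingHom ℚ) Q) := by
    have key : (ι.comp ((MvPolynomial.aeval (fun k : Fin (i * j) => LambdaOps.lam ((k : ℕ) + 1) x) :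
        MvPolynomial (Fin (i * j)) ℤ →ₐ[ℤ] K) : MvPolynomial (Fin (i * j)) ℤ →+* K)) =
        ((θ : MvPolynomial (Fin (i * j)) ℚ →+* K').comp (MvPolynomial.map (Int.castRingHom ℚ))) := by
      apply mvRingHom_ext_int
      intro k
      simp only [RingHom.comp_apply, RingHom.coe_coe, MvPolynomial.map_X, MvPolynomial.aeval_X, hθ]
    have := RingHom.congr_fun key Q
    simp only [RingHom.comp_apply, RingHom.coe_coe] at this
    exact this
  rw [hR, map_isCompPoly_eq i j Q hQ]
  have h := theta_coeff_compS (θ : MvPolynomial (Fin (i * j)) ℚ →+* K') i j (i * j)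
    (fun k : Fin (i * j) => (MvPolynomial.X k : MvPolynomial (Fin (i * j)) ℚ))
  rw [RingHom.coe_coe] at h
  rw [h]
  have hl : ((θ : MvPolynomial (Fin (i * j)) ℚ → K') ∘
      fun k : Fin (i * j) => (MvPolynomial.X k : MvPolynomial (Fin (i * j)) ℚ)) =
      fun k : Fin (i * j) => ι (LambdaOps.lam ((k : ℕ) + 1) x) := by
    funext k
    rw [Function.comp_apply, hθ, MvPolynomial.aeval_X]
  rw [hl]
  rw [coeff_compS_eq_of_agreeBelow (agreeBelow_polyS_lamSeries ι (i * j) x)
    (constantCoeff_polyS _) (constantCoeff_map_one ι _ (constantCoeff_lamSeries x)),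
    ← map_lamSeries_lam ι h1 hmul hcomp, coeff_map, coeff_lamSeries]

/-- Main theorem: a pre-λ-ring embedded in a ℚ-algebra whose Adams operations are unital, multiplicative and
compose is special. -/
theorem isSpecial_of_adams (hι : Function.Injective ι)
    (h1 : ∀ k : ℕ, 1 ≤ k → adamsOp k (1 : K) = 1)
    (hmul : ∀ k : ℕ, 1 ≤ k → ∀ x y : K, adamsOp k (x * y) = adamsOp k x * adamsOp k y)
    (hcomp : ∀ k k' : ℕ, 1 ≤ k → 1 ≤ k' → ∀ x : K, adamsOp k (adamsOp k' x) = adamsOp (k * k') x) :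
    IsSpecial K where
  lam_one_eq_zero n hn := by
    apply hι
    have h : PowerSeries.map ι (lamSeries (1 : K)) = 1 + C (1 : K') * X := by
      rw [map_lamSeries_eq_ofPsi, ← ofPsi_pow_succ]
      congr 1
      funext k
      rw [h1 (k + 1) (by omega), map_one, one_pow]
    have h2 := congrArg (coeff n) h
    rw [coeff_map, coeff_lamSeries, coeff_one_add_C_mul_X, if_neg (by omega), if_neg (by omega)] at h2
    rw [h2, map_zero]
  lam_mul n P hP x y := lam_mul_of_adams ι hι hmul n P hP x y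
  lam_lam i j Q hQ x := lam_lam_of_adams ι hι h1 hmul hcomp i j Q hQ x

end Main

end Lam

end Groth.Agent.Helper13
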