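import Groth.Agent.Lib.Helper13.LamAdams
import Mathlib.RingTheory.MvPolynomial.Symmetric.FundamentalTheorem
import Mathlib.Algebra.MvPolynomial.Equiv

/-!
Universal polynomials for λ-rings through Adams sequences: if the Adams operations of a pre-λ-ring (embedded in
a ℚ-algebra) are unital, multiplicative and compose, the ring is special (helper13).
-/

universe u v

open PowerSeries Finset

namespace Groth.Agent.Helper13

namespace Lam

open LambdaRing

section PolyS

variable {R : Type u} [CommRing R]

/-- The polynomial series `1 + a_0 X + ⋯ + a_{n-1} X^n`. -/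
noncomputable def polyS {n : ℕ} (a : Fin n → R) : R⟦X⟧ :=
  PowerSeries.mk fun k => if k = 0 then 1 else if h : k - 1 < n then a ⟨k - 1, h⟩ else 0

lemma constantCoeff_polyS {n : ℕ} (a : Fin n → R) : constantCoeff (polyS a) = 1 := by
  rw [← coeff_zero_eq_constantCoeff_apply, polyS, coeff_mk, if_pos rfl]

lemma map_polyS {R' : Type v} [CommRing R'] (θ : R →+* R') {n : ℕ} (a : Fin n → R) :
    PowerSeries.map θ (polyS a) = polyS (θ ∘ a) := by
  ext k
  rw [coeff_map, polyS, polyS, coeff_mk, coeff_mk]
  split_ifs with h h'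
  · rw [map_one]
  · rfl
  · rw [map_zero]

lemma polyS_powersetCard {n : ℕ} (t : Fin n → R) :
    polyS (fun k : Fin n => ∑ u ∈ (univ : Finset (Fin n)).powersetCard ((k : ℕ) + 1), ∏ a ∈ u, t a) =
      ∏ a : Fin n, (1 + C (t a) * X) := by
  ext k
  rw [coeff_prod_one_add, polyS, coeff_mk]
  split_ifs with h h'
  · subst h
    rw [Finset.powersetCard_zero, Finset.sum_singleton, Finset.prod_empty]
  · have : k - 1 + 1 = k := by omega
    simp only [this]
  · rw [Finset.powersetCard_eq_empty.2 (by rw [Finset.card_univ, Fintype.card_fin]; omega), Finset.sum_empty]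

end PolyS

section KSide

variable {K : Type u} [CommRing K] [LambdaOps K] {K' : Type v} [CommRing K'] (ι : K →+* K')

lemma agreeBelow_polyS_lamSeries (n : ℕ) (x : K) :
    AgreeBelow (n + 1) (polyS fun k : Fin n => ι (LambdaOps.lam ((k : ℕ) + 1) x))
      (PowerSeries.map ι (lamSeries x)) := by
  intro k hk
  rw [coeff_map, coeff_lamSeries, polyS, coeff_mk]
  split_ifs with h h'
  · subst h; rw [LambdaOps.lam_zero, map_one]
  · have : k - 1 + 1 = k := by omega
    simp only [this]
  · omega

end KSide

section IntHom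

open MvPolynomial in
lemma mvRingHom_ext_int {σ : Type*} {S : Type*} [CommRing S] (f g : MvPolynomial σ ℤ →+* S)
    (h : ∀ i, f (MvPolynomial.X i) = g (MvPolynomial.X i)) : f = g :=
  MvPolynomial.ringHom_ext (fun z => RingHom.congr_fun (RingHom.ext_int (f.comp MvPolynomial.C)
    (g.comp MvPolynomial.C)) z) h

end IntHom

section Esymm

open MvPolynomial in
lemma esymm_eq_sum (σ : Type*) [Fintype σ] [DecidableEq σ] (R : Type*) [CommRing R] (m : ℕ) :
    MvPolynomial.esymm σ R m = ∑ u ∈ (univ : Finset σ).powersetCard m, ∏ a ∈ u, (MvPolynomial.X a : MvPolynomial σ R) := by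
  unfold MvPolynomial.esymm
  congr!

open MvPolynomial in
/-- The one-family symmetric evaluation is injective. -/
lemma esymm_aeval_injective (R : Type*) [CommRing R] (n : ℕ) :
    Function.Injective (MvPolynomial.aeval (R := R) (fun k : Fin n => MvPolynomial.esymm (Fin n) R ((k : ℕ) + 1)) :
      MvPolynomial (Fin n) R → MvPolynomial (Fin n) R) := by
  intro p q h
  apply MvPolynomial.esymmAlgHom_fin_injective R (le_refl n)
  apply Subtype.ext
  rw [MvPolynomial.esymmAlgHom_apply, MvPolynomial.esymmAlgHom_apply]
  exact h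

end Esymm

end Lam

end Groth.Agent.Helper13
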