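import Mathlib
import Groth.Prelude.Def_Coh
import Groth.Prelude.Def_CohBC2
import Groth.Agent.Lib.Helper13.HomCmpIso
import Groth.Agent.Lib.Helper13.RpushCmp
import Groth.Agent.Lib.Helper13.RpushQCoh
import Groth.Agent.S0028

/-!
# The second Leray edge map `R^q (f ≫ g)_* M ⟶ g_* (R^q f_* M)` is an isomorphism for affine `g`
(`f` qcqs, `M` quasi-coherent)
-/

universe u
set_option linter.unusedSectionVars false
set_option maxHeartbeats 400000
open CategoryTheory CategoryTheory.Limits AlgebraicGeometry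

namespace Groth.Agent.Helper13.LerayOut

open Groth.Agent.Helper13.HomCmpIso Groth.Agent.Helper13.ToAbExact

variable {X Y Z : Scheme.{u}}

instance faithful_toAbF (Z : Scheme.{u}) : (toAbF Z).Faithful :=
  inferInstanceAs ((SheafOfModules.toSheaf Z.ringCatSheaf).Faithful)

instance preservesFiniteLimits_pushAb (g : Y ⟶ Z) : PreservesFiniteLimits (Coh.pushAb g) :=
  inferInstanceAs (PreservesFiniteLimits (CohTop.push g.base))

/-- `f_*` of an injective module is acyclic for `g_*` (flasque) -/
lemma acyc_push_injective (f : X ⟶ Y) (g : Y ⟶ Z) (I : X.Modules) [Injective I] :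
    Acyc (toAbF Y) (Coh.pushAb g) ((Scheme.Modules.pushforward f).obj I) := by
  intro q
  have hfl : TopCat.Sheaf.IsFlasque (X := X.toTopCat) (Coh.toAb I) := ModFlasque.isFlasque_toAb I
  have hfl' : TopCat.Sheaf.IsFlasque (X := Y.toTopCat)
      ((toAbF Y).obj ((Scheme.Modules.pushforward f).obj I)) :=
    TopCat.Sheaf.IsFlasque.pushforward_isFlasque (Coh.toAb I) f.base
  exact Groth.Agent.Helper24.Flasque.Rpush_succ_isZero g.base q _ hfl'

/-- a quasi-coherent module is acyclic for `g_*`, `g` affine -/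
lemma acyc_qcoh (g : Y ⟶ Z) [IsAffineHom g] (N : Y.Modules) [Coh.IsQCoh N] :
    Acyc (toAbF Y) (Coh.pushAb g) N :=
  fun q => Groth.Agent.S0028.result g N (q + 1) (Nat.succ_pos q)

theorem isIso_lerayEdgeOut (f : X ⟶ Y) (g : Y ⟶ Z) [QuasiCompact f] [QuasiSeparated f]
    [IsAffineHom g] [HasInjectiveResolutions X.Modules] (M : X.Modules) [Coh.IsQCoh M] (p : ℕ) :
    IsIso (CohBC.lerayEdgeOut f g p M) := by
  obtain ⟨Δ⟩ := Groth.Agent.S16463.result (Coh.pushAb g)
  let I := injectiveResolution M
  let K : CochainComplex Y.Modules ℕ :=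
    ((Scheme.Modules.pushforward f).mapHomologicalComplex _).obj I.cocomplex
  have hK : ∀ n, Acyc (toAbF Y) (Coh.pushAb g) (K.X n) := fun n =>
    acyc_push_injective f g (I.cocomplex.X n)
  have hH : ∀ n, Acyc (toAbF Y) (Coh.pushAb g) (K.homology n) := by
    intro n
    have hq : Coh.IsQCoh ((Coh.Rpush f n).obj M) :=
      Groth.Agent.Helper13.RpushQCoh.isQuasicoherent_Rpush f M n
    exact (acyc_qcoh g ((Coh.Rpush f n).obj M)).of_iso
      (I.isoRightDerivedObj (Scheme.Modules.pushforward f) n)
  have key : IsIso (RDer.homologyComparison (Scheme.Modules.pushforward g) K p) :=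
    isIso_homologyComparison_of_acyc (Scheme.Modules.pushforward g) (toAbF Y) (toAbF Z)
      (Coh.pushAb g) (RpushCmp.pushToAb g) Δ K hK hH p
  have h2 : IsIso (RDer.edgeOut (Scheme.Modules.pushforward f) (Scheme.Modules.pushforward g) p M) := by
    dsimp only [RDer.edgeOut]
    exact IsIso.comp_isIso' inferInstance (IsIso.comp_isIso' key inferInstance)
  dsimp only [CohBC.lerayEdgeOut]
  infer_instance

end Groth.Agent.Helper13.LerayOut
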