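import Mathlib
import Groth.Prelude.Def_Coh
import Groth.Prelude.Def_CohB1
import Groth.Agent.Lib.Helper13.AssUniq
import Groth.Agent.Lib.Helper13.AssPrim2

/-!
# Sections vanishing at the minimal associated points (helper13)

For a module `F` on a scheme, `IsMinPt F x` says that `x` is a weakly associated point of `F` with no
proper weakly associated generization.
* `not_subsingleton_stalk_of_isWeakAssPoint`: weakly associated points lie in the support;
* `exists_isMinPt_specializes`: (coherent, locally Noetherian) every point of the support has a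
  minimal generization;
* `exists_pow_smul_germ_eq_zero`: a function vanishing at a minimal point acts nilpotently on the
  germs at that point;
* `minSub F`, `minSheaf F`, `minι F`: the subsheaf of sections with zero germ at all minimal points;
  `isQuasicoherent_minSheaf`.
-/

set_option autoImplicit false
universe u
open CategoryTheory CategoryTheory.Limits AlgebraicGeometry Opposite TopologicalSpace
open Groth.Agent.Helper13.QCoh Groth.Agent.Helper13.FinType

namespace Groth.Agent.Helper13.MinKer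

variable {X : Scheme.{u}} (F : X.Modules)

/-- `x` is a minimal (weakly) associated point of `F`. -/
def IsMinPt (x : X) : Prop :=
  Curv2.IsWeakAssPoint F x ∧ ∀ y, Curv2.IsWeakAssPoint F y → y ⤳ x → y = x

lemma not_subsingleton_stalk_of_isWeakAssPoint (x : X) (hx : Curv2.IsWeakAssPoint F x) :
    ¬ Subsingleton (F.presheaf.stalk x) := by
  intro hs
  obtain ⟨m, hm⟩ := hx
  have h1 : (1 : X.presheaf.stalk x) ∈ Ideal.radical (LinearMap.ker
      (LinearMap.toSpanSingleton (X.presheaf.stalk x) (F.presheaf.stalk x) m)) := by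
    apply Ideal.le_radical
    rw [LinearMap.mem_ker]
    exact Subsingleton.elim _ _
  rw [hm] at h1
  exact (IsLocalRing.maximalIdeal.isMaximal _).ne_top
    ((Ideal.eq_top_iff_one _).2 h1)

section QC

variable [F.IsQuasicoherent] {V : X.Opens} (hV : IsAffineOpen V)

include hV in
/-- a section with non-zero germ at `x` has a weakly associated point, minimal over its annihilator,
specializing to `x`. -/
lemma exists_minimalPrimes_specializes (x : X) (hxV : x ∈ V) (t : Γ(F, V))
    (ht : F.presheaf.germ V x hxV t ≠ 0) :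
    ∃ (y : X) (hy : y ∈ V), (hV.primeIdealOf ⟨y, hy⟩).asIdeal ∈ (annSec F t).minimalPrimes ∧
      Curv2.IsWeakAssPoint F y ∧ y ⤳ x := by
  have hle : annSec F t ≤ (hV.primeIdealOf ⟨x, hxV⟩).asIdeal := by
    intro a ha
    rw [mem_annSec] at ha
    by_contra hna
    have hxa : x ∈ X.basicOpen a := (mem_basicOpen_iff_notMem_primeIdealOf hV x hxV a).2 hna
    apply ht
    apply eq_zero_of_germ_smul_eq_zero F x hxV a hxa
    rw [← germ_smul, ha, map_zero]
  obtain ⟨p, hp, hpx⟩ := Ideal.exists_minimalPrimes_le hle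
  have hpp : p.IsPrime := hp.1.1
  have hyV : hV.fromSpec ⟨p, hpp⟩ ∈ V := Groth.Agent.Helper13.WeakAss.fromSpec_mem hV _
  have hqe : hV.primeIdealOf ⟨hV.fromSpec ⟨p, hpp⟩, hyV⟩ = ⟨p, hpp⟩ :=
    hV.fromSpec.isOpenEmbedding.injective (hV.fromSpec_primeIdealOf ⟨hV.fromSpec ⟨p, hpp⟩, hyV⟩)
  refine ⟨hV.fromSpec ⟨p, hpp⟩, hyV, by rw [hqe]; exact hp,
    (isWeakAssPoint_iff_exists_mem_minimalPrimes F hV _ hyV).2 ⟨t, by rw [hqe]; exact hp⟩, ?_⟩
  rw [← primeIdealOf_le_iff hV _ x hyV hxV, hqe]
  exact hpx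

include hV in
/-- a function vanishing at a minimal point `x` acts nilpotently on germs at `x`. -/
theorem exists_pow_smul_germ_eq_zero [IsLocallyNoetherian X] (x : X) (hx : IsMinPt F x)
    (hxV : x ∈ V) (t : Γ(F, V)) (r : Γ(X, V)) (hr : r ∈ (hV.primeIdealOf ⟨x, hxV⟩).asIdeal) :
    ∃ k : ℕ, F.presheaf.germ V x hxV (r ^ k • t) = 0 := by
  classical
  haveI : IsNoetherianRing Γ(X, V) := IsLocallyNoetherian.component_noetherian ⟨V, hV⟩
  by_cases ht : F.presheaf.germ V x hxV t = 0
  · exact ⟨0, by rw [pow_zero, one_smul]; exact ht⟩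
  obtain ⟨y, hyV, hymin, hyass, hyx⟩ := exists_minimalPrimes_specializes F hV x hxV t ht
  have hyx' : y = x := hx.2 y hyass hyx
  subst hyx'
  have hfin : (annSec F t).minimalPrimes.Finite :=
    Ideal.finite_minimalPrimes_of_isNoetherianRing _ _
  let S : Finset (Ideal Γ(X, V)) := hfin.toFinset.erase (hV.primeIdealOf ⟨y, hxV⟩).asIdeal
  have hS : ¬ (S.inf id ≤ (hV.primeIdealOf ⟨y, hxV⟩).asIdeal) := by
    rw [(hV.primeIdealOf ⟨y, hxV⟩).isPrime.inf_le']
    rintro ⟨q, hqS, hle⟩
    have hq : q ∈ (annSec F t).minimalPrimes := hfin.mem_toFinset.1 (Finset.mem_erase.1 hqS).2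
    have hne : q ≠ (hV.primeIdealOf ⟨y, hxV⟩).asIdeal := (Finset.mem_erase.1 hqS).1
    exact hne (le_antisymm hle (hymin.2 hq.1 hle))
  obtain ⟨a, haS, hay⟩ := SetLike.not_le_iff_exists.1 hS
  have hrad : a * r ∈ (annSec F t).radical := by
    rw [← Ideal.sInf_minimalPrimes, Ideal.mem_sInf]
    intro q hq
    by_cases hqy : q = (hV.primeIdealOf ⟨y, hxV⟩).asIdeal
    · rw [hqy]
      exact Ideal.mul_mem_left _ _ hr
    · have hqS : q ∈ S := Finset.mem_erase.2 ⟨hqy, hfin.mem_toFinset.2 hq⟩
      have hle := Finset.inf_le (f := id) hqS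
      exact Ideal.mul_mem_right _ _ (hle haS)
  obtain ⟨k, hk⟩ := hrad
  refine ⟨k, ?_⟩
  rw [mem_annSec, mul_pow, mul_smul] at hk
  have hak : a ^ k ∉ (hV.primeIdealOf ⟨y, hxV⟩).asIdeal := fun h =>
    hay ((hV.primeIdealOf ⟨y, hxV⟩).isPrime.mem_of_pow_mem k h)
  have hxa : y ∈ X.basicOpen (a ^ k) := (mem_basicOpen_iff_notMem_primeIdealOf hV y hxV _).2 hak
  apply eq_zero_of_germ_smul_eq_zero F y hxV (a ^ k) hxa
  rw [← germ_smul, hk, map_zero]

end QC

/-- every point of the support of a coherent module has a minimal associated generization. -/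
theorem exists_isMinPt_specializes [IsLocallyNoetherian X] (hF : Coh.IsCoh F) (z : X)
    (hz : ¬ Subsingleton (F.presheaf.stalk z)) : ∃ x, IsMinPt F x ∧ x ⤳ z := by
  classical
  haveI : F.IsQuasicoherent := hF.1
  obtain ⟨m, hm⟩ := exists_ne_zero_of_not_subsingleton hz
  obtain ⟨_, ⟨(V : X.Opens), hV, rfl⟩, hzV, -⟩ :=
    X.isBasis_affineOpens.exists_subset_of_mem_open (Set.mem_univ z) isOpen_univ
  obtain ⟨g, hzg, t, ht⟩ := exists_germ_smul_eq F hV z hzV m
  have htne : F.presheaf.germ V z hzV t ≠ 0 := by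
    intro h0
    rw [h0] at ht
    exact hm (eq_zero_of_germ_smul_eq_zero F z hzV g hzg m ht)
  obtain ⟨y, hyV, hyass, hyz⟩ :=
    Groth.Agent.Helper13.AssUniq.exists_weakAss_specializes_of_germ_ne_zero F hV z hzV t htne
  have hfin := Groth.Agent.S1576.finite_ass_affine X F hF hV
  let T : Set X := {y | (y ∈ V ∧ Curv2.IsAssPoint F y) ∧ y ⤳ z}
  have hTfin : T.Finite := hfin.subset (fun y hy => hy.1)
  have hTne : T.Nonempty := ⟨y, ⟨hyV, (isAssPoint_iff_isWeakAssPoint F y).2 hyass⟩, hyz⟩
  letI : Preorder X := specializationPreorder X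
  obtain ⟨x, hxT, hxmax⟩ := hTfin.exists_maximal hTne
  refine ⟨x, ⟨(isAssPoint_iff_isWeakAssPoint F x).1 hxT.1.2, ?_⟩, hxT.2⟩
  intro y' hy' hy'x
  have hy'V : y' ∈ V := hy'x.mem_open V.2 hxT.1.1
  have hy'T : y' ∈ T :=
    ⟨⟨hy'V, (isAssPoint_iff_isWeakAssPoint F y').2 hy'⟩, hy'x.trans hxT.2⟩
  have h2 : x ⤳ y' := hxmax hy'T hy'x
  exact (hy'x.antisymm h2).eq

/-- the sections of `F` whose germs at all minimal points vanish. -/
noncomputable def minSub : PresheafOfModules.Submodule F.val where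
  obj V :=
    { carrier := {s | ∀ x, IsMinPt F x → ∀ hx : x ∈ V.unop, F.presheaf.germ V.unop x hx s = 0}
      add_mem' := by
        intro a b ha hb x hxm hx
        have h : F.presheaf.germ V.unop x hx (a + b : Γ(F, V.unop)) =
            F.presheaf.germ V.unop x hx a + F.presheaf.germ V.unop x hx b :=
          map_add (F.presheaf.germ V.unop x hx).hom a b
        exact h.trans (by rw [ha x hxm hx, hb x hxm hx, add_zero])
      zero_mem' := by
        intro x hxm hx
        exact map_zero (F.presheaf.germ V.unop x hx).hom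
      smul_mem' := by
        intro c s hs x hxm hx
        have h := germ_smul F V.unop x hx c s
        exact h.trans (by rw [hs x hxm hx, smul_zero]) }
  map := by
    intro V W f t ht x hxm hx
    have h := TopCat.Presheaf.germ_res_apply F.presheaf f.unop x hx t
    exact h.trans (ht x hxm (leOfHom f.unop hx))

lemma mem_minSub (V : X.Opens) (s : Γ(F, V)) :
    s ∈ (minSub F).obj (op V) ↔
      ∀ x, IsMinPt F x → ∀ hx : x ∈ V, F.presheaf.germ V x hx s = 0 := Iff.rfl

lemma isLocalSub_minSub : IsLocalSub F (minSub F) := by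
  intro V t h
  rw [mem_minSub]
  intro x hxm hx
  obtain ⟨W, hWV, hxW, hW⟩ := h x hx
  rw [mem_minSub] at hW
  have h1 := hW x hxm hxW
  rwa [TopCat.Presheaf.germ_res_apply] at h1

/-- the subsheaf of sections vanishing at the minimal points. -/
noncomputable def minSheaf : X.Modules := subsheaf F (minSub F) (isLocalSub_minSub F)

/-- its inclusion. -/
noncomputable def minι : minSheaf F ⟶ F := subsheafι F (minSub F) (isLocalSub_minSub F)

lemma minι_app_germ (V : X.Opens) (s : Γ(minSheaf F, V)) (x : X) (hxm : IsMinPt F x)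
    (hx : x ∈ V) : F.presheaf.germ V x hx ((minι F).app V s) = 0 :=
  subsheafι_app_mem F (minSub F) (isLocalSub_minSub F) V s x hxm hx

lemma exists_minι_app_eq (V : X.Opens) (t : Γ(F, V))
    (ht : ∀ x, IsMinPt F x → ∀ hx : x ∈ V, F.presheaf.germ V x hx t = 0) :
    ∃ s : Γ(minSheaf F, V), (minι F).app V s = t :=
  exists_of_mem F (minSub F) (isLocalSub_minSub F) V t ht

lemma minι_app_injective (V : X.Opens) : Function.Injective ((minι F).app V) :=
  subsheafι_app_injective F (minSub F) (isLocalSub_minSub F) V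

instance : Mono (minι F) :=
  (mono_iff_app_injective _).2 (minι_app_injective F)

lemma minι_naturality {V W : X.Opens} (hWV : W ≤ V) (s : Γ(minSheaf F, V)) :
    (minι F).app W ((minSheaf F).presheaf.map (homOfLE hWV).op s) =
      F.presheaf.map (homOfLE hWV).op ((minι F).app V s) := by
  have h := (minι F).mapPresheaf.naturality (homOfLE hWV).op
  exact congrArg (fun ψ => ψ s) h

/-- the subsheaf of sections vanishing at the minimal points of a coherent module is
quasi-coherent. -/
theorem isQuasicoherent_minSheaf [IsLocallyNoetherian X] (hF : Coh.IsCoh F) :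
    (minSheaf F).IsQuasicoherent := by
  classical
  haveI : F.IsQuasicoherent := hF.1
  refine Groth.Agent.Helper6.QcohLocal.isQuasicoherent_of_affineOpens _
    (fun V : X.affineOpens => V.1) (fun V => V.2) (fun y => ?_) ?_ ?_
  · obtain ⟨_, ⟨V, hV, rfl⟩, hyV, -⟩ := X.isBasis_affineOpens.exists_subset_of_mem_open
      (Set.mem_univ y) isOpen_univ
    exact ⟨⟨V, hV⟩, hyV⟩
  · rintro V r W U' rfl hW hWr s
    obtain ⟨n, t₀, ht₀⟩ := Groth.Agent.Helper13.QCohPush.exists_pow_smul_eq_res' F V.2 r W hWr hW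
      ((minι F).app W s)
    have hfin := Groth.Agent.S1576.finite_ass_affine X F hF V.2
    have hTfin : {x : X | x ∈ V.1 ∧ IsMinPt F x}.Finite :=
      hfin.subset (fun x hx => ⟨hx.1, (isAssPoint_iff_isWeakAssPoint F x).2 hx.2.1⟩)
    have key : ∀ x : {x : X | x ∈ V.1 ∧ IsMinPt F x}, ∃ k : ℕ,
        F.presheaf.germ V.1 x.1 x.2.1 (r ^ k • t₀) = 0 := by
      intro x
      by_cases hxW : x.1 ∈ W
      · refine ⟨0, ?_⟩
        rw [pow_zero, one_smul]
        have e1 := TopCat.Presheaf.germ_res_apply F.presheaf (homOfLE hW) x.1 hxW t₀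
        rw [← e1, ht₀, germ_smul, minι_app_germ F W s x.1 x.2.2 hxW, smul_zero]
      · apply exists_pow_smul_germ_eq_zero F V.2 x.1 x.2.2 x.2.1 t₀ r
        by_contra hr
        apply hxW
        rw [hWr]
        exact (mem_basicOpen_iff_notMem_primeIdealOf V.2 x.1 x.2.1 r).2 hr
    choose kf hkf using key
    haveI : Fintype {x : X | x ∈ V.1 ∧ IsMinPt F x} := hTfin.fintype
    let k : ℕ := Finset.univ.sup kf
    have hmem : ∀ x, IsMinPt F x → ∀ hx : x ∈ V.1, F.presheaf.germ V.1 x hx (r ^ k • t₀) = 0 := by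
      intro x hxm hx
      have hle : kf ⟨x, hx, hxm⟩ ≤ k := Finset.le_sup (f := kf) (Finset.mem_univ _)
      obtain ⟨d, hd⟩ := Nat.exists_eq_add_of_le hle
      have h1 := hkf ⟨x, hx, hxm⟩
      rw [hd, add_comm, pow_add, mul_smul, germ_smul, h1, smul_zero]
    obtain ⟨t, ht⟩ := exists_minι_app_eq F V.1 (r ^ k • t₀) hmem
    refine ⟨n + k, t, ?_⟩
    apply minι_app_injective F W
    rw [Scheme.Modules.Hom.app_smul, minι_naturality, ht, F.map_smul, ht₀, map_pow,
      smul_smul, ← pow_add, add_comm k n]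
  · rintro V r W U' rfl hW hWr t ht
    have h1 : F.presheaf.map (homOfLE hW).op ((minι F).app V.1 t) = 0 := by
      rw [← minι_naturality, ht, map_zero]
    obtain ⟨n, hn⟩ := Groth.Agent.Helper13.QCohPush.exists_pow_smul_eq_zero' F V.2 r W hWr hW _ h1
    refine ⟨n, ?_⟩
    have h2 : X.presheaf.map (homOfLE (le_refl V.1)).op r = r := res_id_apply' _ r
    apply minι_app_injective F V.1
    rw [Scheme.Modules.Hom.app_smul, map_zero]
    exact (congrArg (fun c => c ^ n • (minι F).app V.1 t) h2).trans hn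

end Groth.Agent.Helper13.MinKer
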