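import Mathlib
import Groth.Prelude.Def_Coh
import Groth.Prelude.Def_CohB1
import Groth.Agent.Lib.Helper13.MinKer1
import Groth.Agent.Lib.Helper13.GenLocus
import Groth.Agent.Lib.Helper13.EpiStalk
import Groth.Agent.Lib.Helper13.AffSurj
import Groth.Agent.S0020

/-!
# The quotient of a coherent module by the sections vanishing at the minimal points (helper13)

Setting: `F` coherent on a locally Noetherian scheme, `ι : K ⟶ F` a monomorphism whose sections
are exactly the sections of `F` with zero germ at all minimal associated points (`hmem`, `hexi`),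
and `π : F ⟶ Q` with `K → F → Q` exact.
* `subsingleton_stalk`: `K_x = 0` at minimal points;
* `inter_support_eq_empty`: the support of `K` is nowhere dense in the support of `F`;
* `germ_eq_zero_of_nowhereDense`: maximality of `K`;
* `app_eq_zero_iff`: kernel of `π` on sections;
* `support_eq`: `Supp Q = Supp F`;
* `isMinPt_of_isWeakAssPoint_quot`: the associated points of `Q` are minimal points of `F`;
* `exists_dense_open`: `π` is an isomorphism over the (dense) complement of `Supp K`.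
-/

set_option autoImplicit false
universe u
open CategoryTheory CategoryTheory.Limits AlgebraicGeometry Opposite TopologicalSpace
open Groth.Agent.Helper13.QCoh Groth.Agent.Helper13.FinType

namespace Groth.Agent.Helper13.MinKer

variable {X : Scheme.{u}} [IsLocallyNoetherian X] (F : X.Modules) (hF : Coh.IsCoh F)
  {K : X.Modules} (ι : K ⟶ F) [Mono ι]
  (hmem : ∀ (V : X.Opens) (s : Γ(K, V)) (x : X), IsMinPt F x → ∀ hx : x ∈ V,
    F.presheaf.germ V x hx (ι.app V s) = 0)
  (hexi : ∀ (V : X.Opens) (t : Γ(F, V)),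
    (∀ x, IsMinPt F x → ∀ hx : x ∈ V, F.presheaf.germ V x hx t = 0) → ∃ s : Γ(K, V), ι.app V s = t)

omit [IsLocallyNoetherian X] in
include hmem in
lemma subsingleton_stalk (x : X) (hx : IsMinPt F x) : Subsingleton (K.presheaf.stalk x) := by
  have hinj := (mono_iff_stalk_injective ι).1 inferInstance x
  have h0 : ∀ m : K.presheaf.stalk x, m = 0 := by
    intro m
    obtain ⟨W, hxW, s, rfl⟩ := TopCat.Presheaf.exists_germ_eq K.presheaf m
    apply hinj
    change stalkMap ι x _ = stalkMap ι x 0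
    rw [stalkMap_germ, hmem W s x hx hxW, map_zero]
  exact ⟨fun a b => by rw [h0 a, h0 b]⟩

include hF hmem in
/-- the support of `K` is nowhere dense in the support of `F`. -/
theorem inter_support_eq_empty (U : X.Opens)
    (hU : (U : Set X) ∩ CohB1.support F ⊆ CohB1.support K) :
    (U : Set X) ∩ CohB1.support F = ∅ := by
  by_contra hne
  obtain ⟨z, hzU, hzF⟩ := Set.nonempty_iff_ne_empty.2 hne
  obtain ⟨x, hxm, hxz⟩ := exists_isMinPt_specializes F hF z hzF
  have hxU : x ∈ U := hxz.mem_open U.2 hzU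
  have hxF : x ∈ CohB1.support F := not_subsingleton_stalk_of_isWeakAssPoint F x hxm.1
  exact hU ⟨hxU, hxF⟩ (subsingleton_stalk F ι hmem x hxm)

include hF in
/-- a quasi-coherent submodule with nowhere dense support consists of sections vanishing at the
minimal points. -/
theorem germ_eq_zero_of_nowhereDense {K' : X.Modules} [K'.IsQuasicoherent] (ι' : K' ⟶ F)
    (hnd : ∀ U : X.Opens, (U : Set X) ∩ CohB1.support F ⊆ CohB1.support K' →
      (U : Set X) ∩ CohB1.support F = ∅)
    (V : X.Opens) (s : Γ(K', V)) (x : X) (hxm : IsMinPt F x) (hx : x ∈ V) :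
    F.presheaf.germ V x hx (ι'.app V s) = 0 := by
  classical
  haveI : F.IsQuasicoherent := hF.1
  by_contra hne
  obtain ⟨_, ⟨(V₀ : X.Opens), hV₀, rfl⟩, hxV₀, hV₀V⟩ :=
    X.isBasis_affineOpens.exists_subset_of_mem_open hx V.2
  have hle : V₀ ≤ V := hV₀V
  let s₀ : Γ(K', V₀) := K'.presheaf.map (homOfLE hle).op s
  have ht : F.presheaf.germ V₀ x hxV₀ (ι'.app V₀ s₀) ≠ 0 := by
    have hnat : ι'.app V₀ s₀ = F.presheaf.map (homOfLE hle).op (ι'.app V s) :=
      congrArg (fun ψ => ψ s) (ι'.mapPresheaf.naturality (homOfLE hle).op)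
    rw [hnat, TopCat.Presheaf.germ_res_apply]
    exact hne
  have hfin := Groth.Agent.S1576.finite_ass_affine X F hF hV₀
  let T₀ : Set X := {y | y ∈ V₀ ∧ Curv2.IsAssPoint F y} \ {x}
  have hT₀fin : T₀.Finite := hfin.subset Set.sdiff_subset
  let C : Set X := ⋃ y ∈ T₀, closure {y}
  have hC : IsClosed C := hT₀fin.isClosed_biUnion (fun y _ => isClosed_closure)
  let U : X.Opens := V₀ ⊓ ⟨Cᶜ, hC.isOpen_compl⟩
  have hxC : x ∉ C := by
    intro hxC
    obtain ⟨y, hyT, hxy⟩ := Set.mem_iUnion₂.1 hxC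
    have hyx : y ⤳ x := specializes_iff_mem_closure.2 hxy
    exact hyT.2 (hxm.2 y ((isAssPoint_iff_isWeakAssPoint F y).1 hyT.1.2) hyx)
  have hxU : x ∈ U := ⟨hxV₀, hxC⟩
  have hsub : (U : Set X) ∩ CohB1.support F ⊆ CohB1.support K' := by
    rintro z ⟨hzU, hzF⟩
    have hzV₀ : z ∈ V₀ := hzU.1
    obtain ⟨m, hm⟩ := exists_ne_zero_of_not_subsingleton hzF
    obtain ⟨g, hzg, t, htm⟩ := exists_germ_smul_eq F hV₀ z hzV₀ m
    have htne : F.presheaf.germ V₀ z hzV₀ t ≠ 0 := by
      intro h0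
      rw [h0] at htm
      exact hm (eq_zero_of_germ_smul_eq_zero F z hzV₀ g hzg m htm)
    obtain ⟨y, hyV₀, hyass, hyz⟩ :=
      Groth.Agent.Helper13.AssUniq.exists_weakAss_specializes_of_germ_ne_zero F hV₀ z hzV₀ t htne
    have hyx : y = x := by
      by_contra hyx
      have hyT : y ∈ T₀ := ⟨⟨hyV₀, (isAssPoint_iff_isWeakAssPoint F y).2 hyass⟩, hyx⟩
      exact hzU.2 (Set.mem_iUnion₂.2 ⟨y, hyT, specializes_iff_mem_closure.1 hyz⟩)
    rw [hyx] at hyz
    intro hsub
    have h0 : K'.presheaf.germ V₀ z hzV₀ s₀ = 0 := Subsingleton.elim _ _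
    obtain ⟨a, hza, ha⟩ := exists_smul_eq_zero_of_germ_eq_zero K' hV₀ z hzV₀ s₀ h0
    have hxa : x ∈ X.basicOpen a := hyz.mem_open (X.basicOpen a).2 hza
    apply ht
    apply eq_zero_of_germ_smul_eq_zero F x hxV₀ a hxa
    rw [← germ_smul, ← Scheme.Modules.Hom.app_smul, ha, map_zero, map_zero]
  have hempty := hnd U hsub
  have hxx : x ∈ (U : Set X) ∩ CohB1.support F :=
    ⟨hxU, not_subsingleton_stalk_of_isWeakAssPoint F x hxm.1⟩
  rw [hempty] at hxx
  exact hxx

section Quot

variable {Q : X.Modules} (π : F ⟶ Q) (w : ι ≫ π = 0) (hex : (ShortComplex.mk ι π w).Exact)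

omit [IsLocallyNoetherian X] in
include hmem hexi hex in
/-- the kernel of `π` on sections. -/
lemma app_eq_zero_iff (V : X.Opens) (s : Γ(F, V)) :
    π.app V s = 0 ↔ ∀ x, IsMinPt F x → ∀ hx : x ∈ V, F.presheaf.germ V x hx s = 0 := by
  constructor
  · intro h
    haveI : Mono (ShortComplex.mk ι π w).f := inferInstanceAs (Mono ι)
    obtain ⟨s₁, hs₁⟩ := app_exact_of_exact_of_mono (ShortComplex.mk ι π w) hex V s h
    intro x hxm hx
    rw [← hs₁]
    exact hmem V s₁ x hxm hx
  · intro h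
    obtain ⟨s₁, rfl⟩ := hexi V s h
    rw [← LocFree.app_comp_apply, w]
    rfl

include hF hmem hexi hex in
/-- the quotient has the same support. -/
theorem support_eq [Epi π] [Q.IsQuasicoherent] : CohB1.support Q = CohB1.support F := by
  haveI : F.IsQuasicoherent := hF.1
  ext z
  constructor
  · intro hzQ hzF
    apply hzQ
    have hsurj := stalkMap_surjective_of_epi π z
    refine ⟨fun a b => ?_⟩
    obtain ⟨a', rfl⟩ := hsurj a
    obtain ⟨b', rfl⟩ := hsurj b
    rw [@Subsingleton.elim _ hzF a' b']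
  · intro hzF hzQ
    obtain ⟨x, hxm, hxz⟩ := exists_isMinPt_specializes F hF z hzF
    obtain ⟨_, ⟨(V : X.Opens), hV, rfl⟩, hzV, -⟩ :=
      X.isBasis_affineOpens.exists_subset_of_mem_open (Set.mem_univ z) isOpen_univ
    have hxV : x ∈ V := hxz.mem_open V.2 hzV
    obtain ⟨t, ht⟩ := (isWeakAssPoint_iff_exists_mem_minimalPrimes F hV x hxV).1 hxm.1
    have htne : F.presheaf.germ V x hxV t ≠ 0 := by
      intro h0
      obtain ⟨a, hxa, ha⟩ := exists_smul_eq_zero_of_germ_eq_zero F hV x hxV t h0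
      exact (mem_basicOpen_iff_notMem_primeIdealOf hV x hxV a).1 hxa
        (ht.1.2 ((mem_annSec F t a).2 ha))
    have h0 : Q.presheaf.germ V z hzV (π.app V t) = 0 := @Subsingleton.elim _ hzQ _ _
    obtain ⟨b, hzb, hb⟩ := exists_smul_eq_zero_of_germ_eq_zero Q hV z hzV _ h0
    rw [← Scheme.Modules.Hom.app_smul, app_eq_zero_iff F ι hmem hexi π w hex] at hb
    have h1 := hb x hxm hxV
    have hxb : x ∈ X.basicOpen b := hxz.mem_open (X.basicOpen b).2 hzb
    apply htne
    apply eq_zero_of_germ_smul_eq_zero F x hxV b hxb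
    rw [← germ_smul]
    exact h1

include hF hmem hexi hex in
/-- the associated points of the quotient are minimal points of `F`. -/
theorem isMinPt_of_isWeakAssPoint_quot [Epi π] [Q.IsQuasicoherent] (y : X)
    (hy : Curv2.IsWeakAssPoint Q y) : IsMinPt F y := by
  classical
  haveI : F.IsQuasicoherent := hF.1
  obtain ⟨_, ⟨(V : X.Opens), hV, rfl⟩, hyV, -⟩ :=
    X.isBasis_affineOpens.exists_subset_of_mem_open (Set.mem_univ y) isOpen_univ
  obtain ⟨tb, htb⟩ := (isWeakAssPoint_iff_exists_mem_minimalPrimes Q hV y hyV).1 hy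
  obtain ⟨t, rfl⟩ := Groth.Agent.Helper13.AffSurj.surjective_app_of_epi π hV tb
  have hfin := Groth.Agent.S1576.finite_ass_affine X F hF hV
  have hTfin : {x : X | x ∈ V ∧ IsMinPt F x}.Finite :=
    hfin.subset (fun x hx => ⟨hx.1, (isAssPoint_iff_isWeakAssPoint F x).2 hx.2.1⟩)
  haveI : Fintype {x : X | x ∈ V ∧ IsMinPt F x} := hTfin.fintype
  let Qx : {x : X | x ∈ V ∧ IsMinPt F x} → Ideal Γ(X, V) := fun x =>
    Ideal.comap (X.presheaf.germ V x.1 x.2.1).hom
      (LinearMap.ker (LinearMap.toSpanSingleton (X.presheaf.stalk x.1) (F.presheaf.stalk x.1)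
        (F.presheaf.germ V x.1 x.2.1 t)))
  have hQmem : ∀ (x : {x : X | x ∈ V ∧ IsMinPt F x}) (a : Γ(X, V)),
      a ∈ Qx x ↔ F.presheaf.germ V x.1 x.2.1 (a • t) = 0 := by
    intro x a
    rw [germ_smul]
    simp only [Qx, Ideal.mem_comap, LinearMap.mem_ker, LinearMap.toSpanSingleton_apply]
  have hann : annSec Q (π.app V t) = Finset.univ.inf Qx := by
    ext a
    rw [mem_annSec, ← Scheme.Modules.Hom.app_smul, app_eq_zero_iff F ι hmem hexi π w hex,
      Submodule.mem_finsetInf]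
    constructor
    · intro h x _
      exact (hQmem x a).2 (h x.1 x.2.2 x.2.1)
    · intro h x hxm hx
      exact (hQmem ⟨x, hx, hxm⟩ a).1 (h ⟨x, hx, hxm⟩ (Finset.mem_univ _))
  have hle : Finset.univ.inf Qx ≤ (hV.primeIdealOf ⟨y, hyV⟩).asIdeal := by
    rw [← hann]
    exact htb.1.2
  obtain ⟨x, -, hxle⟩ := ((hV.primeIdealOf ⟨y, hyV⟩).isPrime.inf_le').1 hle
  have htx : F.presheaf.germ V x.1 x.2.1 t ≠ 0 := by
    intro h0
    have h1 : (1 : Γ(X, V)) ∈ Qx x := (hQmem x 1).2 (by rw [one_smul]; exact h0)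
    exact (hV.primeIdealOf ⟨y, hyV⟩).isPrime.ne_top ((Ideal.eq_top_iff_one _).2 (hxle h1))
  have hQp : Qx x ≤ (hV.primeIdealOf ⟨x.1, x.2.1⟩).asIdeal := by
    intro a ha
    by_contra hna
    have hxa : x.1 ∈ X.basicOpen a :=
      (mem_basicOpen_iff_notMem_primeIdealOf hV x.1 x.2.1 a).2 hna
    apply htx
    apply eq_zero_of_germ_smul_eq_zero F x.1 x.2.1 a hxa
    rw [← germ_smul]
    exact (hQmem x a).1 ha
  have hpxy : (hV.primeIdealOf ⟨x.1, x.2.1⟩).asIdeal ≤ (hV.primeIdealOf ⟨y, hyV⟩).asIdeal := by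
    intro r hr
    obtain ⟨k, hk⟩ := exists_pow_smul_germ_eq_zero F hV x.1 x.2.2 x.2.1 t r hr
    exact (hV.primeIdealOf ⟨y, hyV⟩).isPrime.mem_of_pow_mem k (hxle ((hQmem x (r ^ k)).2 hk))
  have hpyx : (hV.primeIdealOf ⟨y, hyV⟩).asIdeal ≤ (hV.primeIdealOf ⟨x.1, x.2.1⟩).asIdeal := by
    refine htb.2 ⟨(hV.primeIdealOf ⟨x.1, x.2.1⟩).isPrime, ?_⟩ hpxy
    rw [hann]
    exact (Finset.inf_le (Finset.mem_univ x)).trans hQp
  have hyx : y = x.1 :=
    Groth.Agent.Helper13.AssPrim.primeIdealOf_injective' hV y x.1 hyV x.2.1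
      (le_antisymm hpyx hpxy)
  rw [hyx]
  exact x.2.2

include hF hmem hex in
/-- `π` is an isomorphism over a dense open subset meeting the support of `F` densely. -/
theorem exists_dense_open [Epi π] (hK : CohB1.IsFT K) :
    ∃ U : X.Opens, Dense (U : Set X) ∧
      CohB1.support F ⊆ closure ((U : Set X) ∩ CohB1.support F) ∧
      IsIso ((Scheme.Modules.restrictFunctor U.ι).map π) := by
  have hcl : IsClosed (CohB1.support K) := Groth.Agent.S0020.result X K hK
  let U : X.Opens := ⟨(CohB1.support K)ᶜ, hcl.isOpen_compl⟩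
  have hKF : CohB1.support K ⊆ CohB1.support F := by
    intro z hzK hzF
    apply hzK
    have hinj := (mono_iff_stalk_injective ι).1 inferInstance z
    exact ⟨fun a b => hinj (@Subsingleton.elim _ hzF _ _)⟩
  refine ⟨U, ?_, ?_, ?_⟩
  · rw [dense_iff_inter_open]
    intro N hN hNne
    by_contra hem
    rw [Set.not_nonempty_iff_eq_empty] at hem
    have hNK : N ⊆ CohB1.support K := by
      intro z hzN
      by_contra hzK
      have hz : z ∈ N ∩ (U : Set X) := ⟨hzN, hzK⟩
      rw [hem] at hz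
      exact hz
    have h1 := inter_support_eq_empty F hF ι hmem ⟨N, hN⟩ (fun z hz => hNK hz.1)
    obtain ⟨z, hz⟩ := hNne
    have hz' : z ∈ ((⟨N, hN⟩ : X.Opens) : Set X) ∩ CohB1.support F := ⟨hz, hKF (hNK hz)⟩
    rw [h1] at hz'
    exact hz'
  · intro z hzF
    rw [mem_closure_iff]
    intro o ho hzo
    by_contra hem
    rw [Set.not_nonempty_iff_eq_empty] at hem
    have hsub : ((⟨o, ho⟩ : X.Opens) : Set X) ∩ CohB1.support F ⊆ CohB1.support K := by
      rintro v ⟨hvo, hvF⟩
      by_contra hvK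
      have hv : v ∈ o ∩ ((U : Set X) ∩ CohB1.support F) := ⟨hvo, hvK, hvF⟩
      rw [hem] at hv
      exact hv
    have h1 := inter_support_eq_empty F hF ι hmem ⟨o, ho⟩ hsub
    have hz' : z ∈ ((⟨o, ho⟩ : X.Opens) : Set X) ∩ CohB1.support F := ⟨hzo, hzF⟩
    rw [h1] at hz'
    exact hz'
  · rw [Groth.Agent.Helper13.GenLoc.isIso_restrict_iff]
    intro x hxU
    have hKx : Subsingleton (K.presheaf.stalk x) := not_not.1 hxU
    constructor
    · intro a b hab
      have h0 : stalkMap π x (a - b) = 0 := by rw [map_sub, hab, sub_self]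
      haveI : Mono (ShortComplex.mk ι π w).f := inferInstanceAs (Mono ι)
      obtain ⟨m₁, hm₁⟩ :=
        stalk_exact_of_exact_of_mono (ShortComplex.mk ι π w) hex x (a - b) h0
      have hm0 : m₁ = 0 := Subsingleton.elim _ _
      rw [hm0, map_zero] at hm₁
      exact sub_eq_zero.1 hm₁.symm
    · exact stalkMap_surjective_of_epi π x

end Quot

end Groth.Agent.Helper13.MinKer
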