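import Groth.Agent.Lib.Helper13.CompPoly
import Groth.Agent.Lib.Helper13.LamUniv

/-!
Existence of the universal polynomial `P_n` (two families), helper13.
-/

namespace Groth.Agent.Helper13.Iso
open MvPolynomial

section key
variable (R : Type*) [CommRing R] (n : ℕ)

/-- The two-family symmetric evaluation over any ring. -/
noncomputable def twoEvalR : MvPolynomial (Fin n ⊕ Fin n) R →ₐ[R] MvPolynomial (Fin n ⊕ Fin n) R :=
  aeval (Sum.elim
    (fun k : Fin n => rename Sum.inl (esymm (Fin n) R ((k : ℕ) + 1)))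
    (fun k : Fin n => rename Sum.inr (esymm (Fin n) R ((k : ℕ) + 1))))

/-- inner evaluation -/
noncomputable def evE : MvPolynomial (Fin n) R →ₐ[R] MvPolynomial (Fin n) R :=
  aeval (fun k : Fin n => esymm (Fin n) R ((k : ℕ) + 1))

lemma key (P : MvPolynomial (Fin n ⊕ Fin n) R) :
    sumAlgEquiv R (Fin n) (Fin n) (twoEvalR R n P) =
      evE (MvPolynomial (Fin n) R) n
        (map (evE R n : MvPolynomial (Fin n) R →+* MvPolynomial (Fin n) R)
          (sumAlgEquiv R (Fin n) (Fin n) P)) := by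
  set S := sumAlgEquiv R (Fin n) (Fin n) with hS
  have key : ((S : MvPolynomial (Fin n ⊕ Fin n) R →+* MvPolynomial (Fin n) (MvPolynomial (Fin n) R)).comp
        (twoEvalR R n : MvPolynomial (Fin n ⊕ Fin n) R →+* MvPolynomial (Fin n ⊕ Fin n) R)) =
      ((evE (MvPolynomial (Fin n) R) n : MvPolynomial (Fin n) (MvPolynomial (Fin n) R) →+*
          MvPolynomial (Fin n) (MvPolynomial (Fin n) R)).comp
        (map (evE R n : MvPolynomial (Fin n) R →+* MvPolynomial (Fin n) R))).comp
        (S : MvPolynomial (Fin n ⊕ Fin n) R →+* MvPolynomial (Fin n) (MvPolynomial (Fin n) R)) := by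
    apply MvPolynomial.ringHom_ext
    · intro q
      simp only [RingHom.comp_apply, RingHom.coe_coe]
      rw [twoEvalR, aeval_C, algebraMap_eq, hS, sumAlgEquiv_C_inl,
        map_C, evE, evE, RingHom.coe_coe, aeval_C, algebraMap_eq]
      simp
    · rintro (k | k)
      · simp only [RingHom.comp_apply, RingHom.coe_coe]
        rw [twoEvalR, aeval_X, Sum.elim_inl, hS, sumAlgEquiv_X_inl,
          map_X, evE, aeval_X]
        have := AlgHom.congr_fun (sumAlgEquiv_comp_rename_inl (R := R) (S₁ := Fin n) (S₂ := Fin n))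
          (esymm (Fin n) R ((k : ℕ) + 1))
        rw [AlgHom.comp_apply] at this
        refine Eq.trans this ?_
        rw [mapAlgHom_apply, map_esymm]
      · simp only [RingHom.comp_apply, RingHom.coe_coe]
        rw [twoEvalR, aeval_X, Sum.elim_inr, hS, sumAlgEquiv_X_inr,
          map_C, evE, evE, RingHom.coe_coe, aeval_X, aeval_C, algebraMap_eq]
        have := AlgHom.congr_fun (sumAlgEquiv_comp_rename_inr (R := R) (S₁ := Fin n) (S₂ := Fin n))
          (esymm (Fin n) R ((k : ℕ) + 1))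
        rw [AlgHom.comp_apply] at this
        refine Eq.trans this ?_
        rfl
  have h1 := RingHom.congr_fun key P
  simpa only [RingHom.comp_apply, RingHom.coe_coe] using h1

end key

section exist
variable (R : Type*) [CommRing R] (n : ℕ)

/-- invariance of a multiset esymm under a ring hom permuting the entries -/
lemma esymm_map_invariant {α S : Type*} [Fintype α] [CommSemiring S] (F : α → S) (ψ : S →+* S)
    (e : α ≃ α) (h : ∀ x, ψ (F x) = F (e x)) (k : ℕ) :
    ψ ((Finset.univ.val.map F).esymm k) = (Finset.univ.val.map F).esymm k := by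
  rw [map_multiset_esymm, Multiset.map_map]
  have : (ψ ∘ F) = F ∘ e := funext h
  rw [this, ← Multiset.map_map, Multiset.map_univ_val_equiv]

lemma exists_of_isSymmetric (p : MvPolynomial (Fin n) R) (hp : p.IsSymmetric) :
    ∃ q, evE R n q = p := by
  obtain ⟨q, hq⟩ := esymmAlgHom_fin_surjective R (le_refl n) ⟨p, hp⟩
  exact ⟨q, by rw [evE, ← esymmAlgHom_apply, hq]⟩

lemma map_evE {R' : Type*} [CommRing R'] (φ : R →+* R') (P : MvPolynomial (Fin n) R) :
    map φ (evE R n P) = evE R' n (map φ P) := by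
  rw [evE, evE, aeval_def, aeval_def, algebraMap_eq, algebraMap_eq, map_eval₂]
  congr 1
  funext k
  simp [map_esymm]

lemma evE_injective : Function.Injective (evE R n) := Lam.esymm_aeval_injective R n

lemma exists_twoEval (G : MvPolynomial (Fin n ⊕ Fin n) R)
    (h1 : (sumAlgEquiv R (Fin n) (Fin n) G).IsSymmetric)
    (h2 : ∀ e : Equiv.Perm (Fin n),
      map ((rename e : MvPolynomial (Fin n) R →ₐ[R] MvPolynomial (Fin n) R) :
        MvPolynomial (Fin n) R →+* MvPolynomial (Fin n) R) (sumAlgEquiv R (Fin n) (Fin n) G) =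
        sumAlgEquiv R (Fin n) (Fin n) G) :
    ∃ P, twoEvalR R n P = G := by
  classical
  obtain ⟨P₁, hP₁⟩ := exists_of_isSymmetric (MvPolynomial (Fin n) R) n _ h1
  have hc : ∀ d, (coeff d P₁).IsSymmetric := by
    intro d e
    have : map ((rename e : MvPolynomial (Fin n) R →ₐ[R] MvPolynomial (Fin n) R) :
        MvPolynomial (Fin n) R →+* MvPolynomial (Fin n) R) P₁ = P₁ := by
      apply evE_injective (MvPolynomial (Fin n) R) n
      rw [← map_evE, hP₁, h2 e]
    have := congrArg (coeff d) this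
    rw [coeff_map] at this
    exact this
  choose q hq using fun d => exists_of_isSymmetric R n (coeff d P₁) (hc d)
  have hP₂ : map (evE R n : MvPolynomial (Fin n) R →+* MvPolynomial (Fin n) R)
      (∑ d ∈ P₁.support, monomial d (q d)) = P₁ := by
    rw [map_sum]
    conv_rhs => rw [P₁.as_sum]
    apply Finset.sum_congr rfl
    intro d _
    rw [map_monomial, RingHom.coe_coe, hq]
  refine ⟨(sumAlgEquiv R (Fin n) (Fin n)).symm (∑ d ∈ P₁.support, monomial d (q d)), ?_⟩
  apply (sumAlgEquiv R (Fin n) (Fin n)).injective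
  rw [key, AlgEquiv.apply_symm_apply, hP₂, hP₁]

end exist

section mulGen
variable (n : ℕ)

/-- the entries of the multiset in the iterated model -/
noncomputable def mulF (ab : Fin n × Fin n) : MvPolynomial (Fin n) (MvPolynomial (Fin n) ℤ) :=
  X ab.1 * C (X ab.2)

lemma sumAlgEquiv_mulGen (k : ℕ) :
    sumAlgEquiv ℤ (Fin n) (Fin n) (LambdaRing.mulGen n k) =
      ((Finset.univ : Finset (Fin n × Fin n)).val.map (mulF n)).esymm k := by
  unfold LambdaRing.mulGen
  have := map_multiset_esymm ((sumAlgEquiv ℤ (Fin n) (Fin n) :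
      MvPolynomial (Fin n ⊕ Fin n) ℤ →+* MvPolynomial (Fin n) (MvPolynomial (Fin n) ℤ)))
  simp only [RingHom.coe_coe] at this
  rw [this, Multiset.map_map]
  congr 1
  apply Multiset.map_congr rfl
  intro ab _
  simp only [Function.comp_apply, map_mul, sumAlgEquiv_X_inl, sumAlgEquiv_X_inr, mulF]

lemma mulGen_h1 (k : ℕ) : (sumAlgEquiv ℤ (Fin n) (Fin n) (LambdaRing.mulGen n k)).IsSymmetric := by
  intro e
  rw [sumAlgEquiv_mulGen]
  have := esymm_map_invariant (mulF n)
    ((rename e : MvPolynomial (Fin n) (MvPolynomial (Fin n) ℤ) →ₐ[MvPolynomial (Fin n) ℤ] _) :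
      MvPolynomial (Fin n) (MvPolynomial (Fin n) ℤ) →+* MvPolynomial (Fin n) (MvPolynomial (Fin n) ℤ))
    (e.prodCongr (Equiv.refl _)) (by
      intro ab
      simp [mulF]) k
  simpa only [RingHom.coe_coe] using this

lemma mulGen_h2 (k : ℕ) (e : Equiv.Perm (Fin n)) :
    map ((rename e : MvPolynomial (Fin n) ℤ →ₐ[ℤ] MvPolynomial (Fin n) ℤ) :
        MvPolynomial (Fin n) ℤ →+* MvPolynomial (Fin n) ℤ)
      (sumAlgEquiv ℤ (Fin n) (Fin n) (LambdaRing.mulGen n k)) =
      sumAlgEquiv ℤ (Fin n) (Fin n) (LambdaRing.mulGen n k) := by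
  rw [sumAlgEquiv_mulGen]
  exact esymm_map_invariant (mulF n)
    (map ((rename e : MvPolynomial (Fin n) ℤ →ₐ[ℤ] MvPolynomial (Fin n) ℤ) :
        MvPolynomial (Fin n) ℤ →+* MvPolynomial (Fin n) ℤ))
    ((Equiv.refl _).prodCongr e) (by
      intro ab
      simp [mulF]) k

/-- bidegree weights on the two families of variables -/
def wBi : Fin n ⊕ Fin n → ℕ × ℕ := Sum.elim (fun _ => (1, 0)) (fun _ => (0, 1))

lemma rename_inl_esymm_isWH (m : ℕ) :
    IsWeightedHomogeneous (wBi n) (rename Sum.inl (esymm (Fin n) ℤ m) :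
      MvPolynomial (Fin n ⊕ Fin n) ℤ) ((m, 0) : ℕ × ℕ) := by
  unfold esymm
  rw [map_sum]
  apply IsWeightedHomogeneous.sum
  intro t ht
  rw [Finset.mem_powersetCard] at ht
  rw [map_prod]
  have := IsWeightedHomogeneous.prod t
    (fun a => rename Sum.inl (X a : MvPolynomial (Fin n) ℤ)) (fun _ => ((1, 0) : ℕ × ℕ))
    (w := wBi n) (fun a _ => by
      rw [rename_X]
      exact isWeightedHomogeneous_X ℤ (wBi n) (Sum.inl a))
  simpa [ht.2] using this

lemma rename_inr_esymm_isWH (m : ℕ) :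
    IsWeightedHomogeneous (wBi n) (rename Sum.inr (esymm (Fin n) ℤ m) :
      MvPolynomial (Fin n ⊕ Fin n) ℤ) ((0, m) : ℕ × ℕ) := by
  unfold esymm
  rw [map_sum]
  apply IsWeightedHomogeneous.sum
  intro t ht
  rw [Finset.mem_powersetCard] at ht
  rw [map_prod]
  have := IsWeightedHomogeneous.prod t
    (fun a => rename Sum.inr (X a : MvPolynomial (Fin n) ℤ)) (fun _ => ((0, 1) : ℕ × ℕ))
    (w := wBi n) (fun a _ => by
      rw [rename_X]
      exact isWeightedHomogeneous_X ℤ (wBi n) (Sum.inr a))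
  simpa [ht.2] using this

lemma mulGen_isWH (k : ℕ) :
    IsWeightedHomogeneous (wBi n) (LambdaRing.mulGen n k) ((k, k) : ℕ × ℕ) := by
  classical
  unfold LambdaRing.mulGen
  rw [Finset.esymm_map_val]
  apply IsWeightedHomogeneous.sum
  intro T hT
  rw [Finset.mem_powersetCard] at hT
  have := IsWeightedHomogeneous.prod T
    (fun ab : Fin n × Fin n => (X (Sum.inl ab.1) * X (Sum.inr ab.2) : MvPolynomial (Fin n ⊕ Fin n) ℤ))
    (fun _ => ((1, 1) : ℕ × ℕ)) (w := wBi n) (fun ab _ => by
      have := (isWeightedHomogeneous_X ℤ (wBi n) (Sum.inl ab.1)).mul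
        (isWeightedHomogeneous_X ℤ (wBi n) (Sum.inr ab.2))
      simpa [wBi] using this)
  simpa [hT.2] using this

theorem exists_isMulPoly :
    ∃ P : MvPolynomial (Fin n ⊕ Fin n) ℤ, LambdaRing.IsMulPoly n P := by
  obtain ⟨P₀, hP₀⟩ := exists_twoEval ℤ n (LambdaRing.mulGen n n) (mulGen_h1 n n) (mulGen_h2 n n)
  refine ⟨weightedHomogeneousComponent
    (Sum.elim (fun k : Fin n => (((k : ℕ) + 1, 0) : ℕ × ℕ)) (fun k : Fin n => ((0, (k : ℕ) + 1) : ℕ × ℕ)))
    ((n, n) : ℕ × ℕ) P₀, ?_, weightedHomogeneousComponent_isWeightedHomogeneous _ _⟩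
  refine aeval_component _ (wBi n) _ ?_ P₀ (mulGen_isWH n n) hP₀
  rintro (k | k)
  · exact rename_inl_esymm_isWH n _
  · exact rename_inr_esymm_isWH n _

end mulGen

end Groth.Agent.Helper13.Iso
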