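import Mathlib

/-!
# Pointwise descent of finite type along `k → R` (`k` a field)  (helper13, for helper14 S5340)
-/

set_option autoImplicit false
set_option linter.unusedSectionVars false
set_option linter.unusedVariables false
set_option linter.style.haveILetI false

universe u

open TensorProduct

namespace Groth.Agent.Helper13.PDesc

section Generic

/-- If `A_f` is generated over `R` by fractions with numerators in an `R`-subalgebra `D ∋ f`, then
every element of `A` is multiplied into `D` by a power of `f`. -/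
theorem exists_pow_mul_mem_of_adjoin {R A : Type*} [CommRing R] [CommRing A] [Algebra R A] (f : A)
    (D : Subalgebra R A) (hf : f ∈ D) (S : Set (Localization.Away f))
    (hS : Algebra.adjoin R S = ⊤)
    (hD : ∀ s ∈ S, ∃ a ∈ D, ∃ n : ℕ,
      s * algebraMap A (Localization.Away f) (f ^ n) = algebraMap A (Localization.Away f) a)
    (a : A) : ∃ N : ℕ, f ^ N * a ∈ D := by
  have key : ∀ x : Localization.Away f, ∃ d ∈ D, ∃ n : ℕ,
      x * algebraMap A (Localization.Away f) (f ^ n) = algebraMap A (Localization.Away f) d := by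
    intro x
    have hx : x ∈ Algebra.adjoin R S := hS ▸ Algebra.mem_top
    induction hx using Algebra.adjoin_induction with
    | mem x hx => exact hD x hx
    | algebraMap r =>
      refine ⟨algebraMap R A r, Subalgebra.algebraMap_mem D r, 0, ?_⟩
      rw [pow_zero, map_one, mul_one, ← IsScalarTower.algebraMap_apply]
    | add x y _ _ hx hy =>
      obtain ⟨d1, hd1, n1, h1⟩ := hx
      obtain ⟨d2, hd2, n2, h2⟩ := hy
      refine ⟨d1 * f ^ n2 + d2 * f ^ n1, ?_, n1 + n2, ?_⟩
      · exact D.add_mem (D.mul_mem hd1 (D.pow_mem hf _)) (D.mul_mem hd2 (D.pow_mem hf _))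
      · rw [map_add, map_mul, map_mul, ← h1, ← h2, pow_add, map_mul]
        ring
    | mul x y _ _ hx hy =>
      obtain ⟨d1, hd1, n1, h1⟩ := hx
      obtain ⟨d2, hd2, n2, h2⟩ := hy
      refine ⟨d1 * d2, D.mul_mem hd1 hd2, n1 + n2, ?_⟩
      rw [map_mul, ← h1, ← h2, pow_add, map_mul]
      ring
  obtain ⟨d, hd, n, h⟩ := key (algebraMap A (Localization.Away f) a)
  rw [← map_mul] at h
  obtain ⟨⟨_, m, rfl⟩, hc⟩ := (IsLocalization.eq_iff_exists (Submonoid.powers f) _).mp h
  refine ⟨m + n, ?_⟩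
  have : f ^ (m + n) * a = f ^ m * d := by
    rw [pow_add, mul_assoc, mul_comm (f ^ n) a]
    exact hc
  rw [this]
  exact D.mul_mem (D.pow_mem hf _) hd

end Generic


section Coord

variable {k R B : Type u} [Field k] [CommRing R] [CommRing B] [Algebra k R] [Algebra k B]
variable {ι : Type*} [DecidableEq ι] (ℬ : Module.Basis ι k R)

theorem coord_mul_right (z : R ⊗[k] B) (b : B) (i : ι) :
    TensorProduct.equivFinsuppOfBasisLeft ℬ (z * ((1 : R) ⊗ₜ[k] b)) i =
      TensorProduct.equivFinsuppOfBasisLeft ℬ z i * b := by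
  induction z with
  | zero => simp
  | tmul r c =>
    rw [Algebra.TensorProduct.tmul_mul_tmul, mul_one,
      TensorProduct.equivFinsuppOfBasisLeft_apply_tmul_apply,
      TensorProduct.equivFinsuppOfBasisLeft_apply_tmul_apply, smul_mul_assoc]
  | add x y hx hy =>
    rw [add_mul, map_add, map_add, Finsupp.add_apply, Finsupp.add_apply, hx, hy, add_mul]

/-- the inclusion `R ⊗ B0 → R ⊗ B` -/
noncomputable abbrev incl (R : Type u) [CommRing R] [Algebra k R] (B0 : Subalgebra k B) :
    R ⊗[k] B0 →ₐ[R] R ⊗[k] B :=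
  Algebra.TensorProduct.map (AlgHom.id R R) B0.val

theorem coord_incl (B0 : Subalgebra k B) (z0 : R ⊗[k] B0) (i : ι) :
    TensorProduct.equivFinsuppOfBasisLeft ℬ (incl R B0 z0) i =
      ((TensorProduct.equivFinsuppOfBasisLeft ℬ z0 i : B0) : B) := by
  induction z0 with
  | zero => simp
  | tmul r c =>
    rw [Algebra.TensorProduct.map_tmul, TensorProduct.equivFinsuppOfBasisLeft_apply_tmul_apply,
      TensorProduct.equivFinsuppOfBasisLeft_apply_tmul_apply]
    rfl
  | add x y hx hy =>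
    rw [map_add, map_add, map_add, Finsupp.add_apply, Finsupp.add_apply, hx, hy]
    rfl

theorem sum_coord (B0 : Subalgebra k B) (z0 : R ⊗[k] B0) :
    z0 = (TensorProduct.equivFinsuppOfBasisLeft ℬ z0).sum fun i c => ℬ i ⊗ₜ[k] c := by
  rw [← TensorProduct.equivFinsuppOfBasisLeft_symm_apply, LinearEquiv.symm_apply_apply]

include ℬ in
theorem exists_notMem_mul_mem (B0 : Subalgebra k B) (g : R ⊗[k] B0) (P' : Ideal (R ⊗[k] B0))
    [P'.IsPrime] (hg : g ∉ P') (b : B)
    (hb : ∃ z0 : R ⊗[k] B0, incl R B0 z0 = incl R B0 g * ((1 : R) ⊗ₜ[k] b)) :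
    ∃ x : B0, ((1 : R) ⊗ₜ[k] x : R ⊗[k] B0) ∉ P' ∧ (x : B) * b ∈ B0 := by
  obtain ⟨z0, hz0⟩ := hb
  have hsum := sum_coord ℬ B0 g
  have hex : ∃ i, (ℬ i ⊗ₜ[k] (TensorProduct.equivFinsuppOfBasisLeft ℬ g i) : R ⊗[k] B0) ∉ P' := by
    by_contra hcon
    push Not at hcon
    apply hg
    rw [hsum]
    exact Ideal.sum_mem _ fun i _ => hcon i
  obtain ⟨i, hi⟩ := hex
  refine ⟨TensorProduct.equivFinsuppOfBasisLeft ℬ g i, ?_, ?_⟩
  · intro hmem
    apply hi
    have : (ℬ i ⊗ₜ[k] (TensorProduct.equivFinsuppOfBasisLeft ℬ g i) : R ⊗[k] B0) =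
        (ℬ i ⊗ₜ[k] (1 : B0)) * ((1 : R) ⊗ₜ[k] (TensorProduct.equivFinsuppOfBasisLeft ℬ g i)) := by
      rw [Algebra.TensorProduct.tmul_mul_tmul, mul_one, one_mul]
    rw [this]
    exact Ideal.mul_mem_left _ _ hmem
  · rw [← coord_incl ℬ B0 g i, ← coord_mul_right ℬ, ← hz0, coord_incl ℬ B0 z0 i]
    exact (TensorProduct.equivFinsuppOfBasisLeft ℬ z0 i).2

end Coord


section Main

variable {k R B : Type u} [Field k] [CommRing R] [CommRing B] [Algebra k R] [Algebra k B]

theorem baseChange_mono {C1 C2 : Subalgebra k B} (h : C1 ≤ C2) :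
    C1.baseChange R ≤ C2.baseChange R := by
  rintro _ ⟨z, rfl⟩
  refine ⟨Algebra.TensorProduct.map (AlgHom.id R R) (Subalgebra.inclusion h) z, ?_⟩
  induction z with
  | zero => simp
  | tmul r c => rfl
  | add x y hx hy =>
    rw [map_add, map_add, map_add]
    exact congrArg₂ (· + ·) hx hy

theorem exists_fg_baseChange (T : Finset (R ⊗[k] B)) :
    ∃ C : Subalgebra k B, C.FG ∧ ∀ x ∈ T, x ∈ C.baseChange R := by
  classical
  induction T using Finset.induction_on with
  | empty => exact ⟨⊥, Subalgebra.fg_bot, by simp⟩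
  | insert x T hx ih =>
    obtain ⟨C1, hC1, h1⟩ := ih
    obtain ⟨C2, hC2, h2⟩ := exists_fg_and_mem_baseChange (R := k) (A := R) (B := B) x
    refine ⟨C1 ⊔ C2, hC1.sup hC2, ?_⟩
    intro y hy
    rcases Finset.mem_insert.1 hy with rfl | hy
    · exact baseChange_mono le_sup_right h2
    · exact baseChange_mono le_sup_left (h1 y hy)

/-- the conductor of `b` into `B0` -/
def condIdeal (B0 : Subalgebra k B) (b : B) : Ideal B0 where
  carrier := {x | (x : B) * b ∈ B0}
  add_mem' := by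
    intro x y hx hy
    show ((x + y : B0) : B) * b ∈ B0
    rw [Subalgebra.coe_add, add_mul]
    exact B0.add_mem hx hy
  zero_mem' := by
    show ((0 : B0) : B) * b ∈ B0
    rw [Subalgebra.coe_zero, zero_mul]
    exact B0.zero_mem
  smul_mem' := by
    intro c x hx
    show ((c • x : B0) : B) * b ∈ B0
    rw [smul_eq_mul, Subalgebra.coe_mul, mul_assoc]
    exact B0.mul_mem c.2 hx

theorem isOpenMap_comap_includeRight (B0 : Type u) [CommRing B0] [Algebra k B0] :
    IsOpenMap (PrimeSpectrum.comap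
      (Algebra.TensorProduct.includeRight : B0 →ₐ[k] R ⊗[k] B0).toRingHom) := by
  have hj : (Algebra.TensorProduct.includeRight : B0 →ₐ[k] R ⊗[k] B0).toRingHom =
      ((Algebra.TensorProduct.comm k B0 R).toAlgHom.toRingHom).comp
        (algebraMap B0 (B0 ⊗[k] R)) := by
    refine RingHom.ext fun x => ?_
    show (1 : R) ⊗ₜ[k] x = (Algebra.TensorProduct.comm k B0 R) (x ⊗ₜ[k] (1 : R))
    rw [Algebra.TensorProduct.comm_tmul]
  rw [hj, PrimeSpectrum.comap_comp]
  refine IsOpenMap.comp PrimeSpectrum.isOpenMap_comap_algebraMap_tensorProduct_of_field ?_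
  exact (PrimeSpectrum.isHomeomorph_comap_of_bijective
    (f := (Algebra.TensorProduct.comm k B0 R).toAlgHom.toRingHom)
    (Algebra.TensorProduct.comm k B0 R).bijective).isOpenMap


/-- **(PD)** pointwise descent of finite type. -/
theorem PD (f' : R ⊗[k] B) (q' : PrimeSpectrum (R ⊗[k] B)) (hq' : f' ∉ q'.asIdeal)
    (hft : Algebra.FiniteType R (Localization.Away f')) :
    ∃ f : B, (Algebra.TensorProduct.includeRight (R := k) (A := R) (B := B) f) ∉ q'.asIdeal ∧
      Algebra.FiniteType k (Localization.Away f) := by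
  classical
  obtain ⟨S, hS⟩ := hft.out
  -- numerators of the generators
  have hnum : ∀ s : Localization.Away f', ∃ a : R ⊗[k] B, ∃ n : ℕ,
      s * algebraMap (R ⊗[k] B) (Localization.Away f') (f' ^ n) =
        algebraMap (R ⊗[k] B) (Localization.Away f') a := by
    intro s
    obtain ⟨a, ⟨_, n, rfl⟩, h⟩ := IsLocalization.exists_mk'_eq (Submonoid.powers f') s
    refine ⟨a, n, ?_⟩
    rw [← h]
    exact IsLocalization.mk'_spec _ _ _
  choose num nexp hnumeq using hnum
  obtain ⟨B0, hB0fg, hB0⟩ := exists_fg_baseChange (k := k) (R := R) (B := B)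
    (insert f' (S.image num))
  have hf'D : f' ∈ B0.baseChange R := hB0 f' (Finset.mem_insert_self _ _)
  have hN : ∀ a : R ⊗[k] B, ∃ N : ℕ, f' ^ N * a ∈ B0.baseChange R := by
    intro a
    refine exists_pow_mul_mem_of_adjoin f' (B0.baseChange R) hf'D (S : Set _) hS ?_ a
    intro s hs
    exact ⟨num s, hB0 _ (Finset.mem_insert_of_mem (Finset.mem_image_of_mem num hs)), nexp s,
      hnumeq s⟩
  obtain ⟨g, hg⟩ : ∃ g : R ⊗[k] B0, incl R B0 g = f' := hf'D
  -- primes
  let jR : B0 →+* R ⊗[k] B0 :=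
    (Algebra.TensorProduct.includeRight : B0 →ₐ[k] R ⊗[k] B0).toRingHom
  let q0 : PrimeSpectrum (R ⊗[k] B0) := PrimeSpectrum.comap (incl R B0).toRingHom q'
  have hgq0 : g ∉ q0.asIdeal := by
    intro h
    apply hq'
    rw [← hg]
    exact h
  let Ω : Set (PrimeSpectrum B0) :=
    PrimeSpectrum.comap jR '' (PrimeSpectrum.basicOpen g : Set (PrimeSpectrum (R ⊗[k] B0)))
  have hΩ : IsOpen Ω := isOpenMap_comap_includeRight (k := k) (R := R) B0 _
    (PrimeSpectrum.basicOpen g).isOpen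
  have hp0 : PrimeSpectrum.comap jR q0 ∈ Ω := ⟨q0, hgq0, rfl⟩
  obtain ⟨_, ⟨f0, rfl⟩, hp0f0, hf0Ω⟩ :=
    PrimeSpectrum.isTopologicalBasis_basic_opens.exists_subset_of_mem_open hp0 hΩ
  -- the conductor ideals
  have hrad : ∀ b : B, ∃ n : ℕ, ((f0 ^ n : B0) : B) * b ∈ B0 := by
    intro b
    have hmem : f0 ∈ (condIdeal B0 b).radical := by
      rw [Ideal.radical_eq_sInf, Ideal.mem_sInf]
      rintro J ⟨hIJ, hJ⟩
      by_contra hf0J
      have hJΩ : (⟨J, hJ⟩ : PrimeSpectrum B0) ∈ Ω := hf0Ω hf0J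
      obtain ⟨P', hP'g, hP'J⟩ := hJΩ
      obtain ⟨N, hNb⟩ := hN ((1 : R) ⊗ₜ[k] b)
      have hgN : g ^ N ∉ P'.asIdeal := fun h => hP'g (P'.isPrime.mem_of_pow_mem N h)
      obtain ⟨z0, hz0⟩ : ∃ z0 : R ⊗[k] B0, incl R B0 z0 = f' ^ N * ((1 : R) ⊗ₜ[k] b) := hNb
      have hb' : ∃ z0 : R ⊗[k] B0, incl R B0 z0 = incl R B0 (g ^ N) * ((1 : R) ⊗ₜ[k] b) := by
        refine ⟨z0, ?_⟩
        rw [hz0, map_pow, hg]
      obtain ⟨x, hx1, hx2⟩ := exists_notMem_mul_mem (Module.Basis.ofVectorSpace k R) B0 (g ^ N)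
        P'.asIdeal hgN b hb'
      apply hx1
      have hxJ : x ∈ J := hIJ hx2
      have : x ∈ (PrimeSpectrum.comap jR P').asIdeal := by
        rw [hP'J]
        exact hxJ
      exact this
    obtain ⟨n, hn⟩ := hmem
    exact ⟨n, hn⟩
  refine ⟨B0.val f0, ?_, ?_⟩
  · intro h
    apply hp0f0
    show jR f0 ∈ q0.asIdeal
    show incl R B0 (jR f0) ∈ q'.asIdeal
    exact h
  · have h1 : Algebra.FiniteType k B0 := (Subalgebra.fg_iff_finiteType B0).1 hB0fg
    have h2 : Algebra.FiniteType B0 (Localization.Away f0) :=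
      haveI := IsLocalization.Away.finitePresentation (S := Localization.Away f0) f0
      inferInstance
    haveI : Algebra.FiniteType k (Localization.Away f0) := Algebra.FiniteType.trans h1 h2
    refine Algebra.FiniteType.of_surjective (Localization.awayMapₐ B0.val f0) ?_
    show Function.Surjective (Localization.awayMap B0.val.toRingHom f0)
    rw [Localization.awayMap_surjective_iff]
    intro a
    obtain ⟨n, hn⟩ := hrad a
    exact ⟨⟨_, hn⟩, n, by simp⟩

end Main

end Groth.Agent.Helper13.PDesc
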