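import Mathlib
import Groth.Agent.Lib.Helper13.PbAmple
import Groth.Agent.Lib.Helper13.AmpleRestrict

set_option autoImplicit false
universe u
open CategoryTheory CategoryTheory.Limits AlgebraicGeometry Opposite TopologicalSpace
open Groth.Agent.Helper13.QCoh Groth.Agent.Helper13.FinType Groth.Agent.Helper13.Tensor
open Groth.Agent.Helper13.PbGen Groth.Agent.Helper13.PbTensor Groth.Agent.Helper13.Ample
open Groth.Agent.Helper13.Inv Groth.Agent.Helper13.GenLoc

namespace Groth.Agent.Helper13.PbAmple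

variable {X Y : Scheme.{u}} (u : Y ⟶ X) (L : X.Modules)

/-- pullback of an ample module along a quasi-affine morphism is ample. -/
theorem isAmple_pullback_of_isQuasiAffine [QuasiCompact u]
    (hqa : ∀ V : X.Opens, IsAffineOpen V → Scheme.IsQuasiAffine (u ⁻¹ᵁ V : Scheme.{u}))
    (hamp : CohB1.IsAmple L) : CohB1.IsAmple ((Scheme.Modules.pullback u).obj L) := by
  obtain ⟨h1, h2, h3⟩ := hamp
  haveI := h2
  have hL' := Groth.Agent.Helper13.PbInv.isInvertible_pullback u L h1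
  haveI : CompactSpace Y := QuasiCompact.compactSpace_of_compactSpace u
  choose n s hx hs using h3
  let s' : ∀ x : X, Coh.structureModule Y ⟶ CohB1.tensorPow ((Scheme.Modules.pullback u).obj L) (n x + 1) :=
    fun x => pullbackPowSec u L h1 (n x + 1) (s x)
  have hΩ : ∀ x : X, CohB1.genLocus _ (s' x) = u ⁻¹ᵁ CohB1.genLocus _ (s x) :=
    fun x => genLocus_pullbackPowSec u L h1 _ _
  have hqaΩ : ∀ x : X, Scheme.IsQuasiAffine (CohB1.genLocus _ (s' x) : Scheme.{u}) := by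
    intro x
    rw [hΩ x]
    exact hqa _ (hs x)
  haveI : QuasiSeparatedSpace Y := by
    refine QuasiSeparatedSpace.of_isOpenCover (U := fun y : Y => CohB1.genLocus _ (s' (u y)))
      (eq_top_iff.mpr fun y _ => Opens.mem_iSup.mpr ⟨y, ?_⟩)
      (fun y => isRetrocompact_genLocus _ (isInvertible_tensorPow _ hL' _) (s' (u y)))
      (fun y => ?_)
    · rw [hΩ]; exact hx (u y)
    · haveI := hqaΩ (u y)
      have : QuasiSeparatedSpace (CohB1.genLocus _ (s' (u y)) : Scheme.{u}) := inferInstance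
      exact (isQuasiSeparated_iff_quasiSeparatedSpace _ (CohB1.genLocus _ (s' (u y))).2).2 this
  refine ⟨hL', inferInstance, fun y => ?_⟩
  let Ω := CohB1.genLocus _ (s' (u y))
  have hyΩ : y ∈ Ω := by
    change y ∈ CohB1.genLocus _ (s' (u y))
    rw [hΩ]; exact hx (u y)
  haveI := hqaΩ (u y)
  obtain ⟨_, ⟨r, hr, rfl⟩, hyr, -⟩ := Opens.isBasis_iff_nbhd.1
    (Scheme.IsQuasiAffine.isBasis_basicOpen (Ω : Scheme.{u}))
    (show (⟨y, hyΩ⟩ : (Ω : Scheme.{u})) ∈ (⊤ : (Ω : Scheme.{u}).Opens) from trivial)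
  let g : Γ(Y, Ω) := Ω.topIso.hom r
  have hg : Ω.ι ''ᵁ (Ω : Scheme.{u}).basicOpen r = Y.basicOpen g := by
    have := Scheme.Opens.ι_image_basicOpen_topIso_inv (U := Ω) g
    rw [← this]
    congr 2
    change r = (Ω.topIso.hom ≫ Ω.topIso.inv) r
    rw [Iso.hom_inv_id]
    rfl
  obtain ⟨k, σ, hσ⟩ := exists_genLocus_eq_basicOpen_of_affine
    (CohB1.tensorPow ((Scheme.Modules.pullback u).obj L) (n (u y) + 1))
    (isInvertible_tensorPow _ hL' _) (s' (u y)) g
  obtain ⟨m, hm⟩ : ∃ m, (n (u y) + 1) * (k + 1) = m + 1 :=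
    ⟨n (u y) * k + n (u y) + k, by ring⟩
  refine ⟨m, σ ≫ (powMul _ (n (u y) + 1) (k + 1) ≪≫ powCast _ hm).hom, ?_, ?_⟩
  · rw [genLocus_comp_iso, hσ, ← hg]
    exact ⟨⟨y, hyΩ⟩, hyr, rfl⟩
  · rw [genLocus_comp_iso, hσ, ← hg]
    exact (Scheme.Hom.isAffineOpen_iff_of_isOpenImmersion Ω.ι).2 hr

end Groth.Agent.Helper13.PbAmple
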