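import Mathlib

set_option autoImplicit false
universe v u
open CategoryTheory CategoryTheory.Limits

namespace Groth.Agent.Helper13.PbMono

variable {C : Type u} [Category.{v} C] [Abelian C] {A B D : C} (g : B ⟶ D) (f : A ⟶ D) [Mono g]

/-- the pullback of a monomorphism `g` along `f` is the kernel of `f ≫ cokernel.π g`. -/
noncomputable def pullbackIsoKernel : pullback g f ≅ kernel (f ≫ cokernel.π g) where
  hom := kernel.lift _ (pullback.snd g f) (by
    rw [← Category.assoc, ← pullback.condition, Category.assoc, cokernel.condition, comp_zero])
  inv := pullback.lift (Abelian.monoLift g (kernel.ι _ ≫ f) (by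
      rw [Category.assoc, kernel.condition])) (kernel.ι _) (by
      rw [Abelian.monoLift_comp])
  hom_inv_id := by
    apply pullback.hom_ext
    · rw [← cancel_mono g]
      simp only [Category.assoc, Category.id_comp]
      rw [pullback.lift_fst_assoc, Abelian.monoLift_comp, kernel.lift_ι_assoc, pullback.condition]
    · rw [Category.assoc, pullback.lift_snd, kernel.lift_ι, Category.id_comp]
  inv_hom_id := by
    rw [← cancel_mono (kernel.ι _), Category.assoc, kernel.lift_ι, pullback.lift_snd,
      Category.id_comp]

end Groth.Agent.Helper13.PbMono
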