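import Mathlib
import Groth.Prelude.Def_Curv2
import Groth.Agent.Lib.Helper13.PnSerre

/-!
# Euler characteristic of large twists on `P^n_k` is `h^0` (helper13)
-/

set_option autoImplicit false
set_option linter.unusedSectionVars false
universe u
open CategoryTheory CategoryTheory.Limits AlgebraicGeometry Opposite TopologicalSpace

namespace Groth.Agent.Helper13.PnSerre

theorem euler_eq_h0 (k : Type u) [Field k] (n : ℕ)
    (F : (CohB1.ProjSpace n k).Modules) (hF : Coh.IsCoh F) :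
    ∃ d₀ : ℤ, ∀ d : ℤ, d₀ ≤ d →
      Curv2.euler k (CohB1.ProjSpace n k) (CohB1.tensorMod F (Twist.twistProjSpace n k d)) =
        (Module.finrank k (Coh.HH (CohB1.ProjSpace n k)
          (CohB1.tensorMod F (Twist.twistProjSpace n k d)) 0) : ℤ) := by
  obtain ⟨d₀, h⟩ := serre_vanishing n k F hF
  refine ⟨d₀, fun d hd => ?_⟩
  unfold Curv2.euler
  rw [finsum_eq_single _ 0]
  · simp
  · intro i hi
    haveI := h d hd i (Nat.pos_of_ne_zero hi)
    rw [Module.finrank_zero_of_subsingleton]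
    simp

theorem hilbert_eq_h0 (k : Type u) [Field k] (n : ℕ)
    (F : (CohB1.ProjSpace n k).Modules) (hF : Coh.IsCoh F) (P : Polynomial ℚ)
    (hP : ∀ d : ℤ, (Curv2.euler k (CohB1.ProjSpace n k)
      (CohB1.tensorMod F (Twist.twistProjSpace n k d)) : ℚ) = P.eval (d : ℚ)) :
    ∃ d₀ : ℤ, ∀ d : ℤ, d₀ ≤ d →
      P.eval (d : ℚ) = (Module.finrank k (Coh.HH (CohB1.ProjSpace n k)
        (CohB1.tensorMod F (Twist.twistProjSpace n k d)) 0) : ℚ) := by
  obtain ⟨d₀, h⟩ := euler_eq_h0 k n F hF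
  refine ⟨d₀, fun d hd => ?_⟩
  rw [← hP d, h d hd]
  simp

end Groth.Agent.Helper13.PnSerre
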