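import Mathlib
import Groth.Agent.Lib.Helper13.PnSerreSub

/-!
# Euler characteristic by lengths of large twists on a closed subscheme of `P^r_A` (helper13)
-/

set_option autoImplicit false
set_option linter.unusedSectionVars false
set_option linter.style.haveILetI false
universe u
open CategoryTheory CategoryTheory.Limits AlgebraicGeometry Opposite TopologicalSpace

namespace Groth.Agent.Helper13.PnSerre

theorem length_euler_eq (A : Type u) [CommRing A]
    [IsArtinianRing A] [IsLocalRing A] (r : ℕ) (X : Scheme.{u}) [X.Over (Spec (CommRingCat.of A))]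
    (i : X ⟶ CohB1.ProjSpace r A) [IsClosedImmersion i] (F : X.Modules) (hF : Coh.IsCoh F) :
    ∃ N : ℤ, ∀ n : ℤ, N ≤ n →
      ((Finset.range (r + 1)).sum fun j => (-1 : ℤ) ^ j *
        ((Module.length A (Coh.HH X (CohB1.tensorMod F
          ((Scheme.Modules.pullback i).obj (Twist.twistProjSpace r A n))) j)).toNat : ℤ)) =
      ((Module.length A (Coh.HH X (CohB1.tensorMod F
          ((Scheme.Modules.pullback i).obj (Twist.twistProjSpace r A n))) 0)).toNat : ℤ) := by
  obtain ⟨N, h⟩ := serre_vanishing_closed r A i F hF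
  refine ⟨N, fun n hn => ?_⟩
  rw [Finset.sum_eq_single 0]
  · simp
  · intro j _ hj
    haveI := h n hn j (Nat.pos_of_ne_zero hj)
    rw [Module.length_eq_zero]
    simp
  · intro h0
    exact absurd (Finset.mem_range.2 (Nat.succ_pos r)) h0

theorem length_hilbert_leadingCoeff (A : Type u) [CommRing A]
    [IsArtinianRing A] [IsLocalRing A] (r : ℕ) (X : Scheme.{u}) [X.Over (Spec (CommRingCat.of A))]
    (i : X ⟶ CohB1.ProjSpace r A) [IsClosedImmersion i] (F : X.Modules) (hF : Coh.IsCoh F)
    (P : Polynomial ℚ)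
    (hP : ∀ n : ℤ, ((Finset.range (r + 1)).sum fun j => (-1 : ℚ) ^ j *
        ((Module.length A (Coh.HH X (CohB1.tensorMod F
          ((Scheme.Modules.pullback i).obj (Twist.twistProjSpace r A n))) j)).toNat : ℚ)) =
          P.eval (n : ℚ)) :
    0 ≤ P.leadingCoeff := by
  obtain ⟨N, h⟩ := serre_vanishing_closed r A i F hF
  refine leadingCoeff_nonneg_of_eval_nonneg P N (fun n hn => ?_)
  rw [← hP n, Finset.sum_eq_single 0]
  · simp
  · intro j _ hj
    haveI := h n hn j (Nat.pos_of_ne_zero hj)
    rw [Module.length_eq_zero]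
    simp
  · intro h0
    exact absurd (Finset.mem_range.2 (Nat.succ_pos r)) h0

end Groth.Agent.Helper13.PnSerre
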