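import Groth.Prelude.Def_ClSub2
import Mathlib.AlgebraicGeometry.Morphisms.Proper
import Mathlib.AlgebraicGeometry.Morphisms.Immersion
import Mathlib.AlgebraicGeometry.IdealSheaf.Functorial

/-! Copied from helper2 `Lib/Helper2/ProperOver.lean` (namespace changed) to keep Helper13 proofs self-contained. -/
/-! Closed subsets proper over a base: independence of the closed subscheme structure, etc. -/

namespace Groth.Agent.Helper13.H2

open AlgebraicGeometry CategoryTheory Limits MorphismProperty

universe u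

theorem quasiCompact_of_comp_surj {X Y Z : Scheme.{u}} (h : X ⟶ Y) (g : Y ⟶ Z)
    [Surjective h] [QuasiCompact (h ≫ g)] : QuasiCompact g := by
  constructor
  intro U hU hUc
  have hc := QuasiCompact.isCompact_preimage (f := h ≫ g) U hU hUc
  have e : g ⁻¹' U = h '' ((h ≫ g) ⁻¹' U) := by
    ext y
    constructor
    · intro hy
      obtain ⟨x, rfl⟩ := h.surjective y
      exact ⟨x, by simpa using hy, rfl⟩
    · rintro ⟨x, hx, rfl⟩
      simpa using hx
  rw [e]
  exact hc.image h.continuous

theorem isSeparated_of_comp_surj_univClosed {X Y Z : Scheme.{u}} (h : X ⟶ Y) (g : Y ⟶ Z)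
    [Surjective h] [UniversallyClosed h] [IsSeparated (h ≫ g)] : IsSeparated g := by
  constructor
  refine IsClosedImmersion.of_isPreimmersion _ ?_
  let hh : pullback (h ≫ g) (h ≫ g) ⟶ pullback g g :=
    pullback.map (h ≫ g) (h ≫ g) g g h h (𝟙 Z) ((Category.comp_id _).trans rfl)
      ((Category.comp_id _).trans rfl)
  have hhuc : UniversallyClosed hh :=
    MorphismProperty.pullbackMap (P := @UniversallyClosed) (f := h ≫ g) (g := h ≫ g)
      (f' := g) (g' := g) (i₁ := h) (i₂ := h) inferInstance inferInstance rfl rfl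
  have comm : pullback.diagonal (h ≫ g) ≫ hh = h ≫ pullback.diagonal g := by
    apply pullback.hom_ext
    · simp only [hh, Category.assoc, pullback.lift_fst, pullback.diagonal_fst_assoc, pullback.diagonal_fst, Category.comp_id]
    · simp only [hh, Category.assoc, pullback.lift_snd, pullback.diagonal_snd_assoc, pullback.diagonal_snd, Category.comp_id]
  have e : Set.range (pullback.diagonal g) = hh '' (Set.range (pullback.diagonal (h ≫ g))) := by
    rw [← Set.range_comp]
    have h1 : (⇑hh ∘ ⇑(pullback.diagonal (h ≫ g))) = ⇑(h ≫ pullback.diagonal g) := by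
      rw [← comm]; ext x; simp
    rw [h1]
    have h2 : ⇑(h ≫ pullback.diagonal g) = ⇑(pullback.diagonal g) ∘ ⇑h := by ext x; simp
    rw [h2, Set.range_comp, Set.range_eq_univ.2 h.surjective, Set.image_univ]
  rw [e]
  exact hh.isClosedMap _ (pullback.diagonal (h ≫ g)).isClosedEmbedding.isClosed_range

/-- Properness descends along a surjective universally closed morphism, for a target morphism
locally of finite type. -/
theorem isProper_of_comp_surj_univClosed {X Y Z : Scheme.{u}} (h : X ⟶ Y) (g : Y ⟶ Z)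
    [Surjective h] [UniversallyClosed h] [LocallyOfFiniteType g] [IsProper (h ≫ g)] :
    IsProper g := by
  have : IsSeparated g := isSeparated_of_comp_surj_univClosed h g
  have : UniversallyClosed g := UniversallyClosed.of_comp_surjective h g
  have : QuasiCompact g := quasiCompact_of_comp_surj h g
  exact { }


open Scheme.IdealSheafData in
/-- The range of the reduced induced closed subscheme of a closed set. -/
theorem range_red {X : Scheme.{u}} (Z : Set X) (hZ : IsClosed Z) :
    Set.range (vanishingIdeal ⟨Z, hZ⟩).subschemeι = Z := by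
  rw [range_subschemeι, coe_support_vanishingIdeal]
  rfl

open Scheme.IdealSheafData in
/-- The comparison morphism from the reduced induced subscheme on the range of a closed
immersion `i : T ⟶ X` to `T`. -/
theorem exists_red_lift {X T : Scheme.{u}} (i : T ⟶ X) [IsClosedImmersion i]
    (Z : Set X) (hZ : IsClosed Z) (hi : Z ⊆ Set.range i) :
    ∃ j : (vanishingIdeal ⟨Z, hZ⟩).subscheme ⟶ T,
      j ≫ i = (vanishingIdeal ⟨Z, hZ⟩).subschemeι := by
  have hle : i.ker ≤ (vanishingIdeal ⟨Z, hZ⟩).subschemeι.ker := by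
    rw [ker_subschemeι, ← le_support_iff_le_vanishingIdeal]
    intro x hx
    have : (i.ker.support : Set X) = closure (Set.range i) := i.support_ker
    change x ∈ (i.ker.support : Set X)
    rw [this]
    exact subset_closure (hi hx)
  exact ⟨IsClosedImmersion.lift i _ hle, IsClosedImmersion.lift_fac i _ hle⟩

open Scheme.IdealSheafData in
/-- Independence of the closed subscheme structure: if `i : T ⟶ X` is a closed immersion with
range `Z`, then `T` is proper over `S` iff `Z` is proper over `S` (with `f` locally of finite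
type). -/
theorem isProperOver_iff_of_closedImmersion {X S T : Scheme.{u}} (f : X ⟶ S)
    [LocallyOfFiniteType f] (i : T ⟶ X) [IsClosedImmersion i] (Z : Set X)
    (hi : Set.range i = Z) : ClSub.IsProperOver f Z ↔ IsProper (i ≫ f) := by
  have hZ : IsClosed Z := hi ▸ i.isClosedEmbedding.isClosed_range
  obtain ⟨j, hj⟩ := exists_red_lift i Z hZ hi.ge
  have hjcl : IsClosedImmersion j := by
    have : IsClosedImmersion (j ≫ i) := by rw [hj]; infer_instance
    exact IsClosedImmersion.of_comp j i
  have hjsurj : Surjective j := by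
    constructor
    intro t
    have : i t ∈ Set.range (vanishingIdeal ⟨Z, hZ⟩).subschemeι := by
      rw [range_red, ← hi]; exact ⟨t, rfl⟩
    obtain ⟨z, hz⟩ := this
    refine ⟨z, i.isClosedEmbedding.injective ?_⟩
    rw [← hz, ← hj]; simp
  constructor
  · rintro ⟨h, hp⟩
    have : IsProper (j ≫ i ≫ f) := by rw [← Category.assoc, hj]; exact hp
    exact isProper_of_comp_surj_univClosed j (i ≫ f)
  · intro hp
    refine ⟨hZ, ?_⟩
    rw [← hj, Category.assoc]
    infer_instance


open Scheme.IdealSheafData in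
/-- Images of closed subsets proper over the base, under a morphism which is universally
closed on the subset. -/
theorem isProperOver_image {X Y S : Scheme.{u}} (p : X ⟶ S) (q : Y ⟶ S)
    [LocallyOfFiniteType q] (f : X ⟶ Y) (w : f ≫ q = p) (Z : Set X)
    (hZ : ClSub.IsProperOver p Z)
    (huc : ∀ h : IsClosed Z, UniversallyClosed ((vanishingIdeal ⟨Z, h⟩).subschemeι ≫ f)) :
    ClSub.IsProperOver q (⇑f '' Z) := by
  obtain ⟨h, hp⟩ := hZ
  have huc' := huc h
  have hrange : Set.range ((vanishingIdeal ⟨Z, h⟩).subschemeι ≫ f) = ⇑f '' Z := by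
    rw [Scheme.Hom.comp_base, TopCat.coe_comp, Set.range_comp, range_red]
  have hW : IsClosed (⇑f '' Z) := by
    rw [← hrange]
    exact ((vanishingIdeal ⟨Z, h⟩).subschemeι ≫ f).isClosedMap.isClosed_range
  refine ⟨hW, ?_⟩
  have H : vanishingIdeal ⟨⇑f '' Z, hW⟩ ≤ (vanishingIdeal ⟨Z, h⟩).map f := by
    rw [map_vanishingIdeal]
    apply vanishingIdeal_antimono
    rw [TopologicalSpace.Closeds.closure_le]
    exact le_rfl
  let k' := subschemeMap (vanishingIdeal ⟨Z, h⟩) (vanishingIdeal ⟨⇑f '' Z, hW⟩) f H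
  have hk' : k' ≫ (vanishingIdeal ⟨⇑f '' Z, hW⟩).subschemeι =
      (vanishingIdeal ⟨Z, h⟩).subschemeι ≫ f := subschemeMap_subschemeι _ _ f H
  have : UniversallyClosed (k' ≫ (vanishingIdeal ⟨⇑f '' Z, hW⟩).subschemeι) := by
    rw [hk']; exact huc'
  have hk'uc : UniversallyClosed k' :=
    UniversallyClosed.of_comp_of_isSeparated k' (vanishingIdeal ⟨⇑f '' Z, hW⟩).subschemeι
  have hk'surj : Surjective k' := by
    constructor
    intro y
    have hy : (vanishingIdeal ⟨⇑f '' Z, hW⟩).subschemeι y ∈
        Set.range ((vanishingIdeal ⟨Z, h⟩).subschemeι ≫ f) := by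
      rw [hrange]
      have := range_red (⇑f '' Z) hW
      exact this.le ⟨y, rfl⟩
    obtain ⟨z, hz⟩ := hy
    refine ⟨z, (vanishingIdeal ⟨⇑f '' Z, hW⟩).subschemeι.isClosedEmbedding.injective ?_⟩
    rw [← hz, ← hk']; simp
  have : IsProper (k' ≫ (vanishingIdeal ⟨⇑f '' Z, hW⟩).subschemeι ≫ q) := by
    rw [← Category.assoc, hk', Category.assoc, w]; exact hp
  exact isProper_of_comp_surj_univClosed k' _


theorem quasiCompact_of_comp_jointly_surj {ι : Type*} [Finite ι] {W : ι → Scheme.{u}}
    {Y Z : Scheme.{u}} (h : ∀ i, W i ⟶ Y) (g : Y ⟶ Z)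
    (hsurj : ∀ y : Y, ∃ i, y ∈ Set.range (h i)) [∀ i, QuasiCompact (h i ≫ g)] :
    QuasiCompact g := by
  constructor
  intro U hU hUc
  have e : g ⁻¹' U = ⋃ i, (h i) '' ((h i ≫ g) ⁻¹' U) := by
    ext y
    simp only [Set.mem_iUnion]
    constructor
    · intro hy
      obtain ⟨i, x, rfl⟩ := hsurj y
      exact ⟨i, x, by simpa using hy, rfl⟩
    · rintro ⟨i, x, hx, rfl⟩
      simpa using hx
  rw [e]
  exact isCompact_iUnion fun i =>
    (QuasiCompact.isCompact_preimage (f := h i ≫ g) U hU hUc).image (h i).continuous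

theorem isSeparated_of_comp_jointly_surj {ι : Type*} [Finite ι] {W : ι → Scheme.{u}}
    {Y Z : Scheme.{u}} (h : ∀ i, W i ⟶ Y) (g : Y ⟶ Z)
    (hsurj : ∀ y : Y, ∃ i, y ∈ Set.range (h i)) [∀ i, UniversallyClosed (h i)]
    [∀ i, IsSeparated (h i ≫ g)] : IsSeparated g := by
  constructor
  refine IsClosedImmersion.of_isPreimmersion _ ?_
  have key : ∀ i, IsClosed ((pullback.diagonal g) '' Set.range (h i)) := by
    intro i
    let hh : pullback (h i ≫ g) (h i ≫ g) ⟶ pullback g g :=
      pullback.map (h i ≫ g) (h i ≫ g) g g (h i) (h i) (𝟙 Z) ((Category.comp_id _).trans rfl)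
        ((Category.comp_id _).trans rfl)
    have hhuc : UniversallyClosed hh :=
      MorphismProperty.pullbackMap (P := @UniversallyClosed) (f := h i ≫ g) (g := h i ≫ g)
        (f' := g) (g' := g) (i₁ := h i) (i₂ := h i) inferInstance inferInstance rfl rfl
    have comm : pullback.diagonal (h i ≫ g) ≫ hh = h i ≫ pullback.diagonal g := by
      apply pullback.hom_ext
      · simp only [hh, Category.assoc, pullback.lift_fst, pullback.diagonal_fst_assoc,
          pullback.diagonal_fst, Category.comp_id]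
      · simp only [hh, Category.assoc, pullback.lift_snd, pullback.diagonal_snd_assoc,
          pullback.diagonal_snd, Category.comp_id]
    have e : (pullback.diagonal g) '' Set.range (h i) =
        hh '' (Set.range (pullback.diagonal (h i ≫ g))) := by
      rw [← Set.range_comp, ← Set.range_comp]
      have h1 : (⇑hh ∘ ⇑(pullback.diagonal (h i ≫ g))) = ⇑(h i ≫ pullback.diagonal g) := by
        rw [← comm]; ext x; simp
      rw [h1]
      have h2 : ⇑(h i ≫ pullback.diagonal g) = ⇑(pullback.diagonal g) ∘ ⇑(h i) := by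
        ext x; simp
      rw [h2]
    rw [e]
    exact hh.isClosedMap _ (pullback.diagonal (h i ≫ g)).isClosedEmbedding.isClosed_range
  have e : Set.range (pullback.diagonal g) = ⋃ i, (pullback.diagonal g) '' Set.range (h i) := by
    ext y
    simp only [Set.mem_iUnion, Set.mem_range, Set.mem_image]
    constructor
    · rintro ⟨x, rfl⟩
      obtain ⟨i, w, rfl⟩ := hsurj x
      exact ⟨i, _, ⟨w, rfl⟩, rfl⟩
    · rintro ⟨i, _, ⟨w, rfl⟩, rfl⟩
      exact ⟨_, rfl⟩
  rw [e]
  exact isClosed_iUnion_of_finite key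

theorem universallyClosed_of_comp_jointly_surj {ι : Type*} [Finite ι] {W : ι → Scheme.{u}}
    {Y Z : Scheme.{u}} (h : ∀ i, W i ⟶ Y) (g : Y ⟶ Z)
    (hsurj : ∀ y : Y, ∃ i, y ∈ Set.range (h i))
    [∀ i, UniversallyClosed (h i ≫ g)] : UniversallyClosed g := by
  constructor
  intro X' Y' i₁ i₂ f' H
  have hcl : ∀ i, IsClosedMap (pullback.fst i₁ (h i) ≫ f') := fun i =>
    UniversallyClosed.universally_isClosedMap _ _ _
      ((IsPullback.of_hasPullback i₁ (h i)).paste_horiz H)
  intro C hC
  have e : f' '' C = ⋃ i, (pullback.fst i₁ (h i) ≫ f') '' ((pullback.fst i₁ (h i)) ⁻¹' C) := by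
    ext y
    simp only [Set.mem_iUnion, Set.mem_image, Set.mem_preimage]
    constructor
    · rintro ⟨x, hx, rfl⟩
      obtain ⟨i, hi⟩ := hsurj (i₁ x)
      have : x ∈ Set.range (pullback.fst i₁ (h i)) := by
        rw [Scheme.Pullback.range_fst]
        exact hi
      obtain ⟨p, rfl⟩ := this
      exact ⟨i, p, hx, by simp⟩
    · rintro ⟨i, p, hp, rfl⟩
      exact ⟨_, hp, by simp⟩
  rw [e]
  exact isClosed_iUnion_of_finite fun i =>
    hcl i _ (hC.preimage (pullback.fst i₁ (h i)).continuous)

/-- Properness descends along a finite jointly surjective family of universally closed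
morphisms. -/
theorem isProper_of_comp_jointly_surj {ι : Type*} [Finite ι] {W : ι → Scheme.{u}}
    {Y Z : Scheme.{u}} (h : ∀ i, W i ⟶ Y) (g : Y ⟶ Z)
    (hsurj : ∀ y : Y, ∃ i, y ∈ Set.range (h i)) [∀ i, UniversallyClosed (h i)]
    [LocallyOfFiniteType g] [∀ i, IsProper (h i ≫ g)] : IsProper g := by
  have : IsSeparated g := isSeparated_of_comp_jointly_surj h g hsurj
  have : UniversallyClosed g := universallyClosed_of_comp_jointly_surj h g hsurj
  have : QuasiCompact g := quasiCompact_of_comp_jointly_surj h g hsurj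
  exact { }

open Scheme.IdealSheafData in
theorem isProperOver_iUnion {X S : Scheme.{u}} (f : X ⟶ S) [LocallyOfFiniteType f]
    (ι : Type) [Finite ι] (Z : ι → Set X) (hZ : ∀ i, ClSub.IsProperOver f (Z i)) :
    ClSub.IsProperOver f (Set.iUnion Z) := by
  have hcl : ∀ i, IsClosed (Z i) := fun i => (hZ i).1
  have hU : IsClosed (Set.iUnion Z) := isClosed_iUnion_of_finite hcl
  refine ⟨hU, ?_⟩
  have hj : ∀ i, ∃ j : (vanishingIdeal ⟨Z i, hcl i⟩).subscheme ⟶
      (vanishingIdeal ⟨Set.iUnion Z, hU⟩).subscheme,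
      j ≫ (vanishingIdeal ⟨Set.iUnion Z, hU⟩).subschemeι =
        (vanishingIdeal ⟨Z i, hcl i⟩).subschemeι := fun i =>
    exists_red_lift _ (Z i) (hcl i) (by
      rw [range_red]; exact Set.subset_iUnion Z i)
  choose j hj using hj
  have hjcl : ∀ i, IsClosedImmersion (j i) := by
    intro i
    have : IsClosedImmersion (j i ≫ (vanishingIdeal ⟨Set.iUnion Z, hU⟩).subschemeι) := by
      rw [hj]; infer_instance
    exact IsClosedImmersion.of_comp (j i) (vanishingIdeal ⟨Set.iUnion Z, hU⟩).subschemeι
  have hprop : ∀ i, IsProper (j i ≫ (vanishingIdeal ⟨Set.iUnion Z, hU⟩).subschemeι ≫ f) := by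
    intro i
    rw [← Category.assoc, hj]
    exact (hZ i).2
  refine isProper_of_comp_jointly_surj j _ ?_
  intro y
  have hy : (vanishingIdeal ⟨Set.iUnion Z, hU⟩).subschemeι y ∈ Set.iUnion Z := by
    exact (range_red (Set.iUnion Z) hU).le ⟨y, rfl⟩
  obtain ⟨i, hi⟩ := Set.mem_iUnion.1 hy
  have : (vanishingIdeal ⟨Set.iUnion Z, hU⟩).subschemeι y ∈
      Set.range (vanishingIdeal ⟨Z i, hcl i⟩).subschemeι := by
    rw [range_red]; exact hi
  obtain ⟨z, hz⟩ := this
  refine ⟨i, z, (vanishingIdeal ⟨Set.iUnion Z, hU⟩).subschemeι.isClosedEmbedding.injective ?_⟩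
  rw [← hz, ← hj]; simp

end Groth.Agent.Helper13.H2
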