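import Mathlib
import Groth.Agent.S0792
import Groth.Agent.S0796
import Groth.Agent.S4456
import Groth.Agent.Lib.Helper13.RelSerre
import Groth.Agent.Lib.Helper13.PbAmple
import Groth.Agent.Lib.Helper13.Ample
import Groth.Agent.Lib.Helper13.ProjFormulaLF
import Groth.Agent.Lib.Helper13.PbInv
import Groth.Agent.Lib.Helper13.PbTensor
import Groth.Agent.Lib.Helper13.PushInv5
import Groth.Agent.Lib.Helper13.ToAbExact

set_option autoImplicit false
set_option linter.unusedSectionVars false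
set_option linter.style.haveILetI false
universe u
open CategoryTheory CategoryTheory.Limits AlgebraicGeometry Opposite TopologicalSpace

namespace Groth.Agent.Helper13.ProperSuppPush

open Groth.Agent.Helper13.ToAbExact

/-- restriction of a relatively ample module to a closed subscheme is relatively ample (in the
affine-local form used by relative Serre vanishing). -/
theorem isAmple_restrict_pullback {X Y Z : Scheme.{u}} (f : X ⟶ Y) (i : Z ⟶ X) [IsClosedImmersion i]
    (L : X.Modules) (W : Y.Opens)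
    (hamp : CohB1.IsAmple (L.restrict (f ⁻¹ᵁ W).ι)) :
    CohB1.IsAmple (((Scheme.Modules.pullback i).obj L).restrict ((i ≫ f) ⁻¹ᵁ W).ι) := by
  set U : X.Opens := f ⁻¹ᵁ W with hU
  have hV : (i ≫ f) ⁻¹ᵁ W = i ⁻¹ᵁ U := rfl
  rw [hV]
  haveI : IsClosedImmersion (i ∣_ U) := IsZariskiLocalAtTarget.restrict ‹IsClosedImmersion i› U
  have h1 : CohB1.IsAmple ((Scheme.Modules.pullback (i ∣_ U)).obj (L.restrict U.ι)) :=
    Groth.Agent.Helper13.PbAmple.isAmple_pullback_of_isAffineHom (i ∣_ U) _ hamp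
  refine Groth.Agent.Helper13.Ample.isAmple_of_iso ?_ h1
  exact (Scheme.Modules.pullback (i ∣_ U)).mapIso
      ((Scheme.Modules.restrictFunctorIsoPullback U.ι).app L) ≪≫
    (Scheme.Modules.pullbackComp (i ∣_ U) U.ι).app L ≪≫
    (Scheme.Modules.pullbackCongr (morphismRestrict_ι i U)).app L ≪≫
    ((Scheme.Modules.pullbackComp (i ⁻¹ᵁ U).ι i).app L).symm ≪≫
    ((Scheme.Modules.restrictFunctorIsoPullback (i ⁻¹ᵁ U).ι).app
      ((Scheme.Modules.pullback i).obj L)).symm

/-- `R¹f_*(K ⊗ L^n) = 0` for `n ≫ 0`, `K` coherent with support proper over `Y`, `L` relatively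
ample. -/
theorem isZero_R1_of_properSupport {X Y : Scheme.{u}} (f : X ⟶ Y)
    [IsNoetherian Y] [LocallyOfFiniteType f] [QuasiCompact f] (L : X.Modules)
    (hL : PicF.IsInvertible L) (hamp : RelAmple.IsRelAmple f L) (K : X.Modules) (hK : Coh.IsCoh K)
    (hs : ClSub.IsProperOver f (CohB1.support K)) :
    ∃ N : ℕ, ∀ n : ℕ, N ≤ n →
      IsZero ((Coh.RpushAb f 1).obj (Coh.toAb (CohB1.tensorMod K (CohB1.tensorPow L n)))) := by
  obtain ⟨Z, i, hi, hprop, G, hGq, hGf, ⟨θ⟩⟩ := (Groth.Agent.S0792.result f K hK.1 hK.2).1 hs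
  haveI := hi
  haveI := hprop
  haveI : G.IsQuasicoherent := hGq
  have hL' := Groth.Agent.Helper13.PbInv.isInvertible_pullback i L hL
  have ha : ∀ W : Y.Opens, IsAffineOpen W →
      CohB1.IsAmple (((Scheme.Modules.pullback i).obj L).restrict ((i ≫ f) ⁻¹ᵁ W).ι) :=
    fun W hW => isAmple_restrict_pullback f i L W (hamp.2 ⟨W, hW⟩)
  obtain ⟨n₀, h⟩ := Groth.Agent.Helper13.RelSerre.rel_serre_vanishing (i ≫ f)
    ((Scheme.Modules.pullback i).obj L) hL' ha G ⟨hGq, hGf⟩
  refine ⟨n₀, fun n hn => ?_⟩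
  have hinv := Groth.Agent.Helper13.Inv.isInvertible_tensorPow L hL n
  have hE : FlatMod.IsFinLocFree (CohB1.tensorPow L n) :=
    Groth.Agent.Helper13.PushInv.isFinLocFree_of_isInvertible _ hinv
  haveI : ((Scheme.Modules.pullback i).obj (CohB1.tensorPow L n)).IsQuasicoherent :=
    Groth.Agent.Helper13.Inv.isQuasicoherent_of_isInvertible _
      (Groth.Agent.Helper13.PbInv.isInvertible_pullback i _ hinv)
  haveI : Coh.IsQCoh (CohB1.tensorMod G
      ((Scheme.Modules.pullback i).obj (CohB1.tensorPow L n))) :=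
    Groth.Agent.Helper13.Tensor.isQuasicoherent_tensorMod _ _
  let e1 : CohB1.tensorMod G ((Scheme.Modules.pullback i).obj (CohB1.tensorPow L n)) ≅
      CohB1.tensorMod G (CohB1.tensorPow ((Scheme.Modules.pullback i).obj L) n) :=
    Groth.Agent.Helper13.Tensor.mapIso (Iso.refl G)
      (Groth.Agent.Helper13.PbTensor.pullbackPowIso i L hL n)
  let e2 := (Groth.Agent.Helper13.ProjFormulaLF.νIso i (CohB1.tensorPow L n) hE).app G
  let e3 : CohB1.tensorMod K (CohB1.tensorPow L n) ≅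
      CohB1.tensorMod ((Scheme.Modules.pushforward i).obj G) (CohB1.tensorPow L n) :=
    Groth.Agent.Helper13.Tensor.mapIso θ.symm (Iso.refl _)
  obtain ⟨e4⟩ := Groth.Agent.S4456.result i f
    (CohB1.tensorMod G ((Scheme.Modules.pullback i).obj (CohB1.tensorPow L n))) 1
  have hz := h n hn 1 one_pos
  have hz1 : IsZero ((Coh.RpushAb (i ≫ f) 1).obj (Coh.toAb (CohB1.tensorMod G
      ((Scheme.Modules.pullback i).obj (CohB1.tensorPow L n))))) :=
    IsZero.of_iso hz ((Coh.RpushAb (i ≫ f) 1).mapIso ((toAbF Z).mapIso e1))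
  have hz2 := IsZero.of_iso hz1 e4
  exact IsZero.of_iso hz2 ((Coh.RpushAb f 1).mapIso ((toAbF X).mapIso (e3 ≪≫ e2)))

end Groth.Agent.Helper13.ProperSuppPush
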