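import Mathlib
import Groth.Prelude.Def_Coh
import Groth.Prelude.Def_CohTop
import Groth.Agent.Lib.Helper13.LerayZero
import Groth.Agent.Lib.Helper13.ToAbExact
import Groth.Agent.Lib.Helper13.QCohKer
import Groth.Agent.S0028

universe u
set_option linter.unusedSectionVars false
set_option autoImplicit false
open CategoryTheory CategoryTheory.Limits Opposite TopologicalSpace AlgebraicGeometry

namespace Groth.Agent.Helper13.PushExact

open Groth.Agent.Helper24.CechH Groth.Agent.Helper24.CechInj Groth.Agent.Helper24.Flasque Groth.Agent.Helper24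

section Top
variable {X Y : TopCat.{u}} (f : X ⟶ Y)

/-- pushforward preserves the epimorphism of a short exact sequence whose kernel has
vanishing `R¹ f_*` -/
lemma epi_push_of_R1 (S : ShortComplex (CohTop.Ab X)) (hS : S.ShortExact)
    (h : IsZero ((CohTop.Rpush f 1).obj S.X₁)) : Epi ((CohTop.push f).map S.g) := by
  let Δ := Horseshoe.derivedLES (CohTop.push f)
  have ex3 := Δ.exact₃ _ hS 0 1 rfl
  have hepi0 : Epi (((CohTop.push f).rightDerived 0).map S.g) :=
    ex3.epi_f (h.eq_of_tgt _ _)
  have e := (CohTop.push f).rightDerivedZeroIsoSelf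
  have : (CohTop.push f).map S.g =
      e.inv.app _ ≫ ((CohTop.push f).rightDerived 0).map S.g ≫ e.hom.app _ := by
    rw [e.hom.naturality, Iso.inv_hom_id_app_assoc]
  rw [this]
  infer_instance

end Top

variable {X Y : Scheme.{u}} (f : X ⟶ Y) [IsAffineHom f]

/-- the pushforward along an affine morphism preserves epimorphisms of quasi-coherent modules
(on underlying abelian sheaves) -/
theorem epi_pushAb {F G : X.Modules} [F.IsQuasicoherent] [G.IsQuasicoherent] (v : F ⟶ G) [Epi v] :
    Epi ((Coh.pushAb f).map ((SheafOfModules.toSheaf X.ringCatSheaf).map v)) := by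
  let S : ShortComplex X.Modules := ShortComplex.mk (kernel.ι v) v (kernel.condition v)
  have hS : S.ShortExact :=
    { exact := ShortComplex.exact_of_f_is_kernel _ (kernelIsKernel v)
      mono_f := inferInstance
      epi_g := inferInstance }
  have hS' := ToAbExact.toAb_shortExact S hS
  haveI : (kernel v).IsQuasicoherent := QCohLocal.isQuasicoherent_kernel v
  have h0 := Groth.Agent.S0028.result f (kernel v) 1 Nat.one_pos
  exact epi_push_of_R1 f.base _ hS' h0

end Groth.Agent.Helper13.PushExact
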