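import Mathlib
import Groth.Prelude.Def_Coh
import Groth.Prelude.Def_CohB1
import Groth.Agent.Lib.Helper13.AcycEmbed
import Groth.Agent.Lib.Helper13.H1Push
import Groth.Agent.Lib.Helper13.FTSub
import Groth.Agent.Lib.Helper13.ExtMain3

universe u
set_option linter.unusedSectionVars false
set_option autoImplicit false
open CategoryTheory CategoryTheory.Limits Opposite TopologicalSpace AlgebraicGeometry

namespace Groth.Agent.Helper13.SerreFT

open Groth.Agent.Helper13.QCohLocal Groth.Agent.Helper13.ToAbExact Groth.Agent.Helper13.Qcqs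
  Groth.Agent.Helper13.AcycEmbed

variable {X : Scheme.{u}}

/-- `M` maps to a quasi-coherent module with vanishing `H¹`, injectively over `W` -/
def Good1 (M : X.Modules) (W : X.Opens) : Prop :=
  ∃ (M' : X.Modules) (i : M ⟶ M'), M'.IsQuasicoherent ∧
    Subsingleton (Coh.HH X M' 1) ∧
    ∀ (V : X.Opens) (s : Γ(M, V)), i.app V s = 0 →
      res M (inf_le_left : V ⊓ W ≤ V) s = 0

lemma good1_bot (M : X.Modules) [hM : M.IsQuasicoherent] : Good1 M ⊥ := by
  obtain ⟨M', i, h1, h2, h3⟩ := good_bot M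
  exact ⟨M', i, h1, h2 0, h3⟩

lemma good1_sup (M : X.Modules) (W₁ W₂ : X.Opens) (h₁ : Good1 M W₁) (h₂ : Good1 M W₂) :
    Good1 M (W₁ ⊔ W₂) := by
  obtain ⟨M₁, i₁, q₁, a₁, k₁⟩ := h₁
  obtain ⟨M₂, i₂, q₂, a₂, k₂⟩ := h₂
  let S : ShortComplex X.Modules :=
    ShortComplex.mk (biprod.inl : M₁ ⟶ M₁ ⊞ M₂) (biprod.snd : M₁ ⊞ M₂ ⟶ M₂) (by simp)
  have hS : S.ShortExact := (ShortComplex.Splitting.ofHasBinaryBiproduct M₁ M₂).shortExact
  refine ⟨M₁ ⊞ M₂, biprod.lift i₁ i₂, QCohExt.main S hS q₁ q₂,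
    HH_subsingleton_of_shortExact S hS 1 a₁ a₂, fun V s hs => ?_⟩
  have e₁ : i₁.app V s = 0 := by
    have : (biprod.lift i₁ i₂ ≫ biprod.fst).app V s = 0 := by
      rw [Scheme.Modules.Hom.comp_app, ConcreteCategory.comp_apply, hs, map_zero]
    rwa [biprod.lift_fst] at this
  have e₂ : i₂.app V s = 0 := by
    have : (biprod.lift i₁ i₂ ≫ biprod.snd).app V s = 0 := by
      rw [Scheme.Modules.Hom.comp_app, ConcreteCategory.comp_apply, hs, map_zero]
    rwa [biprod.lift_snd] at this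
  have r₁ := k₁ V s e₁
  have r₂ := k₂ V s e₂
  refine eq_of_res_eq₂ M (S := V ⊓ W₁) (V := V ⊓ W₂) (W := V ⊓ (W₁ ⊔ W₂))
    (inf_le_inf_left V le_sup_left) (inf_le_inf_left V le_sup_right)
    (by rw [inf_sup_left]) _ _ ?_ ?_
  · rw [res_res, map_zero]; exact r₁
  · rw [res_res, map_zero]; exact r₂

lemma quasiCompact_ι_of_isCompact [QuasiSeparatedSpace X] (U : X.Opens) (hU : IsCompact (U : Set X)) :
    QuasiCompact U.ι := by
  apply Groth.Agent.Helper13.Ext.quasiCompact_ι_of_forall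
  intro V hV
  rw [Opens.coe_inf]
  exact QuasiSeparatedSpace.inter_isCompact (α := X) _ _ U.2 hU V.2 hV.isCompact

lemma good1_affine [QuasiSeparatedSpace X]
    (M : X.Modules) [hM : M.IsQuasicoherent] (U : X.Opens) (hU : IsAffineOpen U) : Good1 M U := by
  haveI := quasiCompact_ι_of_isCompact U hU.isCompact
  haveI hG : (M.restrict U.ι).IsQuasicoherent := inferInstance
  refine ⟨(Scheme.Modules.pushforward U.ι).obj (M.restrict U.ι),
    (Scheme.Modules.restrictAdjunction U.ι).unit.app M,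
    Qcqs.isQuasicoherent_pushforward_of_qcqs U.ι (M.restrict U.ι), ?_, fun V s hs => ?_⟩
  · haveI : IsAffine ↑U := hU
    have h0 := Groth.Agent.S0007.result ↑U (M.restrict U.ι) 1 Nat.one_pos
    exact H1Push.H1_push_subsingleton U.ι.base (Coh.toAb (M.restrict U.ι)) h0
  · rw [Scheme.Modules.restrictAdjunction_unit_app_app] at hs
    have hle : V ⊓ U ≤ U.ι ''ᵁ (U.ι ⁻¹ᵁ V) := by
      rw [U.ι.image_preimage_eq_opensRange_inf, Scheme.Opens.opensRange_ι, inf_comm]
    have hs' : res M (U.ι.image_preimage_le V) s = 0 := hs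
    have h2 : res M hle (res M (U.ι.image_preimage_le V) s) = 0 := by
      rw [hs', map_zero]
    rw [← h2]
    exact (res_res M (U.ι.image_preimage_le V) hle s).symm

/-- on a quasi-compact quasi-separated scheme every quasi-coherent module embeds into a
quasi-coherent module with vanishing `H¹` -/
theorem exists_embed (X : Scheme.{u}) [CompactSpace X] [QuasiSeparatedSpace X]
    (M : X.Modules) [hM : M.IsQuasicoherent] :
    ∃ (M' : X.Modules) (i : M ⟶ M'), Mono i ∧ M'.IsQuasicoherent ∧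
      Subsingleton (Coh.HH X M' 1) := by
  have key : ∀ s : Set X.affineOpens, s.Finite → Good1 M (⨆ i ∈ s, (i : X.Opens)) := by
    intro s hs
    refine hs.induction_on _ ?_ ?_
    · simp only [Set.mem_empty_iff_false, iSup_false, iSup_bot]
      exact good1_bot M
    · intro a s _ _ ih
      rw [iSup_insert]
      exact good1_sup M _ _ (good1_affine M _ a.2) ih
  obtain ⟨s, hs, e⟩ := (isCompact_iff_finite_and_eq_biUnion_affineOpens (X := X) (U := ⊤)).1
    (by simpa using isCompact_univ)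
  obtain ⟨M', i, q, a, k⟩ := key s hs
  rw [← e] at k
  refine ⟨M', i, ?_, q, a⟩
  rw [Groth.Agent.Helper13.QCoh.mono_iff_app_injective]
  intro V
  rw [injective_iff_map_eq_zero]
  intro t ht
  have h1 := k V t ht
  have h2 := congrArg (res M (le_inf le_rfl le_top : V ≤ V ⊓ ⊤)) h1
  rw [res_res, map_zero, res_self] at h2
  exact h2

end Groth.Agent.Helper13.SerreFT
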