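import Mathlib
import Groth.Agent.Lib.Helper13.SerreFT

universe u
set_option linter.unusedSectionVars false
set_option autoImplicit false
open CategoryTheory CategoryTheory.Limits Opposite TopologicalSpace AlgebraicGeometry

namespace Groth.Agent.Helper13.SerreFT

open Groth.Agent.Helper13.QCohLocal Groth.Agent.Helper13.ToAbExact Groth.Agent.Helper13.Qcqs
  Groth.Agent.Helper13.FinType Groth.Agent.Helper13.QCoh

variable {X : Scheme.{u}}

lemma app_res {F G : X.Modules} (φ : F ⟶ G) {U V : X.Opens} (h : V ≤ U) (t : Γ(F, U)) :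
    φ.app V (res F h t) = res G h (φ.app U t) := by
  have := φ.mapPresheaf.naturality (homOfLE h).op
  exact congrArg (fun ψ => ψ t) this

/-- gluing sections over a cover of `⊤` -/
lemma exists_glue_top (F : X.Modules) {κ : Type u} (V : κ → X.Opens) (hcov : ⨆ a, V a = ⊤)
    (u : ∀ a, Γ(F, V a))
    (hu : ∀ a b, res F (inf_le_left : V a ⊓ V b ≤ V a) (u a) =
      res F (inf_le_right : V a ⊓ V b ≤ V b) (u b)) :
    ∃ s : Γ(F, ⊤), ∀ a, res F (le_top : V a ≤ ⊤) s = u a := by
  have hcompat : TopCat.Presheaf.IsCompatible F.presheaf V u := fun a b => hu a b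
  obtain ⟨s, hs, -⟩ := TopCat.Sheaf.existsUnique_gluing' ⟨F.presheaf, F.isSheaf⟩ V ⊤
    (fun a => homOfLE le_top) (by rw [hcov]) u hcompat
  exact ⟨s, hs⟩

lemma eq_of_res_top (F : X.Modules) {κ : Type u} (V : κ → X.Opens) (hcov : ⨆ a, V a = ⊤)
    (s t : Γ(F, ⊤)) (h : ∀ a, res F (le_top : V a ≤ ⊤) s = res F (le_top : V a ≤ ⊤) t) : s = t :=
  TopCat.Sheaf.eq_of_locally_eq' ⟨F.presheaf, F.isSheaf⟩ V ⊤ (fun a => homOfLE le_top)
    (by rw [hcov]) s t h

/-- **the key lemma**: if `H¹` vanishes for finite type quasi-coherent ideals, global sections are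
right exact for quotients by quasi-coherent submodules which embed into `O_X` -/
theorem app_top_surjective_cokernel [CompactSpace X] [QuasiSeparatedSpace X]
    (h : ∀ (I' : X.Modules) (i' : I' ⟶ Coh.structureModule X), Mono i' →
      Coh.IsQCoh I' → CohB1.IsFT I' → Subsingleton (Coh.HH X I' 1))
    (I N : X.Modules) [I.IsQuasicoherent] [N.IsQuasicoherent]
    (j : I ⟶ Coh.structureModule X) [Mono j] (i : I ⟶ N) [Mono i] :
    Function.Surjective ((cokernel.π i).app ⊤) := by
  intro s
  -- local lifts on affine opens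
  have hloc : ∀ x : X, ∃ (V : X.Opens) (_ : IsAffineOpen V) (_ : x ∈ V) (t : Γ(N, V)),
      (cokernel.π i).app V t = res (cokernel i) (le_top : V ≤ ⊤) s := by
    intro x
    obtain ⟨W, hW, hxW, b, hb⟩ := exists_local_lift (cokernel.π i) s x trivial
    obtain ⟨V, hV, hxV, hVW⟩ := exists_isAffineOpen_mem_and_subset (x := x) (U := W) hxW
    refine ⟨V, hV, hxV, res N hVW b, ?_⟩
    rw [app_res, hb]
    exact res_res (cokernel i) hW hVW s
  choose V hVaff hxV t ht using hloc
  obtain ⟨F, hF⟩ := CompactSpace.elim_nhds_subcover (fun x => ((V x : X.Opens) : Set X))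
    (fun x => (V x).isOpen.mem_nhds (hxV x))
  let κ : Type u := {x // x ∈ F}
  let Vk : κ → X.Opens := fun a => V a.1
  have hcov : ⨆ a, Vk a = ⊤ := by
    rw [eq_top_iff]
    intro x _
    have hx : x ∈ ⋃ y ∈ F, ((V y : X.Opens) : Set X) := by rw [hF]; trivial
    simp only [Set.mem_iUnion] at hx
    obtain ⟨y, hy, hxy⟩ := hx
    exact Opens.mem_iSup.2 ⟨⟨y, hy⟩, hxy⟩
  -- differences come from `I`
  have hex : (ShortComplex.mk i (cokernel.π i) (cokernel.condition i)).Exact :=
    ShortComplex.exact_of_g_is_cokernel _ (cokernelIsCokernel i)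
  have hdiff : ∀ ab : κ × κ, ∃ g : Γ(I, Vk ab.1 ⊓ Vk ab.2),
      i.app _ g = res N (inf_le_left : Vk ab.1 ⊓ Vk ab.2 ≤ Vk ab.1) (t ab.1.1) -
        res N (inf_le_right : Vk ab.1 ⊓ Vk ab.2 ≤ Vk ab.2) (t ab.2.1) := by
    intro ab
    refine app_exact_of_exact_of_mono _ hex _ _ ?_
    show (cokernel.π i).app _ _ = 0
    rw [map_sub, app_res, app_res, ht, ht, res_res, res_res, sub_self]
  choose g hg using hdiff
  -- a finite type submodule containing the differences
  obtain ⟨I', k, hk, hq', hft', hmem⟩ := FTSub.exists_ft_sub_through_sections I (κ × κ)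
    (fun ab => Vk ab.1 ⊓ Vk ab.2) (fun ab => by
      rw [Opens.coe_inf]
      exact QuasiSeparatedSpace.inter_isCompact (α := X) _ _ (Vk ab.1).2 (hVaff _).isCompact
        (Vk ab.2).2 (hVaff _).isCompact) g
  haveI := hk
  haveI := hq'
  choose g' hg' using hmem
  have h1 : Subsingleton (Coh.HH X I' 1) := h I' (k ≫ j) (mono_comp _ _) hq' hft'
  let S' : ShortComplex X.Modules :=
    ShortComplex.mk (k ≫ i) (cokernel.π (k ≫ i)) (cokernel.condition _)
  have hS' : S'.ShortExact :=
    ShortComplex.ShortExact.mk' (ShortComplex.exact_of_g_is_cokernel _ (cokernelIsCokernel _))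
      (inferInstanceAs (Mono (k ≫ i))) (inferInstanceAs (Epi (cokernel.π (k ≫ i))))
  have hsurj : Function.Surjective ((cokernel.π (k ≫ i)).app ⊤) :=
    app_top_surjective_of_H1 S' hS' h1
  -- glue the images of the local lifts
  obtain ⟨s', hs'⟩ := exists_glue_top (cokernel (k ≫ i)) Vk hcov
    (fun a => (cokernel.π (k ≫ i)).app (Vk a) (t a.1)) (by
      intro a b
      rw [← app_res, ← app_res, ← sub_eq_zero, ← map_sub, ← hg (a, b), ← hg' (a, b)]
      have h2 := cokernel.condition (k ≫ i)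
      have h3 := congr($(h2).app (Vk a ⊓ Vk b) (g' (a, b)))
      rw [Scheme.Modules.Hom.comp_app, ConcreteCategory.comp_apply, Scheme.Modules.Hom.comp_app,
        ConcreteCategory.comp_apply] at h3
      exact h3)
  obtain ⟨t₀, ht₀⟩ := hsurj s'
  refine ⟨t₀, ?_⟩
  -- compare through the map of cokernels
  let ρ : cokernel (k ≫ i) ⟶ cokernel i :=
    cokernel.desc (k ≫ i) (cokernel.π i) (by rw [Category.assoc, cokernel.condition, comp_zero])
  have hρ : cokernel.π (k ≫ i) ≫ ρ = cokernel.π i := cokernel.π_desc _ _ _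
  have happ : ∀ (W : X.Opens) (n : Γ(N, W)), ρ.app W ((cokernel.π (k ≫ i)).app W n) =
      (cokernel.π i).app W n := by
    intro W n
    have := congr($(hρ).app W n)
    rwa [Scheme.Modules.Hom.comp_app, ConcreteCategory.comp_apply] at this
  rw [← happ, ht₀]
  apply eq_of_res_top (cokernel i) Vk hcov
  intro a
  rw [← app_res, hs', happ, ht]

end Groth.Agent.Helper13.SerreFT
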