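import Mathlib
import Groth.Agent.Lib.Helper13.TensorFunctor
import Groth.Agent.Lib.Helper13.TwistSES
import Groth.Agent.Lib.Helper5.TT1
import Groth.Agent.Lib.Helper9.RelSerre2

set_option autoImplicit false
set_option linter.unusedSectionVars false
set_option linter.style.haveILetI false
universe u
open CategoryTheory CategoryTheory.Limits AlgebraicGeometry Opposite TopologicalSpace

namespace Groth.Agent.Helper13.ProperSuppPush

open Groth.Agent.Helper13.TensorFunctor

variable {X Y : Scheme.{u}}

/-- the frozen functor `- ⊗ N` agrees with `TensorFunctor.tensorRight N`. -/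
noncomputable def tensorRightModIso (N : X.Modules) : DCoh.tensorRightMod N ≅ tensorRight N :=
  NatIso.ofComponents (fun _ => Iso.refl _) (by
    intro A B φ
    rw [Groth.Agent.Helper5.TT.tensorRightMod_map]
    exact (Category.comp_id _).trans (Category.id_comp _).symm)

/-- tensoring with an invertible module is exact. -/
theorem exact_tensorRight_of_isInvertible (N : X.Modules) (hN : PicF.IsInvertible N) :
    PreservesFiniteLimits (tensorRight N) ∧ PreservesFiniteColimits (tensorRight N) := by
  refine ((tensorRight N).exact_tfae.out 0 3).1 ?_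
  intro S hS
  exact Groth.Agent.Helper13.TwistSES.tensorSC_shortExact S hS N hN

theorem preservesFiniteLimits_twist_push (f : X ⟶ Y) (N : X.Modules) (hN : PicF.IsInvertible N) :
    PreservesFiniteLimits (DCoh.tensorRightMod N ⋙ Coh.push f) := by
  haveI := (exact_tensorRight_of_isInvertible N hN).1
  haveI : PreservesFiniteLimits (DCoh.tensorRightMod N) :=
    preservesFiniteLimits_of_natIso (tensorRightModIso N).symm
  haveI : PreservesLimitsOfSize.{0, 0} (Scheme.Modules.pushforward f) :=
    (Scheme.Modules.pullbackPushforwardAdjunction f).rightAdjoint_preservesLimits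
  haveI : PreservesFiniteLimits (Coh.push f) :=
    inferInstanceAs (PreservesFiniteLimits (Scheme.Modules.pushforward f))
  exact comp_preservesFiniteLimits _ _

/-- if `R¹f_*(ker(C.f) ⊗ N) = 0`, the twisted direct image of an exact complex `C` is exact. -/
theorem exact_map_twist_push (f : X ⟶ Y) (N : X.Modules) (hN : PicF.IsInvertible N)
    (C : ShortComplex X.Modules) (hC : C.Exact)
    (h0 : IsZero ((Coh.RpushAb f 1).obj (Coh.toAb (CohB1.tensorMod (kernel C.f) N)))) :
    (C.map (DCoh.tensorRightMod N ⋙ Coh.push f)).Exact := by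
  haveI hΦ := preservesFiniteLimits_twist_push f N hN
  set Φ := DCoh.tensorRightMod N ⋙ Coh.push f with hΦdef
  haveI : Φ.Additive := by rw [hΦdef]; infer_instance
  -- the epimorphism `e : X₁ ↠ ker g`
  let e : C.X₁ ⟶ kernel C.g := kernel.lift C.g C.f C.zero
  haveI he : Epi e := C.exact_iff_epi_kernel_lift.1 hC
  have hfac : e ≫ kernel.ι C.g = C.f := kernel.lift_ι _ _ _
  have w : kernel.ι C.f ≫ e = 0 := by
    rw [← cancel_mono (kernel.ι C.g), Category.assoc, hfac, kernel.condition, zero_comp]
  let S : ShortComplex X.Modules := ShortComplex.mk (kernel.ι C.f) e w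
  have hS : S.ShortExact :=
    ShortComplex.ShortExact.mk' (ShortComplex.exact_of_f_is_kernel _
      (isKernelOfComp (kernel.ι C.g) C.f (kernelIsKernel C.f) w hfac))
      (inferInstanceAs (Mono (kernel.ι C.f))) he
  have hSN := Groth.Agent.Helper13.TwistSES.tensorSC_shortExact S hS N hN
  have hepi : Epi ((Scheme.Modules.pushforward f).map
      (Groth.Agent.Helper13.Tensor.map e (𝟙 N))) :=
    Groth.Agent.Helper9.RelSerre.epi_push_of_R1 f _ hSN h0
  have hepiΦ : Epi (Φ.map e) := by
    change Epi ((Scheme.Modules.pushforward f).map ((DCoh.tensorRightMod N).map e))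
    rw [Groth.Agent.Helper5.TT.tensorRightMod_map]
    exact hepi
  -- the left exact part
  let C' : ShortComplex X.Modules := ShortComplex.mk (kernel.ι C.g) C.g (kernel.condition C.g)
  have hC' : C'.Exact := ShortComplex.exact_of_f_is_kernel _ (kernelIsKernel C.g)
  have hC'Φ : (C'.map Φ).Exact :=
    hC'.map_of_mono_of_preservesKernel Φ (inferInstanceAs (Mono (kernel.ι C.g))) inferInstance
  let φ : C.map Φ ⟶ C'.map Φ :=
    { τ₁ := Φ.map e
      τ₂ := 𝟙 _
      τ₃ := 𝟙 _
      comm₁₂ := by
        change Φ.map e ≫ Φ.map (kernel.ι C.g) = Φ.map C.f ≫ 𝟙 _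
        rw [Category.comp_id, ← Φ.map_comp, hfac]
      comm₂₃ := by
        change 𝟙 _ ≫ Φ.map C.g = Φ.map C.g ≫ 𝟙 _
        rw [Category.comp_id, Category.id_comp] }
  haveI : Epi φ.τ₁ := hepiΦ
  haveI : IsIso φ.τ₂ := inferInstanceAs (IsIso (𝟙 _))
  haveI : Mono φ.τ₃ := inferInstanceAs (Mono (𝟙 _))
  exact (ShortComplex.exact_iff_of_epi_of_isIso_of_mono φ).2 hC'Φ

end Groth.Agent.Helper13.ProperSuppPush
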