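import Mathlib
import Groth.Agent.Lib.Helper13.ProperSuppPush1
import Groth.Agent.Lib.Helper13.ProperSuppPush2
import Groth.Agent.S9514

set_option autoImplicit false
set_option linter.unusedSectionVars false
set_option linter.style.haveILetI false
universe u
open CategoryTheory CategoryTheory.Limits AlgebraicGeometry Opposite TopologicalSpace

namespace Groth.Agent.Helper13.ProperSuppPush

/-- twisted direct images of an exact complex of coherent modules are eventually exact when the
support of the first term is proper over the base. -/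
theorem main {X Y : Scheme.{u}} (f : X ⟶ Y)
    [IsNoetherian Y] [LocallyOfFiniteType f] [QuasiCompact f] (L : X.Modules) (hL : PicF.IsInvertible L)
    (hamp : RelAmple.IsRelAmple f L) (C : ShortComplex X.Modules) (hC : C.Exact)
    (h1 : Coh.IsCoh C.X₁) (h2 : Coh.IsCoh C.X₂)
    (hs1 : ClSub.IsProperOver f (CohB1.support C.X₁)) :
    ∃ N : ℕ, ∀ n : ℕ, N ≤ n →
      (C.map (DCoh.tensorRightMod (CohB1.tensorPow L n) ⋙ Coh.push f)).Exact := by
  haveI : IsLocallyNoetherian X := LocallyOfFiniteType.isLocallyNoetherian f
  obtain ⟨hK, -⟩ := Groth.Agent.S9514.result X h1 h2 C.f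
  obtain ⟨-, hQ⟩ := Groth.Agent.S9514.result X hK h1 (kernel.ι C.f)
  let E : ShortComplex X.Modules :=
    ShortComplex.mk (kernel.ι C.f) (cokernel.π (kernel.ι C.f)) (cokernel.condition _)
  have hE : E.ShortExact :=
    ShortComplex.ShortExact.mk' (ShortComplex.exact_of_g_is_cokernel _ (cokernelIsCokernel _))
      (inferInstanceAs (Mono (kernel.ι C.f))) (inferInstanceAs (Epi (cokernel.π (kernel.ι C.f))))
  have hsK : ClSub.IsProperOver f (CohB1.support (kernel C.f)) :=
    ((Groth.Agent.S0796.result f E hE hK h1 hQ).1 hs1).1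
  obtain ⟨N, hN⟩ := isZero_R1_of_properSupport f L hL hamp _ hK hsK
  exact ⟨N, fun n hn => exact_map_twist_push f _
    (Groth.Agent.Helper13.Inv.isInvertible_tensorPow L hL n) C hC (hN n hn)⟩

end Groth.Agent.Helper13.ProperSuppPush
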