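import Mathlib
import Groth.Agent.Lib.Helper13.PushInv5
import Groth.Agent.Lib.Helper29.OpenRes

/-!
# Descent of invertible modules along `f` with `f_* O_X = O_S`, fpqc-locally on the base (helper13)
-/

set_option autoImplicit false
universe u
open CategoryTheory CategoryTheory.Limits AlgebraicGeometry Opposite TopologicalSpace TensorProduct
open Groth.Agent.Helper13.QCoh Groth.Agent.Helper13.FinType Groth.Agent.Helper13.LocFree
open Groth.Agent.Helper13.GlobGen Groth.Agent.Helper13.Pullback Groth.Agent.Helper13.PbUnit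

namespace Groth.Agent.Helper13.PushInv

variable {X S S' X' : Scheme.{u}} (f : X ⟶ S) (g : S' ⟶ S) (g' : X' ⟶ X) (f' : X' ⟶ S')
  (h : IsPullback g' f' f g)

include h in
/-- `f'_* O_{X'} ≅ O_{S'}` by flat base change. -/
theorem nonempty_pushO_iso [QuasiCompact f] [QuasiSeparated f] [Flat g]
    (hf : ∀ V : S.Opens, Function.Bijective (f.app V)) :
    Nonempty ((Scheme.Modules.pushforward f').obj (Coh.structureModule X') ≅
      Coh.structureModule S') := by
  haveI : (Coh.structureModule X).IsQuasicoherent :=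
    Groth.Agent.Helper13.Inv.isQuasicoherent_of_isInvertible _
      Groth.Agent.Helper13.Inv.isInvertible_structureModule
  haveI i2 := Groth.Agent.Helper13.FlatBC.isIso_bcMap f g g' f' h (Coh.structureModule X)
  haveI i3 := isIso_toPushO f hf
  exact ⟨(Scheme.Modules.pushforward f').mapIso (pullbackUnitIso g').symm ≪≫
    (asIso (Groth.Agent.Helper28.AffBC.bcMap f g g' f' h (Coh.structureModule X))).symm ≪≫
    (Scheme.Modules.pullback g).mapIso (asIso (toPushO f)).symm ≪≫ pullbackUnitIso g⟩

/-- the pullback of a module trivial on `V'` is trivial on `f'⁻¹V'`. -/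
noncomputable def pullbackRestrictTriv (N' : S'.Modules) (V' : S'.Opens)
    (eN' : N'.restrict V'.ι ≅ Coh.structureModule (↑V')) :
    ((Scheme.Modules.pullback f').obj N').restrict (f' ⁻¹ᵁ V').ι ≅
      Coh.structureModule (↑(f' ⁻¹ᵁ V')) :=
  (pullbackRestrictIso f' (f' ⁻¹ᵁ V').ι V'.ι (f' ∣_ V') (morphismRestrict_ι f' V').symm).app N' ≪≫
    (Scheme.Modules.pullback (f' ∣_ V')).mapIso eN' ≪≫ pullbackUnitIso (f' ∣_ V')

/-- if `f'_* O = O`, then `f'_* f'^* N'` is invertible for invertible `N'`. -/
theorem isInvertible_push_pull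
    (ω : (Scheme.Modules.pushforward f').obj (Coh.structureModule X') ≅ Coh.structureModule S')
    (N' : S'.Modules) (hN' : PicF.IsInvertible N') :
    PicF.IsInvertible ((Scheme.Modules.pushforward f').obj ((Scheme.Modules.pullback f').obj N')) := by
  intro z
  obtain ⟨V', hz, ⟨eN'⟩⟩ := hN' z
  refine ⟨V', hz, ⟨?_⟩⟩
  exact (Groth.Agent.Helper29.OpenRes.γ f' V').app ((Scheme.Modules.pullback f').obj N') ≪≫
    (Scheme.Modules.pushforward (f' ∣_ V')).mapIso (pullbackRestrictTriv f' N' V' eN') ≪≫
    (Scheme.Modules.pushforward (f' ∣_ V')).mapIso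
      (Scheme.Modules.restrictUnitIso (f' ⁻¹ᵁ V').ι).symm ≪≫
    ((Groth.Agent.Helper29.OpenRes.γ f' V').app (Coh.structureModule X')).symm ≪≫
    (Scheme.Modules.restrictFunctor V'.ι).mapIso ω ≪≫
    Scheme.Modules.restrictUnitIso V'.ι

include h in
/-- **main (twisted form)**. -/
theorem main' [QuasiCompact f] [QuasiSeparated f]
    (hf : ∀ V : S.Opens, Function.Bijective (f.app V))
    [Flat g] [Surjective g] [QuasiCompact g] (L : X.Modules) (hL : PicF.IsInvertible L)
    (N' : S'.Modules) (hN' : PicF.IsInvertible N')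
    (e : (Scheme.Modules.pullback g').obj L ≅ (Scheme.Modules.pullback f').obj N') :
    PicF.IsInvertible ((Scheme.Modules.pushforward f).obj L) ∧
      IsIso ((Scheme.Modules.pullbackPushforwardAdjunction f).counit.app L) := by
  haveI : L.IsQuasicoherent := Groth.Agent.Helper13.Inv.isQuasicoherent_of_isInvertible L hL
  haveI : ((Scheme.Modules.pushforward f).obj L).IsQuasicoherent :=
    Groth.Agent.Helper13.Qcqs.isQuasicoherent_pushforward_of_qcqs f L
  obtain ⟨ω⟩ := nonempty_pushO_iso f g g' f' h hf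
  haveI i1 := Groth.Agent.Helper13.FlatBC.isIso_bcMap f g g' f' h L
  have e0 : (Scheme.Modules.pullback g).obj ((Scheme.Modules.pushforward f).obj L) ≅
      (Scheme.Modules.pushforward f').obj ((Scheme.Modules.pullback f').obj N') :=
    asIso (Groth.Agent.Helper28.AffBC.bcMap f g g' f' h L) ≪≫
      (Scheme.Modules.pushforward f').mapIso e
  have hinv' : PicF.IsInvertible
      ((Scheme.Modules.pullback g).obj ((Scheme.Modules.pushforward f).obj L)) :=
    Groth.Agent.Helper13.Inv.isInvertible_of_iso e0.symm (isInvertible_push_pull f' ω N' hN')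
  have hinv : PicF.IsInvertible ((Scheme.Modules.pushforward f).obj L) :=
    isInvertible_of_isInvertible_pullback g _ hinv'
  refine ⟨hinv, ?_⟩
  have hG : ∀ z : S', ∃ V' : S'.Opens, z ∈ V' ∧
      GenOn ((Scheme.Modules.pullback g').obj L) (f' ⁻¹ᵁ V')
        (fun τ : Γ((Scheme.Modules.pullback g').obj L, f' ⁻¹ᵁ V') => τ) := by
    intro z
    obtain ⟨V', hz, ⟨eN'⟩⟩ := hN' z
    exact ⟨V', hz, genOn_of_restrict_iso _ _
      ((Scheme.Modules.restrictFunctor (f' ⁻¹ᵁ V').ι).mapIso e ≪≫
        pullbackRestrictTriv f' N' V' eN')⟩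
  haveI := epi_counit' h L hG
  exact isIso_of_epi_of_isInvertible
    (Groth.Agent.Helper13.PbInv.isInvertible_pullback f _ hinv) hL _

end Groth.Agent.Helper13.PushInv
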