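import Mathlib
import Groth.Prelude.Def_Coh
import Groth.Prelude.Def_CohB1
import Groth.Agent.Lib.Helper13.QCohStalk

/-!
# The iterated direct image `f_* j_* O_W` (helper13)

Support and the stalk at a generic point of the iterated direct image of a structure sheaf.
-/

set_option autoImplicit false
universe u
open CategoryTheory CategoryTheory.Limits AlgebraicGeometry Opposite TopologicalSpace
open Groth.Agent.Helper13.QCoh

namespace Groth.Agent.Helper13.PushPushUnit

variable {X Y W : Scheme.{u}} (f : Y ⟶ X) (j : W ⟶ Y)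

/-- the support of `f_* j_* M` is contained in every closed set containing the image of `j ≫ f`. -/
theorem support_subset (M : W.Modules) (T : Set X) (hT : IsClosed T) (h : ∀ w : W, f (j w) ∈ T) :
    CohB1.support ((Scheme.Modules.pushforward f).obj ((Scheme.Modules.pushforward j).obj M)) ⊆
      T := by
  intro x hx
  by_contra hxT
  apply hx
  let V : X.Opens := ⟨Tᶜ, hT.isOpen_compl⟩
  have hxV : x ∈ V := hxT
  have hsub : ∀ U : X.Opens, U ≤ V → Subsingleton
      Γ((Scheme.Modules.pushforward f).obj ((Scheme.Modules.pushforward j).obj M), U) := by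
    intro U hU
    refine ⟨fun a b => ?_⟩
    refine TopCat.Presheaf.section_ext ⟨M.presheaf, M.isSheaf⟩ (j ⁻¹ᵁ f ⁻¹ᵁ U) a b ?_
    intro z hz
    exact absurd (h z) (hU hz)
  refine ⟨fun a b => ?_⟩
  have key : ∀ c : ((Scheme.Modules.pushforward f).obj
      ((Scheme.Modules.pushforward j).obj M)).presheaf.stalk x, c = 0 := by
    intro c
    obtain ⟨U, hxU, s, rfl⟩ := TopCat.Presheaf.exists_germ_eq _ c
    have h1 := TopCat.Presheaf.germ_res_apply
      ((Scheme.Modules.pushforward f).obj ((Scheme.Modules.pushforward j).obj M)).presheaf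
      (homOfLE (inf_le_left : U ⊓ V ≤ U)) x ⟨hxU, hxV⟩ s
    rw [← h1]
    haveI := hsub (U ⊓ V) inf_le_right
    rw [Subsingleton.elim (((Scheme.Modules.pushforward f).obj
      ((Scheme.Modules.pushforward j).obj M)).presheaf.map
        (homOfLE (inf_le_left : U ⊓ V ≤ U)).op s) 0, map_zero]
  rw [key a, key b]

/-- the points of the image of `j ≫ f` are in the support of `f_* j_* O_W`. -/
theorem mem_support (w : W) :
    f (j w) ∈ CohB1.support ((Scheme.Modules.pushforward f).obj
      ((Scheme.Modules.pushforward j).obj (Coh.structureModule W))) := by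
  intro hss
  let one : Γ((Scheme.Modules.pushforward f).obj
      ((Scheme.Modules.pushforward j).obj (Coh.structureModule W)), ⊤) :=
    (1 : Γ(W, j ⁻¹ᵁ f ⁻¹ᵁ ⊤))
  have h1 : ((Scheme.Modules.pushforward f).obj
      ((Scheme.Modules.pushforward j).obj (Coh.structureModule W))).presheaf.germ ⊤ (f (j w))
        trivial one =
      ((Scheme.Modules.pushforward f).obj
        ((Scheme.Modules.pushforward j).obj (Coh.structureModule W))).presheaf.germ ⊤ (f (j w))
          trivial 0 := Subsingleton.elim _ _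
  obtain ⟨W', hxW', i₁, i₂, heq⟩ := TopCat.Presheaf.germ_eq
    ((Scheme.Modules.pushforward f).obj
      ((Scheme.Modules.pushforward j).obj (Coh.structureModule W))).presheaf (f (j w))
    (show f (j w) ∈ (⊤ : X.Opens) from trivial) (show f (j w) ∈ (⊤ : X.Opens) from trivial)
    one 0 h1
  have h2 : (1 : Γ(W, j ⁻¹ᵁ f ⁻¹ᵁ W')) = 0 := by
    have h3 : ((Scheme.Modules.pushforward f).obj
        ((Scheme.Modules.pushforward j).obj (Coh.structureModule W))).presheaf.map i₁.op one
        = (1 : Γ(W, j ⁻¹ᵁ f ⁻¹ᵁ W')) :=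
      map_one (W.presheaf.map
        ((Opens.map j.base).map ((Opens.map f.base).map i₁)).op).hom
    rw [← h3, heq, map_zero]
    rfl
  have hz : w ∈ j ⁻¹ᵁ f ⁻¹ᵁ W' := hxW'
  have h4 : W.presheaf.germ (j ⁻¹ᵁ f ⁻¹ᵁ W') w hz 1 = W.presheaf.germ (j ⁻¹ᵁ f ⁻¹ᵁ W') w hz 0 := by
    rw [h2]
  rw [map_one, map_zero] at h4
  exact one_ne_zero h4

/-- if `W` is reduced and the image of `j ≫ f` lies in the closure of `ξ`, the stalk of
`f_* j_* O_W` at `ξ` is killed by the maximal ideal. -/
theorem smul_stalk_eq_zero [IsReduced W] (ξ : X) (h : ∀ w : W, f (j w) ∈ closure ({ξ} : Set X))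
    (a : X.presheaf.stalk ξ) (ha : a ∈ IsLocalRing.maximalIdeal (X.presheaf.stalk ξ))
    (m : ((Scheme.Modules.pushforward f).obj
      ((Scheme.Modules.pushforward j).obj (Coh.structureModule W))).presheaf.stalk ξ) :
    a • m = 0 := by
  obtain ⟨U, hxU, s, rfl⟩ := TopCat.Presheaf.exists_germ_eq _ m
  obtain ⟨U', hxU', α, rfl⟩ := TopCat.Presheaf.exists_germ_eq X.presheaf a
  have hxV : ξ ∈ U ⊓ U' := ⟨hxU, hxU'⟩
  have e1 := TopCat.Presheaf.germ_res_apply
    ((Scheme.Modules.pushforward f).obj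
      ((Scheme.Modules.pushforward j).obj (Coh.structureModule W))).presheaf
    (homOfLE (inf_le_left : U ⊓ U' ≤ U)) ξ hxV s
  have e2 := TopCat.Presheaf.germ_res_apply X.presheaf
    (homOfLE (inf_le_right : U ⊓ U' ≤ U')) ξ hxV α
  rw [← e1, ← e2, ← germ_smul]
  set α' : Γ(X, U ⊓ U') := X.presheaf.map (homOfLE (inf_le_right : U ⊓ U' ≤ U')).op α with hα'
  have hα'ξ : ξ ∉ X.basicOpen α' := by
    intro hmem
    have hu : IsUnit (X.presheaf.germ (U ⊓ U') ξ hxV α') := (X.mem_basicOpen α' ξ hxV).1 hmem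
    rw [e2] at hu
    exact (IsLocalRing.mem_maximalIdeal _).1 ha hu
  have hzero : j.app (f ⁻¹ᵁ (U ⊓ U')) (f.app (U ⊓ U') α') = 0 := by
    rw [← basicOpen_eq_bot_iff, ← Scheme.preimage_basicOpen, ← Scheme.preimage_basicOpen]
    ext z
    simp only [Opens.coe_bot, Set.mem_empty_iff_false, iff_false]
    intro hz
    have hz' : f (j z) ∈ X.basicOpen α' := hz
    obtain ⟨w, hw1, hw2⟩ := mem_closure_iff.1 (h z) (X.basicOpen α') (X.basicOpen α').2 hz'
    rw [Set.mem_singleton_iff] at hw2
    exact hα'ξ (hw2 ▸ hw1)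
  have hsm : (α' • ((Scheme.Modules.pushforward f).obj
      ((Scheme.Modules.pushforward j).obj (Coh.structureModule W))).presheaf.map
        (homOfLE (inf_le_left : U ⊓ U' ≤ U)).op s :
      Γ((Scheme.Modules.pushforward f).obj
        ((Scheme.Modules.pushforward j).obj (Coh.structureModule W)), U ⊓ U')) = 0 := by
    have h0 : ∀ t : Γ((Scheme.Modules.pushforward f).obj
        ((Scheme.Modules.pushforward j).obj (Coh.structureModule W)), U ⊓ U'),
        (α' • t : Γ((Scheme.Modules.pushforward f).obj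
          ((Scheme.Modules.pushforward j).obj (Coh.structureModule W)), U ⊓ U')) =
        (j.app (f ⁻¹ᵁ (U ⊓ U')) (f.app (U ⊓ U') α') •
          (id t : Γ(Coh.structureModule W, j ⁻¹ᵁ f ⁻¹ᵁ (U ⊓ U'))) :
          Γ(Coh.structureModule W, j ⁻¹ᵁ f ⁻¹ᵁ (U ⊓ U'))) := fun t => rfl
    rw [h0, hzero, zero_smul]
    rfl
  rw [hsm, map_zero]

end Groth.Agent.Helper13.PushPushUnit
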