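import Mathlib
import Groth.Prelude.Def_Mor2
import Groth.Prelude.Def_LCI2
import Groth.Agent.Lib.Helper13.RelAmpleComp2
import Groth.Agent.Lib.Helper13.AmpleQA
import Groth.Agent.Lib.Helper13.AmpleUnit
import Groth.Agent.Lib.Helper13.PbUnit
import Groth.Agent.Lib.Helper13.PbBase

set_option autoImplicit false
universe u
open CategoryTheory CategoryTheory.Limits AlgebraicGeometry Opposite TopologicalSpace
open Groth.Agent.Helper13.Tensor Groth.Agent.Helper13.Inv Groth.Agent.Helper13.GenLoc
open Groth.Agent.Helper13.Ample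

namespace Groth.Agent.Helper13.QAffRel

variable {X Y : Scheme.{u}} (f : X ⟶ Y)

/-- a morphism is quasi-affine iff the structure sheaf is relatively ample. -/
theorem isQuasiAffine_iff_isRelAmple_structureModule :
    Mor2.IsQuasiAffine f ↔ RelAmple.IsRelAmple f (Coh.structureModule X) := by
  constructor
  · rintro ⟨h1, h2⟩
    refine ⟨h1, fun V => ?_⟩
    haveI := h2 V.1 V.2
    exact isAmple_of_isQuasiAffine _ (isInvertible_restrict _ _ isInvertible_structureModule)
  · rintro ⟨h1, h2⟩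
    refine ⟨h1, fun V hV => ?_⟩
    apply isQuasiAffine_of_isAmple_structureModule
    exact isAmple_of_iso (Scheme.Modules.restrictUnitIso _) (h2 ⟨V, hV⟩)

/-- relative ampleness is invariant under isomorphism of modules. -/
theorem isRelAmple_of_iso {L L' : X.Modules} (e : L ≅ L') (h : RelAmple.IsRelAmple f L) :
    RelAmple.IsRelAmple f L' :=
  ⟨h.1, fun V => isAmple_of_iso ((Scheme.Modules.restrictFunctor (f ⁻¹ᵁ V.1).ι).mapIso e) (h.2 V)⟩

/-- quasi-affine morphisms are stable under base change. -/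
theorem isQuasiAffine_baseChange {Y' : Scheme.{u}} (hf : Mor2.IsQuasiAffine f) (g : Y' ⟶ Y) :
    Mor2.IsQuasiAffine (pullback.snd f g) := by
  haveI := hf.1
  rw [isQuasiAffine_iff_isRelAmple_structureModule] at hf ⊢
  have h : RelAmple.IsRelAmple (pullback.snd f g)
      ((Scheme.Modules.pullback (pullback.fst f g)).obj (Coh.structureModule X)) :=
    ⟨inferInstance, fun V' =>
      Groth.Agent.Helper13.PbAmple.isAmple_restrict_baseChange f g _ hf.2 V'.1 V'.2⟩
  exact isRelAmple_of_iso _ (Groth.Agent.Helper13.PbUnit.pullbackUnitIso (pullback.fst f g)) h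

/-- quasi-affine morphisms are stable under composition. -/
theorem isQuasiAffine_comp {Z : Scheme.{u}} (g : Y ⟶ Z) (hf : Mor2.IsQuasiAffine f)
    (hg : Mor2.IsQuasiAffine g) : Mor2.IsQuasiAffine (f ≫ g) := by
  haveI := hf.1
  haveI := hg.1
  refine ⟨inferInstance, fun W hW => ?_⟩
  haveI := hg.2 W hW
  have hK : CohB1.IsAmple (Coh.structureModule ((g ⁻¹ᵁ W : Y.Opens) : Scheme.{u})) :=
    isAmple_of_isQuasiAffine _ isInvertible_structureModule
  have hL := Groth.Agent.Helper13.RelAmpleComp.isRelAmple_morphismRestrict f _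
    ((isQuasiAffine_iff_isRelAmple_structureModule f).1 hf) (g ⁻¹ᵁ W)
  obtain ⟨n₀, h⟩ := Groth.Agent.Helper13.RelAmpleComp.exists_isAmple_tensor_pullback_pow
    (f ∣_ (g ⁻¹ᵁ W)) _ _ hL hK
  apply isQuasiAffine_of_isAmple_structureModule
  refine isAmple_of_iso ?_ (h n₀ le_rfl)
  exact mapIso (Scheme.Modules.restrictUnitIso _)
    ((Scheme.Modules.pullback (f ∣_ (g ⁻¹ᵁ W))).mapIso (powUnit n₀) ≪≫
      Groth.Agent.Helper13.PbUnit.pullbackUnitIso _) ≪≫ lid _

/-- a quasi-compact immersion is quasi-affine. -/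
theorem isQuasiAffine_of_isImmersion [IsImmersion f] [QuasiCompact f] : Mor2.IsQuasiAffine f := by
  refine ⟨inferInstance, fun V hV => ?_⟩
  haveI : IsAffine (V : Scheme.{u}) := hV
  haveI : CompactSpace ((f ⁻¹ᵁ V : X.Opens) : Scheme.{u}) :=
    compactSpace_preimage f V hV.isCompact
  haveI : IsImmersion (f ∣_ V) := inferInstance
  exact Scheme.IsQuasiAffine.of_isImmersion (f ∣_ V)

theorem isQuasiAffine_of_arrow_iso {X' Y' : Scheme.{u}} (f' : X' ⟶ Y') (a : X ≅ X') (b : Y ≅ Y')
    (h : a.hom ≫ f' = f ≫ b.hom) (hf' : Mor2.IsQuasiAffine f') : Mor2.IsQuasiAffine f := by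
  have h1 : Mor2.IsQuasiAffine (a.hom ≫ f') :=
    isQuasiAffine_comp a.hom f' (isQuasiAffine_of_isImmersion a.hom) hf'
  rw [h] at h1
  have h2 := isQuasiAffine_comp (f ≫ b.hom) b.inv h1 (isQuasiAffine_of_isImmersion b.inv)
  rwa [Category.assoc, Iso.hom_inv_id, Category.comp_id] at h2

/-- cancellation: if `f ≫ g` is quasi-affine and `g` is quasi-separated, `f` is quasi-affine. -/
theorem isQuasiAffine_of_comp {Z : Scheme.{u}} (g : Y ⟶ Z) [QuasiSeparated g]
    (h : Mor2.IsQuasiAffine (f ≫ g)) : Mor2.IsQuasiAffine f := by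
  let gr : X ⟶ pullback (f ≫ g) g := pullback.lift (𝟙 X) f (by simp)
  have hgr : f = gr ≫ pullback.snd _ _ := (pullback.lift_snd _ _ _).symm
  have hpb := pullback_lift_diagonal_isPullback f g
  haveI : IsImmersion gr :=
    MorphismProperty.of_isPullback (P := @IsImmersion) hpb inferInstance
  haveI : QuasiCompact gr :=
    MorphismProperty.of_isPullback (P := @QuasiCompact) hpb inferInstance
  rw [hgr]
  exact isQuasiAffine_comp gr _ (isQuasiAffine_of_isImmersion gr) (isQuasiAffine_baseChange _ h g)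

end Groth.Agent.Helper13.QAffRel
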