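import Mathlib
import Groth.Prelude.Def_RelSpec
import Groth.Prelude.Def_MoreMor
import Groth.Prelude.Def_AffAlg
import Groth.Agent.Lib.Helper18.AffUniv
import Groth.Agent.Lib.Helper28.SpecCover

set_option autoImplicit false
universe u
open CategoryTheory CategoryTheory.Limits AlgebraicGeometry TopologicalSpace Opposite

namespace Groth.Agent.Helper13.QAffSpec

open Groth.Agent.Helper18 Groth.Agent.Helper28

variable {X S : Scheme.{u}} (f : X ⟶ S) [QuasiCompact f] [QuasiSeparated f]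

/-- the canonical morphism `X ⟶ Spec (f_* O_X)` -/
theorem exists_canonical :
    ∃ (c : X ⟶ (RelSpec.QCAlg.directImage f).spec)
      (e : c ≫ (RelSpec.QCAlg.directImage f).π = f),
      (RelSpec.QCAlg.directImage f).gammaMap =
        AffAlg.algHom (RelSpec.QCAlg.directImage f).π f c e := by
  obtain ⟨⟨c, e⟩, h⟩ := AffUniv.algOf_surjective (RelSpec.QCAlg.directImage f).π f
    ⟨(RelSpec.QCAlg.directImage f).gammaMap, (RelSpec.QCAlg.directImage f).π_c_gammaMap⟩
  exact ⟨c, e, (congrArg Subtype.val h).symm⟩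

theorem preimage_preimage (c : X ⟶ (RelSpec.QCAlg.directImage f).spec)
    (e : c ≫ (RelSpec.QCAlg.directImage f).π = f) (V : S.Opens) :
    c ⁻¹ᵁ ((RelSpec.QCAlg.directImage f).π ⁻¹ᵁ V) = f ⁻¹ᵁ V := by
  exact congrArg (fun g : X ⟶ S => g ⁻¹ᵁ V) e

theorem iSup_preimage_eq_top :
    ⨆ V : S.affineOpens, (RelSpec.QCAlg.directImage f).π ⁻¹ᵁ V.1 = ⊤ := by
  rw [← Scheme.Hom.preimage_iSup, iSup_affineOpens_eq_top S]
  rfl

theorem isOpenImmersion_canonical (c : X ⟶ (RelSpec.QCAlg.directImage f).spec)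
    (e : c ≫ (RelSpec.QCAlg.directImage f).π = f)
    (hc : (RelSpec.QCAlg.directImage f).gammaMap =
        AffAlg.algHom (RelSpec.QCAlg.directImage f).π f c e)
    (hq : ∀ V : S.Opens, IsAffineOpen V → Scheme.IsQuasiAffine (f ⁻¹ᵁ V : Scheme.{u})) :
    IsOpenImmersion c := by
  rw [IsZariskiLocalAtTarget.iff_of_iSup_eq_top (P := @IsOpenImmersion) _
    (iSup_preimage_eq_top f)]
  intro V
  have key : IsOpenImmersion ((f ⁻¹ᵁ V.1).ι ≫ c) := by
    rw [AffUniv.ι_comp_eq_of_over (RelSpec.QCAlg.directImage f).π f c e V.1 V.2, ← hc,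
      (RelSpec.QCAlg.directImage f).gammaMap_app V.1 V.2]
    haveI := hq V.1 V.2
    have h1 : IsOpenImmersion (f ⁻¹ᵁ V.1).toSpecΓ := by
      unfold Scheme.Opens.toSpecΓ
      infer_instance
    haveI : IsIso ((RelSpec.QCAlg.directImage f).gammaAff V.1 V.2) := inferInstance
    have h2 : IsOpenImmersion (Spec.map ((RelSpec.QCAlg.directImage f).gammaAff V.1 V.2)) :=
      inferInstance
    have h3 : IsOpenImmersion (V.2.preimage (RelSpec.QCAlg.directImage f).π).fromSpec :=
      inferInstance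
    exact @IsOpenImmersion.comp _ _ _ _ _ h1 (@IsOpenImmersion.comp _ _ _ _ _ h2 h3)
  have key' : IsOpenImmersion
      ((c ⁻¹ᵁ ((RelSpec.QCAlg.directImage f).π ⁻¹ᵁ V.1)).ι ≫ c) := by
    rw [preimage_preimage f c e V.1]
    exact key
  rw [← morphismRestrict_ι] at key'
  exact IsOpenImmersion.of_comp _ ((RelSpec.QCAlg.directImage f).π ⁻¹ᵁ V.1).ι

theorem quasiCompact_canonical (c : X ⟶ (RelSpec.QCAlg.directImage f).spec)
    (e : c ≫ (RelSpec.QCAlg.directImage f).π = f) : QuasiCompact c := by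
  haveI : QuasiCompact (c ≫ (RelSpec.QCAlg.directImage f).π) := by rw [e]; infer_instance
  exact QuasiCompact.of_comp c (RelSpec.QCAlg.directImage f).π

theorem isQuasiAffine_preimage (c : X ⟶ (RelSpec.QCAlg.directImage f).spec)
    (e : c ≫ (RelSpec.QCAlg.directImage f).π = f) [QuasiCompact c] [IsOpenImmersion c]
    (V : S.Opens) (hV : IsAffineOpen V) : Scheme.IsQuasiAffine (f ⁻¹ᵁ V : Scheme.{u}) := by
  haveI : IsAffine (((RelSpec.QCAlg.directImage f).π ⁻¹ᵁ V : _) : Scheme.{u}) :=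
    hV.preimage (RelSpec.QCAlg.directImage f).π
  haveI : CompactSpace ↥(c ⁻¹ᵁ ((RelSpec.QCAlg.directImage f).π ⁻¹ᵁ V)) :=
    isCompact_iff_compactSpace.mp
      (QuasiCompact.isCompact_preimage (f := c) _ ((RelSpec.QCAlg.directImage f).π ⁻¹ᵁ V).isOpen
        (hV.preimage (RelSpec.QCAlg.directImage f).π).isCompact)
  have h := @Scheme.IsQuasiAffine.of_isImmersion _ _
    (c ∣_ ((RelSpec.QCAlg.directImage f).π ⁻¹ᵁ V)) inferInstance inferInstance this
  rw [preimage_preimage f c e V] at h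
  exact h

theorem main :
    MoreMor.IsQuasiAffineHom f ↔
      ∃ (c : X ⟶ (RelSpec.QCAlg.directImage f).spec)
        (e : c ≫ (RelSpec.QCAlg.directImage f).π = f),
        (RelSpec.QCAlg.directImage f).gammaMap =
          AffAlg.algHom (RelSpec.QCAlg.directImage f).π f c e ∧
          QuasiCompact c ∧ IsOpenImmersion c := by
  constructor
  · rintro ⟨-, hq⟩
    obtain ⟨c, e, hc⟩ := exists_canonical f
    exact ⟨c, e, hc, quasiCompact_canonical f c e, isOpenImmersion_canonical f c e hc hq⟩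
  · rintro ⟨c, e, -, hqc, hoi⟩
    exact ⟨inferInstance, fun V hV => isQuasiAffine_preimage f c e V hV⟩

end Groth.Agent.Helper13.QAffSpec
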