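import Mathlib

/-!
# Pure algebra for generation of a quasi-coherent algebra by a submodule
-/

set_option autoImplicit false

namespace Groth.Agent.Helper13.QCAlgGen

variable {R Rg Bw Bg : Type*} [CommRing R] [CommRing Rg] [CommRing Bw] [CommRing Bg]

/-- descent of generation along a localization: if `B_g` is generated over `R_g` by `E_g`, then a
power of `g` times any element of `B` lies in the subring generated by `R` and `E`. -/
theorem exists_pow_mul_mem_closure (σ : R →+* Bw) (ρ : R →+* Rg) (φ : Bw →+* Bg) (σg : Rg →+* Bg)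
    (hsq : ∀ r, σg (ρ r) = φ (σ r)) (g : R)
    (h1 : ∀ r' : Rg, ∃ (n : ℕ) (r : R), r' * ρ g ^ n = ρ r)
    (h2 : ∀ b : Bw, φ b = 0 → ∃ m : ℕ, σ g ^ m * b = 0)
    {Ew Eg : Type*} (jw : Ew → Bw) (jg : Eg → Bg)
    (h3 : ∀ e' : Eg, ∃ (n : ℕ) (e : Ew), φ (σ g) ^ n * jg e' = φ (jw e))
    (htop : Subring.closure (Set.range σg ∪ Set.range jg) = ⊤) (b : Bw) :
    ∃ n : ℕ, σ g ^ n * b ∈ Subring.closure (Set.range σ ∪ Set.range jw) := by
  set A' := Subring.closure (Set.range σ ∪ Set.range jw) with hA'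
  have hσA : ∀ r, σ r ∈ A' := fun r => Subring.subset_closure (Or.inl ⟨r, rfl⟩)
  have hjA : ∀ e, jw e ∈ A' := fun e => Subring.subset_closure (Or.inr ⟨e, rfl⟩)
  have key : ∀ y ∈ Subring.closure (Set.range σg ∪ Set.range jg),
      ∃ (n : ℕ) (a : Bw), a ∈ A' ∧ φ (σ g) ^ n * y = φ a := by
    intro y hy
    induction hy using Subring.closure_induction with
    | mem y hy =>
      rcases hy with ⟨r', rfl⟩ | ⟨e', rfl⟩
      · obtain ⟨n, r, hr⟩ := h1 r'
        refine ⟨n, σ r, hσA r, ?_⟩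
        rw [← hsq r, ← hr, map_mul, map_pow, hsq g, mul_comm]
      · obtain ⟨n, e, he⟩ := h3 e'
        exact ⟨n, jw e, hjA e, he⟩
    | zero => exact ⟨0, 0, zero_mem _, by simp⟩
    | one => exact ⟨0, 1, one_mem _, by simp⟩
    | add x y _ _ hx hy =>
      obtain ⟨n, a, ha, hna⟩ := hx
      obtain ⟨m, c, hc, hmc⟩ := hy
      refine ⟨n + m, σ g ^ m * a + σ g ^ n * c,
        add_mem (mul_mem (pow_mem (hσA g) m) ha) (mul_mem (pow_mem (hσA g) n) hc), ?_⟩
      rw [map_add, map_mul, map_mul, map_pow, map_pow, ← hna, ← hmc, pow_add]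
      ring
    | neg x _ hx =>
      obtain ⟨n, a, ha, hna⟩ := hx
      exact ⟨n, -a, neg_mem ha, by rw [map_neg, ← hna, mul_neg]⟩
    | mul x y _ _ hx hy =>
      obtain ⟨n, a, ha, hna⟩ := hx
      obtain ⟨m, c, hc, hmc⟩ := hy
      refine ⟨n + m, a * c, mul_mem ha hc, ?_⟩
      rw [map_mul, ← hna, ← hmc, pow_add]
      ring
  obtain ⟨n, a, ha, hna⟩ := key (φ b) (by rw [htop]; trivial)
  have h0 : φ (σ g ^ n * b - a) = 0 := by
    rw [map_sub, map_mul, map_pow, hna, sub_self]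
  obtain ⟨m, hm⟩ := h2 _ h0
  refine ⟨m + n, ?_⟩
  have : σ g ^ (m + n) * b = σ g ^ m * a := by
    rw [mul_sub, sub_eq_zero] at hm
    rw [pow_add, mul_assoc, hm]
  rw [this]
  exact mul_mem (pow_mem (hσA g) m) ha

/-- a subring containing the image of `R` and, for a family `g` generating the unit ideal, a power
of `g` times any element, is everything. -/
theorem eq_top_of_span_eq_top (σ : R →+* Bw) (A' : Subring Bw) (hσ : ∀ r, σ r ∈ A') (S : Set R)
    (hS : Ideal.span S = ⊤) (h : ∀ g ∈ S, ∀ b : Bw, ∃ n : ℕ, σ g ^ n * b ∈ A') : A' = ⊤ := by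
  letI := σ.toAlgebra
  let M' : Submodule R Bw :=
    { carrier := A'
      add_mem' := fun ha hb => add_mem ha hb
      zero_mem' := zero_mem _
      smul_mem' := fun r b hb => by
        change σ r * b ∈ A'
        exact mul_mem (hσ r) hb }
  rw [eq_top_iff]
  intro b _
  have : b ∈ M' := by
    apply Submodule.mem_of_span_eq_top_of_smul_pow_mem M' S hS b
    intro r
    obtain ⟨n, hn⟩ := h r r.2 b
    refine ⟨n, ?_⟩
    change σ (r ^ n) * b ∈ A'
    rw [map_pow]
    exact hn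
  exact this

/-- generation on a basic open from generation on the ambient affine. -/
theorem closure_eq_top_of_away {Ru Bu : Type*} [CommRing Ru] [CommRing Bu]
    (τ : Ru →+* Bu) (ψ : Bu →+* Bg) (ρu : Ru →+* Rg) (σg : Rg →+* Bg)
    (hsq : ∀ r, σg (ρu r) = ψ (τ r)) (h : Ru) (hunit : IsUnit (ρu h))
    (hloc : ∀ y : Bg, ∃ (n : ℕ) (b : Bu), y * ψ (τ h) ^ n = ψ b)
    (T : Set Bu) (hT : Subring.closure (Set.range τ ∪ T) = ⊤)
    {Eg : Type*} (jg : Eg → Bg) (hTj : ∀ t ∈ T, ψ t ∈ Set.range jg) :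
    Subring.closure (Set.range σg ∪ Set.range jg) = ⊤ := by
  set C := Subring.closure (Set.range σg ∪ Set.range jg) with hC
  have h1 : ∀ b : Bu, ψ b ∈ C := by
    intro b
    have hb : b ∈ Subring.closure (Set.range τ ∪ T) := by rw [hT]; trivial
    have hle : Subring.closure (Set.range τ ∪ T) ≤ C.comap ψ := by
      rw [Subring.closure_le]
      rintro x (⟨r, rfl⟩ | hx)
      · change ψ (τ r) ∈ C
        rw [← hsq]
        exact Subring.subset_closure (Or.inl ⟨_, rfl⟩)
      · change ψ x ∈ C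
        exact Subring.subset_closure (Or.inr (hTj x hx))
    exact hle hb
  rw [eq_top_iff]
  intro y _
  obtain ⟨n, b, hb⟩ := hloc y
  obtain ⟨u, hu⟩ := hunit
  have h2 : ψ (τ h) = σg (u : Rg) := by rw [← hsq, hu]
  have h3 : y = ψ b * σg ((↑u⁻¹ : Rg) ^ n) := by
    rw [← hb, h2, mul_assoc, ← map_pow, ← map_mul, ← mul_pow, Units.mul_inv, one_pow, map_one,
      mul_one]
  rw [h3]
  exact mul_mem (h1 b) (Subring.subset_closure (Or.inl ⟨_, rfl⟩))

end Groth.Agent.Helper13.QCAlgGen
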