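import Mathlib
import Groth.Agent.Lib.Helper13.QCoh
import Groth.Agent.Lib.Helper13.QCohLocal

set_option autoImplicit false
universe u
open CategoryTheory CategoryTheory.Limits AlgebraicGeometry Opposite TopologicalSpace
open Groth.Agent.Helper13.QCoh

namespace Groth.Agent.Helper13.QCohOfLoc

variable {X : Scheme.{u}} (F : X.Modules)

lemma transport_rev₁ {U : X.Opens} (f : Γ(X, U)) (n : ℕ)
    (W T : X.Opens) (eW : W = X.basicOpen f) (eT : T = U) (hWT : W ≤ T) (hWU : W ≤ U)
    (y : Γ(F, W)) (t : Γ(F, U))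
    (h : F.presheaf.map (homOfLE (X.basicOpen_le f)).op t =
      (X.presheaf.map (homOfLE (X.basicOpen_le f)).op f) ^ n • F.presheaf.map (eqToHom eW.symm).op y) :
    F.presheaf.map (homOfLE hWT).op (F.presheaf.map (eqToHom eT).op t) =
      X.presheaf.map (homOfLE hWU).op (f ^ n) • y := by
  subst eW eT
  rw [map_id_apply' F] at h ⊢
  rw [h, map_pow]

lemma transport_rev₂ {U : X.Opens} (f : Γ(X, U)) (W T : X.Opens) (eW : W = X.basicOpen f)
    (eT : T = U) (hWT : W ≤ T) (a b : Γ(F, T))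
    (h : F.presheaf.map (homOfLE hWT).op a = F.presheaf.map (homOfLE hWT).op b) :
    F.presheaf.map (homOfLE (X.basicOpen_le f)).op
      (F.presheaf.map (eqToHom eT.symm).op a - F.presheaf.map (eqToHom eT.symm).op b) = 0 := by
  subst eW eT
  rw [map_id_apply' F, map_id_apply' F, map_sub, sub_eq_zero]
  exact h

lemma transport_rev₃ {U : X.Opens} (r : Γ(X, U)) (T : X.Opens) (eT : T = U) (hTU : T ≤ U)
    (a b : Γ(F, T))
    (h : r • (F.presheaf.map (eqToHom eT.symm).op a - F.presheaf.map (eqToHom eT.symm).op b) = 0) :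
    X.presheaf.map (homOfLE hTU).op r • a = X.presheaf.map (homOfLE hTU).op r • b := by
  subst eT
  rw [map_id_apply' F, map_id_apply' F, smul_sub, sub_eq_zero] at h
  rwa [res_id_apply']

variable {U : X.Opens} (hU : IsAffineOpen U)

include hU in
theorem isIso_fromTildeΓ_of_loc
    (h1 : ∀ (f : Γ(X, U)) (s : Γ(F, X.basicOpen f)), ∃ (n : ℕ) (t : Γ(F, U)),
        F.presheaf.map (homOfLE (X.basicOpen_le f)).op t =
          (X.presheaf.map (homOfLE (X.basicOpen_le f)).op f) ^ n • s)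
    (h2 : ∀ (f : Γ(X, U)) (t : Γ(F, U)), F.presheaf.map (homOfLE (X.basicOpen_le f)).op t = 0 →
        ∃ n : ℕ, f ^ n • t = 0) :
    IsIso (F.restrict hU.fromSpec).fromTildeΓ := by
  rw [isIso_fromTildeΓ_iff_isLocalizing]
  intro f
  have ef : hU.fromSpec ''ᵁ PrimeSpectrum.basicOpen f = X.basicOpen f := hU.fromSpec_image_basicOpen f
  have et : hU.fromSpec ''ᵁ ⊤ = U := by
    rw [Scheme.Hom.image_top_eq_opensRange, hU.opensRange_fromSpec]
  refine ⟨?_, ?_, ?_⟩
  · rintro ⟨_, n, rfl⟩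
    have h0 := Scheme.Modules.isUnit_algebraMap_end_of_le_basicOpen
      (M := F.restrict hU.fromSpec) (U := PrimeSpectrum.basicOpen f) f le_rfl
    have := h0.pow n
    rw [← map_pow] at this
    exact this
  · intro y
    obtain ⟨n, t, ht⟩ := h1 f (F.presheaf.map (eqToHom ef.symm).op y)
    refine ⟨⟨F.presheaf.map (eqToHom et).op t, ⟨f ^ n, n, rfl⟩⟩, ?_⟩
    have h3 := transport_rev₁ F f n _ _ ef et
      (by rw [ef, et]; exact X.basicOpen_le f) (by rw [ef]; exact X.basicOpen_le f) y t ht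
    exact (smul_restrict F hU (PrimeSpectrum.basicOpen f) (f ^ n) y).trans h3.symm
  · intro a b hab
    have h3 := transport_rev₂ F f _ _ ef et (by rw [ef, et]; exact X.basicOpen_le f) a b hab
    obtain ⟨n, hn⟩ := h2 f _ h3
    refine ⟨⟨f ^ n, n, rfl⟩, ?_⟩
    have h4 := transport_rev₃ F (f ^ n) _ et (by rw [et]) a b hn
    exact (smul_restrict F hU ⊤ (f ^ n) a).trans (h4.trans (smul_restrict F hU ⊤ (f ^ n) b).symm)

omit hU in
/-- quasi-coherence from the localization property on basic opens of affine opens -/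
theorem isQuasicoherent_of_loc
    (h1 : ∀ (U : X.Opens) (_ : IsAffineOpen U) (f : Γ(X, U)) (s : Γ(F, X.basicOpen f)),
        ∃ (n : ℕ) (t : Γ(F, U)),
        F.presheaf.map (homOfLE (X.basicOpen_le f)).op t =
          (X.presheaf.map (homOfLE (X.basicOpen_le f)).op f) ^ n • s)
    (h2 : ∀ (U : X.Opens) (_ : IsAffineOpen U) (f : Γ(X, U)) (t : Γ(F, U)),
        F.presheaf.map (homOfLE (X.basicOpen_le f)).op t = 0 → ∃ n : ℕ, f ^ n • t = 0) :
    F.IsQuasicoherent := by
  refine QCohLocal.isQuasicoherent_of_affine_family F (fun U : X.affineOpens => Γ(X, U.1))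
    (fun U => U.2.fromSpec) (fun x => ?_) (fun U => ?_)
  · obtain ⟨_, ⟨V, hV, rfl⟩, hxV, -⟩ := X.isBasis_affineOpens.exists_subset_of_mem_open
      (Set.mem_univ x) isOpen_univ
    refine ⟨⟨V, hV⟩, ?_⟩
    rw [IsAffineOpen.opensRange_fromSpec]
    exact hxV
  · exact isIso_fromTildeΓ_of_loc F U.2 (h1 U.1 U.2) (h2 U.1 U.2)

end Groth.Agent.Helper13.QCohOfLoc
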