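import Mathlib
import Groth.Prelude.Def_RelSpec
import Groth.Agent.Lib.Helper13.QCohOfLoc

set_option autoImplicit false
universe u
open CategoryTheory CategoryTheory.Limits AlgebraicGeometry Opposite TopologicalSpace
open Groth

namespace Groth.Agent.Helper13.QCAlgQCoh

variable {X : Scheme.{u}} (B : RelSpec.QCAlg X)

/-- restriction of `B.toModule` is the ring restriction of `B` -/
lemma toModule_map {U V : X.Opens} (i : op U ⟶ op V) (t : B.presheaf.obj (op U)) :
    B.toModule.presheaf.map i (show Γ(B.toModule, U) from t) =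
      (show Γ(B.toModule, V) from (B.presheaf.map i).hom t) := rfl

/-- the scalar action on `B.toModule` is multiplication through the structure map -/
lemma toModule_smul {U : X.Opens} (r : Γ(X, U)) (t : B.presheaf.obj (op U)) :
    (r • (show Γ(B.toModule, U) from t) : Γ(B.toModule, U)) =
      (show Γ(B.toModule, U) from (B.str.app (op U)).hom r * t) := rfl

lemma str_res {U V : X.Opens} (i : op U ⟶ op V) (r : Γ(X, U)) :
    (B.str.app (op V)).hom ((X.presheaf.map i).hom r) =
      (B.presheaf.map i).hom ((B.str.app (op U)).hom r) := by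
  have h := congr_arg (fun ψ => ψ.hom r) (B.str.naturality i)
  simp only [CommRingCat.hom_comp] at h
  exact h

theorem exists_pow_mul_eq_res {U : X.Opens} (hU : IsAffineOpen U) (f : Γ(X, U))
    (s : B.presheaf.obj (op (X.basicOpen f))) :
    ∃ (n : ℕ) (t : B.presheaf.obj (op U)),
      (B.presheaf.map (homOfLE (X.basicOpen_le f)).op).hom t =
        (B.presheaf.map (homOfLE (X.basicOpen_le f)).op).hom ((B.str.app (op U)).hom f) ^ n * s := by
  letI := (B.presheaf.map (homOfLE (X.basicOpen_le f)).op).hom.toAlgebra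
  haveI := B.isQC U hU f
  obtain ⟨n, t, ht⟩ := IsLocalization.Away.surj ((B.str.app (op U)).hom f) s
  refine ⟨n, t, ?_⟩
  rw [mul_comm]
  exact ht.symm

theorem exists_pow_mul_eq_zero {U : X.Opens} (hU : IsAffineOpen U) (f : Γ(X, U))
    (t : B.presheaf.obj (op U))
    (ht : (B.presheaf.map (homOfLE (X.basicOpen_le f)).op).hom t = 0) :
    ∃ n : ℕ, (B.str.app (op U)).hom f ^ n * t = 0 := by
  letI := (B.presheaf.map (homOfLE (X.basicOpen_le f)).op).hom.toAlgebra
  haveI := B.isQC U hU f
  obtain ⟨⟨_, n, rfl⟩, hn⟩ := (IsLocalization.map_eq_zero_iff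
    (Submonoid.powers ((B.str.app (op U)).hom f)) (B.presheaf.obj (op (X.basicOpen f))) t).1 ht
  exact ⟨n, hn⟩

instance isQuasicoherent_toModule : B.toModule.IsQuasicoherent := by
  refine QCohOfLoc.isQuasicoherent_of_loc _ ?_ ?_
  · intro U hU f s
    obtain ⟨n, t, ht⟩ := exists_pow_mul_eq_res B hU f s
    refine ⟨n, t, ?_⟩
    rw [← str_res, ← map_pow] at ht
    exact ht
  · intro U hU f t ht
    obtain ⟨n, hn⟩ := exists_pow_mul_eq_zero B hU f t ht
    refine ⟨n, ?_⟩
    rw [← map_pow] at hn
    exact hn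

end Groth.Agent.Helper13.QCAlgQCoh
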