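import Mathlib
import Groth.Prelude.Def_RelSpec
import Groth.Prelude.Def_CohB1
import Groth.Agent.Lib.Helper13.QCAlgQCoh
import Groth.Agent.Lib.Helper13.QCAlgGen1
import Groth.Agent.Lib.Helper13.FTSub

set_option autoImplicit false
universe u
open CategoryTheory CategoryTheory.Limits AlgebraicGeometry Opposite TopologicalSpace
open Groth

namespace Groth.Agent.Helper13.QCAlgGen

variable {X : Scheme.{u}} (B : RelSpec.QCAlg X) (E : X.Modules) (j : E ⟶ B.toModule)

/-- the map on sections of `j` with values in the ring `B(D)` -/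
noncomputable def jmap (D : X.Opens) : Γ(E, D) → B.presheaf.obj (op D) :=
  fun e => (j.val.app (op D)).hom e

/-- `B(D)` is generated as a ring by the functions on `D` and the sections of `E` over `D` -/
def Gen (D : X.Opens) : Prop :=
  Subring.closure (Set.range (B.str.app (op D)).hom ∪ Set.range (jmap B E j D)) = ⊤

lemma jmap_res {U V : X.Opens} (i : op U ⟶ op V) (e : Γ(E, U)) :
    jmap B E j V (E.presheaf.map i e) = (B.presheaf.map i).hom (jmap B E j U e) :=
  PresheafOfModules.naturality_apply j.val i e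

lemma jmap_smul {U : X.Opens} (r : Γ(X, U)) (e : Γ(E, U)) :
    jmap B E j U (r • e) = (B.str.app (op U)).hom r * jmap B E j U e :=
  (j.val.app (op U)).hom.map_smul r e

theorem gen_basicOpen {U : X.Opens} (hU : IsAffineOpen U) (T : Set (B.presheaf.obj (op U)))
    (hT : Subring.closure (Set.range (B.str.app (op U)).hom ∪ T) = ⊤)
    (hTj : ∀ t ∈ T, t ∈ Set.range (jmap B E j U)) (h : Γ(X, U)) : Gen B E j (X.basicOpen h) := by
  refine closure_eq_top_of_away (B.str.app (op U)).hom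
    (B.presheaf.map (homOfLE (X.basicOpen_le h)).op).hom
    (X.presheaf.map (homOfLE (X.basicOpen_le h)).op).hom (B.str.app (op (X.basicOpen h))).hom
    (fun r => QCAlgQCoh.str_res B _ r) h (RingedSpace.isUnit_res_basicOpen _ h) ?_ T hT
    (jmap B E j (X.basicOpen h)) ?_
  · intro y
    obtain ⟨n, b, hb⟩ := QCAlgQCoh.exists_pow_mul_eq_res B hU h y
    exact ⟨n, b, by rw [mul_comm]; exact hb.symm⟩
  · intro t ht
    obtain ⟨e, rfl⟩ := hTj t ht
    exact ⟨E.presheaf.map (homOfLE (X.basicOpen_le h)).op e, jmap_res B E j _ e⟩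

theorem exists_pow_mul_mem [E.IsQuasicoherent] {W : X.Opens} (hW : IsAffineOpen W) (g : Γ(X, W))
    (hg : Gen B E j (X.basicOpen g)) (b : B.presheaf.obj (op W)) :
    ∃ n : ℕ, (B.str.app (op W)).hom g ^ n * b ∈
      Subring.closure (Set.range (B.str.app (op W)).hom ∪ Set.range (jmap B E j W)) := by
  refine exists_pow_mul_mem_closure (B.str.app (op W)).hom
    (X.presheaf.map (homOfLE (X.basicOpen_le g)).op).hom
    (B.presheaf.map (homOfLE (X.basicOpen_le g)).op).hom (B.str.app (op (X.basicOpen g))).hom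
    (fun r => QCAlgQCoh.str_res B _ r) g ?_ ?_ (jmap B E j W) (jmap B E j (X.basicOpen g)) ?_ hg b
  · intro r'
    haveI := hW.isLocalization_basicOpen g
    obtain ⟨n, r, hr⟩ := IsLocalization.Away.surj g r'
    exact ⟨n, r, hr⟩
  · intro b hb
    exact QCAlgQCoh.exists_pow_mul_eq_zero B hW g b hb
  · intro e'
    obtain ⟨n, e, he⟩ := QCoh.exists_pow_smul_eq_res E hW g e'
    refine ⟨n, e, ?_⟩
    have h1 := congrArg (jmap B E j (X.basicOpen g)) he
    rw [jmap_res, jmap_smul, map_pow, QCAlgQCoh.str_res] at h1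
    exact h1.symm

theorem gen_of_cover [E.IsQuasicoherent] (s : Set X.affineOpens)
    (hcov : ∀ x : X, ∃ U ∈ s, x ∈ (U : X.Opens))
    (hs : ∀ U ∈ s, ∀ h : Γ(X, (U : X.Opens)), Gen B E j (X.basicOpen h))
    {W : X.Opens} (hW : IsAffineOpen W) : Gen B E j W := by
  let S' : Set Γ(X, W) :=
    {g | ∃ U ∈ s, ∃ h : Γ(X, (U : X.Opens)), X.basicOpen g = X.basicOpen h}
  have hspan : Ideal.span S' = ⊤ := by
    rw [← hW.self_le_iSup_basicOpen_iff]
    intro x hx
    obtain ⟨U, hUs, hxU⟩ := hcov x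
    obtain ⟨f, g, hfg, hxf⟩ := exists_basicOpen_le_affine_inter hW U.2 x ⟨hx, hxU⟩
    exact Opens.mem_iSup.2 ⟨⟨f, U, hUs, g, hfg⟩, hxf⟩
  refine eq_top_of_span_eq_top (B.str.app (op W)).hom _
    (fun r => Subring.subset_closure (Or.inl ⟨r, rfl⟩)) S' hspan ?_
  rintro g ⟨U, hUs, h, hgh⟩ b
  refine exists_pow_mul_mem B E j hW g ?_ b
  rw [hgh]
  exact hs U hUs h

theorem exists_finset_gen
    (hB : ∀ U : X.affineOpens, (B.str.app (op (U : X.Opens))).hom.FiniteType)
    (U : X.affineOpens) : ∃ T : Finset (B.presheaf.obj (op (U : X.Opens))),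
      Subring.closure (Set.range (B.str.app (op (U : X.Opens))).hom ∪
        (T : Set (B.presheaf.obj (op (U : X.Opens))))) = ⊤ := by
  letI := (B.str.app (op (U : X.Opens))).hom.toAlgebra
  obtain ⟨T, hT⟩ := (hB U).out
  refine ⟨T, ?_⟩
  have h := Algebra.adjoin_eq_ring_closure (R := Γ(X, (U : X.Opens)))
    (T : Set (B.presheaf.obj (op (U : X.Opens))))
  rw [hT] at h
  rw [← Algebra.top_toSubring (R := Γ(X, (U : X.Opens)))]
  exact h.symm

theorem main [CompactSpace X] [QuasiSeparatedSpace X]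
    (hB : ∀ U : X.affineOpens, (B.str.app (op (U : X.Opens))).hom.FiniteType) :
    ∃ (E : X.Modules) (j : E ⟶ B.toModule), Mono j ∧ E.IsQuasicoherent ∧
      SheafOfModules.IsFiniteType (R := X.ringCatSheaf) E ∧
      ∀ U : X.affineOpens, Gen B E j U.1 := by
  obtain ⟨s, hs, hcov⟩ := (isCompact_and_isOpen_iff_finite_and_eq_biUnion_affineOpens
    (X := X) (U := Set.univ)).1 ⟨isCompact_univ, isOpen_univ⟩
  haveI : Finite s := hs.to_subtype
  choose T hT using exists_finset_gen B hB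
  let κ : Type u := Σ U : s, (T U.1 : Finset (B.presheaf.obj (op (U.1 : X.Opens))))
  haveI : Finite κ := inferInstance
  obtain ⟨E, j, hmono, hqc, hft, hsec⟩ := FTSub.exists_ft_sub_through_sections B.toModule κ
    (fun c => c.1.1.1) (fun c => c.1.1.2.isCompact)
    (fun c => (show Γ(B.toModule, c.1.1.1) from c.2.1))
  refine ⟨E, j, hmono, hqc, hft, fun W => ?_⟩
  haveI := hqc
  refine gen_of_cover B E j s ?_ ?_ W.2
  · intro x
    have hx : x ∈ (Set.univ : Set X) := trivial
    rw [hcov] at hx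
    simp only [Set.mem_iUnion] at hx
    obtain ⟨U, hU, hxU⟩ := hx
    exact ⟨U, hU, hxU⟩
  · intro U hUs h
    refine gen_basicOpen B E j U.2 (T U : Set (B.presheaf.obj (op (U : X.Opens)))) (hT U) ?_ h
    intro t ht
    obtain ⟨g, hg⟩ := hsec ⟨⟨U, hUs⟩, ⟨t, ht⟩⟩
    exact ⟨g, hg⟩

end Groth.Agent.Helper13.QCAlgGen
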