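import Mathlib
import Groth.Prelude.Def_RelSpec
import Groth.Agent.Lib.Helper13.QCAlgGen2

set_option autoImplicit false
universe u
open CategoryTheory CategoryTheory.Limits AlgebraicGeometry Opposite TopologicalSpace
open Groth

namespace Groth.Agent.Helper13.QCAlgSub

open Groth.Agent.Helper13.QCAlgGen

section Algebra

variable {R Rg Bw Bg : Type*} [CommRing R] [CommRing Rg] [CommRing Bw] [CommRing Bg]

/-- elements of the subring generated on the localization come from the subring generated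
upstairs after multiplying by a power of `g`. -/
theorem exists_pow_mul_eq_of_mem (σ : R →+* Bw) (ρ : R →+* Rg) (φ : Bw →+* Bg) (σg : Rg →+* Bg)
    (hsq : ∀ r, σg (ρ r) = φ (σ r)) (g : R)
    (h1 : ∀ r' : Rg, ∃ (n : ℕ) (r : R), r' * ρ g ^ n = ρ r)
    {Ew Eg : Type*} (jw : Ew → Bw) (jg : Eg → Bg)
    (h3 : ∀ e' : Eg, ∃ (n : ℕ) (e : Ew), φ (σ g) ^ n * jg e' = φ (jw e))
    (y : Bg) (hy : y ∈ Subring.closure (Set.range σg ∪ Set.range jg)) :
    ∃ (n : ℕ) (a : Bw), a ∈ Subring.closure (Set.range σ ∪ Set.range jw) ∧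
      φ (σ g) ^ n * y = φ a := by
  set A' := Subring.closure (Set.range σ ∪ Set.range jw) with hA'
  have hσA : ∀ r, σ r ∈ A' := fun r => Subring.subset_closure (Or.inl ⟨r, rfl⟩)
  have hjA : ∀ e, jw e ∈ A' := fun e => Subring.subset_closure (Or.inr ⟨e, rfl⟩)
  induction hy using Subring.closure_induction with
  | mem y hy =>
    rcases hy with ⟨r', rfl⟩ | ⟨e', rfl⟩
    · obtain ⟨n, r, hr⟩ := h1 r'
      refine ⟨n, σ r, hσA r, ?_⟩
      rw [← hsq r, ← hr, map_mul, map_pow, hsq g, mul_comm]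
    · obtain ⟨n, e, he⟩ := h3 e'
      exact ⟨n, jw e, hjA e, he⟩
  | zero => exact ⟨0, 0, zero_mem _, by simp⟩
  | one => exact ⟨0, 1, one_mem _, by simp⟩
  | add x y _ _ hx hy =>
    obtain ⟨n, a, ha, hna⟩ := hx
    obtain ⟨m, c, hc, hmc⟩ := hy
    refine ⟨n + m, σ g ^ m * a + σ g ^ n * c,
      add_mem (mul_mem (pow_mem (hσA g) m) ha) (mul_mem (pow_mem (hσA g) n) hc), ?_⟩
    rw [map_add, map_mul, map_mul, map_pow, map_pow, ← hna, ← hmc, pow_add]
    ring
  | neg x _ hx =>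
    obtain ⟨n, a, ha, hna⟩ := hx
    exact ⟨n, -a, neg_mem ha, by rw [map_neg, ← hna, mul_neg]⟩
  | mul x y _ _ hx hy =>
    obtain ⟨n, a, ha, hna⟩ := hx
    obtain ⟨m, c, hc, hmc⟩ := hy
    refine ⟨n + m, a * c, mul_mem ha hc, ?_⟩
    rw [map_mul, ← hna, ← hmc, pow_add]
    ring

/-- an element whose image in the localization lies in the generated subring has a power of `g`
times it in the generated subring upstairs. -/
theorem exists_pow_mul_mem_of_mem (σ : R →+* Bw) (ρ : R →+* Rg) (φ : Bw →+* Bg) (σg : Rg →+* Bg)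
    (hsq : ∀ r, σg (ρ r) = φ (σ r)) (g : R)
    (h1 : ∀ r' : Rg, ∃ (n : ℕ) (r : R), r' * ρ g ^ n = ρ r)
    (h2 : ∀ b : Bw, φ b = 0 → ∃ m : ℕ, σ g ^ m * b = 0)
    {Ew Eg : Type*} (jw : Ew → Bw) (jg : Eg → Bg)
    (h3 : ∀ e' : Eg, ∃ (n : ℕ) (e : Ew), φ (σ g) ^ n * jg e' = φ (jw e))
    (b : Bw) (hb : φ b ∈ Subring.closure (Set.range σg ∪ Set.range jg)) :
    ∃ n : ℕ, σ g ^ n * b ∈ Subring.closure (Set.range σ ∪ Set.range jw) := by
  obtain ⟨n, a, ha, hna⟩ := exists_pow_mul_eq_of_mem σ ρ φ σg hsq g h1 jw jg h3 (φ b) hb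
  have h0 : φ (σ g ^ n * b - a) = 0 := by
    rw [map_sub, map_mul, map_pow, hna, sub_self]
  obtain ⟨m, hm⟩ := h2 _ h0
  refine ⟨m + n, ?_⟩
  have : σ g ^ (m + n) * b = σ g ^ m * a := by
    rw [mul_sub, sub_eq_zero] at hm
    rw [pow_add, mul_assoc, hm]
  rw [this]
  have hσg : σ g ∈ Subring.closure (Set.range σ ∪ Set.range jw) :=
    Subring.subset_closure (Or.inl ⟨g, rfl⟩)
  exact mul_mem (pow_mem hσg m) ha

end Algebra

variable {X : Scheme.{u}} (B : RelSpec.QCAlg X) (E : X.Modules) (j : E ⟶ B.toModule)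

/-- the subring of `B(W)` generated by the functions on `W` and the sections of `E` over `W` -/
noncomputable def A (W : X.Opens) : Subring (B.presheaf.obj (op W)) :=
  Subring.closure (Set.range (B.str.app (op W)).hom ∪ Set.range (jmap B E j W))

lemma str_mem_A {W : X.Opens} (r : Γ(X, W)) : (B.str.app (op W)).hom r ∈ A B E j W :=
  Subring.subset_closure (Or.inl ⟨r, rfl⟩)

lemma jmap_mem_A {W : X.Opens} (e : Γ(E, W)) : jmap B E j W e ∈ A B E j W :=
  Subring.subset_closure (Or.inr ⟨e, rfl⟩)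

lemma A_res {W W' : X.Opens} (i : op W ⟶ op W') (s : B.presheaf.obj (op W))
    (hs : s ∈ A B E j W) : (B.presheaf.map i).hom s ∈ A B E j W' := by
  have hle : A B E j W ≤ (A B E j W').comap (B.presheaf.map i).hom := by
    unfold A
    rw [Subring.closure_le]
    rintro x (⟨r, rfl⟩ | ⟨e, rfl⟩)
    · rw [SetLike.mem_coe, Subring.mem_comap, ← QCAlgQCoh.str_res]
      exact Subring.subset_closure (Or.inl ⟨_, rfl⟩)
    · rw [SetLike.mem_coe, Subring.mem_comap, ← jmap_res]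
      exact Subring.subset_closure (Or.inr ⟨_, rfl⟩)
  exact hle hs

lemma map_map {V1 V2 V3 : X.Opens} (a : op V1 ⟶ op V2) (b : op V2 ⟶ op V3) (c : op V1 ⟶ op V3)
    (s : B.presheaf.obj (op V1)) :
    (B.presheaf.map b).hom ((B.presheaf.map a).hom s) = (B.presheaf.map c).hom s := by
  have : c = a ≫ b := Subsingleton.elim _ _
  rw [this, B.presheaf.map_comp]
  rfl

/-- the subring of sections of `B` locally in the generated subrings -/
noncomputable def Sub (V : X.Opens) : Subring (B.presheaf.obj (op V)) where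
  carrier := {s | ∀ x ∈ V, ∃ (W : X.Opens) (h : W ≤ V), x ∈ W ∧
    (B.presheaf.map (homOfLE h).op).hom s ∈ A B E j W}
  mul_mem' := by
    intro s t hs ht x hx
    obtain ⟨W1, h1, hx1, hs1⟩ := hs x hx
    obtain ⟨W2, h2, hx2, ht2⟩ := ht x hx
    refine ⟨W1 ⊓ W2, inf_le_left.trans h1, ⟨hx1, hx2⟩, ?_⟩
    rw [map_mul]
    refine mul_mem ?_ ?_
    · have := A_res B E j (homOfLE (inf_le_left : W1 ⊓ W2 ≤ W1)).op _ hs1
      rwa [map_map B _ _ (homOfLE (inf_le_left.trans h1)).op] at this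
    · have := A_res B E j (homOfLE (inf_le_right : W1 ⊓ W2 ≤ W2)).op _ ht2
      rwa [map_map B _ _ (homOfLE (inf_le_left.trans h1)).op] at this
  one_mem' := by
    intro x hx
    exact ⟨V, le_rfl, hx, by rw [map_one]; exact one_mem _⟩
  add_mem' := by
    intro s t hs ht x hx
    obtain ⟨W1, h1, hx1, hs1⟩ := hs x hx
    obtain ⟨W2, h2, hx2, ht2⟩ := ht x hx
    refine ⟨W1 ⊓ W2, inf_le_left.trans h1, ⟨hx1, hx2⟩, ?_⟩
    rw [map_add]
    refine add_mem ?_ ?_
    · have := A_res B E j (homOfLE (inf_le_left : W1 ⊓ W2 ≤ W1)).op _ hs1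
      rwa [map_map B _ _ (homOfLE (inf_le_left.trans h1)).op] at this
    · have := A_res B E j (homOfLE (inf_le_right : W1 ⊓ W2 ≤ W2)).op _ ht2
      rwa [map_map B _ _ (homOfLE (inf_le_left.trans h1)).op] at this
  zero_mem' := by
    intro x hx
    exact ⟨V, le_rfl, hx, by rw [map_zero]; exact zero_mem _⟩
  neg_mem' := by
    intro s hs x hx
    obtain ⟨W1, h1, hx1, hs1⟩ := hs x hx
    exact ⟨W1, h1, hx1, by rw [map_neg]; exact neg_mem hs1⟩

lemma mem_Sub_iff {V : X.Opens} (s : B.presheaf.obj (op V)) :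
    s ∈ Sub B E j V ↔ ∀ x ∈ V, ∃ (W : X.Opens) (h : W ≤ V), x ∈ W ∧
      (B.presheaf.map (homOfLE h).op).hom s ∈ A B E j W := Iff.rfl

lemma A_le_Sub {V : X.Opens} (s : B.presheaf.obj (op V)) (hs : s ∈ A B E j V) :
    s ∈ Sub B E j V := by
  intro x hx
  exact ⟨V, le_rfl, hx, A_res B E j _ s hs⟩

lemma Sub_res {V V' : X.Opens} (i : op V ⟶ op V') (s : B.presheaf.obj (op V))
    (hs : s ∈ Sub B E j V) : (B.presheaf.map i).hom s ∈ Sub B E j V' := by
  intro x hx
  have hle : V' ≤ V := i.unop.le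
  obtain ⟨W, h, hxW, hsW⟩ := hs x (hle hx)
  refine ⟨W ⊓ V', inf_le_right, ⟨hxW, hx⟩, ?_⟩
  have := A_res B E j (homOfLE (inf_le_left : W ⊓ V' ≤ W)).op _ hsW
  rw [map_map B _ _ (homOfLE (inf_le_left.trans h)).op] at this
  rwa [map_map B _ _ (homOfLE (inf_le_left.trans h)).op]

/-- a section locally in `Sub` is in `Sub` -/
lemma mem_Sub_of_local {V : X.Opens} (s : B.presheaf.obj (op V))
    (hs : ∀ x ∈ V, ∃ (W : X.Opens) (h : W ≤ V), x ∈ W ∧
      (B.presheaf.map (homOfLE h).op).hom s ∈ Sub B E j W) : s ∈ Sub B E j V := by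
  intro x hx
  obtain ⟨W, h, hxW, hsW⟩ := hs x hx
  obtain ⟨W', h', hxW', hsW'⟩ := hsW x hxW
  refine ⟨W', h'.trans h, hxW', ?_⟩
  rwa [map_map B _ _ (homOfLE (h'.trans h)).op] at hsW'

end Groth.Agent.Helper13.QCAlgSub
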