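import Mathlib
import Groth.Prelude.Def_RelSpec
import Groth.Agent.Lib.Helper13.QCAlgSub1

set_option autoImplicit false
universe u
open CategoryTheory CategoryTheory.Limits AlgebraicGeometry Opposite TopologicalSpace
open Groth

namespace Groth.Agent.Helper13.QCAlgSub

open Groth.Agent.Helper13.QCAlgGen

variable {X : Scheme.{u}} (B : RelSpec.QCAlg X) (E : X.Modules) (j : E ⟶ B.toModule)

/-- restriction maps of the generated subalgebra -/
noncomputable def resHom {V V' : (Opens X)ᵒᵖ} (i : V ⟶ V') :
    Sub B E j V.unop →+* Sub B E j V'.unop :=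
  ((B.presheaf.map i).hom.comp (Sub B E j V.unop).subtype).codRestrict (Sub B E j V'.unop)
    (fun s => Sub_res B E j i s.1 s.2)

lemma resHom_val {V V' : (Opens X)ᵒᵖ} (i : V ⟶ V') (s : Sub B E j V.unop) :
    (resHom B E j i s : B.presheaf.obj V') = (B.presheaf.map i).hom s.1 := rfl

/-- the presheaf of rings of the subalgebra generated by `E` -/
noncomputable def subPresheaf : TopCat.Presheaf CommRingCat.{u} X.carrier where
  obj V := CommRingCat.of (Sub B E j V.unop)
  map i := CommRingCat.ofHom (resHom B E j i)
  map_id V := by
    ext s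
    change (B.presheaf.map (𝟙 V)).hom s.1 = s.1
    rw [B.presheaf.map_id]
    rfl
  map_comp a b := by
    ext s
    change (B.presheaf.map (a ≫ b)).hom s.1 = (B.presheaf.map b).hom ((B.presheaf.map a).hom s.1)
    rw [B.presheaf.map_comp]
    rfl

/-- the inclusion of the generated subalgebra -/
noncomputable def subι : subPresheaf B E j ⟶ B.presheaf where
  app V := CommRingCat.ofHom (Sub B E j V.unop).subtype
  naturality _ _ _ := rfl

/-- the structure map of the generated subalgebra -/
noncomputable def subStr : X.presheaf ⟶ subPresheaf B E j where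
  app V := CommRingCat.ofHom ((B.str.app V).hom.codRestrict (Sub B E j V.unop)
    (fun r => A_le_Sub B E j _ (str_mem_A B E j r)))
  naturality V V' i := by
    ext r
    apply Subtype.ext
    exact QCAlgQCoh.str_res B i r

lemma subStr_ι : subStr B E j ≫ subι B E j = B.str := rfl

end Groth.Agent.Helper13.QCAlgSub
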