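import Mathlib
import Groth.Prelude.Def_RelSpec
import Groth.Agent.Lib.Helper13.QCAlgSub2

set_option autoImplicit false
universe u
open CategoryTheory CategoryTheory.Limits AlgebraicGeometry Opposite TopologicalSpace
open Groth

namespace Groth.Agent.Helper13.QCAlgSub

open Groth.Agent.Helper13.QCAlgGen

variable {X : Scheme.{u}} (B : RelSpec.QCAlg X) (E : X.Modules) (j : E ⟶ B.toModule)

/-- the sub-functor of sections of the generated subalgebra -/
noncomputable def subFunctor : Subfunctor (B.presheaf ⋙ forget CommRingCat) where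
  obj V := {s | s ∈ Sub B E j V.unop}
  map i s hs := Sub_res B E j i s hs

theorem subPresheaf_isSheaf : (subPresheaf B E j).IsSheaf := by
  rw [TopCat.Presheaf.isSheaf_iff_isSheaf_comp (forget CommRingCat)]
  have hF : Presieve.IsSheaf (Opens.grothendieckTopology X) (B.presheaf ⋙ forget CommRingCat) :=
    (isSheaf_iff_isSheaf_of_type _ _).1
      ((TopCat.Presheaf.isSheaf_iff_isSheaf_comp (forget CommRingCat) _).1 B.isSheaf)
  have hG : Presieve.IsSheaf (Opens.grothendieckTopology X) (subFunctor B E j).toFunctor := by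
    rw [Subfunctor.isSheaf_iff _ hF]
    intro U s hs
    refine mem_Sub_of_local B E j s (fun x hx => ?_)
    obtain ⟨V, f, hf, hxV⟩ := hs x hx
    exact ⟨V, f.le, hxV, hf⟩
  refine TopCat.Presheaf.isSheaf_of_iso ?_ ((isSheaf_iff_isSheaf_of_type _ _).2 hG)
  exact NatIso.ofComponents (fun _ => Iso.refl _) (by intros; rfl)

end Groth.Agent.Helper13.QCAlgSub
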