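import Mathlib
import Groth.Prelude.Def_RelSpec
import Groth.Agent.Lib.Helper13.QCAlgSub3
import Groth.Agent.Lib.Helper13.FinAffine2

set_option autoImplicit false
universe u
open CategoryTheory CategoryTheory.Limits AlgebraicGeometry Opposite TopologicalSpace
open Groth

namespace Groth.Agent.Helper13.QCAlgSub

open Groth.Agent.Helper13.QCAlgGen

section Algebra

variable {R S M : Type*} [CommRing R] [CommRing S]

/-- membership version of `eq_top_of_span_eq_top` -/
theorem mem_of_span_eq_top (σ : R →+* S) (A' : Subring S) (hσ : ∀ r, σ r ∈ A') (T : Set R)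
    (hT : Ideal.span T = ⊤) (b : S) (h : ∀ g ∈ T, ∃ n : ℕ, σ g ^ n * b ∈ A') : b ∈ A' := by
  letI := σ.toAlgebra
  let M' : Submodule R S :=
    { carrier := A'
      add_mem' := fun ha hb => add_mem ha hb
      zero_mem' := zero_mem _
      smul_mem' := fun r b hb => by
        change σ r * b ∈ A'
        exact mul_mem (hσ r) hb }
  have : b ∈ M' := by
    apply Submodule.mem_of_span_eq_top_of_smul_pow_mem M' T hT b
    intro r
    obtain ⟨n, hn⟩ := h r r.2
    refine ⟨n, ?_⟩
    change σ (r ^ n) * b ∈ A'
    rw [map_pow]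
    exact hn
  exact this

theorem closure_eq_of_span [AddCommGroup M] [Module R M] (σ : R →+* S)
    (jm : M → S) (h0 : jm 0 = 0) (hadd : ∀ a b, jm (a + b) = jm a + jm b)
    (hsmul : ∀ r a, jm (r • a) = σ r * jm a)
    {ι : Type*} (e : ι → M) (he : Submodule.span R (Set.range e) = ⊤) :
    Subring.closure (Set.range σ ∪ Set.range jm) =
      Subring.closure (Set.range σ ∪ Set.range (fun i => jm (e i))) := by
  apply le_antisymm
  · rw [Subring.closure_le]
    rintro x (⟨r, rfl⟩ | ⟨m, rfl⟩)
    · exact Subring.subset_closure (Or.inl ⟨r, rfl⟩)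
    · have hm : m ∈ Submodule.span R (Set.range e) := by rw [he]; trivial
      rw [SetLike.mem_coe]
      induction hm using Submodule.span_induction with
      | mem x hx =>
        obtain ⟨i, rfl⟩ := hx
        exact Subring.subset_closure (Or.inr ⟨i, rfl⟩)
      | zero => rw [h0]; exact zero_mem _
      | add a b _ _ ha hb => rw [hadd]; exact add_mem ha hb
      | smul r a _ ha =>
        rw [hsmul]
        exact mul_mem (Subring.subset_closure (Or.inl ⟨r, rfl⟩)) ha
  · apply Subring.closure_mono
    apply Set.union_subset_union_right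
    rintro _ ⟨i, rfl⟩
    exact ⟨e i, rfl⟩

theorem finiteType_codRestrict_closure (σ : R →+* S) {ι : Type*} [Finite ι] (t : ι → S)
    (T : Subring S) (hT : T = Subring.closure (Set.range σ ∪ Set.range t)) (hσ : ∀ r, σ r ∈ T) :
    (σ.codRestrict T hσ).FiniteType := by
  classical
  subst hT
  letI := (σ.codRestrict _ hσ).toAlgebra
  have ht : ∀ i, t i ∈ Subring.closure (Set.range σ ∪ Set.range t) :=
    fun i => Subring.subset_closure (Or.inr ⟨i, rfl⟩)
  cases nonempty_fintype ι
  change Algebra.FiniteType R (Subring.closure (Set.range σ ∪ Set.range t))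
  refine ⟨⟨Finset.univ.image (fun i => ⟨t i, ht i⟩), ?_⟩⟩
  rw [eq_top_iff]
  rintro ⟨s, hs⟩ _
  induction hs using Subring.closure_induction with
  | mem x hx =>
    rcases hx with ⟨r, rfl⟩ | ⟨i, rfl⟩
    · exact Subalgebra.algebraMap_mem _ r
    · exact Algebra.subset_adjoin (Finset.mem_coe.2 (Finset.mem_image.2 ⟨i, Finset.mem_univ _, rfl⟩))
  | zero => exact zero_mem _
  | one => exact one_mem _
  | add x y hx hy ihx ihy => exact add_mem (ihx trivial) (ihy trivial)
  | neg x hx ih => exact neg_mem (ih trivial)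
  | mul x y hx hy ihx ihy => exact mul_mem (ihx trivial) (ihy trivial)

end Algebra

variable {X : Scheme.{u}} (B : RelSpec.QCAlg X) (E : X.Modules) (j : E ⟶ B.toModule)

lemma jmap_zero (V : X.Opens) : jmap B E j V 0 = 0 := map_zero (j.val.app (op V)).hom

lemma jmap_add (V : X.Opens) (a b : Γ(E, V)) :
    jmap B E j V (a + b) = jmap B E j V a + jmap B E j V b := map_add (j.val.app (op V)).hom a b

variable [E.IsQuasicoherent]

/-- over an affine open, the local subring is the generated subring -/
theorem Sub_eq_A {U : X.Opens} (hU : IsAffineOpen U) : Sub B E j U = A B E j U := by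
  apply le_antisymm
  · intro s hs
    let S' : Set Γ(X, U) := {g | (B.presheaf.map (homOfLE (X.basicOpen_le g)).op).hom s ∈
      A B E j (X.basicOpen g)}
    have hspan : Ideal.span S' = ⊤ := by
      rw [← hU.self_le_iSup_basicOpen_iff]
      intro x hx
      obtain ⟨W, h, hxW, hsW⟩ := hs x hx
      obtain ⟨g, hgW, hxg⟩ := hU.exists_basicOpen_le ⟨x, hxW⟩ hx
      refine Opens.mem_iSup.2 ⟨⟨g, ?_⟩, hxg⟩
      have := A_res B E j (homOfLE hgW).op _ hsW
      rwa [map_map B _ _ (homOfLE (X.basicOpen_le g)).op] at this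
    refine mem_of_span_eq_top (B.str.app (op U)).hom (A B E j U) (fun r => str_mem_A B E j r)
      S' hspan s ?_
    intro g hg
    refine exists_pow_mul_mem_of_mem (B.str.app (op U)).hom
      (X.presheaf.map (homOfLE (X.basicOpen_le g)).op).hom
      (B.presheaf.map (homOfLE (X.basicOpen_le g)).op).hom (B.str.app (op (X.basicOpen g))).hom
      (fun r => QCAlgQCoh.str_res B _ r) g ?_ ?_ (jmap B E j U) (jmap B E j (X.basicOpen g)) ?_ s hg
    · intro r'
      haveI := hU.isLocalization_basicOpen g
      obtain ⟨n, r, hr⟩ := IsLocalization.Away.surj g r'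
      exact ⟨n, r, hr⟩
    · intro b hb
      exact QCAlgQCoh.exists_pow_mul_eq_zero B hU g b hb
    · intro e'
      obtain ⟨n, e, he⟩ := QCoh.exists_pow_smul_eq_res E hU g e'
      refine ⟨n, e, ?_⟩
      have h1 := congrArg (jmap B E j (X.basicOpen g)) he
      rw [jmap_res, jmap_smul, map_pow, QCAlgQCoh.str_res] at h1
      exact h1.symm
  · intro s hs
    exact A_le_Sub B E j s hs

end Groth.Agent.Helper13.QCAlgSub
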