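import Mathlib
import Groth.Prelude.Def_RelSpec
import Groth.Agent.Lib.Helper13.QCAlgSub4

set_option autoImplicit false
universe u
open CategoryTheory CategoryTheory.Limits AlgebraicGeometry Opposite TopologicalSpace
open Groth

namespace Groth.Agent.Helper13.QCAlgSub

open Groth.Agent.Helper13.QCAlgGen

variable {X : Scheme.{u}} (B : RelSpec.QCAlg X) (E : X.Modules) (j : E ⟶ B.toModule)
variable [E.IsQuasicoherent]

theorem sub_isQC : RelSpec.IsQC (subPresheaf B E j) (subStr B E j) := by
  intro U hU r
  letI := ((subPresheaf B E j).map (homOfLE (X.basicOpen_le r)).op).hom.toAlgebra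
  change IsLocalization (Submonoid.powers (((subStr B E j).app (op U)).hom r))
    ((subPresheaf B E j).obj (op (X.basicOpen r)))
  rw [isLocalization_iff]
  refine ⟨?_, ?_, ?_⟩
  · rintro ⟨_, n, rfl⟩
    have hu : IsUnit ((X.presheaf.map (homOfLE (X.basicOpen_le r)).op).hom r) :=
      RingedSpace.isUnit_res_basicOpen _ r
    have hu2 := hu.map ((subStr B E j).app (op (X.basicOpen r))).hom
    have hnat : ((subStr B E j).app (op (X.basicOpen r))).hom
        ((X.presheaf.map (homOfLE (X.basicOpen_le r)).op).hom r) =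
        ((subPresheaf B E j).map (homOfLE (X.basicOpen_le r)).op).hom
          (((subStr B E j).app (op U)).hom r) := by
      apply Subtype.ext
      exact QCAlgQCoh.str_res B _ r
    rw [hnat] at hu2
    have := hu2.pow n
    rw [← map_pow] at this
    exact this
  · intro z
    have hz : z.1 ∈ A B E j (X.basicOpen r) := by
      rw [← Sub_eq_A B E j (hU.basicOpen r)]
      exact z.2
    have hh1 : ∀ r' : Γ(X, X.basicOpen r), ∃ (n : ℕ) (r'' : Γ(X, U)),
        r' * (X.presheaf.map (homOfLE (X.basicOpen_le r)).op).hom r ^ n =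
          (X.presheaf.map (homOfLE (X.basicOpen_le r)).op).hom r'' := by
      intro r'
      haveI := hU.isLocalization_basicOpen r
      obtain ⟨n, r'', hr⟩ := IsLocalization.Away.surj r r'
      exact ⟨n, r'', hr⟩
    have hh3 : ∀ e' : Γ(E, X.basicOpen r), ∃ (n : ℕ) (e : Γ(E, U)),
        (B.presheaf.map (homOfLE (X.basicOpen_le r)).op).hom ((B.str.app (op U)).hom r) ^ n *
          jmap B E j (X.basicOpen r) e' =
        (B.presheaf.map (homOfLE (X.basicOpen_le r)).op).hom (jmap B E j U e) := by
      intro e'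
      obtain ⟨n, e, he⟩ := QCoh.exists_pow_smul_eq_res E hU r e'
      refine ⟨n, e, ?_⟩
      have h1 := congrArg (jmap B E j (X.basicOpen r)) he
      rw [jmap_res, jmap_smul, map_pow, QCAlgQCoh.str_res] at h1
      exact h1.symm
    obtain ⟨n, a, ha, hna⟩ := exists_pow_mul_eq_of_mem (B.str.app (op U)).hom
      (X.presheaf.map (homOfLE (X.basicOpen_le r)).op).hom
      (B.presheaf.map (homOfLE (X.basicOpen_le r)).op).hom (B.str.app (op (X.basicOpen r))).hom
      (fun r' => QCAlgQCoh.str_res B _ r') r hh1 (jmap B E j U) (jmap B E j (X.basicOpen r)) hh3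
      z.1 hz
    refine ⟨(⟨a, A_le_Sub B E j a ha⟩, ⟨_, n, rfl⟩), ?_⟩
    apply Subtype.ext
    change z.1 * (B.presheaf.map (homOfLE (X.basicOpen_le r)).op).hom
      ((B.str.app (op U)).hom r ^ n) = (B.presheaf.map (homOfLE (X.basicOpen_le r)).op).hom a
    rw [map_pow, mul_comm]
    exact hna
  · intro x y hxy
    have h1 : (B.presheaf.map (homOfLE (X.basicOpen_le r)).op).hom x.1 =
        (B.presheaf.map (homOfLE (X.basicOpen_le r)).op).hom y.1 := congrArg Subtype.val hxy
    have h2 : (B.presheaf.map (homOfLE (X.basicOpen_le r)).op).hom (x.1 - y.1) = 0 := by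
      rw [map_sub, h1, sub_self]
    obtain ⟨m, hm⟩ := QCAlgQCoh.exists_pow_mul_eq_zero B hU r _ h2
    refine ⟨⟨_, m, rfl⟩, ?_⟩
    apply Subtype.ext
    change (B.str.app (op U)).hom r ^ m * x.1 = (B.str.app (op U)).hom r ^ m * y.1
    rw [mul_sub, sub_eq_zero] at hm
    exact hm

/-- the sub-algebra of `B` generated by (the image of) `E` -/
noncomputable def subAlg : RelSpec.QCAlg X where
  presheaf := subPresheaf B E j
  isSheaf := subPresheaf_isSheaf B E j
  str := subStr B E j
  isQC := sub_isQC B E j

/-- the inclusion of the generated sub-algebra -/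
noncomputable def subAlgι : subAlg B E j ⟶ B := ⟨subι B E j, subStr_ι B E j⟩

lemma subAlgι_injective (V : X.Opens) :
    Function.Injective ((subAlgι B E j).hom.app (op V)).hom :=
  Subtype.val_injective

lemma mem_range_subAlgι {V : X.Opens} (s : B.presheaf.obj (op V)) (hs : s ∈ A B E j V) :
    s ∈ Set.range ((subAlgι B E j).hom.app (op V)).hom :=
  ⟨⟨s, A_le_Sub B E j s hs⟩, rfl⟩

theorem subAlg_finiteType [SheafOfModules.IsFiniteType (R := X.ringCatSheaf) E]
    (V : X.affineOpens) : ((subAlg B E j).str.app (op (V : X.Opens))).hom.FiniteType := by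
  haveI := FinType.finite_sections_of_isFiniteType E V.2
  obtain ⟨n, e, he⟩ := Module.Finite.exists_fin (R := Γ(X, V.1)) (M := Γ(E, V.1))
  have h1 : Sub B E j V.1 = Subring.closure (Set.range (B.str.app (op V.1)).hom ∪
      Set.range (fun i => jmap B E j V.1 (e i))) := by
    rw [Sub_eq_A B E j V.2]
    exact closure_eq_of_span (B.str.app (op V.1)).hom (jmap B E j V.1) (jmap_zero B E j V.1)
      (jmap_add B E j V.1) (jmap_smul B E j) e he
  exact finiteType_codRestrict_closure (B.str.app (op V.1)).hom _ (Sub B E j V.1) h1 _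

/-- a quasi-coherent finite type module mapping to `B` generates a finite type quasi-coherent
sub-algebra of `B` containing its image. -/
theorem main [SheafOfModules.IsFiniteType (R := X.ringCatSheaf) E] :
    ∃ (B' : RelSpec.QCAlg X) (φ : B' ⟶ B),
      (∀ V : X.Opens, Function.Injective (φ.hom.app (op V)).hom) ∧
      (∀ V : X.affineOpens, (B'.str.app (op (V : X.Opens))).hom.FiniteType) ∧
      ∀ (V : X.Opens) (e : Γ(E, V)), jmap B E j V e ∈ Set.range (φ.hom.app (op V)).hom :=
  ⟨subAlg B E j, subAlgι B E j, subAlgι_injective B E j, subAlg_finiteType B E j,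
    fun _ e => mem_range_subAlgι B E j _ (jmap_mem_A B E j e)⟩

end Groth.Agent.Helper13.QCAlgSub
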