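import Mathlib

/-!
# Abstract rank-one relations (helper13)

A group `𝔊` with "root subgroups" `u v : R → 𝔊`, a "torus" `𝔗 → 𝔊` acting through a character `al : 𝔗 → Rˣ`,
a "coroot" `hh : Rˣ → 𝔗` with `al (hh z) = z²`, and the big-cell formula (F).  We derive the usual
`SL₂`-type identities.
-/

namespace Groth.Agent.Helper13.RankOneAlg

variable {R : Type*} [CommRing R] {𝔊 𝔗 : Type*} [Group 𝔊] [Group 𝔗]

structure Rel (u v : R → 𝔊) (j : 𝔗 →* 𝔊) (al : 𝔗 →* Rˣ) (hh : Rˣ →* 𝔗) : Prop where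
  u_add : ∀ a b, u (a + b) = u a * u b
  v_add : ∀ a b, v (a + b) = v a * v b
  t_u : ∀ t a, j t * u a = u ((al t : R) * a) * j t
  t_v : ∀ t a, j t * v a = v (((al t)⁻¹ : Rˣ) * a) * j t
  al_hh : ∀ z, al (hh z) = z ^ 2
  F : ∀ (a b : R) (s : Rˣ), (s : R) = 1 + a * b →
    u a * v b = v ((s⁻¹ : Rˣ) * b) * j (hh s) * u ((s⁻¹ : Rˣ) * a)

namespace Rel

variable {u v : R → 𝔊} {j : 𝔗 →* 𝔊} {al : 𝔗 →* Rˣ} {hh : Rˣ →* 𝔗} (P : Rel u v j al hh)

include P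

theorem u_zero : u 0 = 1 := by
  have := P.u_add 0 0
  rw [add_zero] at this
  exact (by simpa using this)

theorem v_zero : v 0 = 1 := by
  have := P.v_add 0 0
  rw [add_zero] at this
  exact (by simpa using this)

theorem u_neg (a : R) : u (-a) = (u a)⁻¹ := by
  rw [eq_inv_iff_mul_eq_one, ← P.u_add, neg_add_cancel, P.u_zero]

theorem v_neg (a : R) : v (-a) = (v a)⁻¹ := by
  rw [eq_inv_iff_mul_eq_one, ← P.v_add, neg_add_cancel, P.v_zero]

theorem u_mul_u (a b : R) : u a * u b = u (a + b) := (P.u_add a b).symm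
theorem v_mul_v (a b : R) : v a * v b = v (a + b) := (P.v_add a b).symm

theorem u_mul_u_assoc (a b : R) (g : 𝔊) : u a * (u b * g) = u (a + b) * g := by
  rw [← mul_assoc, P.u_mul_u]
theorem v_mul_v_assoc (a b : R) (g : 𝔊) : v a * (v b * g) = v (a + b) * g := by
  rw [← mul_assoc, P.v_mul_v]

/-- the coroot point -/
def h (_ : Rel u v j al hh) (z : Rˣ) : 𝔊 := j (hh z)

theorem h_mul (z z' : Rˣ) : P.h (z * z') = P.h z * P.h z' := by
  simp only [h, map_mul]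
theorem h_one : P.h 1 = 1 := by simp only [h, map_one]
theorem h_inv (z : Rˣ) : P.h z⁻¹ = (P.h z)⁻¹ := by simp only [h, map_inv]

theorem h_u (z : Rˣ) (a : R) : P.h z * u a = u ((z : R) ^ 2 * a) * P.h z := by
  have := P.t_u (hh z) a
  rw [P.al_hh] at this
  simpa [h] using this

theorem h_v (z : Rˣ) (a : R) : P.h z * v a = v (((z⁻¹ : Rˣ) : R) ^ 2 * a) * P.h z := by
  have := P.t_v (hh z) a
  rw [P.al_hh] at this
  simpa [h] using this

theorem h_u_assoc (z : Rˣ) (a : R) (g : 𝔊) : P.h z * (u a * g) = u ((z : R) ^ 2 * a) * (P.h z * g) := by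
  rw [← mul_assoc, P.h_u, mul_assoc]
theorem h_v_assoc (z : Rˣ) (a : R) (g : 𝔊) :
    P.h z * (v a * g) = v (((z⁻¹ : Rˣ) : R) ^ 2 * a) * (P.h z * g) := by
  rw [← mul_assoc, P.h_v, mul_assoc]

theorem F' (a b : R) (s : Rˣ) (hs : (s : R) = 1 + a * b) :
    u a * v b = v ((s⁻¹ : Rˣ) * b) * P.h s * u ((s⁻¹ : Rˣ) * a) := P.F a b s hs

/-- reversed formula -/
theorem Frev (a b : R) (s : Rˣ) (hs : (s : R) = 1 + a * b) :
    v b * u a = u ((s⁻¹ : Rˣ) * a) * (P.h s)⁻¹ * v ((s⁻¹ : Rˣ) * b) := by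
  have h := P.F (-a) (-b) s (by rw [hs]; ring)
  have h' := congrArg (fun g => g⁻¹) h
  simp only [mul_inv_rev, mul_neg, P.u_neg, P.v_neg, inv_inv] at h'
  rw [h', mul_assoc]
  rfl

/-- the Weyl element attached to a unit -/
def w (_ : Rel u v j al hh) (x : Rˣ) : 𝔊 := u (x : R) * v (-((x⁻¹ : Rˣ) : R)) * u (x : R)

theorem w_inv (x : Rˣ) : (P.w x)⁻¹ = u (-(x : R)) * v ((x⁻¹ : Rˣ) : R) * u (-(x : R)) := by
  simp only [w, mul_inv_rev, P.u_neg, P.v_neg, inv_inv, mul_assoc]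

theorem w_neg (x : Rˣ) : P.w (-x) = (P.w x)⁻¹ := by
  rw [P.w_inv]
  simp only [w, Units.val_neg, inv_neg, neg_neg]


/-- `w (z x) = h z * w x` -/
theorem w_mul_left (z x : Rˣ) : P.w (z * x) = P.h z * P.w x := by
  have hX : (x : R) * ((x⁻¹ : Rˣ) : R) = 1 := Units.mul_inv x
  have hZ : (z : R) * ((z⁻¹ : Rˣ) : R) = 1 := Units.mul_inv z
  have hyi : (((z * x)⁻¹ : Rˣ) : R) = ((z⁻¹ : Rˣ) : R) * ((x⁻¹ : Rˣ) : R) := by
    rw [mul_inv, Units.val_mul]
  have hy : ((z * x : Rˣ) : R) = (z : R) * (x : R) := Units.val_mul z x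
  rw [← mul_inv_eq_iff_eq_mul, P.w_inv, w, hy, hyi]
  set X := (x : R) with hXdef
  set Xi := ((x⁻¹ : Rˣ) : R) with hXidef
  set Z := (z : R) with hZdef
  set Zi := ((z⁻¹ : Rˣ) : R) with hZidef
  -- (F) for u (ZX - X) * v Xi
  have hF := P.F' (Z * X - X) Xi z (by
    change Z = 1 + (Z * X - X) * Xi
    linear_combination (1 - Z) * hX)
  have e1 : u (Z * X) * v (-(Zi * Xi)) * u (Z * X) * (u (-X) * v Xi * u (-X)) =
      u (Z * X) * v (-(Zi * Xi)) * (u (Z * X - X) * v Xi) * u (-X) := by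
    rw [sub_eq_add_neg, P.u_add]
    simp only [mul_assoc]
  rw [e1, hF]
  have e2 : u (Z * X) * v (-(Zi * Xi)) * (v (Zi * Xi) * P.h z * u (Zi * (Z * X - X))) * u (-X) =
      u (Z * X) * (v (-(Zi * Xi)) * v (Zi * Xi)) * P.h z * (u (Zi * (Z * X - X)) * u (-X)) := by
    simp only [mul_assoc]
  rw [e2, P.v_mul_v, P.u_mul_u, neg_add_cancel, P.v_zero, mul_one, mul_assoc, P.h_u, ← mul_assoc, P.u_mul_u]
  have e3 : Z * X + Z ^ 2 * (Zi * (Z * X - X) + -X) = 0 := by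
    linear_combination (Z * X * Z - Z * X) * hZ
  rw [e3, P.u_zero, one_mul]

/-- `w (z x) = w x * (h z)⁻¹` -/
theorem w_mul_right (z x : Rˣ) : P.w (z * x) = P.w x * (P.h z)⁻¹ := by
  have hX : (x : R) * ((x⁻¹ : Rˣ) : R) = 1 := Units.mul_inv x
  have hZ : (z : R) * ((z⁻¹ : Rˣ) : R) = 1 := Units.mul_inv z
  have hyi : (((z * x)⁻¹ : Rˣ) : R) = ((z⁻¹ : Rˣ) : R) * ((x⁻¹ : Rˣ) : R) := by
    rw [mul_inv, Units.val_mul]
  have hy : ((z * x : Rˣ) : R) = (z : R) * (x : R) := Units.val_mul z x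
  rw [← inv_mul_eq_iff_eq_mul, P.w_inv, w, hy, hyi, ← P.h_inv]
  set X := (x : R) with hXdef
  set Xi := ((x⁻¹ : Rˣ) : R) with hXidef
  set Z := (z : R) with hZdef
  set Zi := ((z⁻¹ : Rˣ) : R) with hZidef
  have hzi : ((z⁻¹ : Rˣ) : R) = Zi := rfl
  have hzii : (((z⁻¹)⁻¹ : Rˣ) : R) = Z := by rw [inv_inv]
  -- (F) for u (ZX - X) * v (-(Zi Xi)) with s = z⁻¹
  have hF := P.F' (Z * X - X) (-(Zi * Xi)) z⁻¹ (by
    rw [hzi]
    linear_combination (Z * Zi - Zi) * hX + hZ)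
  rw [hzii] at hF
  have e1 : u (-X) * v Xi * u (-X) * (u (Z * X) * v (-(Zi * Xi)) * u (Z * X)) =
      u (-X) * v Xi * (u (Z * X - X) * v (-(Zi * Xi))) * u (Z * X) := by
    rw [sub_eq_add_neg, add_comm (Z * X) (-X), P.u_add]
    simp only [mul_assoc]
  rw [e1, hF]
  have e2 : u (-X) * v Xi * (v (Z * -(Zi * Xi)) * P.h z⁻¹ * u (Z * (Z * X - X))) * u (Z * X) =
      u (-X) * (v Xi * v (Z * -(Zi * Xi))) * P.h z⁻¹ * (u (Z * (Z * X - X)) * u (Z * X)) := by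
    simp only [mul_assoc]
  have e3 : Xi + Z * -(Zi * Xi) = 0 := by linear_combination (-Xi) * hZ
  rw [e2, P.v_mul_v, P.u_mul_u, e3, P.v_zero, mul_one, mul_assoc, P.h_u, ← mul_assoc, P.u_mul_u, hzi]
  have e4 : -X + Zi ^ 2 * (Z * (Z * X - X) + Z * X) = 0 := by
    linear_combination (Zi * Z * X + X) * hZ
  rw [e4, P.u_zero, one_mul]

theorem u_t (a : R) (t : 𝔗) : u a * j t = j t * u ((((al t)⁻¹ : Rˣ) : R) * a) := by
  rw [P.t_u, ← mul_assoc, Units.mul_inv, one_mul]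

theorem v_t (a : R) (t : 𝔗) : v a * j t = j t * v ((al t : R) * a) := by
  rw [P.t_v, ← mul_assoc, Units.inv_mul, one_mul]

/-- product of two elements of the big cell -/
theorem bigcell_mul (y x y' x' : R) (t t' : 𝔗) (s : Rˣ) (hs : (s : R) = 1 + x * y') :
    (v y * j t * u x) * (v y' * j t' * u x') =
      v (y + (((al t)⁻¹ : Rˣ) : R) * (((s⁻¹ : Rˣ) : R) * y')) * j (t * hh s * t') *
        u ((((al t')⁻¹ : Rˣ) : R) * (((s⁻¹ : Rˣ) : R) * x) + x') := by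
  have hF := P.F x y' s hs
  have e1 : (v y * j t * u x) * (v y' * j t' * u x') = v y * j t * (u x * v y') * j t' * u x' := by
    simp only [mul_assoc]
  rw [e1, hF]
  have e2 : v y * j t * (v (((s⁻¹ : Rˣ) : R) * y') * j (hh s) * u (((s⁻¹ : Rˣ) : R) * x)) * j t' * u x' =
      v y * (j t * v (((s⁻¹ : Rˣ) : R) * y')) * j (hh s) * (u (((s⁻¹ : Rˣ) : R) * x) * j t') * u x' := by
    simp only [mul_assoc]
  rw [e2, P.t_v, P.u_t]
  have e3 : v y * (v ((((al t)⁻¹ : Rˣ) : R) * (((s⁻¹ : Rˣ) : R) * y')) * j t) * j (hh s) *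
      (j t' * u ((((al t')⁻¹ : Rˣ) : R) * (((s⁻¹ : Rˣ) : R) * x))) * u x' =
      (v y * v ((((al t)⁻¹ : Rˣ) : R) * (((s⁻¹ : Rˣ) : R) * y'))) * (j t * j (hh s) * j t') *
      (u ((((al t')⁻¹ : Rˣ) : R) * (((s⁻¹ : Rˣ) : R) * x)) * u x') := by
    simp only [mul_assoc]
  rw [e3, P.v_mul_v, P.u_mul_u, map_mul, map_mul]

/-- conjugation of a torus element by the Weyl element -/
theorem w_conj_t (x : Rˣ) (t : 𝔗) : P.w x * j t * (P.w x)⁻¹ = (P.h (al t))⁻¹ * j t := by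
  have hX : (x : R) * ((x⁻¹ : Rˣ) : R) = 1 := Units.mul_inv x
  have key : j t * (P.w x)⁻¹ = (P.w (al t * x))⁻¹ * j t := by
    rw [P.w_inv, P.w_inv]
    have hyi : (((al t * x)⁻¹ : Rˣ) : R) = (((al t)⁻¹ : Rˣ) : R) * ((x⁻¹ : Rˣ) : R) := by
      rw [mul_inv, Units.val_mul]
    rw [hyi, Units.val_mul]
    have e : j t * (u (-(x : R)) * v ((x⁻¹ : Rˣ) : R) * u (-(x : R))) =
        (j t * u (-(x : R))) * v ((x⁻¹ : Rˣ) : R) * u (-(x : R)) := by simp only [mul_assoc]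
    rw [e, P.t_u, mul_assoc (u _), P.t_v, mul_assoc (u _), mul_assoc (v _), P.t_u]
    simp only [mul_assoc, mul_neg]
  rw [mul_assoc, key, P.w_mul_left, mul_inv_rev, ← mul_assoc, ← mul_assoc, mul_inv_cancel, one_mul]

theorem w_sq (x : Rˣ) : P.w x * P.w x = P.h (-1) := by
  have h1 := P.w_neg x
  have h2 := P.w_mul_left (-1) x
  rw [neg_one_mul] at h2
  rw [h2] at h1
  -- h (-1) * w x = (w x)⁻¹
  have h3 : P.h (-1) * (P.w x * P.w x) = 1 := by
    rw [← mul_assoc, h1, inv_mul_cancel]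
  have h4 : P.h (-1) * P.h (-1) = 1 := by
    rw [← P.h_mul]; simp [P.h_one]
  calc P.w x * P.w x = (P.h (-1) * P.h (-1)) * (P.w x * P.w x) := by rw [h4, one_mul]
    _ = P.h (-1) * (P.h (-1) * (P.w x * P.w x)) := by rw [mul_assoc]
    _ = P.h (-1) := by rw [h3, mul_one]

theorem w_mul_w (x y m : Rˣ) (hm : m * y = -x) : P.w x * P.w y = P.h m := by
  have hx : x = (-m) * y := by rw [neg_mul, hm, neg_neg]
  rw [hx, P.w_mul_left, mul_assoc, P.w_sq, ← P.h_mul]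
  simp

/-- `v c * w x = w x * u (-c x²)` when `1 + x c` is a unit -/
theorem v_mul_w (c : R) (x s : Rˣ) (hs : (s : R) = 1 + (x : R) * c) :
    v c * P.w x = P.w x * u (-(c * (x : R) ^ 2)) := by
  have hX : (x : R) * ((x⁻¹ : Rˣ) : R) = 1 := Units.mul_inv x
  have hS : (s : R) * ((s⁻¹ : Rˣ) : R) = 1 := Units.mul_inv s
  have hw : P.w x = P.w (s⁻¹ * x) * (P.h s)⁻¹ := by
    have := P.w_mul_right s⁻¹ x
    rw [this, P.h_inv, inv_inv, mul_assoc, mul_inv_cancel, mul_one]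
  have hyi : (((s⁻¹ * x)⁻¹ : Rˣ) : R) = (s : R) * ((x⁻¹ : Rˣ) : R) := by
    rw [mul_inv, inv_inv, Units.val_mul]
  have hy : ((s⁻¹ * x : Rˣ) : R) = ((s⁻¹ : Rˣ) : R) * (x : R) := Units.val_mul _ _
  set X := (x : R) with hXdef
  set Xi := ((x⁻¹ : Rˣ) : R) with hXidef
  set Sv := (s : R) with hSdef
  set Si := ((s⁻¹ : Rˣ) : R) with hSidef
  have hFr := P.Frev X c s hs
  have hssi : (((s⁻¹)⁻¹ : Rˣ) : R) = Sv := by rw [inv_inv]
  -- left side
  have e1 : v c * P.w x = u (Si * X) * (P.h s)⁻¹ * v (Si * c) * v (-Xi) * u X := by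
    rw [w, ← mul_assoc, ← mul_assoc, hFr]
  rw [e1]
  have e2 : Si * c + -Xi = -(Si * Xi) := by
    linear_combination (-Si * Xi) * hs + (-Si * c) * hX + Xi * hS
  rw [mul_assoc (u (Si * X) * (P.h s)⁻¹), P.v_mul_v, e2, ← P.h_inv]
  -- push h s⁻¹ to the right
  have e3 : u (Si * X) * P.h s⁻¹ * v (-(Si * Xi)) * u X =
      u (Si * X) * (P.h s⁻¹ * (v (-(Si * Xi)) * u X)) := by simp only [mul_assoc]
  rw [e3, P.h_v_assoc, P.h_u, hssi]
  -- now u (Si X) * (v (Sv^2 * -(Si Xi)) * (u (Si^2 X) * h s⁻¹))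
  have e4 : Sv ^ 2 * -(Si * Xi) = -(Sv * Xi) := by
    linear_combination (-Sv * Xi) * hS
  rw [e4]
  -- right side
  rw [hw, w, hy, hyi]
  have e5 : u (Si * X) * v (-(Sv * Xi)) * u (Si * X) * (P.h s)⁻¹ * u (-(c * X ^ 2)) =
      u (Si * X) * (v (-(Sv * Xi)) * (u (Si * X) * (P.h s⁻¹ * u (-(c * X ^ 2))))) := by
    rw [P.h_inv]; simp only [mul_assoc]
  rw [e5, P.h_u, ← mul_assoc (u (Si * X)) (u _), P.u_mul_u]
  have e6 : Si * X + Si ^ 2 * -(c * X ^ 2) = Si ^ 2 * X := by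
    linear_combination (Si ^ 2 * X) * hs - (Si * X) * hS
  rw [e6]

/-- conjugating `u x` by `w x`, given two units adding up to one -/
theorem w_mul_u_self (x s s' : Rˣ) (hss : (s : R) + (s' : R) = 1) :
    P.w x * u (x : R) = v (-((x⁻¹ : Rˣ) : R)) * P.w x := by
  have hX : (x : R) * ((x⁻¹ : Rˣ) : R) = 1 := Units.mul_inv x
  set X := (x : R) with hXdef
  set Xi := ((x⁻¹ : Rˣ) : R) with hXidef
  have h1 := P.v_mul_w (-(s * Xi)) x s' (by
    linear_combination hss + (s : R) * hX)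
  have h2 := P.v_mul_w (-(s' * Xi)) x s (by
    linear_combination hss + (s' : R) * hX)
  have e1 : -(-(↑s * Xi) * X ^ 2) = (s : R) * X := by
    linear_combination ((s : R) * X) * hX
  have e2 : -(-(↑s' * Xi) * X ^ 2) = (s' : R) * X := by
    linear_combination ((s' : R) * X) * hX
  rw [e1] at h1
  rw [e2] at h2
  have e3 : X = (s : R) * X + (s' : R) * X := by linear_combination (-X) * hss
  have e4 : -Xi = -(↑s * Xi) + -(↑s' * Xi) := by linear_combination (Xi) * hss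
  calc P.w x * u X = P.w x * (u ((s : R) * X) * u ((s' : R) * X)) := by rw [P.u_mul_u, ← e3]
    _ = (P.w x * u ((s : R) * X)) * u ((s' : R) * X) := by rw [mul_assoc]
    _ = v (-(↑s * Xi)) * (P.w x * u ((s' : R) * X)) := by rw [← h1, mul_assoc]
    _ = v (-(↑s * Xi)) * (v (-(↑s' * Xi)) * P.w x) := by rw [← h2]
    _ = v (-Xi) * P.w x := by rw [← mul_assoc, P.v_mul_v, ← e4]

/-- the braid relation `u x v(-1/x) u x = v(-1/x) u x v(-1/x)` -/
theorem w_eq_vuv (x s s' : Rˣ) (hss : (s : R) + (s' : R) = 1) :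
    P.w x = v (-((x⁻¹ : Rˣ) : R)) * u (x : R) * v (-((x⁻¹ : Rˣ) : R)) := by
  have h := P.w_mul_u_self x s s' hss
  have : P.w x * u (x : R) = (v (-((x⁻¹ : Rˣ) : R)) * u (x : R) * v (-((x⁻¹ : Rˣ) : R))) * u (x : R) := by
    rw [h, w]; simp only [mul_assoc]
  exact mul_right_cancel this

theorem h_neg_one_u (a : R) : P.h (-1) * u a = u a * P.h (-1) := by
  rw [P.h_u]; simp

theorem h_neg_one_v (a : R) : P.h (-1) * v a = v a * P.h (-1) := by
  rw [P.h_v]; simp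

theorem h_neg_one_sq : P.h (-1) * P.h (-1) = 1 := by
  rw [← P.h_mul]; simp [P.h_one]

/-- `(w x * u x)³ = 1`, given two units adding up to one -/
theorem wu_cube (x s s' : Rˣ) (hss : (s : R) + (s' : R) = 1) : (P.w x * u (x : R)) ^ 3 = 1 := by
  have h1 := P.w_mul_u_self x s s' hss
  have hb := P.w_eq_vuv x s s' hss
  have hsq := P.w_sq x
  set a := u (x : R) with ha
  set b := v (-((x⁻¹ : Rˣ) : R)) with hbdef
  set c := P.h (-1) with hc
  have hcb : c * b = b * c := P.h_neg_one_v _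
  have e0 : (P.w x * a) ^ 3 = (P.w x * a) * (P.w x * a) * (P.w x * a) := by rw [pow_succ, pow_two]
  have e1 : (P.w x * a) * (P.w x * a) * (P.w x * a) = (b * P.w x) * (P.w x * a) * (b * P.w x) := by
    rw [h1]
  have e2 : (b * P.w x) * (P.w x * a) * (b * P.w x) = b * (P.w x * P.w x) * a * b * P.w x := by
    simp only [mul_assoc]
  have e3 : b * c * a * b * P.w x = c * (b * a * b) * P.w x := by
    rw [← hcb]; simp only [mul_assoc]
  rw [e0, e1, e2, hsq, e3, ← hb, mul_assoc, hsq]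
  exact P.h_neg_one_sq

end Rel

end Groth.Agent.Helper13.RankOneAlg
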