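import Groth.Prelude.Def_GmPts

/-!
# A faithfully flat cover carrying two units with sum one (helper13)

For every `X : Over S` there is `p : X' ⟶ X` in `Over S`, an epimorphism, such that `Γ(X')` contains
units `s, s'` with `s + s' = 1` (base change to `ℤ[ω]/(ω² - ω + 1)`).
-/

universe u

open CategoryTheory CategoryTheory.Limits AlgebraicGeometry Opposite Polynomial

noncomputable section

namespace Groth.Agent.Helper13.UnitExt

attribute [-instance] ULift.module

/-- the polynomial `X² - X + 1` -/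
def fpoly : (ULift.{u} ℤ)[X] := X ^ 2 - (X - 1)

theorem fpoly_monic : (fpoly.{u}).Monic := by
  unfold fpoly
  apply Polynomial.monic_X_pow_sub
  have h : (X - 1 : (ULift.{u} ℤ)[X]).degree = 1 := by
    have := Polynomial.degree_X_sub_C (1 : ULift.{u} ℤ)
    simpa using this
  rw [h]
  norm_num

theorem fpoly_ne_one : fpoly.{u} ≠ 1 := by
  intro h
  have := congrArg (fun q => Polynomial.coeff q 2) h
  simp [fpoly, Polynomial.coeff_X, Polynomial.coeff_one] at this

/-- the ring `ℤ[ω]/(ω² - ω + 1)` -/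
abbrev B : Type u := AdjoinRoot fpoly.{u}

instance : Module.Free (ULift.{u} ℤ) B.{u} := fpoly_monic.free_adjoinRoot

instance : Nontrivial B.{u} := by
  apply Ideal.Quotient.nontrivial_iff.mpr
  rw [Ne, Ideal.span_singleton_eq_top, fpoly_monic.isUnit_iff]
  exact fpoly_ne_one

/-- `ω` -/
def om : B.{u} := AdjoinRoot.root fpoly

theorem om_rel : om.{u} * (1 - om) = 1 := by
  have h : Polynomial.aeval om.{u} fpoly.{u} = 0 := AdjoinRoot.aeval_eq fpoly ▸ AdjoinRoot.mk_self
  simp only [fpoly, map_sub, map_pow, aeval_X, map_one] at h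
  linear_combination (-1 : B.{u}) * h

/-- `ω` as a unit -/
def omU : (B.{u})ˣ := ⟨om, 1 - om, om_rel, by rw [mul_comm]; exact om_rel⟩

/-- `1 - ω` as a unit -/
def omU' : (B.{u})ˣ := ⟨1 - om, om, by rw [mul_comm]; exact om_rel, om_rel⟩

theorem omU_add : ((omU.{u} : (B.{u})ˣ) : B.{u}) + ((omU'.{u} : (B.{u})ˣ) : B.{u}) = 1 := by
  change om + (1 - om) = 1
  ring

/-- `Spec ℤ[ω] ⟶ Spec ℤ` -/
def bMap : Spec (CommRingCat.of B.{u}) ⟶ GmPts.baseZ.{u} :=
  Spec.map (CommRingCat.ofHom (algebraMap (ULift.{u} ℤ) B.{u}))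

theorem bMap_flat_surj : Flat bMap.{u} ∧ Surjective bMap.{u} := by
  unfold bMap
  rw [flat_and_surjective_SpecMap_iff]
  change (algebraMap (ULift.{u} ℤ) B.{u}).FaithfullyFlat
  rw [RingHom.faithfullyFlat_algebraMap_iff]
  infer_instance

instance : Flat bMap.{u} := bMap_flat_surj.1
instance : Surjective bMap.{u} := bMap_flat_surj.2

variable {S : Scheme.{u}} (X : Over S)

/-- the cover `X × Spec ℤ[ω]` of `X` -/
def cover : Over S := Over.mk (pullback.fst (GmPts.toBaseZ X.left) bMap ≫ X.hom)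

/-- the projection -/
def coverMap : cover X ⟶ X := Over.homMk (pullback.fst (GmPts.toBaseZ X.left) bMap) rfl

instance : Epi (coverMap X) := by
  have : Epi (coverMap X).left := by
    change Epi (pullback.fst (GmPts.toBaseZ X.left) bMap)
    exact Flat.epi_of_flat_of_surjective _
  exact Over.epi_of_epi_left _

/-- the ring map `ℤ[ω] → Γ(X')` -/
def coverRingHom : B.{u} →+* Γ((cover X).left, ⊤) :=
  ((Scheme.ΓSpecIso (CommRingCat.of B.{u})).inv ≫ (pullback.snd (GmPts.toBaseZ X.left) bMap).appTop).hom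

/-- the unit `ω` on the cover -/
def s₁ : (Γ((cover X).left, ⊤))ˣ := Units.map (coverRingHom X : B.{u} →* Γ((cover X).left, ⊤)) omU

/-- the unit `1 - ω` on the cover -/
def s₂ : (Γ((cover X).left, ⊤))ˣ := Units.map (coverRingHom X : B.{u} →* Γ((cover X).left, ⊤)) omU'

theorem s_add : ((s₁ X : (Γ((cover X).left, ⊤))ˣ) : Γ((cover X).left, ⊤)) + (s₂ X : Γ((cover X).left, ⊤)) = 1 := by
  change coverRingHom X omU + coverRingHom X omU' = 1
  rw [← map_add, omU_add, map_one]

/-- cancellation along the cover -/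
theorem cancel {G : Over S} {g g' : X ⟶ G} (h : coverMap X ≫ g = coverMap X ≫ g') : g = g' :=
  (cancel_epi (coverMap X)).mp h

end Groth.Agent.Helper13.UnitExt
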