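import Groth.Agent.Lib.Helper13.GaPts
import Groth.Agent.Lib.Helper13.RankOneAlg
import Groth.Agent.Lib.Helper13.UnitExt

/-!
# Formal computations with a rank-one system of root groups (helper13)

`U a = x_+(a)`, `V b = x_-(b)`, `H z = α^∨(z)` as `X`-points of `G`, and the relations that follow from
torus conjugation and the big-cell formula (F).
-/

universe u

open CategoryTheory CategoryTheory.Limits MonoidalCategory CartesianMonoidalCategory AlgebraicGeometry Opposite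
open scoped MonObj

noncomputable section

set_option linter.unusedSectionVars false

namespace Groth.Agent.Helper13.RankOne

open Groth.Agent.Helper13

variable {S : Scheme.{u}} {G T : Over S} [GrpObj G] [GrpObj T]

section Basic

variable (pp : Red.Ga S ⟶ G) [IsMonHom pp] {X : Over S}

/-- the point `x_+(a)` -/
def U (a : Γ(X.left, ⊤)) : X ⟶ G := GaPts.ptOfElt a ≫ pp

theorem U_add (a b : Γ(X.left, ⊤)) : U pp (a + b) = U pp a * U pp b := by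
  rw [U, GaPts.ptOfElt_add, GaPts.comp_mul]; rfl

theorem U_zero : U pp (0 : Γ(X.left, ⊤)) = 1 := by
  rw [U, GaPts.ptOfElt_zero, GaPts.comp_one]

theorem U_neg (a : Γ(X.left, ⊤)) : U pp (-a) = (U pp a)⁻¹ := by
  rw [U, GaPts.ptOfElt_neg, GaPts.comp_inv]; rfl

theorem U_gaFn (x : X ⟶ Red.Ga S) : U pp (Red.gaFn x) = x ≫ pp := by
  rw [U, GaPts.ptOfElt_gaFn]

theorem U_eq_of_gaFn {x : X ⟶ Red.Ga S} {a : Γ(X.left, ⊤)} (h : Red.gaFn x = a) : x ≫ pp = U pp a := by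
  rw [← h, U_gaFn]

theorem U_mul_U_neg (a : Γ(X.left, ⊤)) : U pp a * U pp (-a) = 1 := by
  rw [U_neg, mul_inv_cancel]

theorem U_sub (a b : Γ(X.left, ⊤)) : U pp (a - b) = U pp a * (U pp b)⁻¹ := by
  rw [sub_eq_add_neg, U_add, U_neg]

end Basic

section Torus

variable (i : T ⟶ G) [IsMonHom i] (av : Red.Gm S ⟶ T) [IsMonHom av] {X : Over S}

/-- the point `α^∨(z)` -/
def H (z : (Γ(X.left, ⊤))ˣ) : X ⟶ G := GmPts.ptOfUnit z ≫ av ≫ i

theorem H_mul (z z' : (Γ(X.left, ⊤))ˣ) : H i av (z * z') = H i av z * H i av z' := by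
  rw [H, GmPts.ptOfUnit_mul, MonObj.mul_comp]; rfl

theorem H_one : H i av (1 : (Γ(X.left, ⊤))ˣ) = 1 := by
  rw [H, GmPts.ptOfUnit_one, MonObj.one_comp]

theorem H_inv (z : (Γ(X.left, ⊤))ˣ) : H i av z⁻¹ = (H i av z)⁻¹ := by
  rw [H, GmPts.ptOfUnit_inv, GrpObj.inv_comp]; rfl

theorem H_unitOfPt (z : X ⟶ Red.Gm S) : H i av (GmPts.unitOfPt z) = z ≫ av ≫ i := by
  rw [H, GmPts.ptOfUnit_unitOfPt]

theorem H_eq_of_gmFn {z : X ⟶ Red.Gm S} {s : (Γ(X.left, ⊤))ˣ} (h : Red.gmFn z = s) : z ≫ av ≫ i = H i av s := by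
  rw [← H_unitOfPt]
  congr 1
  exact Units.ext h

end Torus

section Relations

variable (i : T ⟶ G) [IsMonHom i] (α : T ⟶ Red.Gm S) [IsMonHom α]
  (pp pm : Red.Ga S ⟶ G) [IsMonHom pp] [IsMonHom pm]
  (hpp : ∀ (X : Over S) (t : X ⟶ T) (x : X ⟶ Red.Ga S), ∃ x' : X ⟶ Red.Ga S,
      x' ≫ pp = (t ≫ i) * (x ≫ pp) * (t ≫ i)⁻¹ ∧ Red.gaFn x' = Red.gmFn (t ≫ α) * Red.gaFn x)
  (hpm : ∀ (X : Over S) (t : X ⟶ T) (y : X ⟶ Red.Ga S), ∃ y' : X ⟶ Red.Ga S,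
      y' ≫ pm = (t ≫ i) * (y ≫ pm) * (t ≫ i)⁻¹ ∧ Red.gaFn y' * Red.gmFn (t ≫ α) = Red.gaFn y)
  (av : Red.Gm S ⟶ T) [IsMonHom av] (h2 : av ≫ α = (𝟙 (Red.Gm S)) ^ 2)
  (hF : ∀ (X : Over S) (x y : X ⟶ Red.Ga S), IsUnit (1 + Red.gaFn x * Red.gaFn y) →
      ∃ (x' y' : X ⟶ Red.Ga S) (z : X ⟶ Red.Gm S), Red.gmFn z = 1 + Red.gaFn x * Red.gaFn y ∧
        Red.gaFn x' * Red.gmFn z = Red.gaFn x ∧ Red.gaFn y' * Red.gmFn z = Red.gaFn y ∧
        (x ≫ pp) * (y ≫ pm) = (y' ≫ pm) * (z ≫ av ≫ i) * (x' ≫ pp))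
  {X : Over S}

/-- the value of the root on a torus point, as a unit -/
abbrev al (t : X ⟶ T) : (Γ(X.left, ⊤))ˣ := GmPts.unitOfPt (t ≫ α)

include hpp in
theorem conj_U (t : X ⟶ T) (a : Γ(X.left, ⊤)) :
    (t ≫ i) * U pp a * (t ≫ i)⁻¹ = U pp ((al α t : Γ(X.left, ⊤)) * a) := by
  obtain ⟨x', h1, h2⟩ := hpp X t (GaPts.ptOfElt a)
  rw [GaPts.gaFn_ptOfElt] at h2
  rw [U, ← h1]
  exact U_eq_of_gaFn pp h2

include hpm in
theorem conj_V (t : X ⟶ T) (a : Γ(X.left, ⊤)) :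
    (t ≫ i) * U pm a * (t ≫ i)⁻¹ = U pm ((((al α t)⁻¹ : (Γ(X.left, ⊤))ˣ) : Γ(X.left, ⊤)) * a) := by
  obtain ⟨y', h1, h2⟩ := hpm X t (GaPts.ptOfElt a)
  rw [GaPts.gaFn_ptOfElt] at h2
  rw [U, ← h1]
  apply U_eq_of_gaFn pm
  rw [← h2]
  change Red.gaFn y' = (((al α t)⁻¹ : (Γ(X.left, ⊤))ˣ) : Γ(X.left, ⊤)) * (Red.gaFn y' * (al α t : Γ(X.left, ⊤)))
  rw [mul_comm (Red.gaFn y'), ← mul_assoc, Units.inv_mul, one_mul]

include hpp in
theorem mul_U (t : X ⟶ T) (a : Γ(X.left, ⊤)) :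
    (t ≫ i) * U pp a = U pp ((al α t : Γ(X.left, ⊤)) * a) * (t ≫ i) := by
  rw [← conj_U i α pp hpp t a, inv_mul_cancel_right]

include hpm in
theorem mul_V (t : X ⟶ T) (a : Γ(X.left, ⊤)) :
    (t ≫ i) * U pm a = U pm ((((al α t)⁻¹ : (Γ(X.left, ⊤))ˣ) : Γ(X.left, ⊤)) * a) * (t ≫ i) := by
  rw [← conj_V i α pm hpm t a, inv_mul_cancel_right]

include h2 in
theorem al_H (z : (Γ(X.left, ⊤))ˣ) : al α (GmPts.ptOfUnit z ≫ av) = z ^ 2 := by
  apply Units.ext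
  change Red.gmFn ((GmPts.ptOfUnit z ≫ av) ≫ α) = _
  rw [Category.assoc, h2, MonObj.comp_pow, Category.comp_id]
  have : Red.gmFn ((GmPts.ptOfUnit z : X ⟶ Red.Gm S) ^ 2) = ((GmPts.unitOfPt ((GmPts.ptOfUnit z : X ⟶ Red.Gm S) ^ 2) : (Γ(X.left, ⊤))ˣ) : Γ(X.left, ⊤)) := rfl
  rw [this, ← GmPts.equiv_apply, map_pow, GmPts.equiv_apply, GmPts.unitOfPt_ptOfUnit]

include hpp h2 in
theorem H_mul_U (z : (Γ(X.left, ⊤))ˣ) (a : Γ(X.left, ⊤)) :
    H i av z * U pp a = U pp ((z : Γ(X.left, ⊤)) ^ 2 * a) * H i av z := by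
  have := mul_U i α pp hpp (GmPts.ptOfUnit z ≫ av) a
  rw [al_H α av h2 z] at this
  rw [H, ← Category.assoc, this]
  rfl

include hpm h2 in
theorem H_mul_V (z : (Γ(X.left, ⊤))ˣ) (a : Γ(X.left, ⊤)) :
    H i av z * U pm a = U pm (((z⁻¹ : (Γ(X.left, ⊤))ˣ) : Γ(X.left, ⊤)) ^ 2 * a) * H i av z := by
  have := mul_V i α pm hpm (GmPts.ptOfUnit z ≫ av) a
  rw [al_H α av h2 z] at this
  rw [H, ← Category.assoc, this]
  have e : (((z ^ 2)⁻¹ : (Γ(X.left, ⊤))ˣ) : Γ(X.left, ⊤)) = ((z⁻¹ : (Γ(X.left, ⊤))ˣ) : Γ(X.left, ⊤)) ^ 2 := by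
    rw [← inv_pow, Units.val_pow_eq_pow_val]
  rw [e]

include hF in
/-- the big cell formula (F) -/
theorem F_formula (a b : Γ(X.left, ⊤)) (s : (Γ(X.left, ⊤))ˣ) (hs : (s : Γ(X.left, ⊤)) = 1 + a * b) :
    U pp a * U pm b =
      U pm (((s⁻¹ : (Γ(X.left, ⊤))ˣ) : Γ(X.left, ⊤)) * b) * H i av s *
        U pp (((s⁻¹ : (Γ(X.left, ⊤))ˣ) : Γ(X.left, ⊤)) * a) := by
  obtain ⟨x', y', z, hz, hx', hy', heq⟩ := hF X (GaPts.ptOfElt a) (GaPts.ptOfElt b) (by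
    rw [GaPts.gaFn_ptOfElt, GaPts.gaFn_ptOfElt, ← hs]; exact s.isUnit)
  rw [GaPts.gaFn_ptOfElt, GaPts.gaFn_ptOfElt] at hz
  rw [GaPts.gaFn_ptOfElt] at hx' hy'
  have hz' : Red.gmFn z = s := by rw [hz, hs]
  rw [hz'] at hx' hy'
  have e1 : Red.gaFn x' = ((s⁻¹ : (Γ(X.left, ⊤))ˣ) : Γ(X.left, ⊤)) * a := by
    rw [← hx', mul_comm (Red.gaFn x'), ← _root_.mul_assoc, Units.inv_mul, _root_.one_mul]
  have e2 : Red.gaFn y' = ((s⁻¹ : (Γ(X.left, ⊤))ˣ) : Γ(X.left, ⊤)) * b := by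
    rw [← hy', mul_comm (Red.gaFn y'), ← _root_.mul_assoc, Units.inv_mul, _root_.one_mul]
  rw [U, U, heq, U_eq_of_gaFn pp e1, U_eq_of_gaFn pm e2, H_eq_of_gmFn i av hz']

include hF in
/-- the reversed big cell formula -/
theorem F_formula' (a b : Γ(X.left, ⊤)) (s : (Γ(X.left, ⊤))ˣ) (hs : (s : Γ(X.left, ⊤)) = 1 + a * b) :
    U pm b * U pp a =
      U pp (((s⁻¹ : (Γ(X.left, ⊤))ˣ) : Γ(X.left, ⊤)) * a) * (H i av s)⁻¹ *
        U pm (((s⁻¹ : (Γ(X.left, ⊤))ˣ) : Γ(X.left, ⊤)) * b) := by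
  have h := F_formula i pp pm av hF (-a) (-b) s (by rw [hs]; ring)
  have h' := congrArg (fun g => g⁻¹) h
  simp only [mul_inv_rev, mul_neg, U_neg, inv_inv] at h'
  rw [h', _root_.mul_assoc]

/-- the torus points as a monoid hom into `G(X)` -/
def jHom (X : Over S) : (X ⟶ T) →* (X ⟶ G) := IsMonHom.monoidHom i X

/-- the root as a monoid hom `T(X) → Γ(X)ˣ` -/
def alHom (X : Over S) : (X ⟶ T) →* (Γ(X.left, ⊤))ˣ :=
  (GmPts.equiv X).toMonoidHom.comp (IsMonHom.monoidHom α X)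

/-- the coroot as a monoid hom `Γ(X)ˣ → T(X)` -/
def hhHom (X : Over S) : (Γ(X.left, ⊤))ˣ →* (X ⟶ T) :=
  (IsMonHom.monoidHom av X).comp (GmPts.equiv X).symm.toMonoidHom

include hpp hpm h2 hF in
/-- the abstract rank-one relations hold in `G(X)` -/
theorem rel (X : Over S) :
    RankOneAlg.Rel (U pp (X := X)) (U pm (X := X)) (jHom i X) (alHom α X) (hhHom av X) where
  u_add := U_add pp
  v_add := U_add pm
  t_u t a := mul_U i α pp hpp t a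
  t_v t a := mul_V i α pm hpm t a
  al_hh z := al_H α av h2 z
  F a b s hs := by
    have := F_formula i pp pm av hF a b s hs
    rw [this]
    rfl

theorem rel_h_eq (X : Over S) (P : RankOneAlg.Rel (U pp (X := X)) (U pm (X := X)) (jHom i X) (alHom α X) (hhHom av X))
    (z : (Γ(X.left, ⊤))ˣ) : P.h z = H i av z := by
  change (GmPts.ptOfUnit z ≫ av) ≫ i = GmPts.ptOfUnit z ≫ av ≫ i
  rw [Category.assoc]

/-- the unit with value `a` given `b * a = -1` -/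
def unitOfNeg {R : Type*} [CommRing R] (a b : R) (h : b * a = -1) : Rˣ where
  val := a
  inv := -b
  val_inv := by linear_combination (-1 : R) * h
  inv_val := by linear_combination (-1 : R) * h

theorem unitOfNeg_val {R : Type*} [CommRing R] (a b : R) (h : b * a = -1) : ((unitOfNeg a b h : Rˣ) : R) = a := rfl
theorem unitOfNeg_inv {R : Type*} [CommRing R] (a b : R) (h : b * a = -1) :
    (((unitOfNeg a b h)⁻¹ : Rˣ) : R) = -b := rfl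

/-- the Weyl element built from two points with `x' x = -1` is the abstract `w` -/
theorem W_eq_w {X : Over S}
    (P : RankOneAlg.Rel (U pp (X := X)) (U pm (X := X)) (jHom i X) (alHom α X) (hhHom av X))
    (x x' : X ⟶ Red.Ga S) (hx : Red.gaFn x' * Red.gaFn x = -1) :
    (x ≫ pp) * (x' ≫ pm) * (x ≫ pp) = P.w (unitOfNeg (Red.gaFn x) (Red.gaFn x') hx) := by
  rw [RankOneAlg.Rel.w, unitOfNeg_val, unitOfNeg_inv, neg_neg, U_gaFn, U_gaFn]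

section Cover

include hpp hpm h2 hF

/-- `w u(x) = v(x') w` for `w = u(x) v(x') u(x)`, `x' x = -1` (proved on a faithfully flat cover) -/
theorem W_mul_U (x x' : X ⟶ Red.Ga S) (hx : Red.gaFn x' * Red.gaFn x = -1) :
    ((x ≫ pp) * (x' ≫ pm) * (x ≫ pp)) * (x ≫ pp) = (x' ≫ pm) * ((x ≫ pp) * (x' ≫ pm) * (x ≫ pp)) := by
  apply UnitExt.cancel X
  set p := UnitExt.coverMap X with hp
  simp only [MonObj.comp_mul, ← Category.assoc]
  have hx' : Red.gaFn (p ≫ x') * Red.gaFn (p ≫ x) = -1 := by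
    rw [GaPts.gaFn_comp, GaPts.gaFn_comp, ← map_mul, hx, map_neg, map_one]
  have P := rel i α pp pm hpp hpm av h2 hF (UnitExt.cover X)
  rw [W_eq_w i α pp pm av P (p ≫ x) (p ≫ x') hx']
  have h := P.w_mul_u_self (unitOfNeg (Red.gaFn (p ≫ x)) (Red.gaFn (p ≫ x')) hx')
    (UnitExt.s₁ X) (UnitExt.s₂ X) (UnitExt.s_add X)
  rw [unitOfNeg_val, unitOfNeg_inv, neg_neg, U_gaFn, U_gaFn] at h
  exact h

/-- the braid relation `u(x) v(x') u(x) = v(x') u(x) v(x')` for `x' x = -1` -/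
theorem W_braid (x x' : X ⟶ Red.Ga S) (hx : Red.gaFn x' * Red.gaFn x = -1) :
    (x ≫ pp) * (x' ≫ pm) * (x ≫ pp) = (x' ≫ pm) * (x ≫ pp) * (x' ≫ pm) := by
  have h := W_mul_U i α pp pm hpp hpm av h2 hF x x' hx
  have : ((x ≫ pp) * (x' ≫ pm) * (x ≫ pp)) * (x ≫ pp) = ((x' ≫ pm) * (x ≫ pp) * (x' ≫ pm)) * (x ≫ pp) := by
    rw [h]; simp only [_root_.mul_assoc]
  exact mul_right_cancel this

theorem WU_cube (x x' : X ⟶ Red.Ga S) (hx : Red.gaFn x' * Red.gaFn x = -1) :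
    (((x ≫ pp) * (x' ≫ pm) * (x ≫ pp)) * (x ≫ pp)) ^ 3 = 1 := by
  apply UnitExt.cancel X
  set p := UnitExt.coverMap X with hp
  rw [MonObj.comp_pow, MonObj.comp_one]
  simp only [MonObj.comp_mul, ← Category.assoc]
  have hx' : Red.gaFn (p ≫ x') * Red.gaFn (p ≫ x) = -1 := by
    rw [GaPts.gaFn_comp, GaPts.gaFn_comp, ← map_mul, hx, map_neg, map_one]
  have P := rel i α pp pm hpp hpm av h2 hF (UnitExt.cover X)
  rw [W_eq_w i α pp pm av P (p ≫ x) (p ≫ x') hx']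
  have h := P.wu_cube (unitOfNeg (Red.gaFn (p ≫ x)) (Red.gaFn (p ≫ x')) hx')
    (UnitExt.s₁ X) (UnitExt.s₂ X) (UnitExt.s_add X)
  rw [unitOfNeg_val, U_gaFn] at h
  exact h

end Cover

end Relations

end Groth.Agent.Helper13.RankOne
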