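import Mathlib
import Groth.Agent.Lib.Helper24.RFBound

/-!
# Homological lemmas for the relative Čech complex
-/

set_option autoImplicit false
universe w' w v' v u' u
open CategoryTheory CategoryTheory.Limits

namespace Groth.Agent.Helper13.RelCech

section Resolution

variable {A : Type u} [Category.{v} A] [Abelian A] [HasDerivedCategory.{w} A]

/-- a resolution `0 → M → K⁰ → K¹ → ⋯` gives an isomorphism `M[0] ≅ K` in the derived category -/
theorem nonempty_single_iso_Q_extend (K : CochainComplex A ℕ) (M : A) (aug : M ⟶ K.X 0)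
    (h0 : aug ≫ K.d 0 1 = 0) [Mono aug]
    (hex : (ShortComplex.mk aug (K.d 0 1) h0).Exact) (hK : ∀ n, K.ExactAt (n + 1)) :
    Nonempty ((DerivedCategory.singleFunctor A 0).obj M ≅
      DerivedCategory.Q.obj (K.extend ComplexShape.embeddingUpNat)) := by
  let ι : (CochainComplex.single₀ A).obj M ⟶ K :=
    (CochainComplex.fromSingle₀Equiv K M).symm ⟨aug, h0⟩
  haveI : QuasiIso ι := ⟨fun n => by
    cases n with
    | zero =>
      rw [CochainComplex.quasiIsoAt₀_iff, ShortComplex.quasiIso_iff_of_zeros _
        (HomologicalComplex.single_obj_d (ComplexShape.up ℕ) 0 M 0 0)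
        (HomologicalComplex.single_obj_d (ComplexShape.up ℕ) 0 M 0 1)
        (K.shape 0 0 (by simp))]
      refine (ShortComplex.exact_and_mono_f_iff_of_iso ?_).2 ⟨hex, inferInstanceAs (Mono aug)⟩
      refine ShortComplex.isoMk (Iso.refl _) (Iso.refl _) (Iso.refl _) ?_ ?_
      · have h := CochainComplex.fromSingle₀Equiv_symm_apply_f_zero (C := K) (X := M) aug h0
        exact (Category.id_comp _).trans (h.symm.trans (Category.comp_id _).symm)
      · exact (Category.id_comp _).trans (Category.comp_id _).symm
    | succ n =>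
      rw [quasiIsoAt_iff_exactAt]
      · exact hK n
      · apply CochainComplex.exactAt_succ_single_obj⟩
  let b : ((CochainComplex.single₀ A).obj M).extend ComplexShape.embeddingUpNat ⟶
      K.extend ComplexShape.embeddingUpNat :=
    HomologicalComplex.extendMap ι ComplexShape.embeddingUpNat
  haveI hb : QuasiIso b := inferInstance
  let a : (CochainComplex.singleFunctor A 0).obj M ⟶
      ((CochainComplex.single₀ A).obj M).extend ComplexShape.embeddingUpNat :=
    (HomologicalComplex.extendSingleIso ComplexShape.embeddingUpNat M 0 0 (by simp)).inv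
  haveI ha : QuasiIso a := inferInstance
  let ι' : (CochainComplex.singleFunctor A 0).obj M ⟶ K.extend ComplexShape.embeddingUpNat :=
    a ≫ b
  haveI : QuasiIso ι' := inferInstance
  haveI : IsIso (DerivedCategory.Q.map ι') := by
    rw [DerivedCategory.isIso_Q_map_iff_quasiIso]
    infer_instance
  exact ⟨(DerivedCategory.singleFunctorIsoCompQ A 0).app M ≪≫ asIso (DerivedCategory.Q.map ι')⟩

end Resolution

section Products

variable {A : Type u} [Category.{v} A] [Preadditive A] {B : Type u'} [Category.{v'} B]
  [Preadditive B]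

lemma isZero_pi {J : Type*} (Z : J → B) [HasProduct Z] (h : ∀ a, IsZero (Z a)) :
    IsZero (∏ᶜ Z) := by
  rw [IsZero.iff_id_eq_zero]
  apply Pi.hom_ext
  intro a
  exact (h a).eq_of_tgt _ _

lemma isZero_map_pi (R : A ⥤ B) [R.Additive] {J : Type*} [Finite J] (Z : J → A) [HasProduct Z]
    [HasProduct fun a => R.obj (Z a)] [PreservesLimit (Discrete.functor Z) R]
    (h : ∀ a, IsZero (R.obj (Z a))) : IsZero (R.obj (∏ᶜ Z)) :=
  (isZero_pi _ h).of_iso (PreservesProduct.iso R Z)

end Products

section Single

open DerivedCategory Groth.Agent.Helper24.RFBound Groth.Agent.Helper11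

variable {A : Type u} [Category.{v} A] [Abelian A] [IsGrothendieckAbelian.{v} A]
  [HasDerivedCategory.{w} A]
  {B : Type u'} [Category.{v'} B] [Abelian B] [HasDerivedCategory.{w'} B]
  (F : A ⥤ B) [F.Additive]
  (R : DerivedCategory A ⥤ DerivedCategory B)
  (β : F.mapHomotopyCategory (ComplexShape.up ℤ) ⋙ Qh ⟶ Qh ⋙ R)
  [R.IsRightDerivedFunctor β (KI.WK A)] [HasInjectiveResolutions A]

include β in
/-- the cohomology of `RF` of a single object is given by the classical derived functors -/
theorem nonempty_homology_single_iso (M : A) (p : ℕ) :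
    Nonempty ((homologyFunctor B p).obj (R.obj ((singleFunctor A 0).obj M)) ≅
      (F.rightDerived p).obj M) := by
  obtain ⟨e⟩ := nonempty_iso_Q_Lb ((singleFunctor A 0).obj M) 0
  obtain ⟨e'⟩ := nonempty_iso_of_injective F R β
    (Lb ((homologyFunctor A 0).obj ((singleFunctor A 0).obj M)) 0) 0
  have i1 : (homologyFunctor A 0).obj ((singleFunctor A 0).obj M) ≅ M :=
    (singleFunctorCompHomologyFunctorIso A 0).app M
  exact ⟨(homologyFunctor B p).mapIso (R.mapIso e ≪≫ e') ≪≫
    (homologyFunctorFactors B p).app _ ≪≫ homologyLbIso F _ 0 p p (by simp) ≪≫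
    (F.rightDerived p).mapIso i1⟩

end Single

end Groth.Agent.Helper13.RelCech
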