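import Mathlib
import Groth.Prelude.Def_CechOX
import Groth.Prelude.Def_DCoh2
import Groth.Agent.Lib.Helper13.CechRes2
import Groth.Agent.Lib.Helper13.RelCech1
import Groth.Agent.Lib.Helper24.RFQc10
import Groth.Agent.Lib.Helper29.LRAdj
import Groth.Agent.Lib.Helper13.QCohFin
import Groth.Agent.Lib.Helper13.QCohPush
import Groth.Agent.Lib.Helper13.AcycEmbed
import Groth.Agent.Lib.Helper13.Qcqs
import Groth.Agent.Lib.Helper9.Leray2

/-!
# The relative Čech complex computes `Rf_*`
-/

set_option autoImplicit false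
universe u
open CategoryTheory CategoryTheory.Limits AlgebraicGeometry

attribute [local instance] HasDerivedCategory.standard

namespace Groth.Agent.Helper13.RelCech

open DerivedCategory Groth.Agent.Helper24.RFQc Groth.Agent.Helper9.Leray

section Affine

variable {X' Y' : Scheme.{u}}

/-- `Rh_*` of a quasi-coherent module along an affine morphism is `h_*` -/
theorem nonempty_Rpush_single_iso (h : X' ⟶ Y') [IsAffineHom h] [DCoh.HasRpush h]
    (G : X'.Modules) (hG : qc X' G) :
    Nonempty ((DCoh.Rpush h).obj (DCoh.inD X' G) ≅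
      DCoh.inD Y' ((Scheme.Modules.pushforward h).obj G)) := by
  let E₀ : CochainComplex X'.Modules ℤ := (CochainComplex.singleFunctor X'.Modules 0).obj G
  have hq : ∀ n, qc X' (E₀.X n) := by
    intro n
    by_cases hn : n = 0
    · subst hn
      exact (qc X').prop_of_iso (HomologicalComplex.singleObjXSelf (ComplexShape.up ℤ) 0 G).symm hG
    · exact qc_of_isZero X' (HomologicalComplex.isZero_single_obj_X (ComplexShape.up ℤ) _ _ _ hn)
  have hiso := isIso_unit_of_acyclic_qcoh h E₀ hq (fun n => acyc_of_affine h _ (hq n))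
  let u : Q.obj (((Scheme.Modules.pushforward h).mapHomologicalComplex (ComplexShape.up ℤ)).obj E₀) ≅
      (DCoh.Rpush h).obj (Q.obj E₀) :=
    @asIso _ _ _ _ ((βf h).app ((HomotopyCategory.quotient _ _).obj E₀)) hiso
  have e1 : DCoh.inD X' G ≅ Q.obj E₀ := (singleFunctorIsoCompQ X'.Modules 0).app G
  have e2 : ((Scheme.Modules.pushforward h).mapHomologicalComplex (ComplexShape.up ℤ)).obj E₀ ≅
      (CochainComplex.singleFunctor Y'.Modules 0).obj ((Scheme.Modules.pushforward h).obj G) :=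
    (HomologicalComplex.singleMapHomologicalComplex (Scheme.Modules.pushforward h)
      (ComplexShape.up ℤ) 0).app G
  have e3 : Q.obj ((CochainComplex.singleFunctor Y'.Modules 0).obj
      ((Scheme.Modules.pushforward h).obj G)) ≅ DCoh.inD Y' ((Scheme.Modules.pushforward h).obj G) :=
    ((singleFunctorIsoCompQ Y'.Modules 0).app _).symm
  exact ⟨(DCoh.Rpush h).mapIso e1 ≪≫ u.symm ≪≫ Q.mapIso e2 ≪≫ e3⟩

end Affine

section Acyc

variable {W X S : Scheme.{u}}

/-- the direct image of a quasi-coherent module along an affine morphism `j` is acyclic for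
`f_*` when `j ≫ f` is affine -/
theorem acyc_push_of_affine (j : W ⟶ X) (f : X ⟶ S) [IsAffineHom j] [IsAffineHom (j ≫ f)]
    [DCoh.HasRpush f] (G : W.Modules) (hG : qc W G) :
    Acyc (Scheme.Modules.pushforward f) ((Scheme.Modules.pushforward j).obj G) := by
  intro i hi
  haveI : DCoh.HasRpush j := Groth.Agent.Helper11.KI.hasRightDerivedFunctor (DCoh.pushKh j)
  haveI : DCoh.HasRpush (j ≫ f) :=
    Groth.Agent.Helper11.KI.hasRightDerivedFunctor (DCoh.pushKh (j ≫ f))
  obtain ⟨a⟩ := nonempty_Rpush_single_iso j G hG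
  obtain ⟨b⟩ := nonempty_Rpush_single_iso (j ≫ f) G hG
  obtain ⟨c⟩ := Groth.Agent.Helper29.LRAdj.main0922 j f
  have e : (DCoh.Rpush f).obj (DCoh.inD X ((Scheme.Modules.pushforward j).obj G)) ≅
      DCoh.inD S ((Scheme.Modules.pushforward (j ≫ f)).obj G) :=
    (DCoh.Rpush f).mapIso a.symm ≪≫ c.app _ ≪≫ b
  obtain ⟨d⟩ := nonempty_homology_single_iso (Scheme.Modules.pushforward f) (DCoh.Rpush f) (βf f)
    ((Scheme.Modules.pushforward j).obj G) i
  refine IsZero.of_iso ?_ d.symm
  refine IsZero.of_iso ?_ ((homologyFunctor S.Modules i).mapIso e)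
  exact isZero_of_isLE _ 0 i (by exact_mod_cast hi)

end Acyc

section Geometry

lemma quasiSeparatedSpace_of_affineDiagonal (X : Scheme.{u})
    [IsAffineHom (pullback.diagonal (terminal.from X))] : QuasiSeparatedSpace X := by
  rw [quasiSeparatedSpace_iff_forall_affineOpens]
  intro U V
  exact (U.2.inf V.2).isCompact

lemma isAffineHom_of_isAffine_of_affineDiagonal {Y S : Scheme.{u}} [IsAffine Y]
    [IsAffineHom (pullback.diagonal (terminal.from S))] (g : Y ⟶ S) : IsAffineHom g := by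
  haveI : MorphismProperty.HasOfPostcompProperty (@IsAffineHom)
      (MorphismProperty.diagonal (@IsAffineHom)) :=
    MorphismProperty.hasOfPostcompProperty_iff_le_diagonal.mpr le_rfl
  have h1 : MorphismProperty.diagonal (@IsAffineHom) (terminal.from S) := ‹_›
  have h2 : IsAffineHom (g ≫ terminal.from S) := inferInstance
  exact MorphismProperty.of_postcomp (W := @IsAffineHom)
    (W' := MorphismProperty.diagonal (@IsAffineHom)) g (terminal.from S) h1 h2

lemma inf_aff {X : Scheme.{u}} [IsAffineHom (pullback.diagonal (terminal.from X))] {ι : Type u}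
    (𝒰 : ι → X.Opens) (h𝒰 : ∀ i, IsAffineOpen (𝒰 i)) (p : ℕ) (a : Fin (p + 1) → ι) :
    IsAffineOpen (∏ᶜ (𝒰 ∘ a) : X.Opens) := by
  have hW : (∏ᶜ (𝒰 ∘ a) : X.Opens) = ⨅ k, 𝒰 (a k) :=
    le_antisymm (le_iInf (fun k => leOfHom (Pi.π (𝒰 ∘ a) k)))
      (leOfHom (Pi.lift (fun k => homOfLE (iInf_le (fun k => 𝒰 (a k)) k))))
  rw [hW]
  exact IsAffineOpen.iInf (fun k => h𝒰 (a k))

end Geometry

section Main

variable {X S : Scheme.{u}} (f : X ⟶ S)
  [IsAffineHom (pullback.diagonal (terminal.from X))]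
  [IsAffineHom (pullback.diagonal (terminal.from S))]

lemma pushRestr_qc (W : X.Opens) (hW : IsAffineOpen W) (F : X.Modules) [F.IsQuasicoherent] :
    qc X ((CechOX.pushRestr W).obj F) := by
  haveI : IsAffine ↑W := hW
  haveI : IsAffineHom W.ι := isAffineHom_of_isAffine_of_affineDiagonal W.ι
  haveI : (F.restrict W.ι).IsQuasicoherent := inferInstance
  exact Groth.Agent.Helper13.QCohPush.isQuasicoherent_pushforward W.ι (F.restrict W.ι)

lemma pushRestr_acyc [DCoh.HasRpush f] (W : X.Opens) (hW : IsAffineOpen W) (F : X.Modules)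
    [F.IsQuasicoherent] :
    Acyc (Scheme.Modules.pushforward f) ((CechOX.pushRestr W).obj F) := by
  haveI : IsAffine ↑W := hW
  haveI : IsAffineHom W.ι := isAffineHom_of_isAffine_of_affineDiagonal W.ι
  haveI : IsAffineHom (W.ι ≫ f) := isAffineHom_of_isAffine_of_affineDiagonal (W.ι ≫ f)
  have hq : (F.restrict W.ι).IsQuasicoherent := inferInstance
  exact acyc_push_of_affine W.ι f (F.restrict W.ι) hq

theorem main [CompactSpace X] (F : X.Modules) (hF : Coh.IsQCoh F) {ι : Type u} [Finite ι]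
    (𝒰 : ι → X.Opens) (h𝒰 : ∀ i, IsAffineOpen (𝒰 i)) (hcov : ⨆ i, 𝒰 i = ⊤)
    [DCoh.HasRpush f] :
    (∀ p : ℕ, Coh.IsQCoh (((CechOX.relCech 𝒰 f).obj F).X p)) ∧
      Nonempty (DCoh.toD S (CechOX.relCechZ 𝒰 f F) ≅ (DCoh.Rpush f).obj (DCoh.inD X F)) := by
  haveI : QuasiSeparatedSpace X := quasiSeparatedSpace_of_affineDiagonal X
  haveI : QuasiSeparatedSpace S := quasiSeparatedSpace_of_affineDiagonal S
  haveI : QuasiCompact f := inferInstance
  haveI : QuasiSeparated f := inferInstance
  haveI : F.IsQuasicoherent := hF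
  have hqc : ∀ k, qc X (((CechOX.cechSh 𝒰).obj F).X k) := by
    intro k
    show (∏ᶜ fun a : Fin (k + 1) → ι => (CechOX.pushRestr (∏ᶜ (𝒰 ∘ a))).obj F).IsQuasicoherent
    apply Groth.Agent.Helper13.QCohFin.isQuasicoherent_pi
    intro a
    exact pushRestr_qc _ (inf_aff 𝒰 h𝒰 k a) F
  have hac : ∀ k, Acyc (Scheme.Modules.pushforward f) (((CechOX.cechSh 𝒰).obj F).X k) := by
    intro k i hi
    show IsZero (((Scheme.Modules.pushforward f).rightDerived i).obj
      (∏ᶜ fun a : Fin (k + 1) → ι => (CechOX.pushRestr (∏ᶜ (𝒰 ∘ a))).obj F))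
    apply isZero_map_pi
    intro a
    exact pushRestr_acyc f _ (inf_aff 𝒰 h𝒰 k a) F i hi
  refine ⟨fun p => ?_, ?_⟩
  · haveI : (((CechOX.cechSh 𝒰).obj F).X p).IsQuasicoherent := hqc p
    exact Groth.Agent.Helper13.Qcqs.isQuasicoherent_pushforward_of_qcqs f
      (((CechOX.cechSh 𝒰).obj F).X p)
  · have hq' : ∀ n : ℤ, qc X ((((CechOX.cechSh 𝒰).obj F).extend ComplexShape.embeddingUpNat).X n) := by
      intro n
      by_cases hn : ∃ k : ℕ, ComplexShape.embeddingUpNat.f k = n
      · obtain ⟨k, hk⟩ := hn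
        exact (qc X).prop_of_iso
          (((CechOX.cechSh 𝒰).obj F).extendXIso ComplexShape.embeddingUpNat hk).symm (hqc k)
      · exact qc_of_isZero X (((CechOX.cechSh 𝒰).obj F).isZero_extend_X
          ComplexShape.embeddingUpNat n (fun k hk => hn ⟨k, hk⟩))
    have hac' : ∀ n : ℤ, Acyc (Scheme.Modules.pushforward f)
        ((((CechOX.cechSh 𝒰).obj F).extend ComplexShape.embeddingUpNat).X n) := by
      intro n
      by_cases hn : ∃ k : ℕ, ComplexShape.embeddingUpNat.f k = n
      · obtain ⟨k, hk⟩ := hn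
        exact acyc_of_iso _
          (((CechOX.cechSh 𝒰).obj F).extendXIso ComplexShape.embeddingUpNat hk).symm (hac k)
      · exact acyc_of_isZero _ (((CechOX.cechSh 𝒰).obj F).isZero_extend_X
          ComplexShape.embeddingUpNat n (fun k hk => hn ⟨k, hk⟩))
    have hiso := isIso_unit_of_acyclic_qcoh f
      (((CechOX.cechSh 𝒰).obj F).extend ComplexShape.embeddingUpNat) hq' hac'
    haveI := Groth.Agent.Helper13.CechRes.mono_aug (F := F) hcov
    obtain ⟨e0⟩ := nonempty_single_iso_Q_extend ((CechOX.cechSh 𝒰).obj F) F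
      (CechOX.cechShAug 𝒰 F) (Groth.Agent.Helper13.CechRes.aug_comp_d 𝒰 F)
      (Groth.Agent.Helper13.CechRes.exact_aug hcov)
      (Groth.Agent.Helper13.CechRes.exactAt_succ hcov)
    let u : Q.obj (((Scheme.Modules.pushforward f).mapHomologicalComplex (ComplexShape.up ℤ)).obj
        (((CechOX.cechSh 𝒰).obj F).extend ComplexShape.embeddingUpNat)) ≅
        (DCoh.Rpush f).obj (Q.obj (((CechOX.cechSh 𝒰).obj F).extend ComplexShape.embeddingUpNat)) :=
      @asIso _ _ _ _ ((βf f).app ((HomotopyCategory.quotient _ _).obj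
        (((CechOX.cechSh 𝒰).obj F).extend ComplexShape.embeddingUpNat))) hiso
    have e2 : CechOX.relCechZ 𝒰 f F ≅
        ((Scheme.Modules.pushforward f).mapHomologicalComplex (ComplexShape.up ℤ)).obj
          (((CechOX.cechSh 𝒰).obj F).extend ComplexShape.embeddingUpNat) :=
      (Groth.Agent.Helper24.GSS.mapExtendIso (Scheme.Modules.pushforward f)
        ComplexShape.embeddingUpNat ((CechOX.cechSh 𝒰).obj F)).symm
    exact ⟨Q.mapIso e2 ≪≫ u ≪≫ (DCoh.Rpush f).mapIso e0.symm⟩

end Main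

end Groth.Agent.Helper13.RelCech
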