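import Mathlib
import Groth.Agent.Lib.Helper13.ExtSheaf
import Groth.Agent.Lib.Helper13.ResFinLocFree

/-!
# Jointly epimorphic families of quasi-coherent modules, and their direct images along
finite locally free surjective morphisms

* `germ_mem_spanFam`: if `π : ∐ E ⟶ G` is an epimorphism, every germ of `G` is a finite sum of
  images of germs of the `E k`;
* `mem_secSpan_of_germ_mem`: for quasi-coherent modules, a section over an affine open whose germs
  are such sums is itself a finite sum of images of sections over that open;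
* `exists_epi_sigma_pushforward`: a generating family of quasi-coherent modules on `X` pushes
  forward to a generating family on `Y` along a finite flat finitely presented surjective
  `f : X ⟶ Y`.
-/

set_option autoImplicit false
set_option maxHeartbeats 400000
universe u
open CategoryTheory CategoryTheory.Limits AlgebraicGeometry Opposite TopologicalSpace TensorProduct
open RefHull Groth.Agent.Lead.HomSh
open Groth.Agent.Helper13.QCoh Groth.Agent.Helper13.FinType Groth.Agent.Helper13.Tensor
open Groth.Agent.Helper13.LocFree Groth.Agent.Helper13.WeakAss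
open Groth.Agent.Helper13.ProjFormula Groth.Agent.Helper13.HomShAff
open Groth.Agent.Helper13.PushFinite Groth.Agent.Helper13.PushFinLocFree
open Groth.Agent.Helper13.Ext Groth.Agent.Helper13.PbInv Groth.Agent.Helper13.ResFinLocFree

namespace Groth.Agent.Helper13.SigmaGen

section Stalkwise

variable {X : Scheme.{u}} {κ : Type u} (E : κ → X.Modules) {G : X.Modules} (π : (∐ E) ⟶ G)

/-- the stalkwise span of the images of the components of `π`. -/
noncomputable def spanFam : StalkFam G := fun y =>
  ⨆ k, LinearMap.range (stalkLinearMap (Sigma.ι E k ≫ π) y)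

/-- if `π : ∐ E ⟶ G` is an epimorphism, every germ of `G` lies in the span of the images of the
stalks of the `E k`. -/
theorem germ_mem_spanFam [Epi π] (y : X) (z : G.presheaf.stalk y) : z ∈ spanFam E π y := by
  let Sg := spanFam E π
  have hmem : ∀ (k : κ) (V : X.Opens) (m : Γ(E k, V)),
      (Sigma.ι E k ≫ π).app V m ∈ (famSub G Sg).obj (op V) := by
    intro k V m y' hy'
    have h1 : G.presheaf.germ V y' hy' ((Sigma.ι E k ≫ π).app V m) =
        stalkLinearMap (Sigma.ι E k ≫ π) y' ((E k).presheaf.germ V y' hy' m) :=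
      (stalkMap_germ (Sigma.ι E k ≫ π) y' V hy' m).symm
    exact Eq.mpr (congrArg (fun z => z ∈ Sg y') h1)
      (Submodule.mem_iSup_of_mem k ⟨_, rfl⟩)
  let L : ∀ k, E k ⟶ famSheaf G Sg := fun k =>
    subsheafLift G (famSub G Sg) (isLocalSub_famSub G Sg) (Sigma.ι E k ≫ π) (hmem k)
  have hL : Sigma.desc L ≫ famι G Sg = π := by
    apply Sigma.hom_ext
    intro k
    rw [Sigma.ι_desc_assoc]
    exact subsheafLift_ι G (famSub G Sg) (isLocalSub_famSub G Sg) _ (hmem k)
  have hEι : Epi (famι G Sg) := by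
    have : Epi (Sigma.desc L ≫ famι G Sg) := by rw [hL]; infer_instance
    exact epi_of_epi (Sigma.desc L) (famι G Sg)
  have hIso : IsIso (famι G Sg) := isIso_of_mono_of_epi _
  obtain ⟨V, hyV, t, rfl⟩ := TopCat.Presheaf.exists_germ_eq G.presheaf z
  have h1 : IsIso ((famι G Sg).app V) := inferInstance
  obtain ⟨t', rfl⟩ := ((ConcreteCategory.isIso_iff_bijective ((famι G Sg).app V)).1 h1).2 t
  exact famι_app_germ_mem G Sg V t' y hyV

end Stalkwise

section Affine

variable {X : Scheme.{u}} {κ : Type u} (E : κ → X.Modules) {G : X.Modules} (α : ∀ k, E k ⟶ G)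

/-- finite sums of images of sections of the `E k` over `W`. -/
noncomputable def secSpan (W : X.Opens) : AddSubgroup Γ(G, W) :=
  AddSubgroup.closure (⋃ k, Set.range fun e : Γ(E k, W) => (α k).app W e)

lemma app_mem_secSpan (W : X.Opens) (k : κ) (e : Γ(E k, W)) : (α k).app W e ∈ secSpan E α W :=
  AddSubgroup.subset_closure (Set.mem_iUnion.2 ⟨k, e, rfl⟩)

lemma smul_mem_secSpan (W : X.Opens) (c : Γ(X, W)) {s : Γ(G, W)} (hs : s ∈ secSpan E α W) :
    c • s ∈ secSpan E α W := by
  induction hs using AddSubgroup.closure_induction with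
  | mem x hx =>
    obtain ⟨k, e, rfl⟩ := Set.mem_iUnion.1 hx
    have h1 : c • (α k).app W e = (α k).app W (c • e) := (Scheme.Modules.Hom.app_smul _ _ _).symm
    show c • (α k).app W e ∈ secSpan E α W
    rw [h1]
    exact app_mem_secSpan E α W k _
  | zero => rw [smul_zero]; exact AddSubgroup.zero_mem _
  | add a b _ _ ha hb => rw [smul_add]; exact AddSubgroup.add_mem _ ha hb
  | neg a _ ha => rw [smul_neg]; exact AddSubgroup.neg_mem _ ha

variable [∀ k, (E k).IsQuasicoherent] [G.IsQuasicoherent] {W : X.Opens} (hW : IsAffineOpen W)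

include hW in
/-- a section of a quasi-coherent module over an affine open, all of whose germs are sums of images
of germs of the quasi-coherent modules `E k`, is a finite sum of images of sections over that
open. -/
theorem mem_secSpan_of_germ_mem (t : Γ(G, W))
    (ht : ∀ (x : X) (hx : x ∈ W), G.presheaf.germ W x hx t ∈
      ⨆ k, LinearMap.range (stalkLinearMap (α k) x)) :
    t ∈ secSpan E α W := by
  have key : ∀ x : W, ∃ a : Γ(X, W), (x : X) ∈ X.basicOpen a ∧ a • t ∈ secSpan E α W := by
    intro x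
    have aux : ∀ z : G.presheaf.stalk x.1,
        z ∈ (⨆ k, LinearMap.range (stalkLinearMap (α k) x.1)) →
        ∃ b : Γ(X, W), (x : X) ∈ X.basicOpen b ∧ ∃ s ∈ secSpan E α W,
          G.presheaf.germ W x.1 x.2 s = X.presheaf.germ W x.1 x.2 b • z := by
      intro z hz
      refine Submodule.iSup_induction _ (motive := fun z => ∃ b : Γ(X, W),
        (x : X) ∈ X.basicOpen b ∧ ∃ s ∈ secSpan E α W,
          G.presheaf.germ W x.1 x.2 s = X.presheaf.germ W x.1 x.2 b • z) hz ?_ ?_ ?_
      · rintro k _ ⟨ex, rfl⟩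
        obtain ⟨g, hxg, e, he⟩ := exists_germ_smul_eq (E k) hW x.1 x.2 ex
        refine ⟨g, hxg, (α k).app W e, app_mem_secSpan E α W k e, ?_⟩
        rw [← stalkMap_germ (α k) x.1 W x.2 e, ← he, stalkMap_smul]
        rfl
      · refine ⟨1, ?_, 0, AddSubgroup.zero_mem _, ?_⟩
        · rw [Scheme.basicOpen_of_isUnit _ isUnit_one]
          exact x.2
        · rw [map_zero, smul_zero]
      · rintro z₁ z₂ ⟨b₁, hb₁, s₁, hs₁, e₁⟩ ⟨b₂, hb₂, s₂, hs₂, e₂⟩
        refine ⟨b₁ * b₂, ?_, b₂ • s₁ + b₁ • s₂, ?_, ?_⟩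
        · rw [Scheme.basicOpen_mul]; exact ⟨hb₁, hb₂⟩
        · exact AddSubgroup.add_mem _ (smul_mem_secSpan E α W b₂ hs₁)
            (smul_mem_secSpan E α W b₁ hs₂)
        · rw [map_add, Groth.Agent.Helper13.QCoh.germ_smul, Groth.Agent.Helper13.QCoh.germ_smul,
            e₁, e₂, map_mul, smul_add, ← mul_smul, ← mul_smul,
            mul_comm (X.presheaf.germ W x.1 x.2 b₂)]
    obtain ⟨b, hxb, s, hs, hsz⟩ := aux _ (ht x.1 x.2)
    have h0 : G.presheaf.germ W x.1 x.2 (b • t - s) = 0 := by
      rw [map_sub, Groth.Agent.Helper13.QCoh.germ_smul, hsz, sub_self]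
    obtain ⟨c, hxc, hc⟩ := exists_smul_eq_zero_of_germ_eq_zero G hW x.1 x.2 _ h0
    refine ⟨c * b, ?_, ?_⟩
    · rw [Scheme.basicOpen_mul]; exact ⟨hxc, hxb⟩
    · rw [smul_sub, sub_eq_zero] at hc
      rw [mul_smul, hc]
      exact smul_mem_secSpan E α W c hs
  let I : Ideal Γ(X, W) :=
    { carrier := {a | a • t ∈ secSpan E α W}
      add_mem' := by
        intro a b ha hb
        show (a + b) • t ∈ secSpan E α W
        rw [add_smul]
        exact AddSubgroup.add_mem _ ha hb
      zero_mem' := by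
        show (0 : Γ(X, W)) • t ∈ secSpan E α W
        rw [zero_smul]
        exact AddSubgroup.zero_mem _
      smul_mem' := by
        intro c a ha
        show (c • a) • t ∈ secSpan E α W
        rw [smul_eq_mul, mul_smul]
        exact smul_mem_secSpan E α W c ha }
  have hI : Ideal.span (I : Set Γ(X, W)) = ⊤ := by
    rw [← hW.self_le_iSup_basicOpen_iff]
    intro x hx
    obtain ⟨a, hxa, ha⟩ := key ⟨x, hx⟩
    exact Opens.mem_iSup.2 ⟨⟨a, ha⟩, hxa⟩
  rw [Ideal.span_eq] at hI
  have h1 : (1 : Γ(X, W)) ∈ I := by rw [hI]; trivial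
  have h2 : (1 : Γ(X, W)) • t ∈ secSpan E α W := h1
  rwa [one_smul] at h2

end Affine

section Main

variable {X Y : Scheme.{u}} (f : X ⟶ Y)

/-- a generating family of quasi-coherent modules on `X` pushes forward to a generating family
on `Y` along a finite, flat, finitely presented, surjective morphism `f : X ⟶ Y`. -/
theorem exists_epi_sigma_pushforward [IsFinite f] [Flat f] [LocallyOfFinitePresentation f]
    [Surjective f] {ι : Type u} (E : ι → X.Modules) (hE : ∀ i, (E i).IsQuasicoherent)
    (hgen : ∀ M : X.Modules, M.IsQuasicoherent →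
      ∃ (κ : Type u) (j : κ → ι) (π : (∐ fun k : κ => E (j k)) ⟶ M), Epi π)
    (N : Y.Modules) [N.IsQuasicoherent] :
    ∃ (κ : Type u) (j : κ → ι)
      (π : (∐ fun k : κ => (Scheme.Modules.pushforward f).obj (E (j k))) ⟶ N), Epi π := by
  have hf : Mor2.IsFinLocFree f := ⟨inferInstance, inferInstance, inferInstance⟩
  haveI : IsAffineHom f := inferInstance
  have h𝒜 : FlatMod.IsFinLocFree (pushO f) := ((affine_finLocFree_iff f).2 hf).2
  haveI : (pushO f).IsQuasicoherent :=
    Groth.Agent.Helper13.QCohPush.isQuasicoherent_pushforward f _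
  haveI : SheafOfModules.IsFinitePresentation (R := Y.ringCatSheaf) (pushO f) :=
    isFinitePresentation_of_isFinLocFree _ h𝒜
  let G' := homSh (pushO f) N
  haveI : G'.IsQuasicoherent := isQuasicoherent_homSh
  obtain ⟨κ, j, π, hπ⟩ := hgen ((Scheme.Modules.pullback f).obj G') inferInstance
  haveI := hπ
  haveI : ∀ k, (E (j k)).IsQuasicoherent := fun k => hE (j k)
  haveI : IsIso (μ f G') := isIso_μ f G'
  haveI : Epi (ev (pushO f) N) := by
    apply epi_ev (pushO f) N
    intro y s
    haveI := free_stalk_of_isFinLocFree (pushO f) h𝒜 y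
    haveI : Module.Finite (Y.presheaf.stalk y) ((pushO f).presheaf.stalk y) :=
      finite_stalk_of_isFiniteType (pushO f) y
    obtain ⟨l, hl⟩ := exists_linearForm_eq_one _ _ _ (germ_one_notMem f y)
    refine ⟨⊤, trivial, (show Γ(pushO f, ⊤) from (1 : Γ(X, f ⁻¹ᵁ ⊤))), l.smulRight s, ?_⟩
    rw [LinearMap.smulRight_apply, hl, one_smul]
  let ψ : pushPull f G' ⟶ N := inv (μ f G') ≫ ev (pushO f) N
  haveI : Epi ψ := epi_comp _ _
  let α : ∀ k, E (j k) ⟶ (Scheme.Modules.pullback f).obj G' :=
    fun k => Sigma.ι (fun k => E (j k)) k ≫ π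
  let φ : ∀ k, (Scheme.Modules.pushforward f).obj (E (j k)) ⟶ N :=
    fun k => (Scheme.Modules.pushforward f).map (α k) ≫ ψ
  refine ⟨κ, j, Sigma.desc φ, ?_⟩
  rw [epi_iff_stalkMap_surjective]
  intro y n
  obtain ⟨g, rfl⟩ := stalkMap_surjective_of_epi ψ y n
  obtain ⟨V₀, hyV₀, t₀, rfl⟩ := TopCat.Presheaf.exists_germ_eq (pushPull f G').presheaf g
  obtain ⟨_, ⟨V, hV, rfl⟩, hyV, hVV₀⟩ := Y.isBasis_affineOpens.exists_subset_of_mem_open
    hyV₀ V₀.2
  have hV' : IsAffineOpen V := hV
  have hVV₀' : V ≤ V₀ := hVV₀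
  have hW : IsAffineOpen (f ⁻¹ᵁ V) := hV'.preimage f
  let t : Γ((Scheme.Modules.pullback f).obj G', f ⁻¹ᵁ V) :=
    (pushPull f G').presheaf.map (homOfLE hVV₀').op t₀
  have hgerm : (pushPull f G').presheaf.germ V₀ y hyV₀ t₀ =
      (pushPull f G').presheaf.germ V y hyV t :=
    (TopCat.Presheaf.germ_res_apply _ (homOfLE hVV₀') y hyV t₀).symm
  rw [hgerm]
  have hmem : t ∈ secSpan (fun k => E (j k)) α (f ⁻¹ᵁ V) := by
    apply mem_secSpan_of_germ_mem _ α hW
    intro x hx
    exact germ_mem_spanFam (fun k => E (j k)) π x _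
  let gm : Γ((Scheme.Modules.pullback f).obj G', f ⁻¹ᵁ V) →+ N.presheaf.stalk y :=
    AddMonoidHom.comp (stalkMap ψ y).hom
      (show Γ((Scheme.Modules.pullback f).obj G', f ⁻¹ᵁ V) →+ (pushPull f G').presheaf.stalk y from
        ((pushPull f G').presheaf.germ V y hyV).hom)
  have main : ∀ t' : Γ((Scheme.Modules.pullback f).obj G', f ⁻¹ᵁ V),
      t' ∈ secSpan (fun k => E (j k)) α (f ⁻¹ᵁ V) →
      gm t' ∈ LinearMap.range (stalkLinearMap (Sigma.desc φ) y) := by
    intro t' ht'
    induction ht' using AddSubgroup.closure_induction with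
    | mem z hz =>
      obtain ⟨k, e, rfl⟩ := Set.mem_iUnion.1 hz
      refine ⟨stalkMap (Sigma.ι (fun k => (Scheme.Modules.pushforward f).obj (E (j k))) k) y
        (((Scheme.Modules.pushforward f).obj (E (j k))).presheaf.germ V y hyV e), ?_⟩
      have e1 : (pushPull f G').presheaf.germ V y hyV ((α k).app (f ⁻¹ᵁ V) e) =
          stalkMap ((Scheme.Modules.pushforward f).map (α k)) y
            (((Scheme.Modules.pushforward f).obj (E (j k))).presheaf.germ V y hyV e) :=
        (stalkMap_germ ((Scheme.Modules.pushforward f).map (α k)) y V hyV e).symm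
      show stalkMap (Sigma.desc φ) y _ = stalkMap ψ y
        ((pushPull f G').presheaf.germ V y hyV ((α k).app (f ⁻¹ᵁ V) e))
      rw [e1, ← stalkMap_comp, ← stalkMap_comp, Sigma.ι_desc]
    | zero => rw [map_zero]; exact Submodule.zero_mem _
    | add a b _ _ ha hb => rw [map_add]; exact Submodule.add_mem _ ha hb
    | neg a _ ha => rw [map_neg]; exact Submodule.neg_mem _ ha
  obtain ⟨w, hw⟩ := main t hmem
  exact ⟨w, hw⟩

end Main

end Groth.Agent.Helper13.SigmaGen
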