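import Mathlib
import Groth.Agent.Lib.Helper13.SigmaGen
import Groth.Agent.Lib.Helper13.TensorFinLocFree
import Groth.Agent.Lib.Helper13.ResAffine
import Groth.Agent.Lib.Helper13.TwistSES

/-!
# Relative generating families of finite locally free modules

If `Y` has enough finite locally free modules (every quasi-coherent module is a quotient of a
direct sum of finite locally free modules) and `(W_i)` is an `f`-generating family of finite locally
free modules on `X` for `f : X ⟶ Y`, then `X` has enough finite locally free modules.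
-/

set_option autoImplicit false
set_option maxHeartbeats 400000
universe u
open CategoryTheory CategoryTheory.Limits AlgebraicGeometry Opposite TopologicalSpace TensorProduct
open Groth.Agent.Helper13.QCoh Groth.Agent.Helper13.FinType Groth.Agent.Helper13.Tensor
open Groth.Agent.Helper13.PbInv Groth.Agent.Helper13.SigmaGen
open Groth.Agent.Helper13.TensorFinLocFree

namespace Groth.Agent.Helper13.RelGen

variable {X Y : Scheme.{u}} (f : X ⟶ Y)

/-- the pullback of a jointly epimorphic family is stalkwise jointly surjective. -/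
theorem germ_mem_span_pullback {κ : Type u} (V : κ → Y.Modules) {N : Y.Modules} (ρ : (∐ V) ⟶ N)
    [Epi ρ] (x : X) (z : ((Scheme.Modules.pullback f).obj N).presheaf.stalk x) :
    z ∈ ⨆ l, LinearMap.range
      (stalkLinearMap ((Scheme.Modules.pullback f).map (Sigma.ι V l ≫ ρ)) x) := by
  let F := Scheme.Modules.pullback f
  haveI : PreservesColimitsOfSize.{u, u} F :=
    (Scheme.Modules.pullbackPushforwardAdjunction f).leftAdjoint_preservesColimits
  haveI : Epi (F.map ρ) := inferInstance
  let β : ∀ l, F.obj (V l) ⟶ F.obj N := fun l => F.map (Sigma.ι V l ≫ ρ)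
  have h1 : sigmaComparison F V ≫ F.map ρ = Sigma.desc β := by
    apply Sigma.hom_ext
    intro l
    rw [ι_comp_sigmaComparison_assoc, Sigma.ι_desc, ← F.map_comp]
  haveI : Epi (Sigma.desc β) := by rw [← h1]; exact epi_comp _ _
  have h2 := germ_mem_spanFam (fun l => F.obj (V l)) (Sigma.desc β) x z
  unfold spanFam at h2
  have h3 : ∀ l, Sigma.ι (fun l => F.obj (V l)) l ≫ Sigma.desc β = β l := fun l => Sigma.ι_desc β l
  simp only [h3] at h2
  exact h2

/-- **relative generation**: enough finite locally free modules on `Y` and an `f`-generating family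
of finite locally free modules on `X` give enough finite locally free modules on `X`. -/
theorem exists_epi_finLocFree
    (hY : ∀ N : Y.Modules, N.IsQuasicoherent →
      ∃ (κ : Type u) (V : κ → Y.Modules) (π : (∐ V) ⟶ N),
        (∀ k, FlatMod.IsFinLocFree (V k)) ∧ Epi π)
    {ι : Type u} (W : ι → X.Modules) (hW : ∀ i, FlatMod.IsFinLocFree (W i))
    (hf : ∀ M : X.Modules, M.IsQuasicoherent →
      ∃ (κ : Type u) (j : κ → ι) (N : κ → Y.Modules)
        (π : (∐ fun k => CohB1.tensorMod (W (j k)) ((Scheme.Modules.pullback f).obj (N k))) ⟶ M),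
        (∀ k, (N k).IsQuasicoherent) ∧ Epi π)
    (M : X.Modules) (hM : M.IsQuasicoherent) :
    ∃ (κ : Type u) (E : κ → X.Modules) (π : (∐ E) ⟶ M),
      (∀ k, FlatMod.IsFinLocFree (E k)) ∧ Epi π := by
  obtain ⟨κ, j, N, π, hN, hπ⟩ := hf M hM
  haveI := hπ
  choose κ' V ρ hV hρ using fun k => hY (N k) (hN k)
  let F := Scheme.Modules.pullback f
  let T : κ → X.Modules := fun k => CohB1.tensorMod (W (j k)) (F.obj (N k))
  let K := Σ k, κ' k
  let E : K → X.Modules := fun p => CohB1.tensorMod (W (j p.1)) (F.obj (V p.1 p.2))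
  let θ : ∀ p : K, E p ⟶ M := fun p =>
    Tensor.map (𝟙 (W (j p.1))) (F.map (Sigma.ι (V p.1) p.2 ≫ ρ p.1)) ≫ Sigma.ι T p.1 ≫ π
  refine ⟨K, E, Sigma.desc θ, fun p => isFinLocFree_tensorMod _ _ (hW _)
    (Groth.Agent.Helper13.ResAffine.isFinLocFree_pullback f _ (hV p.1 p.2)), ?_⟩
  apply epi_of_stalkMap_surjective
  intro x z
  have hz := germ_mem_spanFam T π x z
  suffices h : spanFam T π x ≤ LinearMap.range (stalkLinearMap (Sigma.desc θ) x) from h hz
  unfold spanFam
  apply iSup_le
  intro k
  rintro _ ⟨w, rfl⟩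
  obtain ⟨t, rfl⟩ := (stalkTensorEquiv (W (j k)) (F.obj (N k)) x).surjective w
  induction t using TensorProduct.induction_on with
  | zero => rw [map_zero, map_zero]; exact Submodule.zero_mem _
  | add a b ha hb => rw [map_add, map_add]; exact Submodule.add_mem _ ha hb
  | tmul a b =>
    haveI := hρ k
    have hb := germ_mem_span_pullback f (V k) (ρ k) x b
    refine Submodule.iSup_induction _ (motive := fun b =>
      stalkLinearMap (Sigma.ι T k ≫ π) x (stalkTensorEquiv (W (j k)) (F.obj (N k)) x (a ⊗ₜ b)) ∈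
        LinearMap.range (stalkLinearMap (Sigma.desc θ) x)) hb ?_ ?_ ?_
    · rintro l _ ⟨b', rfl⟩
      refine ⟨stalkMap (Sigma.ι E ⟨k, l⟩) x
        (stalkTensorEquiv (W (j k)) (F.obj (V k l)) x (a ⊗ₜ b')), ?_⟩
      show stalkMap (Sigma.desc θ) x _ = stalkMap (Sigma.ι T k ≫ π) x _
      rw [← stalkMap_comp, Sigma.ι_desc]
      show stalkMap (Tensor.map (𝟙 (W (j k))) (F.map (Sigma.ι (V k) l ≫ ρ k)) ≫
        Sigma.ι T k ≫ π) x _ = _
      rw [stalkMap_comp, stalkMap_map, Groth.Agent.Helper13.TwistSES.stalkLinearMap_id,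
        TensorProduct.map_tmul, LinearMap.id_apply]
    · rw [TensorProduct.tmul_zero, map_zero, map_zero]; exact Submodule.zero_mem _
    · intro b₁ b₂ h₁ h₂
      rw [TensorProduct.tmul_add, map_add, map_add]; exact Submodule.add_mem _ h₁ h₂

end Groth.Agent.Helper13.RelGen
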