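import Mathlib
import Groth.Prelude.Def_Coh
import Groth.Prelude.Def_CohTop
import Groth.Agent.Lib.Helper13.VanishBound

universe u
set_option linter.unusedSectionVars false
set_option autoImplicit false
open CategoryTheory CategoryTheory.Limits Opposite TopologicalSpace AlgebraicGeometry

namespace Groth.Agent.Helper13.RelVanish

open Groth.Agent.Helper13.AffineVanish Groth.Agent.Helper13.MVLemma Groth.Agent.Helper13.VanishBound

theorem key {X S : Scheme.{u}} (f : X ⟶ S) [QuasiSeparated f] (V : S.Opens) (hV : IsAffineOpen V)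
    (T : X.Opens) (hT : IsCompact (T : Set X)) (hTV : T ≤ f ⁻¹ᵁ V) :
    ∃ d : ℕ, ∀ (M : X.Modules), Coh.IsQCoh M → ∀ (g : Γ(S, V)) (p : ℕ), d ≤ p →
      Subsingleton (CohTop.HU (X := X.toTopCat) (Coh.toAb M) p (T ⊓ f ⁻¹ᵁ (S.basicOpen g))) := by
  have hqs : IsQuasiSeparated (f ⁻¹ᵁ V : Set X) := f.isQuasiSeparated_preimage hV.isQuasiSeparated
  refine compact_open_induction_on (P := fun T => T ≤ f ⁻¹ᵁ V → ∃ d : ℕ, ∀ (M : X.Modules),
    Coh.IsQCoh M → ∀ (g : Γ(S, V)) (p : ℕ), d ≤ p →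
      Subsingleton (CohTop.HU (X := X.toTopCat) (Coh.toAb M) p (T ⊓ f ⁻¹ᵁ (S.basicOpen g))))
    T hT ?_ ?_ hTV
  · intro _
    refine ⟨1, fun M hM g p hp => ?_⟩
    obtain ⟨m, rfl⟩ : ∃ m, p = m + 1 := ⟨p - 1, by omega⟩
    haveI : M.IsQuasicoherent := hM
    rw [bot_inf_eq]
    exact HU_subsingleton_of_isAffineOpen M ⊥ (isAffineOpen_bot X) m
  · rintro T hT U ih hTU
    have hTV : T ≤ f ⁻¹ᵁ V := le_sup_left.trans hTU
    have hUV : U.1 ≤ f ⁻¹ᵁ V := le_sup_right.trans hTU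
    obtain ⟨dT, hdT⟩ := ih hTV
    have hTUc : IsCompact ((T ⊓ U.1 : X.Opens) : Set X) :=
      hqs _ _ hTV T.isOpen hT hUV U.1.isOpen U.2.isCompact
    have hx : ∀ x : (T ⊓ U.1 : X.Opens), ∃ a : Γ(X, U.1),
        X.basicOpen a ≤ T ⊓ U.1 ∧ x.1 ∈ X.basicOpen a :=
      fun x => U.2.exists_basicOpen_le ⟨x.1, x.2⟩ x.2.2
    choose fx hfx1 hfx2 using hx
    obtain ⟨t, ht⟩ := hTUc.elim_finite_subcover
      (fun x : (T ⊓ U.1 : X.Opens) => (X.basicOpen (fx x) : Set X))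
      (fun x => (X.basicOpen (fx x)).isOpen)
      (fun x hx => Set.mem_iUnion.2 ⟨⟨x, hx⟩, hfx2 ⟨x, hx⟩⟩)
    let W : Option {x // x ∈ t} → X.Opens := fun o => o.elim ⊥ (fun x => X.basicOpen (fx x.1))
    have hW : ⨆ o, W o = T ⊓ U.1 := by
      apply le_antisymm
      · refine iSup_le fun o => ?_
        cases o with
        | none => exact bot_le
        | some x => exact hfx1 x.1
      · intro x hx
        obtain ⟨y, hy⟩ := Set.mem_iUnion.1 (ht hx)
        obtain ⟨hyt, hy'⟩ := Set.mem_iUnion.1 hy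
        exact Opens.mem_iSup.2 ⟨some ⟨y, hyt⟩, hy'⟩
    let 𝒜 : Set X.Opens := {W | ∃ a : Γ(X, U.1), W = X.basicOpen a}
    have h𝒜 : ∀ W ∈ 𝒜, IsAffineOpen W := by
      rintro _ ⟨a, rfl⟩
      exact U.2.basicOpen a
    have hinf : ∀ W ∈ 𝒜, ∀ W' ∈ 𝒜, W ⊓ W' ∈ 𝒜 := by
      rintro _ ⟨a, rfl⟩ _ ⟨b, rfl⟩
      exact ⟨a * b, (Scheme.basicOpen_mul X a b).symm⟩
    have hWmem : ∀ o, W o ∈ 𝒜 := by
      intro o
      cases o with
      | none => exact ⟨0, (Scheme.basicOpen_zero X U.1).symm⟩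
      | some x => exact ⟨fx x.1, rfl⟩
    refine ⟨max (max dT (Nat.card (Option {x // x ∈ t}) + 1)) 1, fun M hM g p hp => ?_⟩
    haveI : M.IsQuasicoherent := hM
    obtain ⟨m, rfl⟩ : ∃ m, p = m + 1 := ⟨p - 1, by omega⟩
    -- the pulled back function on `U`
    let g' : Γ(X, U.1) := X.presheaf.map (homOfLE hUV).op (f.app V g)
    have hg' : X.basicOpen g' = U.1 ⊓ f ⁻¹ᵁ (S.basicOpen g) := by
      rw [Scheme.basicOpen_res, Scheme.preimage_basicOpen]
    have hsplit : (T ⊔ U.1) ⊓ f ⁻¹ᵁ (S.basicOpen g) =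
        (T ⊓ f ⁻¹ᵁ (S.basicOpen g)) ⊔ X.basicOpen g' := by
      rw [hg', inf_sup_right]
    rw [hsplit]
    apply HU_sup_subsingleton (X := X.toTopCat) (Coh.toAb M)
    · have h1 := HU_iSup_subsingleton M 𝒜 h𝒜 hinf (fun o => W o ⊓ X.basicOpen g')
        (fun o => hinf _ (hWmem o) _ ⟨g', rfl⟩) m (by omega)
      have h2 : (⨆ o, W o ⊓ X.basicOpen g') = (T ⊓ f ⁻¹ᵁ (S.basicOpen g)) ⊓ X.basicOpen g' := by
        rw [← iSup_inf_eq, hW, hg']
        apply le_antisymm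
        · refine le_inf (le_inf (inf_le_left.trans inf_le_left) (inf_le_right.trans inf_le_right))
            inf_le_right
        · refine le_inf (le_inf (inf_le_left.trans inf_le_left) (inf_le_right.trans inf_le_left))
            inf_le_right
      rw [h2] at h1
      exact h1
    · exact hdT M hM g (m + 1) (by omega)
    · exact HU_subsingleton_of_isAffineOpen M _ (U.2.basicOpen g') m

end Groth.Agent.Helper13.RelVanish
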