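import Mathlib
import Groth.Prelude.Def_CohCmp

/-! Degree-zero computations for units of `pullback ⊣ pushforward` on sections (helper13). -/

universe u
set_option linter.unusedSectionVars false
open CategoryTheory CategoryTheory.Limits Opposite TopologicalSpace AlgebraicGeometry
  AlgebraicGeometry.Scheme.Modules

namespace Groth.Agent.Helper13.ResLE0

variable {X Y Z : Scheme.{u}}

/-- unit of composite, module level -/
lemma unit_comp (f : X ⟶ Y) (g : Y ⟶ Z) (M : Z.Modules) :
    (pullbackPushforwardAdjunction g).unit.app M ≫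
      (pushforward g).map ((pullbackPushforwardAdjunction f).unit.app ((Scheme.Modules.pullback g).obj M)) ≫
      (pushforwardComp f g).hom.app _ =
    (pullbackPushforwardAdjunction (f ≫ g)).unit.app M ≫
      (pushforward (f ≫ g)).map ((pullbackComp f g).inv.app M) := by
  have := unit_conjugateEquiv ((pullbackPushforwardAdjunction g).comp (pullbackPushforwardAdjunction f))
      (pullbackPushforwardAdjunction (f ≫ g)) (pullbackComp f g).inv M
  rw [conjugateEquiv_pullbackComp_inv] at this
  simpa using this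

lemma unit_comp_app (f : X ⟶ Y) (g : Y ⟶ Z) (M : Z.Modules) (W : Z.Opens) :
    ((pullbackPushforwardAdjunction g).unit.app M).app W ≫
      ((pullbackPushforwardAdjunction f).unit.app ((Scheme.Modules.pullback g).obj M)).app (g ⁻¹ᵁ W) =
    ((pullbackPushforwardAdjunction (f ≫ g)).unit.app M).app W ≫
      ((pullbackComp f g).inv.app M).app ((f ≫ g) ⁻¹ᵁ W) := by
  have := congrArg (fun t => Scheme.Modules.Hom.app t W) (unit_comp f g M)
  simpa using this

lemma unit_id_app (M : X.Modules) (W : X.Opens) :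
    ((pullbackPushforwardAdjunction (𝟙 X)).unit.app M).app W ≫
      ((pullbackId X).hom.app M).app ((𝟙 X) ⁻¹ᵁ W) = 𝟙 _ := by
  have := unit_conjugateEquiv (Adjunction.id) (pullbackPushforwardAdjunction (𝟙 X)) (pullbackId X).hom M
  rw [conjugateEquiv_pullbackId_hom] at this
  have := congrArg (fun t => Scheme.Modules.Hom.app t W) this
  simpa using this.symm

lemma unit_congr_app {f g : X ⟶ Y} (e : f = g) (M : Y.Modules) (W : Y.Opens) :
    ((pullbackPushforwardAdjunction f).unit.app M).app W ≫
      ((pullbackCongr e).hom.app M).app (f ⁻¹ᵁ W) =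
    ((pullbackPushforwardAdjunction g).unit.app M).app W ≫
      ((Scheme.Modules.pullback g).obj M).presheaf.map (eqToHom (by rw [e])).op := by
  subst e
  simp [pullbackCongr]

lemma unit_rFIP_app (f : X ⟶ Y) [IsOpenImmersion f] (M : Y.Modules) (W : Y.Opens) :
    ((restrictAdjunction f).unit.app M).app W ≫
      ((restrictFunctorIsoPullback f).hom.app M).app (f ⁻¹ᵁ W) =
    ((pullbackPushforwardAdjunction f).unit.app M).app W := by
  have := Adjunction.unit_leftAdjointUniq_hom_app (restrictAdjunction f) (pullbackPushforwardAdjunction f) M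
  have := congrArg (fun t => Scheme.Modules.Hom.app t W) this
  exact this

lemma unit_rFIP_inv_app (f : X ⟶ Y) [IsOpenImmersion f] (M : Y.Modules) (W : Y.Opens) :
    ((pullbackPushforwardAdjunction f).unit.app M).app W ≫
      ((restrictFunctorIsoPullback f).inv.app M).app (f ⁻¹ᵁ W) =
    ((restrictAdjunction f).unit.app M).app W := by
  have h2 : ((restrictFunctorIsoPullback f).hom.app M).app (f ⁻¹ᵁ W) ≫
      ((restrictFunctorIsoPullback f).inv.app M).app (f ⁻¹ᵁ W) = 𝟙 _ := by
    rw [← Scheme.Modules.Hom.comp_app]; simp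
  exact (congrArg (fun t => t ≫ ((restrictFunctorIsoPullback f).inv.app M).app (f ⁻¹ᵁ W))
    (unit_rFIP_app f M W).symm).trans ((Category.assoc _ _ _).trans
      ((congrArg (fun t => ((restrictAdjunction f).unit.app M).app W ≫ t) h2).trans
        (Category.comp_id _)))

/-- naturality of the unit, on sections -/
lemma unit_nat_app (g : X ⟶ Y) {M N : Y.Modules} (φ : M ⟶ N) (W : Y.Opens) :
    ((pullbackPushforwardAdjunction g).unit.app M).app W ≫
      ((Scheme.Modules.pullback g).map φ).app (g ⁻¹ᵁ W) =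
    φ.app W ≫ ((pullbackPushforwardAdjunction g).unit.app N).app W := by
  have := (pullbackPushforwardAdjunction g).unit.naturality φ
  have := congrArg (fun t => Scheme.Modules.Hom.app t W) this
  exact this.symm

lemma hom_nat {M N : X.Modules} (φ : M ⟶ N) {V₁ V₂ : X.Opens} (i : V₁ ⟶ V₂) :
    M.presheaf.map i.op ≫ φ.app V₁ = φ.app V₂ ≫ N.presheaf.map i.op :=
  φ.mapPresheaf.naturality i.op



lemma unit_nat_apply (g : X ⟶ Y) {M N : Y.Modules} (φ : M ⟶ N) (W : Y.Opens) (x : Γ(M, W)) :
    ((Scheme.Modules.pullback g).map φ).app (g ⁻¹ᵁ W)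
      (((pullbackPushforwardAdjunction g).unit.app M).app W x) =
    ((pullbackPushforwardAdjunction g).unit.app N).app W (φ.app W x) :=
  ConcreteCategory.congr_hom (unit_nat_app g φ W) x

lemma unit_rFIP_apply (f : X ⟶ Y) [IsOpenImmersion f] (M : Y.Modules) (W : Y.Opens) (s : Γ(M, W)) :
    ((restrictFunctorIsoPullback f).hom.app M).app (f ⁻¹ᵁ W)
      (((restrictAdjunction f).unit.app M).app W s) =
    ((pullbackPushforwardAdjunction f).unit.app M).app W s :=
  ConcreteCategory.congr_hom (unit_rFIP_app f M W) s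

lemma unit_rFIP_inv_apply (f : X ⟶ Y) [IsOpenImmersion f] (M : Y.Modules) (W : Y.Opens)
    (s : Γ(M, W)) :
    ((restrictFunctorIsoPullback f).inv.app M).app (f ⁻¹ᵁ W)
      (((pullbackPushforwardAdjunction f).unit.app M).app W s) =
    ((restrictAdjunction f).unit.app M).app W s :=
  ConcreteCategory.congr_hom (unit_rFIP_inv_app f M W) s

lemma unit_comp_apply (f : X ⟶ Y) (g : Y ⟶ Z) (M : Z.Modules) (W : Z.Opens) (s : Γ(M, W)) :
    ((pullbackComp f g).hom.app M).app (f ⁻¹ᵁ (g ⁻¹ᵁ W))
      (((pullbackPushforwardAdjunction f).unit.app ((Scheme.Modules.pullback g).obj M)).app (g ⁻¹ᵁ W)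
        (((pullbackPushforwardAdjunction g).unit.app M).app W s)) =
    ((pullbackPushforwardAdjunction (f ≫ g)).unit.app M).app W s := by
  have h := ConcreteCategory.congr_hom (unit_comp_app f g M W) s
  have h2' : (pullbackComp f g).inv.app M ≫ (pullbackComp f g).hom.app M = 𝟙 _ := by simp
  have h2 : ((pullbackComp f g).inv.app M).app ((f ≫ g) ⁻¹ᵁ W) ≫
      ((pullbackComp f g).hom.app M).app (f ⁻¹ᵁ (g ⁻¹ᵁ W)) = 𝟙 _ :=
    congrArg (fun t => Scheme.Modules.Hom.app t ((f ≫ g) ⁻¹ᵁ W)) h2'
  have h3 := ConcreteCategory.congr_hom h2 (((pullbackPushforwardAdjunction (f ≫ g)).unit.app M).app W s)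
  exact (congrArg (fun t => ((pullbackComp f g).hom.app M).app (f ⁻¹ᵁ (g ⁻¹ᵁ W)) t) h).trans h3

lemma pullbackCongr_rfl_apply (f : X ⟶ Y) (M : Y.Modules) (V : X.Opens)
    (y : Γ((Scheme.Modules.pullback f).obj M, V)) :
    ((pullbackCongr (rfl : f = f)).hom.app M).app V y = y := by
  simp [pullbackCongr]

lemma left_unit_app (b : Y ⟶ X) (F : X.Modules) :
    (pullbackComp b (𝟙 X)).inv.app F ≫ (Scheme.Modules.pullback b).map ((pullbackId X).hom.app F) =
      (pullbackCongr (Category.comp_id b)).hom.app F := by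
  have := congrArg (fun t => t.app F) (pseudofunctor_left_unitality b)
  simp only [NatTrans.comp_app, Functor.whiskerRight_app, Functor.leftUnitor_hom_app] at this
  have h2 : (Scheme.Modules.pullback b).map ((pullbackId X).hom.app F) ≫
      𝟙 ((Scheme.Modules.pullback b).obj F) =
      (Scheme.Modules.pullback b).map ((pullbackId X).hom.app F) := Category.comp_id _
  rw [h2] at this
  rw [this]
  simp [pullbackCongr]

lemma pullbackCongr_trans {f g k : Y ⟶ X} (e : f = g) (e' : g = k) (F : X.Modules) :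
    (pullbackCongr e).hom.app F ≫ (pullbackCongr e').hom.app F = (pullbackCongr (e.trans e')).hom.app F := by
  subst e; subst e'
  simp [pullbackCongr]


section Generic
variable {U₀ U₁ : Scheme.{u}} (j : U₁ ⟶ U₀) (a : U₀ ⟶ X) (b : U₁ ⟶ X)
  [IsOpenImmersion a] [IsOpenImmersion b] (e : j ≫ a = b)

/-- generic comparison `j^*(F|a) ⟶ F|b` for `j ≫ a = b` -/
noncomputable def γ (F : X.Modules) :
    (Scheme.Modules.pullback j).obj ((restrictFunctor a).obj F) ⟶ (restrictFunctor b).obj F :=
  (Scheme.Modules.pullback j).map ((restrictFunctorIsoPullback a).hom.app F) ≫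
    (pullbackComp j a).hom.app F ≫ (pullbackCongr e).hom.app F ≫
    (restrictFunctorIsoPullback b).inv.app F

lemma γ_app (F : X.Modules) (W : X.Opens) (s : Γ(F, W)) :
    (γ j a b e F).app (j ⁻¹ᵁ (a ⁻¹ᵁ W))
      (((pullbackPushforwardAdjunction j).unit.app ((restrictFunctor a).obj F)).app (a ⁻¹ᵁ W)
        (((restrictAdjunction a).unit.app F).app W s)) =
    F.presheaf.map (homOfLE (by
      subst e
      exact (Scheme.Hom.image_preimage_le (j ≫ a) W))).op s := by
  subst e
  dsimp only [γ]
  simp only [Scheme.Modules.Hom.comp_app, ConcreteCategory.comp_apply]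
  rw [unit_nat_apply, unit_rFIP_apply, unit_comp_apply, pullbackCongr_rfl_apply]
  exact unit_rFIP_inv_apply (j ≫ a) F W s

end Generic

end Groth.Agent.Helper13.ResLE0
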