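import Mathlib
import Groth.Prelude.Def_CohCmp
import Groth.Agent.Lib.Helper13.ResLE
import Groth.Agent.Lib.Helper13.ResLE0

universe u
set_option linter.unusedSectionVars false
open CategoryTheory CategoryTheory.Limits Opposite TopologicalSpace AlgebraicGeometry
  AlgebraicGeometry.Scheme.Modules Abelian

namespace Groth.Agent.Helper13.ResLE

variable {X : Scheme.{u}} {U U' : X.Opens} (h : U' ≤ U)

lemma e' : jj h ≫ U.ι = U'.ι :=
  (Scheme.Hom.resLE_comp_ι (𝟙 X) (le' h)).trans (Category.comp_id _)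

lemma cc_eq (F : X.Modules) : cc h F = ResLE0.γ (jj h) U.ι U'.ι (e' h) F := by
  dsimp only [cc, CohPull.pullOnIso, ResLE0.γ]
  simp only [Iso.trans_hom, Functor.mapIso_hom, Iso.app_hom, Iso.symm_hom, Iso.app_inv,
    Category.assoc]
  have n := (restrictFunctorIsoPullback U'.ι).inv.naturality ((pullbackId X).hom.app F)
  have key : (pullbackCongr (Scheme.Hom.resLE_comp_ι (𝟙 X) (le' h))).hom.app F ≫
      (pullbackComp U'.ι (𝟙 X)).inv.app F ≫
        (restrictFunctorIsoPullback U'.ι).inv.app ((Scheme.Modules.pullback (𝟙 X)).obj F) ≫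
          (restrictFunctor U'.ι).map ((pullbackId X).hom.app F) =
      (pullbackCongr (e' h)).hom.app F ≫ (restrictFunctorIsoPullback U'.ι).inv.app F := by
    rw [← n]
    rw [← Category.assoc ((pullbackComp U'.ι (𝟙 X)).inv.app F)]
    erw [ResLE0.left_unit_app U'.ι F]
    rw [← Category.assoc, ResLE0.pullbackCongr_trans]
    rfl
  exact congrArg (fun t => (Scheme.Modules.pullback (jj h)).map ((restrictFunctorIsoPullback U.ι).hom.app F) ≫
      (pullbackComp (jj h) U.ι).hom.app F ≫ t) key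


/-- the transposed comparison `F|U ⟶ j_*(F|U')` -/
noncomputable def lam (F : X.Modules) :
    F.restrict U.ι ⟶ (pushforward (jj h)).obj (F.restrict U'.ι) :=
  (pullbackPushforwardAdjunction (jj h)).unit.app (F.restrict U.ι) ≫
    (pushforward (jj h)).map (cc h F)

lemma hle (W : X.Opens) : U'.ι ''ᵁ ((jj h) ⁻¹ᵁ (U.ι ⁻¹ᵁ W)) ≤ W := by
  have e : (jj h) ⁻¹ᵁ (U.ι ⁻¹ᵁ W) = U'.ι ⁻¹ᵁ W := by
    rw [← Scheme.Hom.comp_preimage, e' h]
  rw [e]
  exact Scheme.Hom.image_preimage_le U'.ι W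

lemma lam_app_unit (F : X.Modules) (W : X.Opens) (s : Γ(F, W)) :
    (lam h F).app (U.ι ⁻¹ᵁ W) (((restrictAdjunction U.ι).unit.app F).app W s) =
      (F.presheaf.map (homOfLE (hle h W)).op s : Γ(F, U'.ι ''ᵁ ((jj h) ⁻¹ᵁ (U.ι ⁻¹ᵁ W)))) := by
  have := ResLE0.γ_app (jj h) U.ι U'.ι (e' h) F W s
  rw [← cc_eq] at this
  exact this

lemma map_map_eq (F : X.Modules) {A B C : X.Opens} (k₁ : B ⟶ A) (k₂ : C ⟶ B) (k₃ : C ⟶ A)
    (s : Γ(F, A)) :
    F.presheaf.map k₂.op (F.presheaf.map k₁.op s) = F.presheaf.map k₃.op s := by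
  rw [← ConcreteCategory.comp_apply, ← Functor.map_comp, ← op_comp]
  exact congrArg (fun k => F.presheaf.map (Quiver.Hom.op k) s) (Subsingleton.elim _ _)

lemma lam_app_top (F : X.Modules) (s : Γ(F, U)) :
    (lam h F).app ⊤ (F.presheaf.map (eqToHom U.ι_image_top).op s) =
      F.presheaf.map (eqToHom U'.ι_image_top).op (F.presheaf.map (homOfLE h).op s) := by
  let i : (⊤ : (U : Scheme.{u}).Opens) ⟶ U.ι ⁻¹ᵁ U := homOfLE (by simp)
  let x0 : Γ(F.restrict U.ι, U.ι ⁻¹ᵁ U) := ((restrictAdjunction U.ι).unit.app F).app U s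
  have e1 : F.presheaf.map (eqToHom U.ι_image_top).op s =
      (F.restrict U.ι).presheaf.map i.op x0 :=
    (map_map_eq F (homOfLE (U.ι.image_preimage_le U)) (U.ι.opensFunctor.map i) _ s).symm
  have h2 : (lam h F).app ⊤ ((F.restrict U.ι).presheaf.map i.op x0) =
      ((pushforward (jj h)).obj (F.restrict U'.ι)).presheaf.map i.op
        ((lam h F).app (U.ι ⁻¹ᵁ U) x0) :=
    ConcreteCategory.congr_hom (ResLE0.hom_nat (lam h F) i) x0
  have h3 : (lam h F).app (U.ι ⁻¹ᵁ U) x0 = _ := lam_app_unit h F U s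
  refine (congrArg (fun t => (lam h F).app ⊤ t) e1).trans (h2.trans ?_)
  refine (congrArg (fun t => ((pushforward (jj h)).obj (F.restrict U'.ι)).presheaf.map i.op t)
    h3).trans ?_
  have hk : U'.ι ''ᵁ ((Opens.map (jj h).base).obj ⊤) ≤ U := (Scheme.Opens.ι_image_le U' _).trans h
  refine (map_map_eq F (homOfLE (hle h U))
    (U'.ι.opensFunctor.map ((Opens.map (jj h).base).map i)) (homOfLE hk) s).trans ?_
  exact (map_map_eq F (homOfLE h) (eqToHom U'.ι_image_top) (homOfLE hk) s).symm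


lemma equiv₀_sectH0 {V : X.Opens} (F : X.Modules) (t : F.presheaf.obj (op V)) :
    Sheaf.H.equiv₀ (Coh.toAb (F.restrict V.ι)) isTerminalTop (CohPull.sectH0 F V t) =
      F.presheaf.map (eqToHom V.ι_image_top).op t := by
  simp only [CohPull.sectH0, AddEquiv.trans_apply, AddEquiv.apply_symm_apply]
  rfl

theorem resLE_sectH0 (F : X.Modules) (s : F.presheaf.obj (op U)) :
    CohPull.resLE F h 0 (CohPull.sectH0 F U s) =
      CohPull.sectH0 F U' (F.presheaf.map (homOfLE h).op s) := by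
  apply (Sheaf.H.equiv₀ (Coh.toAb (F.restrict U'.ι)) isTerminalTop).injective
  rw [equiv₀_sectH0]
  have hL : CohPull.resLE F h 0 (CohPull.sectH0 F U s) =
      CohPull.mapH (cc h F) 0
        (CohPull.pullMod (jj h) (F.restrict U.ι) 0 (CohPull.sectH0 F U s)) := by
    show Sheaf.H.map _ 0 (Sheaf.H.map _ 0 _) = _
    rw [← Sheaf.H.map_comp_apply, ← Functor.map_comp]
    rfl
  rw [hL]
  refine (Sheaf.H.equiv₀_naturality _ _ _).symm.trans ?_
  rw [CohPull.equiv₀_pullMod, equiv₀_sectH0]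
  exact lam_app_top h F s

end Groth.Agent.Helper13.ResLE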