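import Mathlib
import Groth.Prelude.Def_PerfAux
import Groth.Prelude.Def_LCI2
import Groth.Agent.Lib.Helper13.ResAffine
import Groth.Agent.Lib.Helper13.InvTwist
import Groth.Agent.Lib.Helper13.CounitTwist
import Groth.Agent.Lib.Helper13.FinGlobGen
import Groth.Agent.Lib.Helper13.FinTypeRestrict
import Groth.Agent.Lib.Helper13.RelAmpleComp
import Groth.Agent.Lib.Helper13.AmpleBasis

/-!
# The resolution property passes up along morphisms with a relatively ample invertible module
-/

set_option autoImplicit false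
set_option maxHeartbeats 400000
universe u
open CategoryTheory CategoryTheory.Limits AlgebraicGeometry Opposite TopologicalSpace
open Groth.Agent.Helper13.QCoh Groth.Agent.Helper13.FinType Groth.Agent.Helper13.PbGen
open Groth.Agent.Helper13.Qcqs Groth.Agent.Helper13.QCohLoc Groth.Agent.Helper13.CounitGen
open Groth.Agent.Helper13.Inv Groth.Agent.Helper13.GlobGen

namespace Groth.Agent.Helper13.ResRelAmple

variable {X Y : Scheme.{u}}

/-- a finite type module whose stalks at the points of a quasi-compact open `W` are spanned by the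
germs of sections over `W`: finitely many sections over `W` suffice. -/
theorem exists_fin_secs (M : X.Modules) [SheafOfModules.IsFiniteType (R := X.ringCatSheaf) M]
    (W : X.Opens) (hW : IsCompact (W : Set X))
    (h : ∀ (y : X) (hy : y ∈ W), secSpan M W y hy = ⊤) :
    ∃ (n : ℕ) (t : Fin n → Γ(M, W)), ∀ (y : X) (hy : y ∈ W), Ext.germSpanAt M t y hy = ⊤ := by
  haveI : CompactSpace (W : Scheme.{u}) := isCompact_iff_compactSpace.1 hW
  haveI := isFiniteType_restrict W.ι M
  have hgg : ∀ y : ↥W, GGAt (M.restrict W.ι) y := fun y =>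
    (ggAt_restrict_iff M W y).2 (h _ _)
  obtain ⟨n, t, ht⟩ := Groth.Agent.Helper13.FinGlobGen.exists_fin_genOn (M.restrict W.ι) hgg
  have hWtop : W.ι ''ᵁ ⊤ = W := Scheme.Opens.ι_image_top W
  refine ⟨n, fun i => M.presheaf.map (eqToHom hWtop.symm).op (show Γ(M, W.ι ''ᵁ ⊤) from t i), ?_⟩
  intro y hy
  have h1 := ht ⟨y, hy⟩ trivial
  have hbij : Function.Bijective (W.ι.stalkMap ⟨y, hy⟩) :=
    (ConcreteCategory.isIso_iff_bijective (W.ι.stalkMap ⟨y, hy⟩)).1 inferInstance
  rw [span_eq_top_iff_of_semilinear (W.ι.stalkMap ⟨y, hy⟩).hom hbij.2 (τ W.ι M ⟨y, hy⟩)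
    (fun r m => τ_smul W.ι M ⟨y, hy⟩ r m)] at h1
  have hset : (τ W.ι M ⟨y, hy⟩) '' (Set.range fun i =>
      (M.restrict W.ι).presheaf.germ ⊤ ⟨y, hy⟩ trivial (t i)) =
      Set.range fun i => M.presheaf.germ W (W.ι ⟨y, hy⟩) hy
        (M.presheaf.map (eqToHom hWtop.symm).op (show Γ(M, W.ι ''ᵁ ⊤) from t i)) := by
    ext m
    constructor
    · rintro ⟨_, ⟨i, rfl⟩, rfl⟩
      refine ⟨i, ?_⟩
      rw [τ_germ]
      exact TopCat.Presheaf.germ_res_apply M.presheaf (eqToHom hWtop.symm) (W.ι ⟨y, hy⟩) hy _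
    · rintro ⟨i, rfl⟩
      refine ⟨_, ⟨i, rfl⟩, ?_⟩
      rw [τ_germ]
      exact (TopCat.Presheaf.germ_res_apply M.presheaf (eqToHom hWtop.symm) (W.ι ⟨y, hy⟩) hy _).symm
  rw [hset] at h1
  exact h1

variable (f : X ⟶ Y)

/-- a quasi-coherent module of finite type generated, locally over the base, by finitely many
sections is a quotient of the pullback of a quasi-coherent module of finite type on the base. -/
theorem exists_epi_pullback_ft_of_gen [QuasiCompact f] [QuasiSeparated f] [CompactSpace Y]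
    [QuasiSeparatedSpace Y] (M : X.Modules) [M.IsQuasicoherent]
    (hgen : ∀ V : Y.affineOpens, ∃ (n : ℕ) (t : Fin n → Γ(M, f ⁻¹ᵁ V.1)),
      ∀ (x : X) (hx : x ∈ f ⁻¹ᵁ V.1), Ext.germSpanAt M t x hx = ⊤) :
    ∃ (J : Y.Modules) (ψ : (Scheme.Modules.pullback f).obj J ⟶ M), J.IsQuasicoherent ∧
      SheafOfModules.IsFiniteType (R := Y.ringCatSheaf) J ∧ Epi ψ := by
  haveI : ((Scheme.Modules.pushforward f).obj M).IsQuasicoherent :=
    isQuasicoherent_pushforward_of_qcqs f M
  obtain ⟨s, hsfin, hs⟩ := (isCompact_iff_finite_and_eq_biUnion_affineOpens (U := (⊤ : Y.Opens))).1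
    (by simpa using isCompact_univ)
  haveI : Finite s := hsfin.to_subtype
  choose n t ht using hgen
  obtain ⟨J, φ, hmono, hq, hft, hg⟩ := FTSub.exists_ft_sub_through_sections
    ((Scheme.Modules.pushforward f).obj M) (Σ V : s, Fin (n V.1)) (fun c => c.1.1.1)
    (fun c => c.1.1.2.isCompact) (fun c => t c.1.1 c.2)
  choose g hg using hg
  refine ⟨J, ((Scheme.Modules.pullbackPushforwardAdjunction f).homEquiv J M).symm φ, hq, hft, ?_⟩
  set ψ := ((Scheme.Modules.pullbackPushforwardAdjunction f).homEquiv J M).symm φ with hψ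
  have hψ' : (Scheme.Modules.pullbackPushforwardAdjunction f).homEquiv J M ψ = φ := by
    rw [hψ, Equiv.apply_symm_apply]
  rw [epi_iff_stalkMap_surjective]
  intro x
  have hx : f x ∈ (⊤ : Y.Opens) := trivial
  rw [hs] at hx
  simp only [Opens.mem_iSup] at hx
  obtain ⟨V, hVs, hxV⟩ := hx
  have htop := ht V x hxV
  have hle : Ext.germSpanAt M (t V) x hxV ≤ LinearMap.range (stalkLinearMap ψ x) := by
    apply Submodule.span_le.2
    rintro _ ⟨k, rfl⟩
    refine ⟨((Scheme.Modules.pullback f).obj J).presheaf.germ (f ⁻¹ᵁ V.1) x hxV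
      (ηsec f J V.1 (g ⟨⟨V, hVs⟩, k⟩)), ?_⟩
    rw [stalkLinearMap_apply, stalkMap_germ, ← homEquiv_app, hψ']
    exact congrArg _ (hg ⟨⟨V, hVs⟩, k⟩)
  intro m
  have hm : m ∈ Ext.germSpanAt M (t V) x hxV := by rw [htop]; trivial
  obtain ⟨m', hm'⟩ := hle hm
  exact ⟨m', hm'⟩

/-- if the counit `f^* f_* M ⟶ M` is an epimorphism (`f` qcqs, `Y` qcqs, `M` quasi-coherent of
finite type), then `M` is a quotient of `f^* J` for a quasi-coherent `J` of finite type. -/
theorem exists_epi_pullback_ft_of_epi_counit [QuasiCompact f] [QuasiSeparated f] [CompactSpace Y]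
    [QuasiSeparatedSpace Y] (M : X.Modules) [M.IsQuasicoherent]
    [SheafOfModules.IsFiniteType (R := X.ringCatSheaf) M] (hε : Epi (ε f M)) :
    ∃ (J : Y.Modules) (ψ : (Scheme.Modules.pullback f).obj J ⟶ M), J.IsQuasicoherent ∧
      SheafOfModules.IsFiniteType (R := Y.ringCatSheaf) J ∧ Epi ψ := by
  apply exists_epi_pullback_ft_of_gen f M
  intro V
  have hc : IsCompact ((f ⁻¹ᵁ V.1 : X.Opens) : Set X) := f.isCompact_preimage V.2.isCompact
  have hq : IsQuasiSeparated ((f ⁻¹ᵁ V.1 : X.Opens) : Set X) := by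
    refine (isQuasiSeparated_iff_quasiSeparatedSpace _ (f ⁻¹ᵁ V.1).2).2 ?_
    haveI : IsAffine (V.1 : Scheme.{u}) := V.2
    exact quasiSeparatedSpace_of_quasiSeparated (f ∣_ V.1)
  apply exists_fin_secs M _ hc
  intro y hy
  rw [← relSpan_eq_secSpan f M V.1 V.2 hc hq y hy]
  exact (epi_ε_iff f M).1 hε y

/-- **the resolution property passes up along a morphism with a relatively ample module.** -/
theorem hasResolutionProperty_of_isRelAmple [CompactSpace Y] [QuasiSeparatedSpace Y]
    (hY : PerfAux.HasResolutionProperty Y) (L : X.Modules) (hL : RelAmple.IsRelAmple f L) :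
    PerfAux.HasResolutionProperty X := by
  intro F hFq hFf
  haveI : F.IsQuasicoherent := hFq
  haveI : SheafOfModules.IsFiniteType (R := X.ringCatSheaf) F := hFf
  haveI : QuasiCompact f := hL.1
  haveI : QuasiSeparated f := by
    rw [HasAffineProperty.eq_targetAffineLocally (P := @QuasiSeparated)]
    intro V
    exact Groth.Agent.Helper13.Ample.quasiSeparatedSpace_of_isAmple _ (hL.2 V)
  have hLinv := Groth.Agent.Helper13.RelAmpleComp.isInvertible_of_isRelAmple f L hL
  obtain ⟨N, hN⟩ := Groth.Agent.Helper13.CounitTwist.exists_epi_counit_twist f L hL F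
  have hLN : PicF.IsInvertible (CohB1.tensorPow L N) := isInvertible_tensorPow L hLinv N
  haveI : (CohB1.tensorPow L N).IsQuasicoherent := isQuasicoherent_of_isInvertible _ hLN
  haveI : SheafOfModules.IsFiniteType (R := X.ringCatSheaf) (CohB1.tensorPow L N) :=
    isFiniteType_of_isInvertible _ hLN
  haveI : SheafOfModules.IsFiniteType (R := X.ringCatSheaf)
      (CohB1.tensorMod F (CohB1.tensorPow L N)) := Tensor.isFiniteType_tensorMod _ _
  obtain ⟨J, ψ, hJq, hJf, hψ⟩ := exists_epi_pullback_ft_of_epi_counit f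
    (CohB1.tensorMod F (CohB1.tensorPow L N)) (hN N le_rfl)
  obtain ⟨E, π, hE, hπ⟩ := hY J hJq hJf
  haveI := hπ
  haveI := hψ
  haveI : (Scheme.Modules.pullback f).IsLeftAdjoint :=
    (Scheme.Modules.pullbackPushforwardAdjunction f).isLeftAdjoint
  haveI : Epi ((Scheme.Modules.pullback f).map π) := inferInstance
  haveI : Epi ((Scheme.Modules.pullback f).map π ≫ ψ) := epi_comp _ _
  haveI := Groth.Agent.Helper13.InvTwist.epi_map_id ((Scheme.Modules.pullback f).map π ≫ ψ)
    (InvDual.dual (CohB1.tensorPow L N))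
  exact ⟨CohB1.tensorMod ((Scheme.Modules.pullback f).obj E) (InvDual.dual (CohB1.tensorPow L N)),
    Tensor.map ((Scheme.Modules.pullback f).map π ≫ ψ) (𝟙 _) ≫
      (Groth.Agent.Helper13.InvTwist.untwist F (CohB1.tensorPow L N) hLN).hom,
    Groth.Agent.Helper13.InvTwist.isFinLocFree_tensor_invertible _ _
      (Groth.Agent.Helper13.ResAffine.isFinLocFree_pullback f E hE)
      (InvDual.isInvertible_dual _ hLN), epi_comp _ _⟩

end Groth.Agent.Helper13.ResRelAmple
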