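import Mathlib
import Groth.Prelude.Def_Coh
import Groth.Agent.Lib.Helper13.BasicOpenRes
import Groth.Agent.Lib.Helper13.BasisGlueRel
import Groth.Agent.Lib.Helper13.ResCompare
import Groth.Agent.Lib.Helper13.RpushGlobal

universe u
set_option linter.unusedSectionVars false
open CategoryTheory CategoryTheory.Limits Opposite TopologicalSpace AlgebraicGeometry

namespace Groth.Agent.Helper13.RpushRel

open Groth.Agent.Helper24.CechH Groth.Agent.Helper13.DeltaPsh Groth.Agent.Helper13.BasicOpenCoh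
  Groth.Agent.Helper13.ResBij Groth.Agent.Helper13.BasicOpenRes Groth.Agent.Helper13.BasisGlueRel
  Groth.Agent.Helper13.ResCompare

section Open
variable {X : Scheme.{u}} (U : X.Opens) (M : X.Modules) (q : ℕ)

/-- the chosen comparison morphism -/
noncomputable def τ : T₁ X.toTopCat ⟶ T₂ (X := X.toTopCat) U := (exists_compare (X := X.toTopCat) U).choose

lemma τ_bijective (n : ℕ) (F : CohTop.Ab X.toTopCat) (W : X.Opens) (hW : W ≤ U) :
    Function.Bijective ((((τ U).app n).app F).app (op W)).hom :=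
  (exists_compare (X := X.toTopCat) U).choose_spec n F W hW

/-- `W ↦ H^q(W, M)` -/
noncomputable abbrev PX : X.Opensᵒᵖ ⥤ AddCommGrpCat.{u} := ((T₁ X.toTopCat).F q).obj (Coh.toAb M)

/-- `G ↦ (W ↦ H^q(W ∩ U, G))` -/
noncomputable abbrev GU : CohTop.Ab (TopCat.of U) ⥤ (X.Opensᵒᵖ ⥤ AddCommGrpCat.{u}) :=
  (RpushShf.Tpsh (Opens.grothendieckTopology (TopCat.of U)) (Opens.map (RestrCoh.incl U))).F q

/-- `W ↦ H^q(W ∩ U, M|_U)` -/
noncomputable abbrev Q : X.Opensᵒᵖ ⥤ AddCommGrpCat.{u} :=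
  (GU U q).obj ((CohTop.restrFunctor (X := X.toTopCat) U).obj (Coh.toAb M))

/-- the comparison -/
noncomputable def θ : PX M q ⟶ Q U M q := ((τ U).app q).app (Coh.toAb M)

/-- multiplication by a function on `U`, on the restricted sheaf -/
noncomputable def σ (a : Γ((U : Scheme.{u}), ⊤)) :
    (CohTop.restrFunctor (X := X.toTopCat) U).obj (Coh.toAb M) ⟶
      (CohTop.restrFunctor (X := X.toTopCat) U).obj (Coh.toAb M) :=
  Coh.smulAb (M.restrict U.ι) a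

lemma σ_one : σ U M 1 = 𝟙 _ := Coh.smulAb_one (M.restrict U.ι)

lemma σ_mul (a b : Γ((U : Scheme.{u}), ⊤)) : σ U M (a * b) = σ U M b ≫ σ U M a :=
  Coh.smulAb_mul (M.restrict U.ι) a b

lemma σ_add (a b : Γ((U : Scheme.{u}), ⊤)) : σ U M (a + b) = σ U M a + σ U M b :=
  Coh.smulAb_add (M.restrict U.ι) a b

/-- the action of a function on `U` on `Q` -/
noncomputable def α (a : Γ((U : Scheme.{u}), ⊤)) : Q U M q ⟶ Q U M q :=
  (GU U q).map (σ U M a)

/-- the comparison as an equivalence -/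
noncomputable def eθ (W : X.Opens) (hW : W ≤ U) : (PX M q).obj (op W) ≃+ (Q U M q).obj (op W) :=
  AddEquiv.ofBijective ((θ U M q).app (op W)).hom (τ_bijective U q (Coh.toAb M) W hW)

lemma eθ_apply (W : X.Opens) (hW : W ≤ U) (x : (PX M q).obj (op W)) :
    eθ U M q W hW x = ((θ U M q).app (op W)).hom x := rfl

/-- the transported action on `H^q(W, M)`, `W ≤ U` -/
noncomputable def actX (a : Γ((U : Scheme.{u}), ⊤)) (W : X.Opens) (hW : W ≤ U) :
    (PX M q).obj (op W) →+ (PX M q).obj (op W) :=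
  (eθ U M q W hW).symm.toAddMonoidHom.comp
    (((α U M q a).app (op W)).hom.comp (eθ U M q W hW).toAddMonoidHom)

lemma eθ_actX (a : Γ((U : Scheme.{u}), ⊤)) (W : X.Opens) (hW : W ≤ U) (x : (PX M q).obj (op W)) :
    eθ U M q W hW (actX U M q a W hW x) = ((α U M q a).app (op W)).hom (eθ U M q W hW x) := by
  show eθ U M q W hW ((eθ U M q W hW).symm _) = _
  rw [AddEquiv.apply_symm_apply]
  rfl

lemma eθ_res {W W' : X.Opens} (hW : W ≤ U) (h : W' ≤ W) (x : (PX M q).obj (op W)) :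
    eθ U M q W' (h.trans hW) (((PX M q).map (homOfLE h).op).hom x) =
      ((Q U M q).map (homOfLE h).op).hom (eθ U M q W hW x) :=
  congrArg (fun m => m.hom x) ((θ U M q).naturality (homOfLE h).op)

lemma α_res (a : Γ((U : Scheme.{u}), ⊤)) {W W' : X.Opens} (h : W' ≤ W) (y : (Q U M q).obj (op W)) :
    ((Q U M q).map (homOfLE h).op).hom (((α U M q a).app (op W)).hom y) =
      ((α U M q a).app (op W')).hom (((Q U M q).map (homOfLE h).op).hom y) :=
  (congrArg (fun m => m.hom y) ((α U M q a).naturality (homOfLE h).op)).symm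

lemma α_one : α U M q 1 = 𝟙 _ :=
  (congrArg (GU U q).map (σ_one U M)).trans ((GU U q).map_id _)

lemma α_mul (a b : Γ((U : Scheme.{u}), ⊤)) : α U M q (a * b) = α U M q b ≫ α U M q a := by
  exact (congrArg (GU U q).map (σ_mul U M a b)).trans ((GU U q).map_comp _ _)

lemma α_add (a b : Γ((U : Scheme.{u}), ⊤)) : α U M q (a + b) = α U M q a + α U M q b := by
  exact (congrArg (GU U q).map (σ_add U M a b)).trans ((GU U q).map_add)

lemma α_app (a : Γ((U : Scheme.{u}), ⊤)) (W : X.Opens) :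
    (α U M q a).app (op W) =
      (HUq (X := (U : Scheme.{u}).toTopCat) q (U.ι ⁻¹ᵁ W)).map (Coh.smulAb (M.restrict U.ι) a) := rfl

lemma Q_map {W W' : X.Opens} (h : W' ≤ W) :
    (Q U M q).map (homOfLE h).op =
      rr (X := (U : Scheme.{u})) q (U.ι.preimage_mono h) (Coh.toAb (M.restrict U.ι)) := rfl

end Open

section Rel
variable {X S : Scheme.{u}} (f : X ⟶ S) (V : S.Opens) (M : X.Modules) (q : ℕ)

/-- the ring map `Γ(S, V) → Γ(f⁻¹ V, ⊤)` -/
noncomputable def φ : Γ(S, V) →+* Γ((f ⁻¹ᵁ V : Scheme.{u}), ⊤) :=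
  ((f ⁻¹ᵁ V).topIso.inv).hom.comp (f.app V).hom

lemma basicOpen_φ (h : Γ(S, V)) :
    (f ⁻¹ᵁ V).ι ⁻¹ᵁ (f ⁻¹ᵁ (S.basicOpen h)) = (f ⁻¹ᵁ V : Scheme.{u}).basicOpen (φ f V h) := by
  have h1 := Scheme.Opens.ι_image_basicOpen_topIso_inv (f ⁻¹ᵁ V) (f.app V h)
  rw [Scheme.preimage_basicOpen, ← h1, Scheme.Hom.preimage_image_eq]
  rfl

/-- the partial action of `Γ(S, V)` on `W ↦ H^q(f⁻¹ W, M)`, `W ≤ V` -/
noncomputable def act (a : Γ(S, V)) (W : S.Opens) (hW : W ≤ V) :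
    (RpushGlobal.P f M q).obj (op W) →+ (RpushGlobal.P f M q).obj (op W) :=
  actX (f ⁻¹ᵁ V) M q (φ f V a) (f ⁻¹ᵁ W) (f.preimage_mono hW)

lemma P_map {W W' : S.Opens} (h : W' ≤ W) :
    (RpushGlobal.P f M q).map (homOfLE h).op = (PX M q).map (homOfLE (f.preimage_mono h)).op := rfl

theorem hyp [CompactSpace (f ⁻¹ᵁ V : Scheme.{u})] [QuasiSeparatedSpace (f ⁻¹ᵁ V : Scheme.{u})]
    [M.IsQuasicoherent] : Hyp V (RpushGlobal.P f M q) (act f V M q) := by
  haveI : (M.restrict (f ⁻¹ᵁ V).ι).IsQuasicoherent := inferInstance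
  refine ⟨?_, ?_, ?_, ?_, ?_, ?_, ?_⟩
  · intro W hW x
    apply (eθ (f ⁻¹ᵁ V) M q (f ⁻¹ᵁ W) (f.preimage_mono hW)).injective
    show eθ _ M q _ _ (actX _ M q _ _ _ x) = _
    rw [eθ_actX, map_one, α_one]
    rfl
  · intro a b W hW x
    apply (eθ (f ⁻¹ᵁ V) M q (f ⁻¹ᵁ W) (f.preimage_mono hW)).injective
    show eθ _ M q _ _ (actX _ M q _ _ _ x) = eθ _ M q _ _ (actX _ M q _ _ _ (actX _ M q _ _ _ x))
    rw [eθ_actX, eθ_actX, eθ_actX, map_mul, α_mul]
    rfl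
  · intro a b W hW x
    apply (eθ (f ⁻¹ᵁ V) M q (f ⁻¹ᵁ W) (f.preimage_mono hW)).injective
    show eθ _ M q _ _ (actX _ M q _ _ _ x) =
      eθ _ M q _ _ (actX _ M q _ _ _ x + actX _ M q _ _ _ x)
    have e1 : eθ (f ⁻¹ᵁ V) M q (f ⁻¹ᵁ W) (f.preimage_mono hW)
        (actX (f ⁻¹ᵁ V) M q (φ f V (a + b)) (f ⁻¹ᵁ W) (f.preimage_mono hW) x) =
        ((α (f ⁻¹ᵁ V) M q (φ f V a + φ f V b)).app (op (f ⁻¹ᵁ W))).hom
          (eθ (f ⁻¹ᵁ V) M q (f ⁻¹ᵁ W) (f.preimage_mono hW) x) := by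
      rw [eθ_actX, map_add]
    rw [e1, α_add, AddEquiv.map_add, eθ_actX, eθ_actX]
    rfl
  · intro a W W' hW h x
    apply (eθ (f ⁻¹ᵁ V) M q (f ⁻¹ᵁ W') (f.preimage_mono (h.trans hW))).injective
    show eθ _ M q _ _ (((PX M q).map (homOfLE (f.preimage_mono h)).op).hom (actX _ M q _ _ _ x)) =
      eθ _ M q _ _ (actX _ M q _ _ _ (((PX M q).map (homOfLE (f.preimage_mono h)).op).hom x))
    rw [eθ_res (f ⁻¹ᵁ V) M q (f.preimage_mono hW) (f.preimage_mono h), eθ_actX, eθ_actX, α_res,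
      eθ_res (f ⁻¹ᵁ V) M q (f.preimage_mono hW) (f.preimage_mono h)]
  · intro h x y hxy
    apply (eθ (f ⁻¹ᵁ V) M q (f ⁻¹ᵁ (S.basicOpen h))
      (f.preimage_mono (S.basicOpen_le h))).injective
    have h1 := congrArg (eθ (f ⁻¹ᵁ V) M q (f ⁻¹ᵁ (S.basicOpen h))
      (f.preimage_mono (S.basicOpen_le h))) hxy
    change eθ _ M q _ _ (actX _ M q _ _ _ x) = eθ _ M q _ _ (actX _ M q _ _ _ y) at h1
    rw [eθ_actX, eθ_actX, α_app] at h1
    exact (act_bijective (X := (f ⁻¹ᵁ V : Scheme.{u})) (φ f V h) (M.restrict (f ⁻¹ᵁ V).ι) q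
      (basicOpen_φ f V h).le).1 h1
  · intro h y
    obtain ⟨n, x', hx'⟩ := exists_pow_smul_eq_res' (X := (f ⁻¹ᵁ V : Scheme.{u})) (φ f V h)
      (M.restrict (f ⁻¹ᵁ V).ι) q (basicOpen_φ f V h) (Scheme.Opens.ι_preimage_self _)
      ((f ⁻¹ᵁ V).ι.preimage_mono (f.preimage_mono (S.basicOpen_le h)))
      (eθ (f ⁻¹ᵁ V) M q (f ⁻¹ᵁ (S.basicOpen h)) (f.preimage_mono (S.basicOpen_le h)) y)
    refine ⟨n, (eθ (f ⁻¹ᵁ V) M q (f ⁻¹ᵁ V) le_rfl).symm x', ?_⟩
    apply (eθ (f ⁻¹ᵁ V) M q (f ⁻¹ᵁ (S.basicOpen h))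
      (f.preimage_mono (S.basicOpen_le h))).injective
    show eθ _ M q _ _ (actX _ M q _ _ _ y) =
      eθ _ M q _ _ (((PX M q).map (homOfLE (f.preimage_mono (S.basicOpen_le h))).op).hom _)
    rw [eθ_actX, eθ_res (f ⁻¹ᵁ V) M q le_rfl (f.preimage_mono (S.basicOpen_le h)),
      AddEquiv.apply_symm_apply, α_app, Q_map, map_pow]
    exact hx'
  · intro h x hx
    have h1 : (rr (X := (f ⁻¹ᵁ V : Scheme.{u})) q
        ((f ⁻¹ᵁ V).ι.preimage_mono (f.preimage_mono (S.basicOpen_le h)))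
        (Coh.toAb (M.restrict (f ⁻¹ᵁ V).ι))).hom (eθ (f ⁻¹ᵁ V) M q (f ⁻¹ᵁ V) le_rfl x) = 0 := by
      have e := eθ_res (f ⁻¹ᵁ V) M q le_rfl (f.preimage_mono (S.basicOpen_le h)) x
      rw [Q_map] at e
      have hx' : ((PX M q).map (homOfLE (f.preimage_mono (S.basicOpen_le h))).op).hom x = 0 := hx
      refine e.symm.trans ?_
      rw [hx', map_zero]
      rfl
    obtain ⟨n, hn⟩ := exists_pow_smul_eq_zero' (X := (f ⁻¹ᵁ V : Scheme.{u})) (φ f V h)
      (M.restrict (f ⁻¹ᵁ V).ι) q (basicOpen_φ f V h) (Scheme.Opens.ι_preimage_self _)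
      ((f ⁻¹ᵁ V).ι.preimage_mono (f.preimage_mono (S.basicOpen_le h))) _ h1
    refine ⟨n, ?_⟩
    apply (eθ (f ⁻¹ᵁ V) M q (f ⁻¹ᵁ V) le_rfl).injective
    show eθ _ M q _ _ (actX _ M q _ _ _ x) = eθ _ M q _ _ 0
    rw [eθ_actX, map_zero, α_app, map_pow]
    exact hn

/-- `H^q(f⁻¹ V, M) → Γ(V, R^q f_* M)` is bijective for an affine open `V` with `f⁻¹ V` qcqs -/
theorem toSheafify_bijective' (hV : IsAffineOpen V) [CompactSpace (f ⁻¹ᵁ V : Scheme.{u})]
    [QuasiSeparatedSpace (f ⁻¹ᵁ V : Scheme.{u})] [M.IsQuasicoherent] :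
    Function.Bijective ((toSheafify (Opens.grothendieckTopology S)
      (RpushGlobal.P f M q)).app (op V)).hom :=
  BasisGlueRel.bijective_of_hyp (hyp f V M q)
    ((presheafToSheaf (Opens.grothendieckTopology S) AddCommGrpCat.{u}).obj (RpushGlobal.P f M q))
    (toSheafify (Opens.grothendieckTopology S) (RpushGlobal.P f M q)) hV

/-- `H^q(f⁻¹ V, M) → Γ(V, R^q f_* M)` is bijective for `f` qcqs and `V` affine open -/
theorem toSheafify_bijective (hV : IsAffineOpen V) [QuasiCompact f] [QuasiSeparated f]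
    [M.IsQuasicoherent] :
    Function.Bijective ((toSheafify (Opens.grothendieckTopology S)
      (RpushGlobal.P f M q)).app (op V)).hom := by
  haveI : CompactSpace (f ⁻¹ᵁ V : Scheme.{u}) :=
    isCompact_iff_compactSpace.1 (f.isCompact_preimage hV.isCompact)
  haveI : IsAffine (V : Scheme.{u}) := hV
  haveI : QuasiSeparatedSpace (f ⁻¹ᵁ V : Scheme.{u}) :=
    quasiSeparatedSpace_of_quasiSeparated (f ∣_ V)
  exact toSheafify_bijective' f V M q hV

end Rel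

end Groth.Agent.Helper13.RpushRel
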