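import Mathlib

/-!
# A section of a formally unramified morphism locally of finite type is an open immersion
(helper13, for helper14 S5318)
-/

set_option autoImplicit false
universe u
open CategoryTheory CategoryTheory.Limits AlgebraicGeometry

namespace Groth.Agent.Helper13.SecOpenImm

theorem section_isOpenImmersion {X S : Scheme.{u}} (f : X ⟶ S) [FormallyUnramified f]
    [LocallyOfFiniteType f] (σ : S ⟶ X) (hσ : σ ≫ f = 𝟙 S) : IsOpenImmersion σ := by
  have hdiag : IsOpenImmersion (pullback.diagonal f) := inferInstance
  have hcomp : IsOpenImmersion (σ ≫ f) := by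
    rw [hσ]
    infer_instance
  let gr : S ⟶ pullback (σ ≫ f) f := pullback.lift (𝟙 S) σ (by simp)
  have h1 : σ = gr ≫ pullback.snd _ _ := (pullback.lift_snd _ _ _).symm
  have h2 : IsOpenImmersion gr :=
    MorphismProperty.of_isPullback (P := @IsOpenImmersion)
      (pullback_lift_diagonal_isPullback σ f) hdiag
  have h3 : IsOpenImmersion (pullback.snd (σ ≫ f) f) :=
    MorphismProperty.pullback_snd (P := @IsOpenImmersion) _ _ hcomp
  rw [h1]
  infer_instance

end Groth.Agent.Helper13.SecOpenImm
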