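import Mathlib
import Groth.Prelude.Def_CohCmp
import Groth.Agent.Lib.Helper13.ResLEZ
import Groth.Agent.Lib.Helper13.LocLift
import Groth.Agent.Lib.Helper13.SectCmpTop
import Groth.Agent.Lib.Helper17.SC1

universe u
set_option linter.unusedSectionVars false
open CategoryTheory CategoryTheory.Limits Opposite TopologicalSpace AlgebraicGeometry
  AlgebraicGeometry.Scheme.Modules Abelian

namespace Groth.Agent.Helper13.SectCmpInj

open Groth.Agent.Helper13 Groth.Agent.Helper17

variable {X Y : Scheme.{u}}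

/-- vanishing of higher cohomology of an injective module over `f⁻¹V` -/
lemma HHon_subsingleton_of_injective (f : X ⟶ Y) [HasInjectiveResolutions X.Modules]
    (V : Y.Opens) (I : X.Modules) (hI : Injective I)
    (n : ℕ) : Subsingleton (Coh.HHon X I (f ⁻¹ᵁ V) (n + 1)) := by
  obtain ⟨σ, hσ⟩ := SectCmpTop.exists_σ f V
  have := hσ (n + 1)
  have : IsIso ((σ.app (n + 1)).app (Coh.toAb I)) := inferInstance
  have hb := SectCmpTop.bijective_of_isIso ((σ.app (n + 1)).app (Coh.toAb I))
  have := SectCmpTop.TpV_vanish f V n (Coh.toAb I) (ModFlasque.isFlasque_toAb I)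
  exact ⟨fun a b => by
    obtain ⟨a', rfl⟩ := hb.2 a
    obtain ⟨b', rfl⟩ := hb.2 b
    rw [Subsingleton.elim a' b']⟩

/-- `δ ∘ g_* = 0` -/
lemma extδ_map_g {U : Scheme.{u}} {S : ShortComplex (CohTop.Ab U)} (hS : S.ShortExact) (p : ℕ)
    (w : Sheaf.H S.X₂ p) : CohCmp.extδ hS p (Sheaf.H.map S.g p w) = 0 := by
  show (w.comp (Ext.mk₀ S.g) (add_zero p)).comp hS.extClass rfl = 0
  rw [Ext.comp_assoc_of_second_deg_zero, ShortComplex.ShortExact.comp_extClass, Ext.comp_zero]

/-- naturality of `sectH0` -/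
lemma mapH_sectH0 {M N : X.Modules} (φ : M ⟶ N) (U : X.Opens) (t : M.presheaf.obj (op U)) :
    CohPull.mapH ((restrictFunctor U.ι).map φ) 0 (CohPull.sectH0 M U t) =
      CohPull.sectH0 N U (φ.app U t) := by
  apply (Sheaf.H.equiv₀ (Coh.toAb (N.restrict U.ι)) isTerminalTop).injective
  rw [ResLE.equiv₀_sectH0]
  refine (Sheaf.H.equiv₀_naturality _ _ _).symm.trans ?_
  rw [ResLE.equiv₀_sectH0]
  exact ConcreteCategory.congr_hom (ResLE0.hom_nat φ (eqToHom U.ι_image_top)) t


lemma toRDZ_app_bijective (f : X ⟶ Y) [HasInjectiveResolutions X.Modules] (F : X.Modules)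
    (V : Y.Opens) :
    Function.Bijective (((pushforward f).toRightDerivedZero.app F).app V) := by
  have hφ : IsIso ((pushforward f).toRightDerivedZero.app F) := inferInstance
  have h1 : IsIso (((pushforward f).toRightDerivedZero.app F).app V) := by
    have : ((pushforward f).toRightDerivedZero.app F).app V =
        ((toPresheaf Y).map ((pushforward f).toRightDerivedZero.app F)).app (op V) := rfl
    rw [this]
    have h2 : IsIso ((toPresheaf Y).map ((pushforward f).toRightDerivedZero.app F)) :=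
      Functor.map_isIso _ _
    exact @NatIso.isIso_app_of_isIso _ _ _ _ _ _ _ h2 (op V)
  exact (ConcreteCategory.isIso_iff_bijective _).1 h1

theorem main (f : X ⟶ Y) [HasInjectiveResolutions X.Modules]
    {Δ : RDer.DerivedLES (pushforward f)} (E : CohCmp.SectCmp f Δ) (F : X.Modules) (p : ℕ)
    (V : Y.Opens) (x : Coh.HHon X F (f ⁻¹ᵁ V) p) (hx : E.ε V F p x = 0) (y : Y) (hy : y ∈ V) :
    ∃ (W : Y.Opens) (hWV : W ≤ V), y ∈ W ∧
      CohPull.resLE F (f.preimage_mono hWV) p x = 0 := by
  induction p generalizing F with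
  | zero =>
    have h0 : x = 0 := (SectCmpTop.bijective_zero f V E F).1 (hx.trans (map_zero _).symm)
    exact ⟨V, le_rfl, hy, by rw [h0, map_zero]⟩
  | succ p ih =>
    obtain ⟨I, hI, ι, hι⟩ := SC1.exists_mono_injective F
    let S : ShortComplex X.Modules := ShortComplex.mk ι (cokernel.π ι) (cokernel.condition ι)
    have hS : S.ShortExact :=
      { exact := ShortComplex.exact_cokernel ι
        mono_f := hι
        epi_g := inferInstanceAs (Epi (cokernel.π ι)) }
    have hA := SC1.shortExact_toAbOn (f ⁻¹ᵁ V) S hS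
    have hsub := HHon_subsingleton_of_injective f V I hI p
    obtain ⟨z, rfl⟩ : ∃ z, CohCmp.extδ hA p z = x :=
      Ext.covariant_sequence_exact₁ _ hA x (@Subsingleton.elim _ hsub _ _) rfl
    have hδ := E.delta V S hS hA p z
    rw [hδ] at hx
    suffices hsuff : ∃ (W : Y.Opens) (hWV : W ≤ V), y ∈ W ∧
        ∃ w : Coh.HHon X S.X₂ (f ⁻¹ᵁ W) p,
          CohPull.resLE S.X₃ (f.preimage_mono hWV) p z =
            CohPull.mapH ((restrictFunctor (f ⁻¹ᵁ W).ι).map S.g) p w by
      obtain ⟨W, hWV, hyW, w, hw⟩ := hsuff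
      refine ⟨W, hWV, hyW, ?_⟩
      have hA' := SC1.shortExact_toAbOn (f ⁻¹ᵁ W) S hS
      rw [ResLE.resLE_δ (f.preimage_mono hWV) S hA hA' p z, hw]
      exact extδ_map_g hA' p w
    cases p with
    | zero =>
      obtain ⟨s, rfl⟩ := (CohPull.sectH0 S.X₃ (f ⁻¹ᵁ V)).surjective z
      rw [E.zero] at hx
      obtain ⟨W, hWV, hyW, t', ht'⟩ := LocLift.exists_lift_of_exact _ _
        (Δ.comp_δ S hS 0 1 rfl) (Δ.exact₃ S hS 0 1 rfl) V _ hx y hy
      obtain ⟨t'', rfl⟩ := (toRDZ_app_bijective f I W).2 t'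
      have hnat := (pushforward f).toRightDerivedZero.naturality S.g
      have hnat' : (((pushforward f).rightDerived 0).map S.g).app W
          (((pushforward f).toRightDerivedZero.app I).app W t'') =
          ((pushforward f).toRightDerivedZero.app S.X₃).app W (S.g.app (f ⁻¹ᵁ W) t'') :=
        (ConcreteCategory.congr_hom (congrArg (fun t => Scheme.Modules.Hom.app t W) hnat) t'').symm
      have hres := SC1.app_naturality ((pushforward f).toRightDerivedZero.app S.X₃) hWV s
      have key : S.g.app (f ⁻¹ᵁ W) t'' =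
          S.X₃.presheaf.map (homOfLE (f.preimage_mono hWV)).op s :=
        (toRDZ_app_bijective f S.X₃ W).1 (hnat'.symm.trans (ht'.trans hres.symm))
      refine ⟨W, hWV, hyW, CohPull.sectH0 S.X₂ (f ⁻¹ᵁ W) t'', ?_⟩
      rw [ResLE.resLE_sectH0, mapH_sectH0, key]
    | succ q =>
      have hz0 : IsZero ((Coh.Rpush f (q + 1)).obj I) :=
        Functor.isZero_rightDerived_obj_injective_succ _ q I
      have hmono : Mono (Δ.δ S hS (q + 1) (q + 2) rfl) :=
        (Δ.exact₃ S hS (q + 1) (q + 2) rfl).mono_g (hz0.eq_of_src _ _)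
      have hεz : E.ε V S.X₃ (q + 1) z = 0 :=
        LocLift.app_injective_of_mono _ V (hx.trans (map_zero _).symm)
      obtain ⟨W, hWV, hyW, hres⟩ := ih S.X₃ z hεz
      exact ⟨W, hWV, hyW, 0, by rw [hres, map_zero]⟩

end Groth.Agent.Helper13.SectCmpInj
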