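import Mathlib

universe u
set_option linter.unusedSectionVars false
open CategoryTheory CategoryTheory.Limits Opposite TopologicalSpace

namespace Groth.Agent.Helper13.ShfBasis

variable {Y : TopCat.{u}} {P Q : (Opens Y)ᵒᵖ ⥤ AddCommGrpCat.{u}} (φ : P ⟶ Q)
  (B : Set (Opens Y)) (hB : Opens.IsBasis B)

include hB in
lemma isLocallyInjective_of_basis (h : ∀ W ∈ B, Function.Injective (φ.app (op W)).hom) :
    Presheaf.IsLocallyInjective (Opens.grothendieckTopology Y) φ where
  equalizerSieve_mem {U} x y hxy := by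
    intro z hz
    obtain ⟨W, hWB, hzW, hWU⟩ := Opens.isBasis_iff_nbhd.1 hB hz
    refine ⟨W, homOfLE hWU, ?_, hzW⟩
    apply h W hWB
    have h1 := congrArg (fun m => m.hom x) (φ.naturality (homOfLE hWU).op)
    have h2 := congrArg (fun m => m.hom y) (φ.naturality (homOfLE hWU).op)
    simp only [AddCommGrpCat.hom_comp, AddMonoidHom.coe_comp, Function.comp_apply] at h1 h2
    have hxy' : (φ.app U).hom x = (φ.app U).hom y := hxy
    exact h1.trans ((congrArg _ hxy').trans h2.symm)

include hB in
lemma isLocallySurjective_of_basis (h : ∀ W ∈ B, Function.Surjective (φ.app (op W)).hom) :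
    Presheaf.IsLocallySurjective (Opens.grothendieckTopology Y) φ where
  imageSieve_mem {U} s := by
    intro z hz
    obtain ⟨W, hWB, hzW, hWU⟩ := Opens.isBasis_iff_nbhd.1 hB hz
    refine ⟨W, homOfLE hWU, ?_, hzW⟩
    obtain ⟨t, ht⟩ := h W hWB ((Q.map (homOfLE hWU).op).hom s)
    exact ⟨t, ht⟩

include hB in
/-- a morphism from a presheaf to a sheaf which is bijective on a basis identifies the sheaf with
the sheafification -/
theorem nonempty_iso_of_basis (G : Sheaf (Opens.grothendieckTopology Y) AddCommGrpCat.{u})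
    (ψ : P ⟶ G.obj) (h : ∀ W ∈ B, Function.Bijective (ψ.app (op W)).hom) :
    Nonempty ((presheafToSheaf (Opens.grothendieckTopology Y) AddCommGrpCat.{u}).obj P ≅ G) := by
  haveI := isLocallyInjective_of_basis ψ B hB (fun W hW => (h W hW).1)
  haveI := isLocallySurjective_of_basis ψ B hB (fun W hW => (h W hW).2)
  have hW : (Opens.grothendieckTopology Y).W ψ :=
    GrothendieckTopology.W_of_isLocallyBijective _ ψ
  haveI : IsIso ((presheafToSheaf (Opens.grothendieckTopology Y) AddCommGrpCat.{u}).map ψ) :=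
    (GrothendieckTopology.W_iff _ ψ).1 hW
  exact ⟨asIso ((presheafToSheaf (Opens.grothendieckTopology Y) AddCommGrpCat.{u}).map ψ) ≪≫
    asIso ((sheafificationAdjunction (Opens.grothendieckTopology Y) AddCommGrpCat.{u}).counit.app G)⟩

end Groth.Agent.Helper13.ShfBasis
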