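import Mathlib
import Groth.Prelude.Def_SpSeq

/-! Small lemmas on abstract spectral sequences and abutments (helper13). -/

universe v u
open CategoryTheory CategoryTheory.Limits

namespace Groth.Agent.Helper13.SpSeqL

variable {C : Type u} [Category.{v} C] [Abelian C] {r₀ : ℤ}

lemma isZero_succ
    (E : CohomologicalSpectralSequence C r₀) (r : ℤ) (hr : r₀ ≤ r) (pq : ℤ × ℤ)
    (h : IsZero ((E.page r hr).X pq)) : IsZero ((E.page (r + 1) (by omega)).X pq) := by
  have h1 : IsZero ((E.page r hr).homology pq) :=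
    (HomologicalComplex.ExactAt.of_isZero h).isZero_homology
  exact IsZero.of_iso h1 (E.iso r (r + 1) pq rfl hr).symm

lemma isZero_of_le
    (E : CohomologicalSpectralSequence C r₀) (r : ℤ) (hr : r₀ ≤ r) (pq : ℤ × ℤ)
    (h : IsZero ((E.page r hr).X pq)) (k : ℤ) (hk : r ≤ k) :
    IsZero ((E.page k (hr.trans hk)).X pq) := by
  induction k, hk using Int.leInduction with
  | base => exact h
  | succ k hk ih => exact isZero_succ E k (hr.trans hk) pq ih

lemma iso_succ_of_stationary
    (E : CohomologicalSpectralSequence C r₀) (pq : ℤ × ℤ) (k : ℤ) (hk : r₀ ≤ k)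
    (h1 : (E.page k hk).d (pq - (k, 1 - k)) pq = 0)
    (h2 : (E.page k hk).d pq (pq + (k, 1 - k)) = 0) :
    Nonempty ((E.page k hk).X pq ≅ (E.page (k + 1) (by omega)).X pq) := by
  have hprev : (ComplexShape.up' ((k, 1 - k) : ℤ × ℤ)).prev pq = pq - (k, 1 - k) := by
    apply ComplexShape.prev_eq'
    show pq - (k, 1 - k) + (k, 1 - k) = pq
    exact sub_add_cancel _ _
  have hnext : (ComplexShape.up' ((k, 1 - k) : ℤ × ℤ)).next pq = pq + (k, 1 - k) := by
    apply ComplexShape.next_eq'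
    show pq + (k, 1 - k) = pq + (k, 1 - k)
    rfl
  exact ⟨((E.page k hk).iCyclesIso pq _ hnext h2).symm ≪≫
    (E.page k hk).isoHomologyπ _ pq hprev h1 ≪≫ E.iso k (k + 1) pq rfl hk⟩

lemma iso_of_stationary
    (E : CohomologicalSpectralSequence C r₀) (pq : ℤ × ℤ) (s : ℤ)
    (hs : SpSeq.StationaryAt E pq s) (k : ℤ) (hk : s ≤ k) :
    Nonempty ((E.page s hs.1).X pq ≅ (E.page k (hs.1.trans hk)).X pq) := by
  induction k, hk using Int.leInduction with
  | base => exact ⟨Iso.refl _⟩
  | succ k hk ih =>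
    obtain ⟨e⟩ := ih
    obtain ⟨h1, h2⟩ := hs.2 k (hs.1.trans hk) hk
    obtain ⟨e'⟩ := iso_succ_of_stationary E pq k (hs.1.trans hk) h1 h2
    exact ⟨e ≪≫ e'⟩

/-- two stationary pages have isomorphic terms -/
lemma iso_of_stationary_of_stationary
    (E : CohomologicalSpectralSequence C r₀) (pq : ℤ × ℤ) (s t : ℤ)
    (hs : SpSeq.StationaryAt E pq s) (ht : SpSeq.StationaryAt E pq t) :
    Nonempty ((E.page s hs.1).X pq ≅ (E.page t ht.1).X pq) := by
  rcases le_total s t with h | h
  · exact iso_of_stationary E pq s hs t h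
  · obtain ⟨e⟩ := iso_of_stationary E pq t ht s h
    exact ⟨e.symm⟩

/-- the limit term vanishes as soon as some page term vanishes -/
lemma isZero_gr_of_isZero
    (E : CohomologicalSpectralSequence C r₀) (r : ℤ) (hr : r₀ ≤ r) (pq : ℤ × ℤ)
    (h : IsZero ((E.page r hr).X pq)) {H : ℤ → C} (a : SpSeq.Abutment E H) :
    IsZero (SpSeq.grPiece (a.fil (pq.1 + pq.2)) (a.anti (pq.1 + pq.2)) pq.1) := by
  refine IsZero.of_iso ?_ (a.β pq).symm
  rcases le_total r (a.rk pq) with hle | hle
  · exact isZero_of_le E r hr pq h _ hle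
  · obtain ⟨e⟩ := iso_of_stationary E pq (a.rk pq) (a.stat pq) r hle
    exact IsZero.of_iso h e

section Fil

variable {X : C} (F : ℤ → Subobject X) (hF : Antitone F)

include hF in
lemma fil_eq_of_isZero_gr (p : ℤ) (h : IsZero (SpSeq.grPiece F hF p)) : F p = F (p + 1) := by
  apply le_antisymm _ (hF (Int.le_add_one le_rfl))
  have hle : F (p + 1) ≤ F p := hF (Int.le_add_one le_rfl)
  have hepi : Epi ((F (p + 1)).ofLE (F p) hle) :=
    Abelian.epi_of_cokernel_π_eq_zero _ (h.eq_of_tgt _ _)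
  have hiso : IsIso ((F (p + 1)).ofLE (F p) hle) := isIso_of_mono_of_epi _
  refine Subobject.le_of_comm (inv ((F (p + 1)).ofLE (F p) hle)) ?_
  rw [IsIso.inv_comp_eq, Subobject.ofLE_arrow]

include hF in
lemma gr_iso_of_single (p₀ : ℤ) (hz : ∀ p, p ≠ p₀ → IsZero (SpSeq.grPiece F hF p))
    (hdisc : ∃ b : ℤ, F b = ⊥) (hexh : IsLUB (Set.range F) ⊤) :
    Nonempty (SpSeq.grPiece F hF p₀ ≅ X) := by
  have hstep : ∀ p, p ≠ p₀ → F p = F (p + 1) := fun p hp => fil_eq_of_isZero_gr F hF p (hz p hp)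
  -- F (p₀+1) = ⊥
  have hbot : F (p₀ + 1) = ⊥ := by
    obtain ⟨b, hb⟩ := hdisc
    rcases le_total b (p₀ + 1) with h | h
    · exact le_bot_iff.mp (hb ▸ hF h)
    · have : ∀ k : ℤ, p₀ + 1 ≤ k → F k = F (p₀ + 1) := by
        intro k hk
        induction k, hk using Int.leInduction with
        | base => rfl
        | succ k hk ih => rw [← hstep k (by omega), ih]
      rw [← this b h, hb]
  -- F p₀ = ⊤
  have htop : F p₀ = ⊤ := by
    have hdown : ∀ k : ℕ, F (p₀ - k) = F p₀ := by
      intro k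
      induction k with
      | zero => simp
      | succ k ih =>
        have := hstep (p₀ - (k + 1 : ℕ)) (by push_cast; omega)
        rw [this, ← ih]
        congr 1
        push_cast
        ring
    apply top_le_iff.mp
    apply hexh.2
    rintro _ ⟨p, rfl⟩
    rcases le_total p₀ p with h | h
    · exact hF h
    · obtain ⟨k, hk⟩ := Int.le.dest h
      have : p = p₀ - k := by omega
      rw [this, hdown k]
  have hle : F (p₀ + 1) ≤ F p₀ := hF (Int.le_add_one le_rfl)
  have hzero : (F (p₀ + 1)).ofLE (F p₀) hle = 0 := by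
    rw [← cancel_mono (F p₀).arrow, Subobject.ofLE_arrow, zero_comp]
    rw [hbot]
    exact Subobject.bot_arrow
  have hiso : IsIso (F p₀).arrow := (Subobject.isIso_arrow_iff_eq_top _).mpr htop
  exact ⟨cokernelIsoOfEq hzero ≪≫ cokernelZeroIsoTarget ≪≫ asIso (F p₀).arrow⟩

end Fil

end Groth.Agent.Helper13.SpSeqL
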