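import Mathlib
import Groth.Prelude.Def_CohTop
import Groth.Agent.Lib.Helper13.ConstIrr
import Groth.Agent.Lib.Helper13.RestrCoh
import Groth.Agent.Lib.Helper13.ProfiniteAcyc

universe u
set_option linter.unusedSectionVars false
set_option autoImplicit false
open CategoryTheory CategoryTheory.Limits Opposite TopologicalSpace

namespace Groth.Agent.Helper13.SubConst

open Groth.Agent.Helper13.ConstIrr

section Abelian
variable {𝒜 : Type*} [Category 𝒜] [Abelian 𝒜]

/-- a morphism killed by the cokernel of `g` has image contained in the image of `g` -/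
lemma imageSubobject_le_of_comp_cokernel {A A' B : 𝒜} (f : A ⟶ B) (g : A' ⟶ B)
    (h : f ≫ cokernel.π g = 0) : imageSubobject f ≤ imageSubobject g := by
  refine imageSubobject_le f
    (kernel.lift (cokernel.π g) f h ≫ (Abelian.imageIsoImage g).hom ≫ (imageSubobjectIso g).inv) ?_
  rw [Category.assoc, Category.assoc, imageSubobject_arrow', Abelian.imageIsoImage_hom_comp_image_ι]
  exact kernel.lift_ι _ _ _

end Abelian

variable {X : TopCat.{u}}

/-- a morphism of abelian sheaves vanishing on all sections is zero -/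
lemma hom_eq_zero {F G : CohTop.Ab X} (φ : F ⟶ G)
    (h : ∀ (V : Opens X) (a : F.obj.obj (op V)), φ.hom.app (op V) a = 0) : φ = 0 := by
  apply Sheaf.hom_ext
  ext V a
  exact h V.unop a

variable [IrreducibleSpace X]

/-- the constant sheaf `ℤ` -/
noncomputable abbrev CZ (X : TopCat.{u}) : CohTop.Ab X := CohTop.const X (ULift.{u} ℤ)

/-- evaluation of sections of the constant sheaf as constant functions -/
noncomputable def ev (V : Opens X) : (CZ X).obj.obj (op V) ≃+ constFns X (ULift.{u} ℤ) V :=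
  ((sheafToPresheaf _ _ ⋙ (evaluation _ _).obj (op V)).mapIso
    (constIso X (ULift.{u} ℤ))).addCommGroupIsoToAddEquiv

/-- the constant function with value `n` -/
def cst (V : Opens X) (n : ℤ) : constFns X (ULift.{u} ℤ) V := ⟨fun _ => ULift.up n, fun _ _ => rfl⟩

omit [IrreducibleSpace X] in
lemma cst_add (V : Opens X) (m n : ℤ) : cst V (m + n) = cst V m + cst V n := rfl

omit [IrreducibleSpace X] in
lemma cst_zero (V : Opens X) : cst V 0 = 0 := rfl

omit [IrreducibleSpace X] in
lemma cst_smul (V : Opens X) (k n : ℤ) : cst V (k * n) = k • cst V n := by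
  apply Subtype.ext
  funext x
  show ULift.up (k * n) = k • ULift.up n
  apply ULift.ext
  simp

omit [IrreducibleSpace X] in
lemma exists_eq_cst (V : Opens X) (hV : (V : Set X).Nonempty) (f : constFns X (ULift.{u} ℤ) V) :
    ∃ n : ℤ, f = cst V n := by
  obtain ⟨x, hx⟩ := hV
  refine ⟨(f.1 ⟨x, hx⟩).down, ?_⟩
  apply Subtype.ext
  funext y
  exact f.2 _ _

omit [IrreducibleSpace X] in
lemma cst_injective (V : Opens X) (hV : (V : Set X).Nonempty) : Function.Injective (cst V) := by
  obtain ⟨x, hx⟩ := hV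
  intro m n h
  have := congrArg (fun f : constFns X (ULift.{u} ℤ) V => (f.1 ⟨x, hx⟩).down) h
  exact this

open Groth.Agent.Helper13.ProfiniteAcyc in
lemma ev_res {V V' : Opens X} (h : V' ≤ V) (c : (CZ X).obj.obj (op V)) :
    ev V' (res (CZ X) h c) = resFn X (ULift.{u} ℤ) h (ev V c) := by
  have := (constIso X (ULift.{u} ℤ)).hom.hom.naturality (homOfLE h).op
  exact congr($this c)

omit [IrreducibleSpace X] in
lemma resFn_cst {V V' : Opens X} (h : V' ≤ V) (n : ℤ) :
    resFn X (ULift.{u} ℤ) h (cst V n) = cst V' n := rfl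

variable (H : CohTop.Ab X) (ι : H ⟶ CZ X)

/-- the map on sections, as an additive map -/
noncomputable def ιV (V : Opens X) : H.obj.obj (op V) →+ (CZ X).obj.obj (op V) :=
  (ι.hom.app (op V)).hom

/-- the ideal of values of sections of `H` over `V` -/
noncomputable def IV (V : Opens X) : Ideal ℤ where
  carrier := {n | ∃ a : H.obj.obj (op V), ev V (ιV H ι V a) = cst V n}
  zero_mem' := ⟨0, by rw [map_zero, map_zero, cst_zero]⟩
  add_mem' := by
    rintro m n ⟨a, ha⟩ ⟨b, hb⟩
    exact ⟨a + b, by rw [map_add, map_add, ha, hb, cst_add]⟩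
  smul_mem' := by
    rintro k n ⟨a, ha⟩
    exact ⟨k • a, by rw [smul_eq_mul, map_zsmul, map_zsmul, ha, cst_smul]⟩

lemma mem_IV (V : Opens X) (n : ℤ) :
    n ∈ IV H ι V ↔ ∃ a : H.obj.obj (op V), ev V (ιV H ι V a) = cst V n := Iff.rfl

open Groth.Agent.Helper13.ProfiniteAcyc in
lemma IV_mono {V V' : Opens X} (h : V' ≤ V) : IV H ι V ≤ IV H ι V' := by
  rintro n ⟨a, ha⟩
  refine ⟨res H h a, ?_⟩
  have h1 : ιV H ι V' (res H h a) = res (CZ X) h (ιV H ι V a) := res_nat ι h a
  rw [h1, ev_res, ha, resFn_cst]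

/-- a nonempty open on which the ideal of values is maximal -/
lemma exists_max : ∃ U : Opens X, (U : Set X).Nonempty ∧
    ∀ V : Opens X, V ≤ U → (V : Set X).Nonempty → IV H ι V = IV H ι U := by
  let S : Set (Ideal ℤ) := {I | ∃ V : Opens X, (V : Set X).Nonempty ∧ I = IV H ι V}
  have hS : S.Nonempty := ⟨IV H ι ⊤, ⊤, Set.univ_nonempty, rfl⟩
  obtain ⟨m, ⟨U, hU, rfl⟩, hmax⟩ := WellFounded.has_min (wellFounded_gt (α := Ideal ℤ)) S hS
  refine ⟨U, hU, fun V hVU hV => ?_⟩
  have hle := IV_mono H ι hVU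
  by_contra hne
  exact hmax (IV H ι V) ⟨V, hV, rfl⟩ (lt_of_le_of_ne hle (Ne.symm hne))

omit [IrreducibleSpace X] in
lemma zsmul_id_app (F : CohTop.Ab X) (d : ℤ) (V : Opens X) (c : F.obj.obj (op V)) :
    (d • 𝟙 F : F ⟶ F).hom.app (op V) c = d • c := by
  have h1 : (sheafToPresheaf _ _ ⋙ (evaluation _ _).obj (op V)).map (d • 𝟙 F) =
      d • (sheafToPresheaf _ _ ⋙ (evaluation _ _).obj (op V)).map (𝟙 F) :=
    Functor.map_zsmul _
  have h2 : (d • 𝟙 F : F ⟶ F).hom.app (op V) = d • 𝟙 (F.obj.obj (op V)) := by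
    rw [CategoryTheory.Functor.map_id] at h1
    exact h1
  rw [h2]
  simp

omit [IrreducibleSpace X] in
lemma subsingleton_of_not_nonempty (F : CohTop.Ab X) (V : Opens X) (hV : ¬ (V : Set X).Nonempty) :
    Subsingleton (F.obj.obj (op V)) := by
  apply Groth.Agent.Helper13.ProfiniteAcyc.subsingleton_of_le_bot F
  intro x hx
  exact (hV ⟨x, hx⟩).elim

section Key
variable (U : Opens X) (d : ℤ)
  (hU : ∀ V : Opens X, V ≤ U → (V : Set X).Nonempty → IV H ι V = Ideal.span {d})

include hU in
lemma key1 (V : Opens X) (hVU : V ≤ U) (a : H.obj.obj (op V)) :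
    ∃ c : (CZ X).obj.obj (op V), ιV H ι V a = d • c := by
  by_cases hV : (V : Set X).Nonempty
  · obtain ⟨n, hn⟩ := exists_eq_cst V hV (ev V (ιV H ι V a))
    have hmem : n ∈ IV H ι V := ⟨a, hn⟩
    rw [hU V hVU hV, Ideal.mem_span_singleton'] at hmem
    obtain ⟨k, rfl⟩ := hmem
    refine ⟨(ev V).symm (cst V k), ?_⟩
    apply (ev V).injective
    rw [hn, map_zsmul, AddEquiv.apply_symm_apply, ← cst_smul, mul_comm]
  · haveI := subsingleton_of_not_nonempty (CZ X) V hV
    exact ⟨0, Subsingleton.elim _ _⟩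

include hU in
lemma key2 (V : Opens X) (hVU : V ≤ U) (c : (CZ X).obj.obj (op V)) :
    ∃ a : H.obj.obj (op V), ιV H ι V a = d • c := by
  by_cases hV : (V : Set X).Nonempty
  · obtain ⟨k, hk⟩ := exists_eq_cst V hV (ev V c)
    have hmem : d * k ∈ IV H ι V := by
      rw [hU V hVU hV, Ideal.mem_span_singleton']
      exact ⟨k, mul_comm _ _⟩
    obtain ⟨a, ha⟩ := hmem
    refine ⟨a, ?_⟩
    apply (ev V).injective
    rw [ha, map_zsmul, hk, cst_smul]
  · haveI := subsingleton_of_not_nonempty (CZ X) V hV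
    exact ⟨0, Subsingleton.elim _ _⟩

open Groth.Agent.Helper13.RestrCoh in
include hU in
theorem image_eq :
    imageSubobject ((CohTop.restrFunctor U).map ι) =
      imageSubobject ((CohTop.restrFunctor U).map (d • 𝟙 (CZ X))) := by
  apply le_antisymm
  · apply imageSubobject_le_of_comp_cokernel
    apply hom_eq_zero
    intro V' a
    obtain ⟨c, hc⟩ := key1 H ι U d hU ((jU U).obj V') (by
      rintro _ ⟨y, -, rfl⟩; exact y.2) a
    have h1 : ((CohTop.restrFunctor U).map ι).hom.app (op V') a =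
        ((CohTop.restrFunctor U).map (d • 𝟙 (CZ X))).hom.app (op V') c := by
      refine Eq.trans hc ?_
      exact (zsmul_id_app (CZ X) d ((jU U).obj V') c).symm
    have h2 := cokernel.condition ((CohTop.restrFunctor U).map (d • 𝟙 (CZ X)))
    have h3 := congr($(h2).hom.app (op V') c)
    show (cokernel.π ((CohTop.restrFunctor U).map (d • 𝟙 (CZ X)))).hom.app (op V')
      (((CohTop.restrFunctor U).map ι).hom.app (op V') a) = 0
    rw [h1]
    exact h3
  · apply imageSubobject_le_of_comp_cokernel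
    apply hom_eq_zero
    intro V' c
    obtain ⟨a, ha⟩ := key2 H ι U d hU ((jU U).obj V') (by
      rintro _ ⟨y, -, rfl⟩; exact y.2) c
    have h1 : ((CohTop.restrFunctor U).map (d • 𝟙 (CZ X))).hom.app (op V') c =
        ((CohTop.restrFunctor U).map ι).hom.app (op V') a := by
      refine Eq.trans (zsmul_id_app (CZ X) d ((jU U).obj V') c) ?_
      exact ha.symm
    have h2 := cokernel.condition ((CohTop.restrFunctor U).map ι)
    have h3 := congr($(h2).hom.app (op V') a)
    show (cokernel.π ((CohTop.restrFunctor U).map ι)).hom.app (op V')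
      (((CohTop.restrFunctor U).map (d • 𝟙 (CZ X))).hom.app (op V') c) = 0
    rw [h1]
    exact h3

end Key

theorem main : ∃ (U : Opens X) (d : ℤ), U ≠ ⊥ ∧
    imageSubobject ((CohTop.restrFunctor U).map ι) =
      imageSubobject ((CohTop.restrFunctor U).map (d • 𝟙 (CZ X))) := by
  obtain ⟨U, hUne, hU⟩ := exists_max H ι
  let d := Submodule.IsPrincipal.generator (IV H ι U)
  have hd : Ideal.span {d} = IV H ι U := Ideal.span_singleton_generator _
  refine ⟨U, d, ?_, image_eq H ι U d (fun V hVU hV => (hU V hVU hV).trans hd.symm)⟩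
  rintro rfl
  obtain ⟨x, hx⟩ := hUne
  exact hx

end Groth.Agent.Helper13.SubConst
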