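import Mathlib
import Groth.Agent.Lib.Helper18.SymSum

/-!
# Base change of symmetric algebras, in universal-property form

`IsSymUniv` (Helper18) is the universal property of the symmetric algebra in ring-hom form.  If
`(A, jA)` is the symmetric algebra of the `R`-module `M`, `(B, jB)` the symmetric algebra of the
`R'`-module `M'`, and `M' = R' ⊗_R M` (expressed through lifting/uniqueness properties of
`p : M → M'`), then `B = R' ⊗_R A`, i.e. the square of rings is a pushout.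
-/

set_option autoImplicit false
universe u
open CategoryTheory CategoryTheory.Limits TensorProduct

noncomputable section

namespace Groth.Agent.Helper13.SymBC

open Groth.Agent.Helper18.SymSum

theorem existsUnique_of_isSymUniv_bc {R R' A B : CommRingCat.{u}} (σ : R ⟶ R') (sA : R ⟶ A)
    (sB : R' ⟶ B) (ψ : A ⟶ B) (hw : σ ≫ sB = sA ≫ ψ)
    {M M' : Type u} [AddCommGroup M] [Module R M] [AddCommGroup M'] [Module R' M']
    (jA : M →+ A) (jB : M' →+ B)
    (hjA : ∀ (r : R) (m : M), jA (r • m) = sA.hom r * jA m)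
    (hjB : ∀ (r : R') (m : M'), jB (r • m) = sB.hom r * jB m)
    (uA : IsSymUniv sA jA) (uB : IsSymUniv sB jB)
    (p : M →+ M')
    (hp : ∀ (T : CommRingCat.{u}) (t' : R' ⟶ T) (g : M →+ T),
      (∀ (r : R) (m : M), g (r • m) = t'.hom (σ.hom r) * g m) →
      ∃ g' : M' →+ T, (∀ (r' : R') (m' : M'), g' (r' • m') = t'.hom r' * g' m') ∧
        ∀ m, g' (p m) = g m)
    (hspan : ∀ (T : CommRingCat.{u}) (t' : R' ⟶ T) (g1 g2 : M' →+ T),
      (∀ (r' : R') (m' : M'), g1 (r' • m') = t'.hom r' * g1 m') →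
      (∀ (r' : R') (m' : M'), g2 (r' • m') = t'.hom r' * g2 m') →
      (∀ m, g1 (p m) = g2 (p m)) → g1 = g2)
    (hψ : ∀ m, ψ.hom (jA m) = jB (p m))
    (T : CommRingCat.{u}) (a : R' ⟶ T) (b : A ⟶ T) (hab : σ ≫ a = sA ≫ b) :
    ∃! c : B ⟶ T, sB ≫ c = a ∧ ψ ≫ c = b := by
  have hab' : ∀ r : R, a.hom (σ.hom r) = b.hom (sA.hom r) := fun r =>
    congrArg (fun k => k.hom r) hab
  let g : M →+ T := b.hom.toAddMonoidHom.comp jA
  have hg_apply : ∀ m, g m = b.hom (jA m) := fun m => rfl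
  have hg : ∀ (r : R) (m : M), g (r • m) = a.hom (σ.hom r) * g m := by
    intro r m
    rw [hg_apply, hg_apply, hjA, map_mul, hab']
  obtain ⟨g', hg'1, hg'2⟩ := hp T a g hg
  obtain ⟨c, ⟨hc1, hc2⟩, hcu⟩ := uB T a g' hg'1
  have hcψ : ψ ≫ c = b := by
    obtain ⟨b0, -, hb0⟩ := uA T (sA ≫ b) g (fun r m => by
      rw [hg_apply, hg_apply, hjA, map_mul]; rfl)
    have e1 : ψ ≫ c = b0 := hb0 _ ⟨by rw [← Category.assoc, ← hw, Category.assoc, hc1, hab],
      fun m => by
        change c.hom (ψ.hom (jA m)) = g m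
        rw [hψ, hc2, hg'2]⟩
    have e2 : b = b0 := hb0 _ ⟨rfl, fun m => rfl⟩
    rw [e1, e2]
  refine ⟨c, ⟨hc1, hcψ⟩, ?_⟩
  rintro c' ⟨hc'1, hc'2⟩
  apply hcu
  refine ⟨hc'1, ?_⟩
  have hc'1' : ∀ r' : R', c'.hom (sB.hom r') = a.hom r' := fun r' =>
    congrArg (fun k => k.hom r') hc'1
  have hc'2' : ∀ x : A, c'.hom (ψ.hom x) = b.hom x := fun x =>
    congrArg (fun k => k.hom x) hc'2
  have : c'.hom.toAddMonoidHom.comp jB = g' := by
    refine hspan T a _ _ (fun r' m' => ?_) hg'1 (fun m => ?_)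
    · change c'.hom (jB (r' • m')) = a.hom r' * c'.hom (jB m')
      rw [hjB, map_mul, hc'1']
    · change c'.hom (jB (p m)) = g' (p m)
      rw [← hψ, hc'2', hg'2, hg_apply]
  intro m
  exact DFunLike.congr_fun this m

theorem isPushout_of_isSymUniv_bc {R R' A B : CommRingCat.{u}} (σ : R ⟶ R') (sA : R ⟶ A)
    (sB : R' ⟶ B) (ψ : A ⟶ B) (hw : σ ≫ sB = sA ≫ ψ)
    {M M' : Type u} [AddCommGroup M] [Module R M] [AddCommGroup M'] [Module R' M']
    (jA : M →+ A) (jB : M' →+ B)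
    (hjA : ∀ (r : R) (m : M), jA (r • m) = sA.hom r * jA m)
    (hjB : ∀ (r : R') (m : M'), jB (r • m) = sB.hom r * jB m)
    (uA : IsSymUniv sA jA) (uB : IsSymUniv sB jB)
    (p : M →+ M')
    (hp : ∀ (T : CommRingCat.{u}) (t' : R' ⟶ T) (g : M →+ T),
      (∀ (r : R) (m : M), g (r • m) = t'.hom (σ.hom r) * g m) →
      ∃ g' : M' →+ T, (∀ (r' : R') (m' : M'), g' (r' • m') = t'.hom r' * g' m') ∧
        ∀ m, g' (p m) = g m)
    (hspan : ∀ (T : CommRingCat.{u}) (t' : R' ⟶ T) (g1 g2 : M' →+ T),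
      (∀ (r' : R') (m' : M'), g1 (r' • m') = t'.hom r' * g1 m') →
      (∀ (r' : R') (m' : M'), g2 (r' • m') = t'.hom r' * g2 m') →
      (∀ m, g1 (p m) = g2 (p m)) → g1 = g2)
    (hψ : ∀ m, ψ.hom (jA m) = jB (p m)) :
    IsPushout σ sA sB ψ := by
  have key := existsUnique_of_isSymUniv_bc σ sA sB ψ hw jA jB hjA hjB uA uB p hp hspan hψ
  refine ⟨⟨hw⟩, ⟨PushoutCocone.IsColimit.mk _
    (fun c => (key c.pt c.inl c.inr c.condition).exists.choose) ?_ ?_ ?_⟩⟩
  · intro c
    exact (key c.pt c.inl c.inr c.condition).exists.choose_spec.1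
  · intro c
    exact (key c.pt c.inl c.inr c.condition).exists.choose_spec.2
  · intro c m hm1 hm2
    exact (key c.pt c.inl c.inr c.condition).unique ⟨hm1, hm2⟩
      (key c.pt c.inl c.inr c.condition).exists.choose_spec

/-- Lifting property of `p : M → M'` when `M' ≃ R' ⊗_R M` with `p m ↦ 1 ⊗ m`. -/
theorem exists_lift_of_equiv {R R' M M' T : Type*} [CommRing R] [CommRing R'] [Algebra R R']
    [AddCommGroup M] [Module R M] [AddCommGroup M'] [Module R' M'] [CommRing T]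
    (e : M' ≃ₗ[R'] R' ⊗[R] M) (p : M →+ M') (hpe : ∀ m, e (p m) = (1 : R') ⊗ₜ[R] m)
    (t' : R' →+* T) (g : M →+ T)
    (hg : ∀ (r : R) (m : M), g (r • m) = t' (algebraMap R R' r) * g m) :
    ∃ g' : M' →+ T, (∀ (r' : R') (m' : M'), g' (r' • m') = t' r' * g' m') ∧
      ∀ m, g' (p m) = g m := by
  let f : R' →+ M →+ T :=
    (AddMonoidHom.compHom' g).comp (AddMonoidHom.mul.comp t'.toAddMonoidHom)
  have hf_apply : ∀ r' m, f r' m = t' r' * g m := fun r' m => rfl
  have hf : ∀ (r : R) (r' : R') (m : M), f (r • r') m = f r' (r • m) := by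
    intro r r' m
    rw [hf_apply, hf_apply, hg, Algebra.smul_def, map_mul]
    ring
  let F : R' ⊗[R] M →+ T := TensorProduct.liftAddHom f hf
  have hF : ∀ r' m, F (r' ⊗ₜ[R] m) = t' r' * g m := fun r' m =>
    TensorProduct.liftAddHom_tmul f hf r' m
  have hFsmul : ∀ (r' : R') (z : R' ⊗[R] M), F (r' • z) = t' r' * F z := by
    intro r' z
    induction z using TensorProduct.induction_on with
    | zero => rw [smul_zero, map_zero, mul_zero]
    | tmul c m => rw [TensorProduct.smul_tmul', hF, hF, smul_eq_mul, map_mul, mul_assoc]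
    | add x y hx hy => rw [smul_add, map_add, map_add, hx, hy, mul_add]
  refine ⟨F.comp e.toLinearMap.toAddMonoidHom, fun r' m' => ?_, fun m => ?_⟩
  · change F (e (r' • m')) = t' r' * F (e m')
    rw [map_smul, hFsmul]
  · change F (e (p m)) = g m
    rw [hpe, hF, map_one, one_mul]

/-- Uniqueness property of `p : M → M'` when `M' ≃ R' ⊗_R M` with `p m ↦ 1 ⊗ m`. -/
theorem eq_of_equiv {R R' M M' T : Type*} [CommRing R] [CommRing R'] [Algebra R R']
    [AddCommGroup M] [Module R M] [AddCommGroup M'] [Module R' M'] [CommRing T]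
    (e : M' ≃ₗ[R'] R' ⊗[R] M) (p : M →+ M') (hpe : ∀ m, e (p m) = (1 : R') ⊗ₜ[R] m)
    (t' : R' →+* T) (g1 g2 : M' →+ T)
    (h1 : ∀ (r' : R') (m' : M'), g1 (r' • m') = t' r' * g1 m')
    (h2 : ∀ (r' : R') (m' : M'), g2 (r' • m') = t' r' * g2 m')
    (h : ∀ m, g1 (p m) = g2 (p m)) : g1 = g2 := by
  have key : ∀ z : R' ⊗[R] M, g1 (e.symm z) = g2 (e.symm z) := by
    intro z
    induction z using TensorProduct.induction_on with
    | zero => rw [map_zero, map_zero, map_zero]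
    | tmul c m =>
      have : c ⊗ₜ[R] m = c • ((1 : R') ⊗ₜ[R] m) := by
        rw [TensorProduct.smul_tmul', smul_eq_mul, mul_one]
      rw [this, map_smul, ← hpe, e.symm_apply_apply, h1, h2, h]
    | add x y hx hy => rw [map_add, map_add, map_add, hx, hy]
  ext m'
  have := key (e m')
  rwa [e.symm_apply_apply] at this

end Groth.Agent.Helper13.SymBC
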