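import Mathlib
import Groth.Agent.Lib.Helper13.SymBC1
import Groth.Agent.Lib.Helper18.SymSum2
import Groth.Agent.Lib.Helper18.RecPull
import Groth.Agent.Lib.Helper13.PullbackLocal
import Groth.Prelude.Def_RelProj4

/-!
# The symmetric algebra of a pullback is the inverse-image algebra

For `g : S' ⟶ S`, `E` quasi-coherent on `S`, `A = Sym(E)`, `B = Sym(g^*E)` and a `g`-morphism
`u : A → B` extending the unit `E → g_* g^* E`, `u` is a base change (`RelSpec.IsQBaseChange`).
-/

set_option autoImplicit false
set_option linter.style.haveILetI false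
universe u
open CategoryTheory CategoryTheory.Limits AlgebraicGeometry TopologicalSpace Opposite TensorProduct

noncomputable section

namespace Groth.Agent.Helper13.SymBC

open Groth.Agent.Helper18.SymSum Groth.Agent.Helper18.SymAlg Groth.Agent.Helper13.Pullback
  Groth.Agent.Helper18.Rec

set_option maxRecDepth 8000 in
theorem isQBaseChange_of_isSymAlg {S S' : Scheme.{u}} (g : S' ⟶ S)
    (E : S.Modules) [E.IsQuasicoherent] (A : RelSpec.QCAlg S) (j : E ⟶ A.toModule)
    (hA : RelSpec.IsSymAlg E A j)
    (B : RelSpec.QCAlg S') (j' : (Scheme.Modules.pullback g).obj E ⟶ B.toModule)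
    (hB : RelSpec.IsSymAlg ((Scheme.Modules.pullback g).obj E) B j')
    (u : RelSpec.QHom g A B)
    (hu : ∀ (U : S.Opens) (x : Γ(E, U)),
      (u.app U).hom ((j.app U) x) =
        (j'.app (g ⁻¹ᵁ U)) (((Scheme.Modules.pullbackPushforwardAdjunction g).unit.app E).app U x)) :
    RelSpec.IsQBaseChange u := by
  intro U hU U' hU' hle
  letI := (g.appLE U U' hle).hom.toAlgebra
  let e := sectionsPullbackEquiv g E hU' hU hle
  let p : Γ(E, U) →+ Γ((Scheme.Modules.pullback g).obj E, U') :=
    (((Scheme.Modules.pullback g).obj E).presheaf.map (homOfLE hle).op).hom.comp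
      (OmegaSh.pullSect g E U).hom
  have hp_apply : ∀ m, p m = pullRes g E hle m := fun m => rfl
  have hpe : ∀ m, e (p m) = (1 : Γ(S', U')) ⊗ₜ[Γ(S, U)] m := fun m =>
    sectionsPullbackEquiv_pullRes g E hU' hU hle m
  refine isPushout_of_isSymUniv_bc (g.appLE U U' hle) (A.str.app (op U)) (B.str.app (op U'))
    (u.appLE U U' hle) (u.str_appLE U U' hle).symm (jU E A j U)
    (jU ((Scheme.Modules.pullback g).obj E) B j' U') (jU_smul E A j U)
    (jU_smul ((Scheme.Modules.pullback g).obj E) B j' U')
    (isSymUniv_of_isSymAlg E A j hA U hU)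
    (isSymUniv_of_isSymAlg ((Scheme.Modules.pullback g).obj E) B j' hB U' hU') p ?_ ?_ ?_
  · intro T t' g0 hg0
    exact exists_lift_of_equiv e p hpe t'.hom g0 hg0
  · intro T t' g1 g2 h1 h2 h12
    exact eq_of_equiv e p hpe t'.hom g1 g2 h1 h2 h12
  · intro m
    have h1 : (u.appLE U U' hle).hom (jU E A j U m) =
        (B.presheaf.map (homOfLE hle).op).hom ((u.app U).hom ((j.app U) m)) := rfl
    rw [h1, hu U m]
    exact jU_res ((Scheme.Modules.pullback g).obj E) B j' hle (OmegaSh.pullSect g E U m)

end Groth.Agent.Helper13.SymBC
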