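import Mathlib
import Groth.Agent.Lib.Helper18.QCAlgPO
import Groth.Agent.Lib.Helper18.SymAlg4
import Groth.Prelude.Def_RelSpec2

/-!
# Universal property of the polynomial algebra `𝒮[z]` among quasi-coherent algebras

For `RelCone.IsPolyOver 𝒮 𝒮h ι z`: homomorphisms `𝒮h ⟶ B` of quasi-coherent algebras correspond to
pairs (homomorphism `𝒮 ⟶ B`, global section of `B`).
-/

set_option autoImplicit false
set_option linter.style.haveILetI false
universe u
open CategoryTheory CategoryTheory.Limits AlgebraicGeometry TopologicalSpace Opposite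

noncomputable section

namespace Groth.Agent.Helper13.SymPoly

open Groth.Agent.Helper18.QCAlgPO Groth.Agent.Helper18.SymAlg

variable {Y : Scheme.{u}} {𝒮 𝒮h : RelProj.QCGrAlg Y} {ι : 𝒮.toQCAlg ⟶ 𝒮h.toQCAlg}
  {z : 𝒮h.presheaf.obj (op ⊤)} (hz : RelCone.IsPolyOver 𝒮 𝒮h ι z)

/-- restriction of a global section of a quasi-coherent algebra -/
abbrev resTop (B : RelSpec.QCAlg Y) (b : B.presheaf.obj (op ⊤)) (U : Y.Opens) :
    B.presheaf.obj (op U) :=
  (B.presheaf.map (homOfLE le_top).op).hom b

theorem resTop_res (B : RelSpec.QCAlg Y) (b : B.presheaf.obj (op ⊤)) {U V : Y.Opens} (i : V ≤ U) :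
    (B.presheaf.map (homOfLE i).op).hom (resTop B b U) = resTop B b V := by
  change ((B.presheaf.map (homOfLE le_top).op) ≫ (B.presheaf.map (homOfLE i).op)).hom b = _
  rw [← Functor.map_comp]
  rfl

include hz in
theorem polyEquiv_C (U : Y.Opens) (hU : IsAffineOpen U) (x : 𝒮.presheaf.obj (op U)) :
    hz.polyEquiv U hU (Polynomial.C x) = (ι.hom.app (op U)).hom x := by
  rw [RelCone.IsPolyOver.polyEquiv_apply, Polynomial.eval₂_C]

include hz in
theorem polyEquiv_X (U : Y.Opens) (hU : IsAffineOpen U) :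
    hz.polyEquiv U hU Polynomial.X = RelCone.restrictTop 𝒮h z U := by
  rw [RelCone.IsPolyOver.polyEquiv_apply, Polynomial.eval₂_X]

include hz in
/-- ring homs out of `𝒮h(U)`, `U` affine, are determined on `ι(𝒮(U))` and `z`. -/
theorem ringHom_ext_poly (U : Y.Opens) (hU : IsAffineOpen U) {T : Type*} [Semiring T]
    (f g : 𝒮h.presheaf.obj (op U) →+* T)
    (h1 : ∀ x : 𝒮.presheaf.obj (op U), f ((ι.hom.app (op U)).hom x) = g ((ι.hom.app (op U)).hom x))
    (h2 : f (RelCone.restrictTop 𝒮h z U) = g (RelCone.restrictTop 𝒮h z U)) : f = g := by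
  have key : f.comp (hz.polyEquiv U hU).toRingHom = g.comp (hz.polyEquiv U hU).toRingHom := by
    apply Polynomial.ringHom_ext
    · intro x
      change f (hz.polyEquiv U hU (Polynomial.C x)) = g (hz.polyEquiv U hU (Polynomial.C x))
      rw [polyEquiv_C hz U hU x]
      exact h1 x
    · change f (hz.polyEquiv U hU Polynomial.X) = g (hz.polyEquiv U hU Polynomial.X)
      rw [polyEquiv_X hz U hU]
      exact h2
  ext y
  obtain ⟨p, rfl⟩ := (hz.polyEquiv U hU).surjective y
  exact DFunLike.congr_fun key p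

variable (B : RelSpec.QCAlg Y) (θ : 𝒮.toQCAlg ⟶ B) (b : B.presheaf.obj (op ⊤))

/-- the induced ring map over an affine open -/
def descU (U : Y.Opens) (hU : IsAffineOpen U) :
    𝒮h.presheaf.obj (op U) ⟶ B.presheaf.obj (op U) :=
  CommRingCat.ofHom ((Polynomial.eval₂RingHom (θ.hom.app (op U)).hom (resTop B b U)).comp
    (hz.polyEquiv U hU).symm.toRingHom)

theorem descU_ι (U : Y.Opens) (hU : IsAffineOpen U) (x : 𝒮.presheaf.obj (op U)) :
    (descU hz B θ b U hU).hom ((ι.hom.app (op U)).hom x) = (θ.hom.app (op U)).hom x := by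
  change Polynomial.eval₂ (θ.hom.app (op U)).hom (resTop B b U)
    ((hz.polyEquiv U hU).symm ((ι.hom.app (op U)).hom x)) = _
  rw [← polyEquiv_C hz U hU x, RingEquiv.symm_apply_apply, Polynomial.eval₂_C]

theorem descU_z (U : Y.Opens) (hU : IsAffineOpen U) :
    (descU hz B θ b U hU).hom (RelCone.restrictTop 𝒮h z U) = resTop B b U := by
  change Polynomial.eval₂ (θ.hom.app (op U)).hom (resTop B b U)
    ((hz.polyEquiv U hU).symm (RelCone.restrictTop 𝒮h z U)) = _
  rw [← polyEquiv_X hz U hU, RingEquiv.symm_apply_apply, Polynomial.eval₂_X]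

theorem ι_descU (U : Y.Opens) (hU : IsAffineOpen U) :
    ι.hom.app (op U) ≫ descU hz B θ b U hU = θ.hom.app (op U) := by
  ext x
  exact descU_ι hz B θ b U hU x

theorem descU_unique (U : Y.Opens) (hU : IsAffineOpen U)
    (f : 𝒮h.presheaf.obj (op U) ⟶ B.presheaf.obj (op U))
    (h1 : ι.hom.app (op U) ≫ f = θ.hom.app (op U))
    (h2 : f.hom (RelCone.restrictTop 𝒮h z U) = resTop B b U) : f = descU hz B θ b U hU := by
  ext : 1
  apply ringHom_ext_poly hz U hU
  · intro x
    rw [descU_ι]
    exact congrArg (fun k => k.hom x) h1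
  · rw [descU_z]
    exact h2

theorem restrictTop_res {U V : Y.Opens} (i : V ≤ U) :
    (𝒮h.presheaf.map (homOfLE i).op).hom (RelCone.restrictTop 𝒮h z U) =
      RelCone.restrictTop 𝒮h z V :=
  resTop_res 𝒮h.toQCAlg z i

/-- the induced maps as a natural transformation on affine opens -/
def descNat : (Scheme.AffineZariskiSite.toOpensFunctor Y).op ⋙ 𝒮h.presheaf ⟶
    (Scheme.AffineZariskiSite.toOpensFunctor Y).op ⋙ B.presheaf where
  app U := descU hz B θ b U.unop.1 U.unop.2
  naturality U V i := by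
    ext : 1
    apply ringHom_ext_poly hz U.unop.1 U.unop.2
    · intro x
      have hle : V.unop.1 ≤ U.unop.1 := (Scheme.AffineZariskiSite.toOpensFunctor Y).map i.unop |>.le
      change (descU hz B θ b V.unop.1 V.unop.2).hom
          ((𝒮h.presheaf.map (homOfLE hle).op).hom ((ι.hom.app (op U.unop.1)).hom x)) =
        (B.presheaf.map (homOfLE hle).op).hom
          ((descU hz B θ b U.unop.1 U.unop.2).hom ((ι.hom.app (op U.unop.1)).hom x))
      have n1 : (𝒮h.presheaf.map (homOfLE hle).op).hom ((ι.hom.app (op U.unop.1)).hom x) =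
          (ι.hom.app (op V.unop.1)).hom ((𝒮.presheaf.map (homOfLE hle).op).hom x) :=
        (congrArg (fun k => k.hom x) (ι.hom.naturality (homOfLE hle).op)).symm
      have n2 : (B.presheaf.map (homOfLE hle).op).hom ((θ.hom.app (op U.unop.1)).hom x) =
          (θ.hom.app (op V.unop.1)).hom ((𝒮.presheaf.map (homOfLE hle).op).hom x) :=
        (congrArg (fun k => k.hom x) (θ.hom.naturality (homOfLE hle).op)).symm
      rw [n1, descU_ι, descU_ι, n2]
    · have hle : V.unop.1 ≤ U.unop.1 := (Scheme.AffineZariskiSite.toOpensFunctor Y).map i.unop |>.le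
      change (descU hz B θ b V.unop.1 V.unop.2).hom
          ((𝒮h.presheaf.map (homOfLE hle).op).hom (RelCone.restrictTop 𝒮h z U.unop.1)) =
        (B.presheaf.map (homOfLE hle).op).hom
          ((descU hz B θ b U.unop.1 U.unop.2).hom (RelCone.restrictTop 𝒮h z U.unop.1))
      rw [restrictTop_res, descU_z, descU_z, resTop_res]

/-- the induced homomorphism of quasi-coherent algebras `𝒮[z] ⟶ B`. -/
def desc : 𝒮h.toQCAlg ⟶ B where
  hom := mapOfAff (descNat hz B θ b)
  comm := by
    apply presheafHom_ext_affine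
    intro U hU
    rw [NatTrans.comp_app, mapOfAff_app _ U hU]
    change 𝒮h.str.app (op U) ≫ descU hz B θ b U hU = _
    have e1 : 𝒮h.str.app (op U) = 𝒮.str.app (op U) ≫ ι.hom.app (op U) :=
      (NatTrans.congr_app ι.comm (op U)).symm
    rw [e1, Category.assoc, ι_descU]
    exact NatTrans.congr_app θ.comm (op U)

theorem desc_app (U : Y.Opens) (hU : IsAffineOpen U) :
    (desc hz B θ b).hom.app (op U) = descU hz B θ b U hU :=
  mapOfAff_app _ U hU

theorem ι_desc : ι ≫ desc hz B θ b = θ := by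
  apply hom_ext_affine
  intro U hU
  change ι.hom.app (op U) ≫ (desc hz B θ b).hom.app (op U) = _
  rw [desc_app hz B θ b U hU, ι_descU]

theorem desc_z (U : Y.Opens) (hU : IsAffineOpen U) :
    ((desc hz B θ b).hom.app (op U)).hom (RelCone.restrictTop 𝒮h z U) = resTop B b U := by
  rw [desc_app hz B θ b U hU, descU_z]

theorem desc_unique (ψ : 𝒮h.toQCAlg ⟶ B) (h1 : ι ≫ ψ = θ)
    (h2 : ∀ (U : Y.Opens) (_ : IsAffineOpen U),
      (ψ.hom.app (op U)).hom (RelCone.restrictTop 𝒮h z U) = resTop B b U) :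
    ψ = desc hz B θ b := by
  apply hom_ext_affine
  intro U hU
  rw [desc_app hz B θ b U hU]
  apply descU_unique hz B θ b U hU
  · exact congrArg (fun k => k.hom.app (op U)) h1
  · exact h2 U hU

end Groth.Agent.Helper13.SymPoly
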