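import Mathlib
import Groth.Agent.Lib.Helper13.SymPoly1
import Groth.Prelude.Def_Coh

/-!
# `Sym(E ⊕ O) = Sym(E)[z]`
-/

set_option autoImplicit false
set_option linter.style.haveILetI false
universe u
open CategoryTheory CategoryTheory.Limits AlgebraicGeometry TopologicalSpace Opposite

noncomputable section

namespace Groth.Agent.Helper13.SymPoly

open Groth.Agent.Helper18.QCAlgPO Groth.Agent.Helper18.SymAlg

variable {Y : Scheme.{u}}

theorem jU_unit_eq (N : RelSpec.QCAlg Y) (f : Coh.structureModule Y ⟶ N.toModule) (U : Y.Opens)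
    (r : Γ(Y, U)) :
    jU (Coh.structureModule Y) N f U r =
      (N.str.app (op U)).hom r * jU (Coh.structureModule Y) N f U (1 : Γ(Y, U)) := by
  have h := jU_smul (Coh.structureModule Y) N f U r (1 : Γ(Y, U))
  have e : (HSMul.hSMul (α := Γ(Y, U)) (β := Γ(Coh.structureModule Y, U)) r (1 : Γ(Y, U))) =
      (r : Γ(Coh.structureModule Y, U)) := mul_one r
  rw [e] at h
  exact h

theorem jU_unit_one_res (N : RelSpec.QCAlg Y) (f : Coh.structureModule Y ⟶ N.toModule)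
    (U : Y.Opens) :
    jU (Coh.structureModule Y) N f U (1 : Γ(Y, U)) =
      resTop N (jU (Coh.structureModule Y) N f ⊤ (1 : Γ(Y, ⊤))) U := by
  have h := jU_res (Coh.structureModule Y) N f (le_top : U ≤ ⊤) (1 : Γ(Y, ⊤))
  have e : resMod (Coh.structureModule Y) (le_top : U ≤ ⊤) (1 : Γ(Y, ⊤)) = (1 : Γ(Y, U)) :=
    map_one (Y.presheaf.map (homOfLE (le_top : U ≤ ⊤)).op).hom
  rw [e] at h
  exact h.symm

theorem isGrSymAlg_biprod (E : Y.Modules)
    (𝒮 𝒮h : RelProj.QCGrAlg Y) (j : E ⟶ 𝒮.toModule) (hS : RelProj.IsGrSymAlg E 𝒮 j)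
    (ι : 𝒮.toQCAlg ⟶ 𝒮h.toQCAlg) (z : 𝒮h.presheaf.obj (op ⊤)) (hz : RelCone.IsPolyOver 𝒮 𝒮h ι z)
    (k : Coh.structureModule Y ⟶ 𝒮h.toModule)
    (hk : ∀ U : Y.Opens, (k.app U) (1 : Γ(Y, U)) = RelCone.restrictTop 𝒮h z U) :
    RelProj.IsGrSymAlg (E ⊞ Coh.structureModule Y) 𝒮h
      (biprod.desc (j ≫ RelSpec.QCAlg.Hom.toModuleMap ι) k) := by
  have hJl : (biprod.inl : E ⟶ E ⊞ Coh.structureModule Y) ≫
      biprod.desc (j ≫ RelSpec.QCAlg.Hom.toModuleMap ι) k =
      j ≫ RelSpec.QCAlg.Hom.toModuleMap ι := biprod.inl_desc _ _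
  have hJr : (biprod.inr : Coh.structureModule Y ⟶ E ⊞ Coh.structureModule Y) ≫
      biprod.desc (j ≫ RelSpec.QCAlg.Hom.toModuleMap ι) k = k := biprod.inr_desc _ _
  have hkz : ∀ U : Y.Opens, jU (Coh.structureModule Y) 𝒮h.toQCAlg k U (1 : Γ(Y, U)) =
      RelCone.restrictTop 𝒮h z U := hk
  refine ⟨?_, ?_⟩
  · intro B φ
    obtain ⟨ψE, hψE, hψEu⟩ := hS.1 B (biprod.inl ≫ φ)
    have hψE' : j ≫ RelSpec.QCAlg.Hom.toModuleMap ψE = biprod.inl ≫ φ := hψE
    let b : B.presheaf.obj (op ⊤) :=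
      jU (Coh.structureModule Y) B (biprod.inr ≫ φ) ⊤ (1 : Γ(Y, ⊤))
    refine ⟨desc hz B ψE b, ?_, ?_⟩
    · change biprod.desc (j ≫ RelSpec.QCAlg.Hom.toModuleMap ι) k ≫
        RelSpec.QCAlg.Hom.toModuleMap (desc hz B ψE b) = φ
      apply biprod.hom_ext'
      · rw [← Category.assoc, hJl, Category.assoc, ← toModuleMap_comp, ι_desc]
        exact hψE'
      · rw [← Category.assoc, hJr]
        apply modHom_ext_affine
        intro U hU r
        rw [jU_comp_toModuleMap, jU_unit_eq 𝒮h.toQCAlg k U r, map_mul, hkz, desc_z hz B ψE b U hU,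
          jU_unit_eq B (biprod.inr ≫ φ) U r, jU_unit_one_res B (biprod.inr ≫ φ) U]
        congr 1
        exact congrArg (fun t => t.hom r) (NatTrans.congr_app (desc hz B ψE b).comm (op U))
    · intro ψ' hψ'
      have hψ'' : biprod.desc (j ≫ RelSpec.QCAlg.Hom.toModuleMap ι) k ≫
        RelSpec.QCAlg.Hom.toModuleMap ψ' = φ := hψ'
      apply desc_unique
      · apply hψEu
        rw [toModuleMap_comp, ← Category.assoc, ← hJl, Category.assoc, hψ'']
      · intro U hU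
        rw [← hkz U, ← jU_comp_toModuleMap, jU_unit_one_res B _ U]
        have e : k ≫ RelSpec.QCAlg.Hom.toModuleMap ψ' = biprod.inr ≫ φ := by
          rw [← hψ'', ← Category.assoc, hJr]
        rw [e]
  · intro U hU x
    have hdesc : biprod.desc (j ≫ RelSpec.QCAlg.Hom.toModuleMap ι) k =
        biprod.fst ≫ (j ≫ RelSpec.QCAlg.Hom.toModuleMap ι) + biprod.snd ≫ k :=
      biprod.desc_eq
    rw [hdesc]
    change (ι.hom.app (op U)).hom (jU E 𝒮.toQCAlg j U ((biprod.fst : E ⊞ Coh.structureModule Y ⟶ E).app U x)) +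
      jU (Coh.structureModule Y) 𝒮h.toQCAlg k U
        ((biprod.snd : E ⊞ Coh.structureModule Y ⟶ Coh.structureModule Y).app U x) ∈ 𝒮h.deg U hU 1
    refine AddSubgroup.add_mem _ ?_ ?_
    · exact hz.graded U hU 1 _ (hS.2 U hU _)
    · rw [jU_unit_eq, hkz]
      have h0 := 𝒮h.str_mem U hU
        ((biprod.snd : E ⊞ Coh.structureModule Y ⟶ Coh.structureModule Y).app U x)
      have h1 := hz.deg_z U hU
      have := SetLike.GradedMul.mul_mem h0 h1
      rwa [zero_add] at this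

end Groth.Agent.Helper13.SymPoly
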