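import Mathlib
import Groth.Agent.Lib.Helper13.TwistSES

/-!
# Sections of twisted ideals from vanishing of `H¹`
-/

set_option autoImplicit false
set_option maxHeartbeats 400000
universe u
open CategoryTheory CategoryTheory.Limits AlgebraicGeometry Opposite TopologicalSpace TensorProduct
open Groth.Agent.Helper13.QCoh Groth.Agent.Helper13.FinType Groth.Agent.Helper13.Inv
open Groth.Agent.Helper13.Tensor Groth.Agent.Helper13.VanishIdeal

namespace Groth.Agent.Helper13.TwistH1

variable {X : Scheme.{u}}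

/-- **skyscraper extension**: a section near the closed point `y` of a module whose stalks vanish
away from `y` extends to a global section (with the same germ at `y`). -/
theorem exists_global_section_of_stalks (F : X.Modules) (y : X) (hy : IsClosed ({y} : Set X))
    (hF : ∀ x : X, x ≠ y → Subsingleton (F.presheaf.stalk x)) (W : X.Opens) (hyW : y ∈ W)
    (t : Γ(F, W)) :
    ∃ T : Γ(F, ⊤), F.presheaf.germ ⊤ y trivial T = F.presheaf.germ W y hyW t := by
  let V : X.Opens := ⟨({y} : Set X)ᶜ, hy.isOpen_compl⟩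
  let U : ULift.{u} Bool → X.Opens := fun b => cond b.down W V
  have hsub : ∀ O : X.Opens, O ≤ V → Subsingleton Γ(F, O) := by
    intro O hO
    refine ⟨fun a b => ?_⟩
    apply TopCat.Presheaf.section_ext ⟨F.presheaf, F.isSheaf⟩ O
    intro x hx
    haveI := hF x (fun h => hO hx (by rw [h]; rfl))
    exact Subsingleton.elim _ _
  let sf : ∀ b, ToType (F.presheaf.obj (op (U b))) := fun b =>
    match b with
    | ⟨true⟩ => t
    | ⟨false⟩ => (0 : Γ(F, V))
  have hcompat : TopCat.Presheaf.IsCompatible F.presheaf U sf := by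
    rintro ⟨_ | _⟩ ⟨_ | _⟩
    · haveI := hsub (U ⟨false⟩ ⊓ U ⟨false⟩) inf_le_left
      exact Subsingleton.elim (α := Γ(F, U ⟨false⟩ ⊓ U ⟨false⟩)) _ _
    · haveI := hsub (U ⟨false⟩ ⊓ U ⟨true⟩) inf_le_left
      exact Subsingleton.elim (α := Γ(F, U ⟨false⟩ ⊓ U ⟨true⟩)) _ _
    · haveI := hsub (U ⟨true⟩ ⊓ U ⟨false⟩) inf_le_right
      exact Subsingleton.elim (α := Γ(F, U ⟨true⟩ ⊓ U ⟨false⟩)) _ _
    · rfl
  have hcover : (⊤ : X.Opens) ≤ iSup U := by
    intro x _
    by_cases hx : x = y
    · exact Opens.mem_iSup.2 ⟨⟨true⟩, by rw [hx]; exact hyW⟩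
    · exact Opens.mem_iSup.2 ⟨⟨false⟩, hx⟩
  obtain ⟨T, hT, -⟩ := TopCat.Sheaf.existsUnique_gluing' (F := ⟨F.presheaf, F.isSheaf⟩) U ⊤
    (fun b => homOfLE le_top) hcover sf hcompat
  refine ⟨T, ?_⟩
  have h1 : F.presheaf.map (homOfLE (le_top : W ≤ ⊤)).op T = t := hT ⟨true⟩
  rw [← h1]
  exact (TopCat.Presheaf.germ_res_apply F.presheaf (homOfLE (le_top : W ≤ ⊤)) y hyW T).symm

section Push

variable {S : Scheme.{u}} (j : S ⟶ X)

/-- stalks of `j_* O_S` vanish away from the closed image of `j`. -/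
lemma eq_zero_of_not_mem_range [IsClosedImmersion j] (x : X) (hx : x ∉ Set.range j)
    (m : ((Scheme.Modules.pushforward j).obj (Coh.structureModule S)).presheaf.stalk x) :
    m = 0 := by
  obtain ⟨V, hxV, s, rfl⟩ := TopCat.Presheaf.exists_germ_eq _ m
  let V' : X.Opens := V ⊓ ⟨(Set.range j)ᶜ, j.isClosedEmbedding.isClosed_range.isOpen_compl⟩
  have hxV' : x ∈ V' := ⟨hxV, hx⟩
  have hV' : j ⁻¹ᵁ V' = ⊥ := by
    ext z
    simp only [Opens.coe_bot, Set.mem_empty_iff_false, iff_false]
    intro hz
    exact hz.2 ⟨z, rfl⟩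
  haveI : Subsingleton Γ(S, j ⁻¹ᵁ V') := by
    rw [hV']
    infer_instance
  have h0 : ((Scheme.Modules.pushforward j).obj (Coh.structureModule S)).presheaf.map
      (homOfLE (inf_le_left : V' ≤ V)).op s = 0 :=
    Subsingleton.elim (α := Γ(S, j ⁻¹ᵁ V')) _ _
  rw [← TopCat.Presheaf.germ_res_apply _ (homOfLE (inf_le_left : V' ≤ V)) x hxV' s, h0, map_zero]

/-- the stalks of `j_* O_S ⊗ N` vanish away from the closed image of `j`. -/
lemma subsingleton_stalk_tensor [IsClosedImmersion j] (N : X.Modules) (x : X)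
    (hx : x ∉ Set.range j) :
    Subsingleton ((CohB1.tensorMod ((Scheme.Modules.pushforward j).obj (Coh.structureModule S))
      N).presheaf.stalk x) := by
  refine ⟨fun a b => ?_⟩
  have key : ∀ c : (CohB1.tensorMod ((Scheme.Modules.pushforward j).obj (Coh.structureModule S))
      N).presheaf.stalk x, c = 0 := by
    intro c
    obtain ⟨z, rfl⟩ := (stalkTensorEquiv _ N x).surjective c
    induction z using TensorProduct.induction_on with
    | zero => rw [map_zero]
    | tmul q n => rw [eq_zero_of_not_mem_range j x hx q, TensorProduct.zero_tmul, map_zero]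
    | add a b ha hb => rw [map_add, ha, hb, add_zero]
  rw [key a, key b]

end Push

/-- the germ at `y` of the unit section of `κ(y)` is nonzero. -/
lemma germ_sharp_one_ne_zero (y : X) (V : X.Opens) (hyV : y ∈ V) :
    ((Scheme.Modules.pushforward (X.fromSpecResidueField y)).obj
      (Coh.structureModule (Spec (X.residueField y)))).presheaf.germ V y hyV
        ((sharp (X.fromSpecResidueField y)).app V (1 : Γ(X, V))) ≠ 0 := by
  intro h0
  set j := X.fromSpecResidueField y with hj
  set Q := (Scheme.Modules.pushforward j).obj (Coh.structureModule (Spec (X.residueField y)))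
    with hQ
  have h1 : Q.presheaf.germ V y hyV ((sharp j).app V (1 : Γ(X, V))) =
      Q.presheaf.germ V y hyV 0 := by rw [h0, map_zero]
  obtain ⟨W, hyW, iU, iV, hW⟩ := TopCat.Presheaf.germ_eq Q.presheaf y hyV hyV _ _ h1
  rw [map_zero] at hW
  have h2 : (sharp j).app V (1 : Γ(X, V)) = (1 : Γ(Spec (X.residueField y), j ⁻¹ᵁ V)) := by
    rw [sharp_app]
    exact map_one (j.app V).hom
  rw [h2] at hW
  have h3 : Q.presheaf.map iU.op (1 : Γ(Spec (X.residueField y), j ⁻¹ᵁ V)) =
      (1 : Γ(Spec (X.residueField y), j ⁻¹ᵁ W)) :=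
    map_one ((Spec (X.residueField y)).presheaf.map ((Opens.map j.base).map iU).op).hom
  rw [h3] at hW
  have hmem : (default : Spec (X.residueField y)) ∈ j ⁻¹ᵁ W := by
    change j default ∈ W
    rw [hj, Scheme.fromSpecResidueField_apply y default]
    exact hyW
  haveI : Nonempty (j ⁻¹ᵁ W) := ⟨⟨default, hmem⟩⟩
  haveI : Nontrivial Γ(Spec (X.residueField y), j ⁻¹ᵁ W) := Scheme.component_nontrivial _ _
  exact one_ne_zero (α := Γ(Spec (X.residueField y), j ⁻¹ᵁ W)) hW


section Main

variable {Zs : Scheme.{u}} (i : Zs ⟶ X)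

/-- near a point where the ideal contains the unit section, every local section of the ideal is
its image in `O_X` times that unit section. -/
lemma germ_eq_smul_germ_one {W' V : X.Opens} (a : Γ(idealMod i, W')) (k : Γ(idealMod i, V))
    (hk : (idealι i).app V k = (1 : Γ(X, V))) (y : X) (hW' : y ∈ W') (hyV : y ∈ V) :
    (idealMod i).presheaf.germ W' y hW' a =
      X.presheaf.germ W' y hW' (show Γ(X, W') from (idealι i).app W' a) •
        (idealMod i).presheaf.germ V y hyV k := by
  let W'' : X.Opens := W' ⊓ V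
  have hW'' : y ∈ W'' := ⟨hW', hyV⟩
  let g : Γ(X, W') := (idealι i).app W' a
  let a'' : Γ(idealMod i, W'') := (idealMod i).presheaf.map (homOfLE (inf_le_left : W'' ≤ W')).op a
  let k'' : Γ(idealMod i, W'') := (idealMod i).presheaf.map (homOfLE (inf_le_right : W'' ≤ V)).op k
  let g'' : Γ(X, W'') := X.presheaf.map (homOfLE (inf_le_left : W'' ≤ W')).op g
  have e1 : (idealMod i).presheaf.germ W' y hW' a = (idealMod i).presheaf.germ W'' y hW'' a'' :=
    (TopCat.Presheaf.germ_res_apply (idealMod i).presheaf (homOfLE inf_le_left) y hW'' a).symm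
  have e2 : (idealMod i).presheaf.germ V y hyV k = (idealMod i).presheaf.germ W'' y hW'' k'' :=
    (TopCat.Presheaf.germ_res_apply (idealMod i).presheaf (homOfLE inf_le_right) y hW'' k).symm
  have e3 : X.presheaf.germ W' y hW' g = X.presheaf.germ W'' y hW'' g'' :=
    (TopCat.Presheaf.germ_res_apply X.presheaf (homOfLE inf_le_left) y hW'' g).symm
  have hιa : (idealι i).app W'' a'' = g'' := by
    have hnat := (idealι i).mapPresheaf.naturality (homOfLE (inf_le_left : W'' ≤ W')).op
    exact congr($hnat a)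
  have hιk : (idealι i).app W'' k'' = (1 : Γ(X, W'')) := by
    have hnat := (idealι i).mapPresheaf.naturality (homOfLE (inf_le_right : W'' ≤ V)).op
    have h2 := congr($hnat k)
    have h3 : (idealι i).app W'' k'' =
        (Coh.structureModule X).presheaf.map (homOfLE (inf_le_right : W'' ≤ V)).op
          ((idealι i).app V k) := h2
    rw [h3, hk]
    exact map_one (X.presheaf.map (homOfLE (inf_le_right : W'' ≤ V)).op).hom
  have hmain : a'' = g'' • k'' := by
    apply (mono_iff_app_injective (idealι i)).1 inferInstance W''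
    rw [Scheme.Modules.Hom.app_smul, hιa, hιk]
    exact (mul_one g'').symm
  change _ = X.presheaf.germ W' y hW' g • _
  rw [e1, e2, e3, hmain, Tensor.germ_smul]

/-- the twisted multiplication map never generates on the vanishing locus. -/
lemma not_isGen_mulHom {N : X.Modules} (hN : PicF.IsInvertible N) {U : X.Opens}
    (t : Γ(CohB1.tensorMod (idealMod i) N, U)) (z : X) (hz : z ∈ U) (hzi : z ∈ Set.range i) :
    ¬ IsGen N ((mulHom i (𝟙 (idealMod i)) N).app U t) z hz := by
  intro hgen
  obtain ⟨W, hzW, e, he⟩ := (isInvertible_iff_exists_isGen N).1 hN z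
  obtain ⟨c, hc, hce⟩ := stalkMap_mulHom_mem i (𝟙 (idealMod i)) e z hzW (he z hzW) hzi
    ((CohB1.tensorMod (idealMod i) N).presheaf.germ U z hz t)
  rw [stalkMap_germ] at hce
  have hu := (isGen_smul_germ_iff e z hzW (he z hzW) hz _ c hce).1 hgen
  rw [IsLocalRing.mem_maximalIdeal, mem_nonunits_iff] at hc
  exact hc hu

open Groth.Agent.Helper13.SerreCrit Groth.Agent.Helper13.ToAbExact Groth.Agent.Helper13.TwistSES

/-- **sections of twisted ideals**: if `H¹` of the twist of the ideal of `Z ∪ {y}` vanishes, there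
is a global section of the invertible module `N` generating at the closed point `y` and nowhere
on `Z = range i`. -/
theorem exists_section_of_H1 (y : X) (hy : IsClosed ({y} : Set X))
    (hcl : IsClosed (Set.range i)) (hyi : y ∉ Set.range i) (N : X.Modules)
    (hN : PicF.IsInvertible N)
    (h1 : Subsingleton (Coh.HH X (CohB1.tensorMod
      (kernel (idealι i ≫ sharp (X.fromSpecResidueField y))) N) 1)) :
    ∃ s : Γ(N, ⊤), IsGen N s y trivial ∧
      ∀ z : X, z ∈ Set.range i → ¬ IsGen N s z trivial := by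
  haveI := isClosedImmersion_fromSpecResidueField y hy
  set j := X.fromSpecResidueField y with hj
  set Q := (Scheme.Modules.pushforward j).obj (Coh.structureModule (Spec (X.residueField y)))
    with hQ
  have hrj : Set.range j = {y} := Scheme.range_fromSpecResidueField y
  have hdisj : Disjoint (Set.range i) (Set.range j) := by
    rw [hrj]
    exact Set.disjoint_singleton_right.2 hyi
  set φ : idealMod i ⟶ Q := idealι i ≫ sharp j with hφ
  haveI : Epi φ := epi_ev i hcl j hdisj
  have hT := tensorSC_shortExact (kerSC φ) (kerSC_shortExact φ) N hN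
  -- local data
  obtain ⟨V, hyV, k, hk⟩ := exists_one_section i hcl y hyi
  obtain ⟨W, hyW, e, he⟩ := (isInvertible_iff_exists_isGen N).1 hN y
  have hφk : φ.app V k = (sharp j).app V (1 : Γ(X, V)) := by
    change (sharp j).app V ((idealι i).app V k) = _
    rw [hk]
  -- the reference element of the stalk
  set q₀ := Q.presheaf.germ V y hyV (φ.app V k) with hq₀
  set n₀ := N.presheaf.germ W y hyW e with hn₀
  set β₀ := stalkTensorEquiv Q N y (q₀ ⊗ₜ n₀) with hβ₀
  have hβ₀ne : β₀ ≠ 0 := by
    intro h0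
    have h2 : q₀ ⊗ₜ[X.presheaf.stalk y] n₀ = 0 := by
      apply (stalkTensorEquiv Q N y).injective
      rw [map_zero]
      exact h0
    let ε : X.presheaf.stalk y ≃ₗ[X.presheaf.stalk y] N.presheaf.stalk y :=
      LinearEquiv.ofBijective
        (LinearMap.toSpanSingleton (X.presheaf.stalk y) (N.presheaf.stalk y) n₀) (he y hyW)
    have hε : ε.symm n₀ = 1 := by
      rw [LinearEquiv.symm_apply_eq]
      change n₀ = (1 : X.presheaf.stalk y) • n₀
      rw [one_smul]
    let ψ : Q.presheaf.stalk y ⊗[X.presheaf.stalk y] N.presheaf.stalk y →ₗ[X.presheaf.stalk y]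
        Q.presheaf.stalk y :=
      (TensorProduct.rid (X.presheaf.stalk y) (Q.presheaf.stalk y)).toLinearMap ∘ₗ
        (LinearMap.lTensor (Q.presheaf.stalk y) ε.symm.toLinearMap)
    have h3 : ψ (q₀ ⊗ₜ n₀) = q₀ := by
      change (TensorProduct.rid (X.presheaf.stalk y) (Q.presheaf.stalk y))
        (q₀ ⊗ₜ (ε.symm n₀)) = q₀
      rw [hε, TensorProduct.rid_tmul, one_smul]
    rw [h2, map_zero] at h3
    apply germ_sharp_one_ne_zero y V hyV
    rw [← hφk]
    exact h3.symm
  -- a global section of `Q ⊗ N` with germ `β₀`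
  let W₀ : X.Opens := V ⊓ W
  have hyW₀ : y ∈ W₀ := ⟨hyV, hyW⟩
  let t₀ : Γ(CohB1.tensorMod Q N, W₀) :=
    tmul Q N (Q.presheaf.map (homOfLE (inf_le_left : W₀ ≤ V)).op (φ.app V k))
      (N.presheaf.map (homOfLE (inf_le_right : W₀ ≤ W)).op e)
  obtain ⟨t, ht⟩ := exists_global_section_of_stalks (CohB1.tensorMod Q N) y hy
    (fun x hx => subsingleton_stalk_tensor j N x (by rw [hrj]; exact hx)) W₀ hyW₀ t₀
  have ht' : (CohB1.tensorMod Q N).presheaf.germ ⊤ y trivial t = β₀ := by
    rw [ht, ← stalkTensorEquiv_germ, TopCat.Presheaf.germ_res_apply,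
      TopCat.Presheaf.germ_res_apply]
  -- lift to a global section of `I ⊗ N`
  obtain ⟨s, hs⟩ := app_top_surjective_of_H1 (tensorSC (kerSC φ) N) hT h1 t
  have hs' : (Tensor.map φ (𝟙 N)).app ⊤ s = t := hs
  -- the key induction on the stalk
  have hE : ∀ m : (CohB1.tensorMod (idealMod i) N).presheaf.stalk y, ∃ c : X.presheaf.stalk y,
      stalkMap (mulHom i (𝟙 (idealMod i)) N) y m = c • n₀ ∧
      stalkMap (Tensor.map φ (𝟙 N)) y m = c • β₀ := by
    intro m
    refine stalk_tensorMod_induction (idealMod i) N y (p := fun m => ∃ c : X.presheaf.stalk y,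
      stalkMap (mulHom i (𝟙 (idealMod i)) N) y m = c • n₀ ∧
      stalkMap (Tensor.map φ (𝟙 N)) y m = c • β₀) ?_ ?_ ?_ m
    · exact ⟨0, by rw [map_zero, zero_smul], by rw [map_zero, zero_smul]⟩
    · intro W' hW' a b
      obtain ⟨r, hr⟩ := (he y hyW).2 (N.presheaf.germ W' y hW' b)
      have hr' : r • n₀ = N.presheaf.germ W' y hW' b := hr
      set g : Γ(X, W') := (idealι i).app W' a with hg
      have hak := germ_eq_smul_germ_one i a k hk y hW' hyV
      refine ⟨X.presheaf.germ W' y hW' g * r, ?_, ?_⟩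
      · rw [stalkMap_germ, mulHom_app_tmul, Tensor.germ_smul, ← hr', mul_smul]
        rfl
      · rw [stalkMap_germ, map_app_tmul, ← stalkTensorEquiv_germ]
        have h4 : Q.presheaf.germ W' y hW' (φ.app W' a) = X.presheaf.germ W' y hW' g • q₀ := by
          rw [← stalkMap_germ φ y W' hW' a, hak, stalkMap_smul, stalkMap_germ]
        have h5 : N.presheaf.germ W' y hW' ((𝟙 N : N ⟶ N).app W' b) = r • n₀ := hr'.symm
        rw [h4, h5, TensorProduct.smul_tmul_smul, map_smul]
    · rintro a b ⟨ca, ha1, ha2⟩ ⟨cb, hb1, hb2⟩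
      exact ⟨ca + cb, by rw [map_add, ha1, hb1, add_smul], by rw [map_add, ha2, hb2, add_smul]⟩
  obtain ⟨c, hc1, hc2⟩ := hE ((CohB1.tensorMod (idealMod i) N).presheaf.germ ⊤ y trivial s)
  rw [stalkMap_germ] at hc1 hc2
  rw [hs', ht'] at hc2
  have hcu : IsUnit c := by
    by_contra hnu
    have hu : IsUnit (1 - c) := IsLocalRing.isUnit_one_sub_self_of_mem_nonunits c hnu
    have h6 : (1 - c) • β₀ = 0 := by
      rw [sub_smul, one_smul, ← hc2, sub_self]
    have h7 : β₀ = 0 := by
      have := congrArg (fun v => (hu.unit⁻¹ : (X.presheaf.stalk y)ˣ) • v) h6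
      simpa [Units.smul_def, smul_smul] using this
    exact hβ₀ne h7
  refine ⟨(mulHom i (𝟙 (idealMod i)) N).app ⊤ s, ?_, fun z hz => ?_⟩
  · exact (isGen_smul_germ_iff e y hyW (he y hyW) (U := ⊤) (show y ∈ (⊤ : X.Opens) from trivial) _ c hc1).2 hcu
  · exact not_isGen_mulHom i hN s z trivial hz

end Main

end Groth.Agent.Helper13.TwistH1
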