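import Mathlib
import Groth.Agent.Lib.Helper14.WeilAff1

/-!
# The Weil-restriction ring of a finitely presented algebra is finitely presented
-/

set_option autoImplicit false
set_option linter.unusedSectionVars false
set_option linter.unusedVariables false
set_option linter.style.haveILetI false
set_option maxRecDepth 8000

universe u

open TensorProduct

namespace Groth.Agent.Helper13.WeilFP

open Groth.Agent.Helper14.WeilAff

variable {A B : Type u} [CommRing A] [CommRing B] [Algebra A B]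
  {ι : Type u} [Fintype ι] (e : Module.Basis ι A B)

section FreeExt

variable (D : Type u) [CommRing D] [Algebra A D]

/-- `D → D ⊗ B` -/
noncomputable def phi : D →+* D ⊗[A] B := Algebra.TensorProduct.includeLeftRingHom

/-- `B → D ⊗ B` -/
noncomputable def iB : B →+* D ⊗[A] B :=
  (Algebra.TensorProduct.includeRight : B →ₐ[A] D ⊗[A] B).toRingHom

variable (B) in
theorem hsig : (phi (A := A) (B := B) D).comp (algebraMap A D) = (iB D).comp (algebraMap A B) := by
  refine RingHom.ext fun a => ?_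
  show (algebraMap A D a) ⊗ₜ[A] (1 : B) = (1 : D) ⊗ₜ[A] (algebraMap A B a)
  rw [Algebra.algebraMap_eq_smul_one, Algebra.algebraMap_eq_smul_one, TensorProduct.smul_tmul]

theorem phi_mul_iB (d : D) (b : B) : phi (A := A) (B := B) D d * iB D b = d ⊗ₜ[A] b := by
  show (d ⊗ₜ[A] (1 : B)) * ((1 : D) ⊗ₜ[A] b) = d ⊗ₜ[A] b
  rw [Algebra.TensorProduct.tmul_mul_tmul, mul_one, one_mul]

theorem hcoord : ∀ x : D ⊗[A] B, ∃! d : ι → D, x = ∑ k, phi (A := A) (B := B) D (d k) * iB D (e k) := by
  intro x
  have key : ∀ d : ι → D, ∑ k, phi (A := A) (B := B) D (d k) * iB D (e k) =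
      ∑ k, d k • (Algebra.TensorProduct.basis D e) k := by
    intro d
    refine Finset.sum_congr rfl fun k _ => ?_
    rw [phi_mul_iB, Algebra.TensorProduct.basis_repr_symm_apply']
  refine ⟨fun k => (Algebra.TensorProduct.basis D e).repr x k, ?_, ?_⟩
  · show x = _
    rw [key]
    exact ((Algebra.TensorProduct.basis D e).sum_repr x).symm
  · intro d hd
    rw [key] at hd
    rw [hd]
    funext k
    rw [Module.Basis.repr_sum_self]

end FreeExt


section Main

variable {C : Type u} [CommRing C] [Algebra A C]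
variable {n : ℕ} (π : MvPolynomial (Fin n) A →ₐ[A] C)

/-- the polynomial ring in the coordinates -/
abbrev T (n : ℕ) (A ι : Type u) [CommRing A] : Type u := MvPolynomial (Fin n × ι) A

/-- `X_j ↦ ∑ X_{j,k} ⊗ e_k` -/
noncomputable def gammaHom (n : ℕ) : MvPolynomial (Fin n) A →ₐ[A] (T n A ι) ⊗[A] B :=
  MvPolynomial.aeval (fun j => ∑ k, (MvPolynomial.X (j, k) : T n A ι) ⊗ₜ[A] e k)

/-- coordinates of `γ p` -/
noncomputable def gco (n : ℕ) (p : MvPolynomial (Fin n) A) (k : ι) : T n A ι :=
  (Algebra.TensorProduct.basis (T n A ι) e).repr (gammaHom e n p) k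

theorem gammaHom_eq (p : MvPolynomial (Fin n) A) :
    gammaHom e n p = ∑ k, gco e n p k ⊗ₜ[A] e k := by
  rw [← (Algebra.TensorProduct.basis (T n A ι) e).sum_repr (gammaHom e n p)]
  refine Finset.sum_congr rfl fun k _ => ?_
  rw [Algebra.TensorProduct.basis_repr_symm_apply']
  rfl

/-- `X_{j,k} ↦ x_{π X_j, k}` -/
noncomputable def psi : T n A ι →ₐ[A] WR C e :=
  MvPolynomial.aeval (fun jk : Fin n × ι => xb e (π (MvPolynomial.X jk.1)) jk.2)

theorem psi_X (j : Fin n) (k : ι) :
    psi e π (MvPolynomial.X (j, k)) = xb e (π (MvPolynomial.X j)) k := by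
  simp [psi]

/-- the tautological `β₀ : C → WR ⊗ B` -/
theorem exists_beta0 : ∃ β : C →+* (WR C e) ⊗[A] B,
    (∀ c, β c = ∑ k, (xb e c k) ⊗ₜ[A] e k) ∧
      β.comp (algebraMap A C) = (iB (WR C e)).comp (algebraMap A B) := by
  obtain ⟨β, h1, h2⟩ := exists_beta e (phi (A := A) (B := B) (WR C e)) (iB (WR C e))
    (algebraMap A (WR C e)) (hsig B (WR C e)) (RingHom.id _) (RingHom.id_comp _)
  refine ⟨β, fun c => ?_, h2⟩
  rw [h1]
  refine Finset.sum_congr rfl fun k _ => ?_
  rw [RingHom.id_apply, phi_mul_iB]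

theorem beta0_comp (β : C →+* (WR C e) ⊗[A] B)
    (h1 : ∀ c, β c = ∑ k, (xb e c k) ⊗ₜ[A] e k)
    (h2 : β.comp (algebraMap A C) = (iB (WR C e)).comp (algebraMap A B)) :
    β.comp π.toRingHom =
      (Algebra.TensorProduct.map (psi e π) (AlgHom.id A B)).toRingHom.comp
        (gammaHom e n).toRingHom := by
  refine @MvPolynomial.ringHom_ext A (Fin n) _ ((WR C e) ⊗[A] B) _ _ _ (fun a => ?_) (fun j => ?_)
  · 
    show β (π (MvPolynomial.C a)) =
      Algebra.TensorProduct.map (psi e π) (AlgHom.id A B) (gammaHom e n (MvPolynomial.C a))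
    rw [← MvPolynomial.algebraMap_eq, AlgHom.commutes, AlgHom.commutes, AlgHom.commutes]
    have := congrArg (fun f : A →+* _ => f a) h2
    simp only [RingHom.comp_apply] at this
    rw [this]
    have h3 := congrArg (fun f : A →+* _ => f a) (hsig (A := A) B (WR C e))
    simp only [RingHom.comp_apply] at h3
    rw [← h3]
    rfl
  · show β (π (MvPolynomial.X j)) =
      Algebra.TensorProduct.map (psi e π) (AlgHom.id A B) (gammaHom e n (MvPolynomial.X j))
    rw [h1]
    simp only [gammaHom, MvPolynomial.aeval_X, map_sum, Algebra.TensorProduct.map_tmul,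
      AlgHom.id_apply]
    refine Finset.sum_congr rfl fun k _ => ?_
    rw [psi_X]

theorem psi_gco_eq_zero (p : MvPolynomial (Fin n) A) (hp : π p = 0) (k : ι) :
    psi e π (gco e n p k) = 0 := by
  obtain ⟨β, h1, h2⟩ := exists_beta0 (C := C) e
  have h3 := congrArg (fun f : MvPolynomial (Fin n) A →+* _ => f p) (beta0_comp e π β h1 h2)
  simp only [RingHom.comp_apply] at h3
  have h4 : β (π.toRingHom p) = 0 := by
    show β (π p) = 0
    rw [hp, map_zero]
  rw [h4] at h3
  have h5 : (Algebra.TensorProduct.map (psi e π) (AlgHom.id A B)) (gammaHom e n p) =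
      ∑ k, phi (A := A) (B := B) (WR C e) (psi e π (gco e n p k)) * iB (WR C e) (e k) := by
    rw [gammaHom_eq, map_sum]
    refine Finset.sum_congr rfl fun k _ => ?_
    rw [Algebra.TensorProduct.map_tmul, AlgHom.id_apply, phi_mul_iB]
  have h6 : (0 : (WR C e) ⊗[A] B) =
      ∑ k, phi (A := A) (B := B) (WR C e) ((fun _ => 0 : ι → WR C e) k) * iB (WR C e) (e k) := by
    simp
  have h7 := coord_inj e (phi (A := A) (B := B) (WR C e)) (iB (WR C e)) (hcoord e (WR C e))
    (fun k => psi e π (gco e n p k)) (fun _ => 0) (by rw [← h5, ← h6]; exact h3.symm)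
  exact congrFun h7 k


/-- the ideal of coordinates of the relations -/
noncomputable def JJ (s : Finset (MvPolynomial (Fin n) A)) : Ideal (T n A ι) :=
  Ideal.span ((fun pk : MvPolynomial (Fin n) A × ι => gco e n pk.1 pk.2) ''
    ((s ×ˢ (Finset.univ : Finset ι) : Finset (MvPolynomial (Fin n) A × ι)) :
      Set (MvPolynomial (Fin n) A × ι)))

theorem JJ_fg (s : Finset (MvPolynomial (Fin n) A)) : (JJ e (n := n) s).FG := by
  classical
  refine ⟨(s ×ˢ Finset.univ).image (fun pk : MvPolynomial (Fin n) A × ι => gco e n pk.1 pk.2), ?_⟩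
  rw [Finset.coe_image]
  rfl

theorem gco_mem_JJ (s : Finset (MvPolynomial (Fin n) A)) (p) (hp : p ∈ s) (k : ι) :
    gco e n p k ∈ JJ e s :=
  Ideal.subset_span ⟨(p, k), by simp [hp], rfl⟩

variable (s : Finset (MvPolynomial (Fin n) A)) (hs : Ideal.span (s : Set _) = RingHom.ker π.toRingHom)

include hs in
theorem JJ_le_ker : JJ e s ≤ RingHom.ker (psi e π).toRingHom := by
  rw [JJ, Ideal.span_le]
  rintro _ ⟨⟨p, k⟩, hpk, rfl⟩
  have hp : p ∈ s := by
    have := Finset.mem_coe.mp hpk
    simp at this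
    exact this
  have h1 : p ∈ RingHom.ker π.toRingHom := hs ▸ Ideal.subset_span hp
  exact psi_gco_eq_zero e π p h1 k

/-- the quotient ring -/
abbrev QQ : Type u := T n A ι ⧸ JJ e s

/-- `ψ̄ : Q → WR` -/
noncomputable def psiBar : QQ e s →ₐ[A] WR C e :=
  Ideal.Quotient.liftₐ (JJ e s) (psi e π) (fun a ha => JJ_le_ker e π s hs ha)

theorem psiBar_mk (t : T n A ι) :
    psiBar e π s hs (Ideal.Quotient.mk (JJ e s) t) = psi e π t := rfl

/-- `γ' : P → Q ⊗ B` -/
noncomputable def gammaQ : MvPolynomial (Fin n) A →ₐ[A] (QQ e s) ⊗[A] B :=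
  (Algebra.TensorProduct.map (Ideal.Quotient.mkₐ A (JJ e s)) (AlgHom.id A B)).comp (gammaHom e n)

theorem gammaQ_eq (p : MvPolynomial (Fin n) A) :
    gammaQ e s p = ∑ k, (Ideal.Quotient.mk (JJ e s) (gco e n p k)) ⊗ₜ[A] e k := by
  show (Algebra.TensorProduct.map (Ideal.Quotient.mkₐ A (JJ e s)) (AlgHom.id A B))
    (gammaHom e n p) = _
  rw [gammaHom_eq, map_sum]
  refine Finset.sum_congr rfl fun k _ => ?_
  rw [Algebra.TensorProduct.map_tmul, AlgHom.id_apply]
  rfl

include hs in
theorem ker_le_ker_gammaQ : RingHom.ker π.toRingHom ≤ RingHom.ker (gammaQ e s).toRingHom := by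
  rw [← hs, Ideal.span_le]
  intro p hp
  show gammaQ e s p = 0
  rw [gammaQ_eq]
  refine Finset.sum_eq_zero fun k _ => ?_
  rw [Ideal.Quotient.eq_zero_iff_mem.mpr (gco_mem_JJ e s p hp k), TensorProduct.zero_tmul]


variable (hπ : Function.Surjective π)

/-- the descent of `γ'` to `P ⧸ ker π` -/
noncomputable def liftQ : (MvPolynomial (Fin n) A ⧸ RingHom.ker π.toRingHom) →ₐ[A] (QQ e s) ⊗[A] B :=
  Ideal.Quotient.liftₐ (RingHom.ker π.toRingHom) (gammaQ e s)
    (fun a ha => ker_le_ker_gammaQ e π s hs ha)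

theorem liftQ_mk (p : MvPolynomial (Fin n) A) :
    liftQ e π s hs (Ideal.Quotient.mk (RingHom.ker π.toRingHom) p) = gammaQ e s p := rfl

/-- `β : C → Q ⊗ B` with `β ∘ π = γ'` -/
noncomputable def betaQ : C →ₐ[A] (QQ e s) ⊗[A] B :=
  (liftQ e π s hs).comp (Ideal.quotientKerAlgEquivOfSurjective hπ).symm.toAlgHom

theorem betaQ_pi (p : MvPolynomial (Fin n) A) : betaQ e π s hs hπ (π p) = gammaQ e s p := by
  have h1 : (Ideal.quotientKerAlgEquivOfSurjective hπ).symm (π p) =
      Ideal.Quotient.mk (RingHom.ker π.toRingHom) p := by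
    rw [AlgEquiv.symm_apply_eq]
    rfl
  show liftQ e π s hs ((Ideal.quotientKerAlgEquivOfSurjective hπ).symm (π p)) = _
  rw [h1, liftQ_mk]

theorem betaQ_comp : (betaQ e π s hs hπ).toRingHom.comp (algebraMap A C) =
    (iB (QQ e s)).comp (algebraMap A B) := by
  refine RingHom.ext fun a => ?_
  show betaQ e π s hs hπ (algebraMap A C a) = iB (QQ e s) (algebraMap A B a)
  rw [AlgHom.commutes]
  have h3 := congrArg (fun f : A →+* _ => f a) (hsig (A := A) B (QQ e s))
  simp only [RingHom.comp_apply] at h3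
  rw [← h3]
  rfl

include hs hπ in
theorem exists_rho : ∃ ρ : WR C e →+* QQ e s,
    ρ.comp (algebraMap A (WR C e)) = algebraMap A (QQ e s) ∧
      ∀ (j : Fin n) (k : ι), ρ (xb e (π (MvPolynomial.X j)) k) =
        Ideal.Quotient.mk (JJ e s) (MvPolynomial.X (j, k)) := by
  obtain ⟨ρ, ⟨h1, h2⟩, -⟩ := existsUnique_rho e (phi (A := A) (B := B) (QQ e s)) (iB (QQ e s))
    (algebraMap A (QQ e s)) (hsig B (QQ e s)) (hcoord e (QQ e s))
    (betaQ e π s hs hπ).toRingHom (betaQ_comp e π s hs hπ)
  refine ⟨ρ, h1, fun j k => ?_⟩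
  have h3 := h2 (π (MvPolynomial.X j))
  have h4 : (betaQ e π s hs hπ).toRingHom (π (MvPolynomial.X j)) =
      ∑ k, phi (A := A) (B := B) (QQ e s) (Ideal.Quotient.mk (JJ e s) (MvPolynomial.X (j, k))) *
        iB (QQ e s) (e k) := by
    show betaQ e π s hs hπ (π (MvPolynomial.X j)) = _
    rw [betaQ_pi]
    show (Algebra.TensorProduct.map (Ideal.Quotient.mkₐ A (JJ e s)) (AlgHom.id A B))
      (gammaHom e n (MvPolynomial.X j)) = _
    simp only [gammaHom, MvPolynomial.aeval_X, map_sum, Algebra.TensorProduct.map_tmul,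
      AlgHom.id_apply]
    refine Finset.sum_congr rfl fun k _ => ?_
    rw [phi_mul_iB]
    rfl
  rw [h4] at h3
  have h5 := coord_inj e (phi (A := A) (B := B) (QQ e s)) (iB (QQ e s)) (hcoord e (QQ e s))
    _ _ h3
  exact (congrFun h5 k).symm

include hπ in
theorem psiBar_injective : Function.Injective (psiBar e π s hs) := by
  obtain ⟨ρ, h1, h2⟩ := exists_rho e π s hs hπ
  have h3 : ρ.comp (psiBar e π s hs).toRingHom = RingHom.id _ := by
    apply Ideal.Quotient.ringHom_ext
    refine @MvPolynomial.ringHom_ext A (Fin n × ι) _ (QQ e s) _ _ _ (fun a => ?_) (fun jk => ?_)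
    · show ρ (psiBar e π s hs (Ideal.Quotient.mk (JJ e s) (MvPolynomial.C a))) =
        Ideal.Quotient.mk (JJ e s) (MvPolynomial.C a)
      rw [psiBar_mk, ← MvPolynomial.algebraMap_eq, AlgHom.commutes]
      exact congrArg (fun f : A →+* _ => f a) h1
    · obtain ⟨j, k⟩ := jk
      show ρ (psiBar e π s hs (Ideal.Quotient.mk (JJ e s) (MvPolynomial.X (j, k)))) =
        Ideal.Quotient.mk (JJ e s) (MvPolynomial.X (j, k))
      rw [psiBar_mk, psi_X, h2]
  intro x y hxy
  have := congrArg ρ hxy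
  have hx := congrArg (fun f : QQ e s →+* QQ e s => f x) h3
  have hy := congrArg (fun f : QQ e s →+* QQ e s => f y) h3
  simp only [RingHom.comp_apply, RingHom.id_apply] at hx hy
  rw [← hx, ← hy]
  exact this


theorem xb_mem_range (p : MvPolynomial (Fin n) A) : ∀ k : ι, xb e (π p) k ∈ (psi e π).range := by
  induction p using MvPolynomial.induction_on with
  | C a =>
    intro k
    rw [← MvPolynomial.algebraMap_eq, AlgHom.commutes, xb_alg]
    exact Subalgebra.algebraMap_mem _ _
  | add p q hp hq =>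
    intro k
    rw [map_add, xb_add]
    exact Subalgebra.add_mem _ (hp k) (hq k)
  | mul_X p j hp =>
    intro m
    rw [map_mul, xb_mul]
    refine Subalgebra.sum_mem _ fun k _ => Subalgebra.sum_mem _ fun l _ => ?_
    refine Subalgebra.mul_mem _ (Subalgebra.mul_mem _ (Subalgebra.algebraMap_mem _ _) (hp k)) ?_
    exact ⟨MvPolynomial.X (j, l), psi_X e π j l⟩

include hπ in
theorem psi_surjective : Function.Surjective (psi e π) := by
  have hx : ∀ (c : C) (k : ι), xb e c k ∈ (psi e π).range := by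
    intro c k
    obtain ⟨p, rfl⟩ := hπ c
    exact xb_mem_range e π p k
  intro w
  obtain ⟨q, rfl⟩ := Ideal.Quotient.mk_surjective w
  show _ ∈ (psi e π).range
  induction q using MvPolynomial.induction_on with
  | C a => exact Subalgebra.algebraMap_mem _ a
  | add p q hp hq =>
    rw [map_add]
    exact Subalgebra.add_mem _ hp hq
  | mul_X p ck hp =>
    rw [map_mul]
    exact Subalgebra.mul_mem _ hp (hx ck.1 ck.2)

include hπ in
theorem psiBar_surjective : Function.Surjective (psiBar e π s hs) := by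
  intro w
  obtain ⟨t, rfl⟩ := psi_surjective e π hπ w
  exact ⟨Ideal.Quotient.mk _ t, rfl⟩

end Main

/-- **(FP)** The Weil-restriction ring of a finitely presented algebra is finitely presented. -/
theorem finitePresentation_WR {A B C : Type u} [CommRing A] [CommRing B] [CommRing C]
    [Algebra A B] [Algebra A C] {ι : Type u} [Fintype ι] (e : Module.Basis ι A B)
    [Algebra.FinitePresentation A C] :
    Algebra.FinitePresentation A (Groth.Agent.Helper14.WeilAff.WR C e) := by
  obtain ⟨n, π, hπ, hfg⟩ := Algebra.FinitePresentation.out (R := A) (A := C)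
  obtain ⟨s, hs⟩ := hfg
  haveI : Algebra.FinitePresentation A (QQ e (n := n) s) :=
    Algebra.FinitePresentation.quotient (JJ_fg e s)
  exact Algebra.FinitePresentation.equiv
    (AlgEquiv.ofBijective (psiBar e π s hs)
      ⟨psiBar_injective e π s hs hπ, psiBar_surjective e π s hs hπ⟩)


end Groth.Agent.Helper13.WeilFP
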